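import Cfsg.Agent.Blocks.MinMax
import Cfsg.Agent.Solvable.Basics

/-!
# Blocks and normal `p`-subgroups
-/

namespace CfsgLib.Block

open Cfsg Finset CfsgLib.Block.Chr CfsgLib.Char
open scoped ComplexConjugate

set_option linter.unusedSectionVars false
set_option linter.style.haveILetI false

universe u

variable {G : Type u} [Group G] [Fintype G] {M : Ideal AlgInt} {p : ℕ}

/-- An irreducible character trivial on a normal subgroup comes from the quotient. -/
theorem exists_quotient_irr (N : Subgroup G) [N.Normal] (χ : IrrCharacter G)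
    (h : ∀ n ∈ N, (χ : G → ℂ) n = (χ : G → ℂ) 1) :
    ∃ φ : IrrCharacter (G ⧸ N), ∀ g : G, (χ : G → ℂ) g = (φ : G ⧸ N → ℂ) (g : G ⧸ N) := by
  obtain ⟨d, ρ, hirr, hρ⟩ := χ.2
  have hNker : N ≤ ρ.ker := fun n hn => by
    rw [MonoidHom.mem_ker]
    exact apply_eq_one_of_character_eq ρ (by rw [hρ, h n hn, ← hρ, Representation.char_one])
  let σ : Representation ℂ (G ⧸ N) (Fin d → ℂ) := QuotientGroup.lift N ρ hNker
  have hσ : σ.IsIrreducible := by
    refine isIrreducible_of_comp (QuotientGroup.mk' N) (QuotientGroup.mk'_surjective N) σ ?_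
    have : (σ.comp (QuotientGroup.mk' N) : Representation ℂ G (Fin d → ℂ)) = ρ :=
      MonoidHom.ext fun g => rfl
    rw [this]; exact hirr
  exact ⟨⟨σ.character, d, σ, hσ, rfl⟩, fun g => (congrFun hρ g).symm⟩

variable [M.IsPrime]

/-- Every block contains a character trivial on a given normal `p`-subgroup. -/
theorem exists_ker_mem_block (hM : IsPModular p M) {B : Set (IrrCharacter G)} (hB : IsPBlock M B)
    (Q : Subgroup G) [Q.Normal] (hQ : IsPGroup p Q) :
    ∃ χ ∈ B, ∀ u ∈ Q, (χ : G → ℂ) u = (χ : G → ℂ) 1 := by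
  classical
  letI := irrFintype (G := G)
  haveI : Fact p.Prime := ⟨hM.1⟩
  by_contra hne
  push Not at hne
  have hz : ∀ χ ∈ univ.filter (· ∈ B), ∑ u ∈ univ.filter (· ∈ Q), (χ : G → ℂ) u = 0 := fun χ hχ =>
    (sum_eq_zero_or_ker χ Q).resolve_right fun h => by
      obtain ⟨u, hu, hne'⟩ := hne χ (mem_filter.1 hχ).2
      exact hne' (h u hu)
  have h1 : ∑ χ ∈ univ.filter (· ∈ B), (χ : G → ℂ) 1 *
      conj (∑ u ∈ univ.filter (· ∈ Q), (χ : G → ℂ) u) = 0 :=
    sum_eq_zero fun χ hχ => by rw [hz χ hχ, map_zero, mul_zero]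
  simp only [map_sum, mul_sum] at h1
  rw [sum_comm, sum_eq_single (1 : G)] at h1
  · have h2 : ∑ χ ∈ univ.filter (· ∈ B),
        (((charDegree (χ : G → ℂ) : ℕ) ^ 2 : ℕ) : ℂ) = 0 := by
      rw [← h1]
      exact sum_congr rfl fun χ _ => by rw [(irr_one χ).1]; push_cast; simp [sq]
    rw [← Nat.cast_sum, Nat.cast_eq_zero] at h2
    obtain ⟨χ, hχ⟩ := exists_mem_block hB
    have := (sum_eq_zero_iff.1 h2) χ (mem_filter.2 ⟨mem_univ χ, hχ⟩)
    have := (irr_one χ).2
    simp_all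
  · intro u hu hu1
    obtain ⟨k, hk⟩ := IsPGroup.iff_orderOf.1 hQ ⟨u, (mem_filter.1 hu).2⟩
    rw [Subgroup.orderOf_mk] at hk
    have hk0 : k ≠ 0 := fun h0 => hu1 (orderOf_eq_one_iff.1 (by rw [hk, h0, pow_zero]))
    exact weak_orth hM (isIntClass_blockCoeff hB) (by rw [orderOf_one]; exact hM.1.not_dvd_one)
      (hk ▸ dvd_pow_self p hk0)
  · exact fun h => absurd (mem_filter.2 ⟨mem_univ _, Q.one_mem⟩) h

/-- Central characters are congruent to zero off the centralizer of a normal `p`-subgroup. -/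
theorem centralChar_mem_ideal_of_normal (hM : IsPModular p M) (Q : Subgroup G) [Q.Normal]
    (hQ : IsPGroup p Q) (ψ : IrrCharacter G) {g : G}
    (hg : g ∉ Subgroup.centralizer (Q : Set G)) :
    MemLocalIdeal M (centralChar (ψ : G → ℂ) g) := by
  classical
  haveI : Fact p.Prime := ⟨hM.1⟩
  haveI := Fintype.ofFinite (G ⧸ Q)
  obtain ⟨χ, hχ, hker⟩ := exists_ker_mem_block hM (isPBlock_blockOf ψ) Q hQ
  refine (memLocalIdeal_iff_of_cong ((hχ : SameBlock M (ψ : G → ℂ) (χ : G → ℂ)) g)).2 ?_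
  obtain ⟨φ, hφ⟩ := exists_quotient_irr Q χ hker
  let m : G ⧸ Q → ℕ := fun q =>
    (univ.filter fun x : G => IsConj g x ∧ (x : G ⧸ Q) = q).card
  have hm : ∀ q, p ∣ m q := by
    intro q
    letI : MulAction Q {x : G // IsConj g x ∧ (x : G ⧸ Q) = q} :=
      { smul := fun u x => ⟨(u : G) * x.1 * (u : G)⁻¹,
          x.2.1.trans (isConj_iff.2 ⟨(u : G), rfl⟩), by
            rw [QuotientGroup.mk_mul, QuotientGroup.mk_mul, QuotientGroup.mk_inv,
              (QuotientGroup.eq_one_iff (u : G)).2 u.2, one_mul, inv_one, mul_one, x.2.2]⟩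
        one_smul := fun x => Subtype.ext
          (show ((1 : Q) : G) * x.1 * ((1 : Q) : G)⁻¹ = x.1 by simp)
        mul_smul := fun a b x => Subtype.ext (show ((a * b : Q) : G) * x.1 * ((a * b : Q) : G)⁻¹ =
          (a : G) * ((b : G) * x.1 * (b : G)⁻¹) * (a : G)⁻¹ by rw [Subgroup.coe_mul]; group) }
    haveI : IsEmpty (MulAction.fixedPoints Q {x : G // IsConj g x ∧ (x : G ⧸ Q) = q}) := ⟨fun x => by
      obtain ⟨c, hc⟩ := isConj_iff.1 x.1.2.1
      apply hg
      rw [Subgroup.mem_centralizer_iff]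
      intro u hu
      have hu' : c * u * c⁻¹ ∈ Q := Subgroup.Normal.conj_mem ‹_› u hu c
      have h := congrArg Subtype.val (x.2 ⟨_, hu'⟩)
      change c * u * c⁻¹ * x.1.1 * (c * u * c⁻¹)⁻¹ = x.1.1 at h
      rw [mul_inv_eq_iff_eq_mul, ← hc] at h
      calc u * g = c⁻¹ * (c * u * c⁻¹ * (c * g * c⁻¹)) * c := by group
        _ = c⁻¹ * (c * g * c⁻¹ * (c * u * c⁻¹)) * c := by rw [h]
        _ = g * u := by group⟩
    have h := hQ.card_modEq_card_fixedPoints {x : G // IsConj g x ∧ (x : G ⧸ Q) = q}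
    rw [Nat.card_of_isEmpty (α := MulAction.fixedPoints Q {x : G // IsConj g x ∧ (x : G ⧸ Q) = q}),
      Nat.modEq_zero_iff_dvd, Nat.card_eq_fintype_card,
      Fintype.card_subtype] at h
    exact h
  let b : G ⧸ Q → ℂ := fun q => ((m q / p : ℕ) : ℂ)
  have hb : IsIntClass M b := by
    refine ⟨fun q y => ?_, fun q => natCast_mem_localRing _⟩
    obtain ⟨z, rfl⟩ := QuotientGroup.mk_surjective y
    show ((m ((z : G ⧸ Q) * q * (z : G ⧸ Q)⁻¹) / p : ℕ) : ℂ) = ((m q / p : ℕ) : ℂ)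
    congr 2
    refine card_nbij' (fun x => z⁻¹ * x * z) (fun x => z * x * z⁻¹) ?_ ?_
      (fun x _ => by group) (fun x _ => by group)
    · intro x hx
      refine mem_filter.2 ⟨mem_univ _, (mem_filter.1 hx).2.1.trans
        (isConj_iff.2 ⟨z⁻¹, by group⟩), ?_⟩
      rw [QuotientGroup.mk_mul, QuotientGroup.mk_mul, (mem_filter.1 hx).2.2, QuotientGroup.mk_inv]
      group
    · intro x hx
      refine mem_filter.2 ⟨mem_univ _, (mem_filter.1 hx).2.1.trans
        (isConj_iff.2 ⟨z, rfl⟩), ?_⟩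
      rw [QuotientGroup.mk_mul, QuotientGroup.mk_mul, (mem_filter.1 hx).2.2, QuotientGroup.mk_inv]
  have hval : centralChar (χ : G → ℂ) g = (p : ℂ) * omega (φ : G ⧸ Q → ℂ) b := by
    rw [← omega_classInd, omega, omega, hφ 1, QuotientGroup.mk_one, ← mul_div_assoc]
    congr 1
    rw [← sum_fiberwise univ (fun x : G => (x : G ⧸ Q)) (fun x => classInd g x * (χ : G → ℂ) x),
      mul_sum]
    refine sum_congr rfl fun q _ => ?_
    rw [← mul_assoc, show (p : ℂ) * b q = (m q : ℂ) by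
      simp only [b]; rw [← Nat.cast_mul, Nat.mul_div_cancel' (hm q)]]
    rw [sum_congr rfl (g := fun x => classInd g x * (φ : G ⧸ Q → ℂ) q)
      (fun x hx => by rw [hφ x, (mem_filter.1 hx).2]), ← sum_mul]
    congr 1
    simp only [m]
    rw [← sum_boole, sum_filter]
    refine sum_congr rfl fun x _ => ?_
    by_cases hx : IsConj g x
    · rw [classInd_of_isConj hx]
      by_cases hq : (x : G ⧸ Q) = q
      · rw [if_pos hq, if_pos ⟨hx, hq⟩]
      · rw [if_neg hq, if_neg fun h => hq h.2]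
    · rw [classInd_of_not_isConj hx, if_neg fun h : IsConj g x ∧ _ => hx h.1]
      simp
  rw [hval]
  exact memLocalIdeal_mul_right (memLocalIdeal_p hM) (omega_mem φ hb)

/-- A defect group contains every normal `p`-subgroup. -/
theorem normal_le_defectGroup (hM : IsPModular p M) {B : Set (IrrCharacter G)} (hB : IsPBlock M B)
    {D : Subgroup G} (hD : IsDefectGroup p M B D) (Q : Subgroup G) [Q.Normal]
    (hQ : IsPGroup p Q) : Q ≤ D := by
  obtain ⟨g, hg, S, rfl⟩ := hD
  haveI : Fact p.Prime := ⟨hM.1⟩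
  obtain ⟨χ, hχ⟩ := exists_mem_block hB
  have hgQ : g ∈ Subgroup.centralizer (Q : Set G) :=
    by_contra fun h => hg.2.2 χ hχ (centralChar_mem_ideal_of_normal hM Q hQ χ h)
  have hle := le_centralizer_singleton.2 hgQ
  obtain ⟨T, hT⟩ := IsPGroup.exists_le_sylow
    (hQ.comap_of_injective (Subgroup.centralizer ({g} : Set G)).subtype
      (Subgroup.centralizer ({g} : Set G)).subtype_injective)
  obtain ⟨w, hw⟩ := MulAction.exists_smul_eq (Subgroup.centralizer ({g} : Set G)) T S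
  intro u hu
  refine Subgroup.mem_map.2 ⟨⟨u, hle hu⟩, ?_, rfl⟩
  have hu' : w⁻¹ * ⟨u, hle hu⟩ * w ∈ T := hT (by
    show (((w⁻¹ * ⟨u, hle hu⟩ * w : Subgroup.centralizer ({g} : Set G))) : G) ∈ Q
    simpa [mul_assoc] using Subgroup.Normal.conj_mem ‹_› u hu (w : G)⁻¹)
  rw [← hw]
  exact ⟨_, hu', by simp [mul_assoc]⟩

/-- A group whose largest normal `p`-subgroup contains its centralizer has a single block. -/
theorem sameBlock_of_constrained (hM : IsPModular p M) (Q : Subgroup G) [Q.Normal]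
    (hQ : IsPGroup p Q) (hC : Subgroup.centralizer (Q : Set G) ≤ Q) (χ ψ : IrrCharacter G) :
    SameBlock M (χ : G → ℂ) (ψ : G → ℂ) := by
  haveI : Fact p.Prime := ⟨hM.1⟩
  refine sameBlock_of_regular hM χ ψ fun g hg => ?_
  by_cases hgC : g ∈ Subgroup.centralizer (Q : Set G)
  · obtain ⟨k, hk⟩ := IsPGroup.iff_orderOf.1 hQ ⟨g, hC hgC⟩
    rw [Subgroup.orderOf_mk] at hk
    have hg1 : g = 1 := by
      rcases Nat.eq_zero_or_pos k with rfl | hk0
      · rw [pow_zero, orderOf_eq_one_iff] at hk; exact hk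
      · exact absurd (hk ▸ dvd_pow_self p hk0.ne') hg
    subst hg1
    rw [centralChar, centralChar, mul_div_assoc, mul_div_assoc, div_self (irr_one_ne_zero χ),
      div_self (irr_one_ne_zero ψ), sub_self]
    exact memLocalIdeal_zero
  · exact memLocalIdeal_sub (centralChar_mem_ideal_of_normal hM Q hQ χ hgC)
      (centralChar_mem_ideal_of_normal hM Q hQ ψ hgC)

end CfsgLib.Block
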