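import Cfsg.Agent.Blocks.PSolvableBlock
import Cfsg.Agent.Blocks.NormalSub
import Cfsg.Agent.Solvable.Fitting

/-!
# The principal block of a constrained group: the characters of the quotient by the `p'`-core
-/

set_option autoImplicit false
set_option linter.unusedSectionVars false
set_option linter.style.haveILetI false

namespace CfsgLib.Block

open Cfsg Finset CfsgLib.Block.Chr CfsgLib.Char
open scoped ComplexConjugate

universe u

variable {G : Type u} [Group G] [Fintype G] {M : Ideal AlgInt} [M.IsPrime] {p : ℕ}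

theorem selfCent_quotient_of_pSolvable [Fact p.Prime] (hs : Cfsg.IsPSolvable p G) :
    CfsgLib.PConstrained.SelfCent p (G ⧸ Cfsg.pPrimeCore p G) := by
  refine CfsgLib.PConstrained.selfCent_of_pSolvable
    (CfsgLib.Fitting.pPrimeCore_quotient_eq_bot p) ?_
  exact CfsgLib.PConstrained.isPSolvable_comap _ (Subgroup.subtype_injective _)
    (CfsgLib.PConstrained.isPSolvable_map (QuotientGroup.mk' _) (QuotientGroup.mk'_surjective _) hs)

theorem selfCent_of_solvable [Fact p.Prime] [Group.IsSolvable G] (h0 : Cfsg.pPrimeCore p G = ⊥) :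
    CfsgLib.PConstrained.SelfCent p G := by
  have hF : Cfsg.fittingSubgroup G = Cfsg.pCore p G := by
    refine le_antisymm ?_ (CfsgLib.Solvable.pCore_le_fittingSubgroup p)
    rw [CfsgLib.Solvable.fittingSubgroup_eq_iSup_pCore]
    refine iSup_le fun q => ?_
    by_cases hq : (q : ℕ) = p
    · rw [hq]
    · haveI := Fact.mk q.2
      obtain ⟨n, hn⟩ := IsPGroup.iff_card.1 (CfsgLib.Solvable.isPGroup_pCore (G := G) (q : ℕ))
      refine le_trans (CfsgLib.Solvable.le_pPrimeCore p (CfsgLib.Solvable.pCore_normal _) ?_)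
        (h0.le.trans bot_le)
      rw [hn]
      exact ((Nat.coprime_primes q.2 Fact.out).2 hq).pow_left n
  show Subgroup.centralizer (Cfsg.pCore p G : Set G) ≤ Cfsg.pCore p G
  rw [← hF]
  exact CfsgLib.Fitting.centralizer_fittingSubgroup_le_of_solvable

theorem selfCent_quotient_of_solvable [Fact p.Prime] [Group.IsSolvable G] :
    CfsgLib.PConstrained.SelfCent p (G ⧸ Cfsg.pPrimeCore p G) := by
  haveI : Fintype (G ⧸ Cfsg.pPrimeCore p G) := Fintype.ofFinite _
  exact selfCent_of_solvable (CfsgLib.Fitting.pPrimeCore_quotient_eq_bot p)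

/-- In a constrained group the principal block consists of the characters trivial on the
`p'`-core, and it has full defect. -/
theorem principalBlock_of_constrained (hM : IsPModular p M)
    (hsc : CfsgLib.PConstrained.SelfCent p (G ⧸ Cfsg.pPrimeCore p G)) :
    (∀ χ : IrrCharacter G, χ ∈ principalBlock M G ↔
      ∀ k ∈ Cfsg.pPrimeCore p G, (χ : G → ℂ) k = (χ : G → ℂ) 1) ∧
      ∀ P : Sylow p G, IsDefectGroup p M (principalBlock M G) (P : Subgroup G) := by
  classical
  haveI : Fact p.Prime := ⟨hM.1⟩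
  haveI : (Cfsg.pPrimeCore p G).Normal := CfsgLib.Solvable.pPrimeCore_normal p
  set K := Cfsg.pPrimeCore p G with hK
  have hndK : ¬ p ∣ Nat.card K := fun h => hM.1.ne_one
    (Nat.eq_one_of_dvd_coprimes (CfsgLib.Solvable.coprime_card_pPrimeCore p) h dvd_rfl)
  have hinv : ∀ g : G, conjIrr g (oneIrr K) = oneIrr K := fun g =>
    Subtype.ext (funext fun k => by rw [conjIrr_coe, conjOn_apply]; rfl)
  obtain ⟨B, hB, hiff, hsyl, -⟩ := block_over_invariant hM hndK hsc hinv
  have hsum : ∀ χ : IrrCharacter G, classInner (fun k : K => (χ : G → ℂ) k) (oneIrr K : K → ℂ) =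
      (Nat.card K : ℂ)⁻¹ * ∑ n ∈ univ.filter (· ∈ K), (χ : G → ℂ) n := by
    intro χ
    rw [classInner_def]
    congr 1
    simp only [oneIrr_apply, map_one, mul_one]
    exact (sum_subtype (univ.filter (· ∈ K)) (fun x => by simp) fun n => (χ : G → ℂ) n).symm
  have hmem : ∀ χ : IrrCharacter G, χ ∈ B ↔ ∀ k ∈ K, (χ : G → ℂ) k = (χ : G → ℂ) 1 := by
    intro χ
    rw [hiff, hsum]
    refine ⟨fun h => (sum_eq_zero_or_ker χ K).resolve_left fun h0 => h (by rw [h0, mul_zero]),
      fun h => ?_⟩
    rw [sum_congr rfl fun n hn => h n (mem_filter.1 hn).2, sum_const, nsmul_eq_mul]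
    refine mul_ne_zero (inv_ne_zero (Nat.cast_ne_zero.2 Nat.card_pos.ne'))
      (mul_ne_zero (Nat.cast_ne_zero.2 (card_pos.2 ⟨1, ?_⟩).ne') (irr_one_ne_zero χ))
    exact mem_filter.2 ⟨mem_univ _, K.one_mem⟩
  have hBe : B = principalBlock M G := block_eq_of_common hB isPBlock_principalBlock
    ((hmem (oneIrr G)).2 fun _ _ => rfl) oneIrr_mem_principalBlock
  rw [hBe] at hmem hsyl
  exact ⟨hmem, hsyl⟩

end CfsgLib.Block
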