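import Cfsg.Agent.Blocks.LocalRing
import Cfsg.Agent.Char.Values
import Cfsg.Agent.Char.AlgInt

/-!
# Congruences for character values
-/

namespace CfsgLib.Block

open Cfsg Finset CfsgLib.Char

set_option linter.unusedSectionVars false
set_option linter.style.haveILetI false

universe u

variable {G : Type u} [Group G] [Finite G] {M : Ideal AlgInt} {p : ℕ}

/-- For every prime there is a modular maximal ideal. -/
theorem exists_isPModular (hp : p.Prime) : ∃ M : Ideal AlgInt, IsPModular p M := by
  have hne : Ideal.span ({(p : AlgInt)} : Set AlgInt) ≠ ⊤ := by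
    rw [Ne, Ideal.span_singleton_eq_top]
    intro hu
    obtain ⟨b, hb⟩ := hu.exists_right_inv
    have hb' : (p : ℂ) * (b : ℂ) = 1 := by
      simpa using congrArg (Subtype.val : AlgInt → ℂ) hb
    have hint : IsIntegral ℤ ((p : ℂ)⁻¹) := by
      rw [← eq_inv_of_mul_eq_one_right hb']; exact b.2
    have hint' : IsIntegral ℤ ((1 : ℕ) / (p : ℕ) : ℂ) := by simpa using hint
    exact hp.not_dvd_one (dvd_of_isIntegral_div hp.ne_zero hint')
  obtain ⟨M, hM, hle⟩ := Ideal.exists_le_maximal _ hne
  exact ⟨M, hp, hM, hle (Ideal.subset_span rfl)⟩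

variable [M.IsPrime]

theorem memLocalIdeal_multiset_sum_sub {ι : Type*} (s : Multiset ι) {f g : ι → ℂ}
    (h : ∀ i ∈ s, MemLocalIdeal M (f i - g i)) :
    MemLocalIdeal M ((s.map f).sum - (s.map g).sum) := by
  induction s using Multiset.induction_on with
  | empty => simpa using memLocalIdeal_zero
  | cons a t ih =>
    rw [Multiset.map_cons, Multiset.map_cons, Multiset.sum_cons, Multiset.sum_cons,
      add_sub_add_comm]
    exact memLocalIdeal_add (h a (Multiset.mem_cons_self a t))
      (ih fun i hi => h i (Multiset.mem_cons_of_mem hi))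

/-- If `g` and `g ^ k` have the same `p ^ a`-th power, then characters take congruent values. -/
theorem char_cong_pow (hM : IsPModular p M) {χ : G → ℂ} (hχ : IsCharacter G χ) {g : G} {a k : ℕ}
    (h : g ^ p ^ a = g ^ (k * p ^ a)) : MemLocalIdeal M (χ g - χ (g ^ k)) := by
  obtain ⟨s, -, hs, hk⟩ := IsCharacter.exists_roots hχ g
  have h1 : χ g = (s.map fun z => z ^ 1).sum := by simpa using hk 1
  rw [h1, hk k]
  refine memLocalIdeal_multiset_sum_sub s fun z hz => ?_
  have hint : IsIntegral ℤ z := isIntegral_of_pow_eq_one (orderOf_pos g) (hs z hz)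
  let w : localRing M := ⟨z, integral_mem_localRing hint⟩
  have hw : w ^ orderOf g = 1 := Subtype.ext (by simpa [w] using hs z hz)
  have hmod := (pow_eq_pow_iff_modEq (x := g)).1 h
  have hwpow : w ^ p ^ a = (w ^ k) ^ p ^ a := by
    rw [← pow_mul, pow_eq_pow_mod (p ^ a) hw, pow_eq_pow_mod (k * p ^ a) hw]
    exact congrArg _ hmod
  haveI := charP_residue (M := M) hM
  haveI : Fact p.Prime := ⟨hM.1⟩
  have hres : res M w = res M (w ^ k) := by
    apply iterateFrobenius_inj (Residue M) p a
    rw [iterateFrobenius_def, iterateFrobenius_def, ← map_pow, ← map_pow, hwpow]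
  simpa [w] using res_eq_iff.1 hres

/-- The value at `x * y` is congruent to the value at `y` when `x` is a `p`-element commuting
with the `p`-regular element `y`. -/
theorem char_cong_pPart (hM : IsPModular p M) {χ : G → ℂ} (hχ : IsCharacter G χ) {x y : G}
    (hc : Commute x y) {n : ℕ} (hx : x ^ p ^ n = 1) {m : ℕ} (hm : ¬ p ∣ m) (hy : y ^ m = 1) :
    MemLocalIdeal M (χ (x * y) - χ y) := by
  have hcop : (p ^ n).Coprime m := Nat.Coprime.pow_left _ (hM.1.coprime_iff_not_dvd.2 hm)
  obtain ⟨k, hk1, hk2⟩ := Nat.chineseRemainder hcop 0 1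
  have hxk : x ^ k = 1 := by
    rw [(pow_eq_pow_iff_modEq).2 (hk1.of_dvd (orderOf_dvd_of_pow_eq_one hx)), pow_zero]
  have hyk : y ^ k = y := by
    rw [(pow_eq_pow_iff_modEq).2 (hk2.of_dvd (orderOf_dvd_of_pow_eq_one hy)), pow_one]
  have hgk : (x * y) ^ k = y := by rw [hc.mul_pow, hxk, hyk, one_mul]
  have h : (x * y) ^ p ^ n = (x * y) ^ (k * p ^ n) := by
    rw [pow_mul, hgk, hc.mul_pow, hx, one_mul]
  simpa [hgk] using char_cong_pow hM hχ h

/-- The Frobenius congruence for character values. -/
theorem char_pow_cong (hM : IsPModular p M) {χ : G → ℂ} (hχ : IsCharacter G χ) (g : G) :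
    MemLocalIdeal M (χ g ^ p - χ (g ^ p)) := by
  obtain ⟨s, -, hs, hk⟩ := IsCharacter.exists_roots hχ g
  have h1 : χ g = (s.map fun z => z ^ 1).sum := by simpa using hk 1
  rw [h1, hk p]
  haveI := charP_residue (M := M) hM
  haveI : Fact p.Prime := ⟨hM.1⟩
  have key : ∀ t : Multiset ℂ, (∀ z ∈ t, IsIntegral ℤ z) →
      MemLocalRing M (t.map fun z => z ^ 1).sum ∧
      MemLocalIdeal M ((t.map fun z => z ^ 1).sum ^ p - (t.map fun z => z ^ p).sum) := by
    intro t
    induction t using Multiset.induction_on with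
    | empty =>
      intro _
      refine ⟨by simpa using memLocalRing_zero, ?_⟩
      simpa [zero_pow hM.1.ne_zero] using memLocalIdeal_zero
    | cons a t ih =>
      intro ht
      obtain ⟨hr, hi⟩ := ih fun z hz => ht z (Multiset.mem_cons_of_mem hz)
      have ha : MemLocalRing M a := memLocalRing_of_isIntegral (ht a (Multiset.mem_cons_self a t))
      rw [Multiset.map_cons, Multiset.map_cons, Multiset.sum_cons, Multiset.sum_cons, pow_one]
      refine ⟨memLocalRing_add ha hr, ?_⟩
      let A : localRing M := ⟨a, ha⟩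
      let S : localRing M := ⟨_, hr⟩
      have hF : res M ((A + S) ^ p) = res M (A ^ p + S ^ p) := by
        simp only [map_pow, map_add]; exact add_pow_char _ _ p
      have h2 := res_eq_iff.1 hF
      simp only [Subring.coe_pow, Subring.coe_add, A, S] at h2
      have h3 := memLocalIdeal_add h2 hi
      convert h3 using 1
      ring
  refine (key s fun z hz => isIntegral_of_pow_eq_one (orderOf_pos g) (hs z hz)).2

end CfsgLib.Block
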