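import Cfsg.Agent.Blocks.BrauerRestrict
import Mathlib.RingTheory.Polynomial.Basic

/-!
# Decomposition numbers

The regular part of a member of a block is a combination with natural coefficients of the Brauer
characters of the simple modules of the block; the projective characters vanish at singular
elements; the Brauer characters are integral combinations of the regular parts.
-/

set_option autoImplicit false
set_option linter.style.haveILetI false
set_option linter.unusedSectionVars false

namespace CfsgLib.BrauerBasis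

open Cfsg Finset CfsgLib.Block CfsgLib.Block.Chr CfsgLib.BrauerPairs CfsgLib.BlockStar
  CfsgLib.Cyclic Module
open scoped ComplexConjugate Polynomial
open scoped Classical

universe u

variable {M : Ideal AlgInt} [M.IsPrime] {p : ℕ} [Fact p.Prime] [CharP (Residue M) p]
  {G : Type u} [Group G] [Fintype G]

local notation "𝕜" => Residue M
local notation "𝔸" => MonoidAlgebra (Residue M) G

/-- In a finite-dimensional algebra every element has an idempotent fixing a power of it and being
a multiple of it. -/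
theorem exists_fitting_idem {K A : Type*} [Field K] [Ring A] [Algebra K A] [FiniteDimensional K A]
    (a : A) : ∃ (w : A) (N : ℕ), (w * a) * (w * a) = w * a ∧ a ^ N * (w * a) = a ^ N := by
  have hint : IsIntegral K a := Algebra.IsIntegral.isIntegral a
  obtain ⟨h, hh, hnd⟩ := Polynomial.exists_eq_pow_rootMultiplicity_mul_and_not_dvd (minpoly K a)
    (minpoly.ne_zero hint) (0 : K)
  rw [Polynomial.C_0, sub_zero] at hh hnd
  set r := (minpoly K a).rootMultiplicity 0
  have hcop : IsCoprime ((Polynomial.X : K[X]) ^ (r + 1)) h :=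
    ((Polynomial.irreducible_X).coprime_iff_not_dvd.2 hnd).pow_left
  obtain ⟨u, v, huv⟩ := hcop
  have h0 : Polynomial.aeval a (Polynomial.X ^ (r + 1) * h : K[X]) = 0 := by
    rw [pow_succ', mul_assoc, ← hh, map_mul, minpoly.aeval, mul_zero]
  refine ⟨Polynomial.aeval a (u * Polynomial.X ^ r), r + 1, ?_, ?_⟩
  · have e : Polynomial.aeval a (u * Polynomial.X ^ r) * a =
        Polynomial.aeval a (u * Polynomial.X ^ (r + 1)) := by
      rw [pow_succ, ← mul_assoc, map_mul _ (u * Polynomial.X ^ r), Polynomial.aeval_X]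
    rw [e, ← map_mul]
    have e2 : u * Polynomial.X ^ (r + 1) * (u * Polynomial.X ^ (r + 1)) =
        u * Polynomial.X ^ (r + 1) - u * v * (Polynomial.X ^ (r + 1) * h) := by
      linear_combination (u * Polynomial.X ^ (r + 1)) * huv
    rw [e2, map_sub, map_mul _ (u * v), h0, mul_zero, sub_zero]
  · have e : a ^ (r + 1) * (Polynomial.aeval a (u * Polynomial.X ^ r) * a) =
        Polynomial.aeval a (Polynomial.X ^ (r + 1) * (u * Polynomial.X ^ r * Polynomial.X)) := by
      simp only [map_mul, map_pow, Polynomial.aeval_X]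
    have e2 : Polynomial.X ^ (r + 1) * (u * Polynomial.X ^ r * Polynomial.X) =
        Polynomial.X ^ (r + 1) - v * (Polynomial.X ^ (r + 1) * h) := by
      linear_combination (Polynomial.X ^ (r + 1)) * huv
    rw [e, e2, map_sub, map_mul _ v, h0, mul_zero, sub_zero, map_pow, Polynomial.aeval_X]

/-- An idempotent of rank one on one simple module and zero on the others. -/
theorem exists_rank_idem {ι : Type*} [Fintype ι] (T : ι → Type*) [∀ j, AddCommGroup (T j)]
    [∀ j, Module 𝕜 (T j)] [∀ j, Module (MonoidAlgebra 𝕜 G) (T j)]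
    [∀ j, IsScalarTower 𝕜 (MonoidAlgebra 𝕜 G) (T j)] [∀ j, FiniteDimensional 𝕜 (T j)]
    [∀ j, IsSimpleModule (MonoidAlgebra 𝕜 G) (T j)]
    (hne : ∀ i j, i ≠ j → IsEmpty (T i ≃ₗ[MonoidAlgebra 𝕜 G] T j)) (j : ι) :
    ∃ i : 𝔸, i * i = i ∧
      ∀ l, finrank 𝕜 (LinearMap.range (act 𝕜 (T l) i)) = if l = j then 1 else 0 := by
  haveI := IsSimpleModule.nontrivial (MonoidAlgebra 𝕜 G) (T j)
  haveI : Module.Finite 𝕜 𝔸 := Module.Finite.of_basis (MonoidAlgebra.basis G 𝕜)
  obtain ⟨v, hv⟩ := exists_ne (0 : T j)
  obtain ⟨ψ, hψ⟩ : ∃ ψ : Dual 𝕜 (T j), ψ v = 1 := by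
    obtain ⟨ψ, hψ⟩ : ∃ ψ : Dual 𝕜 (T j), ψ v ≠ 0 := by
      by_contra hh
      push Not at hh
      exact hv ((Module.forall_dual_apply_eq_zero_iff 𝕜 v).1 hh)
    exact ⟨(ψ v)⁻¹ • ψ, by simp [hψ]⟩
  obtain ⟨e, he⟩ := exists_smul_eq (S := T j) (k := 𝕜) (G := G) (ψ.smulRight v)
  obtain ⟨a, ha, ha'⟩ := exists_separating T hne j
  obtain ⟨w, N, hi, hN⟩ := exists_fitting_idem (K := 𝕜) (a * e)
  refine ⟨w * (a * e), hi, fun l => ?_⟩
  have hae : ∀ x : T j, (a * e) • x = ψ x • v := fun x => by
    rw [mul_smul, ha, he]; rfl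
  split_ifs with hl
  · subst hl
    have hNv : (a * e) ^ N • v = v := by
      clear hN
      induction N with
      | zero => rw [pow_zero, one_smul]
      | succ N ih => rw [pow_succ, mul_smul, hae, hψ, one_smul, ih]
    have hwv : w • v ≠ 0 := fun h0 => hv (by
      calc v = (a * e) ^ N • v := hNv.symm
        _ = ((a * e) ^ N * (w * (a * e))) • v := by rw [hN]
        _ = (a * e) ^ N • w • ((a * e) • v) := by rw [mul_smul, mul_smul]
        _ = 0 := by rw [hae, hψ, one_smul, h0, smul_zero])
    have hr : LinearMap.range (act 𝕜 (T l) (w * (a * e))) = Submodule.span 𝕜 {w • v} := by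
      refine le_antisymm ?_ ((Submodule.span_singleton_le_iff_mem _ _).2 ⟨v, ?_⟩)
      · rintro _ ⟨x, rfl⟩
        refine Submodule.mem_span_singleton.2 ⟨ψ x, ?_⟩
        rw [act_apply, mul_smul, hae, smul_comm]
      · rw [act_apply, mul_smul, hae, hψ, one_smul]
    rw [hr, finrank_span_singleton hwv]
  · have h0 : act 𝕜 (T l) (w * (a * e)) = 0 := LinearMap.ext fun x => by
      rw [act_apply, mul_smul, mul_smul, ha' l hl, smul_zero, LinearMap.zero_apply]
    rw [h0, LinearMap.range_zero, finrank_bot]

/-- The Brauer character at the identity is the dimension. -/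
theorem bchar_one (hM : IsPModular p M) (X : Type u) [AddCommGroup X] [Module 𝕜 X] [Module 𝔸 X]
    [IsScalarTower 𝕜 𝔸 X] : bchar (G := G) p M X 1 = (finrank 𝕜 X : ℂ) := by
  have h1 : ¬ p ∣ orderOf (1 : G) := by rw [orderOf_one]; exact hM.1.not_dvd_one
  have h2 := sum_zeta_eps hM h1
  rw [bchar, if_neg h1, bval]
  rw [orderOf_one, range_one, sum_singleton, pow_zero] at h2 ⊢
  have h3 : lc M (1 : ℂ) = 1 := Subtype.ext (coe_lc memLocalRing_one)
  rw [h3, one_smul, ← MonoidAlgebra.one_def] at h2
  rw [h3, h2, map_one, map_one, Module.End.one_eq_id, LinearMap.range_id, finrank_top, one_mul]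
  simp

theorem finite_bsetB (hM : IsPModular p M) (B : Set (IrrCharacter G)) :
    (bsetB p M B).Finite :=
  (((linearIndepOn_bset (G := G) hM).mono (bsetB_subset B)).linearIndependent.setFinite)

theorem card_bsetB (hM : IsPModular p M) {B : Set (IrrCharacter G)} (hB : IsPBlock M B)
    [Fintype (bsetB p M B)] : Fintype.card (bsetB p M B) = blockRank p B := by
  rw [← Set.toFinset_card, ← finrank_span_set_eq_card
    ((linearIndepOn_bset (G := G) hM).mono (bsetB_subset B)).linearIndependent, span_bsetB hM hB]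
  rw [blockRank, show (fun φ : IrrCharacter G => pRegularPart p (φ : G → ℂ)) =
    fun φ : IrrCharacter G => regPart p (φ : G → ℂ) from funext fun φ => CfsgLib.Block.pRegularPart_eq _]

/-- **Decomposition numbers.** -/
theorem exists_decomposition (hM : IsPModular p M) {B : Set (IrrCharacter G)} (hB : IsPBlock M B)
    [Fintype (bsetB p M B)] :
    ∃ d : IrrCharacter G → bsetB p M B → ℕ,
      (∀ χ ∈ B, regPart p (χ : G → ℂ) = ∑ β : bsetB p M B, (d χ β : ℂ) • (β : G → ℂ)) ∧
      ∀ β, ∀ h : G, p ∣ orderOf h → ∑ᶠ χ ∈ B, (d χ β : ℂ) * (χ : G → ℂ) h = 0 := by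
  letI := irrFintype (G := G)
  choose m hm hfix hf using fun β : bsetB p M B => β.2
  haveI : ∀ β, FiniteDimensional 𝕜 (𝔸 ⧸ m β) := fun β => finiteDimensional_quot (m β)
  haveI : ∀ β, IsSimpleModule 𝔸 (𝔸 ⧸ m β) := fun β => isSimpleModule_iff_isCoatom.2 (hm β)
  have hne : ∀ β γ, β ≠ γ → IsEmpty ((𝔸 ⧸ m β) ≃ₗ[𝔸] (𝔸 ⧸ m γ)) := fun β γ hb =>
    ⟨fun T => hb (Subtype.ext (by rw [← hf β, ← hf γ, bchar_congr T]))⟩
  choose i hi hrank using exists_rank_idem (fun β => 𝔸 ⧸ m β) hne
  choose b hb hbred _hbT using fun β =>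
    exists_lift (M := M) (⊥ : Subgroup G) (hi β) (CfsgLib.LocalSymm.fixBy_bot (i β))
  choose d hd using fun (χ : IrrCharacter G) β => exists_nat_cval χ (hb β)
  -- composition multiplicities
  have hcount : ∀ (k : ℕ) (X : Type u) [AddCommGroup X] [Module 𝕜 X] [Module 𝔸 X]
      [IsScalarTower 𝕜 𝔸 X] [FiniteDimensional 𝕜 X], finrank 𝕜 X = k →
      (∀ x : X, idem M B • x = x) → bchar (G := G) p M X =
        ∑ β : bsetB p M B, (finrank 𝕜 (LinearMap.range (act 𝕜 X (i β))) : ℂ) • (β : G → ℂ) := by
    intro k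
    induction k using Nat.strong_induction_on with
    | _ k ih =>
      intro X _ _ _ _ _ hk hX
      rcases subsingleton_or_nontrivial X with hs | hn
      · rw [sum_eq_zero fun β _ => by rw [Module.finrank_zero_of_subsingleton, Nat.cast_zero, zero_smul]]
        funext s
        rw [bchar]
        split_ifs
        · rfl
        · rw [bval, sum_eq_zero fun j _ => ?_]
          · rfl
          · rw [Module.finrank_zero_of_subsingleton, Nat.cast_zero, mul_zero]
      · obtain ⟨U, hU⟩ := exists_simple_submodule (k := 𝕜) (G := G) (S := X)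
        haveI := hU
        haveI : FiniteDimensional 𝕜 U := inferInstanceAs (FiniteDimensional 𝕜 (U.restrictScalars 𝕜))
        haveI : FiniteDimensional 𝕜 (X ⧸ U) :=
          Module.Finite.of_surjective (U.mkQ.restrictScalars 𝕜) U.mkQ_surjective
        haveI := IsSimpleModule.nontrivial 𝔸 U
        have hpos : 0 < finrank 𝕜 U := Module.finrank_pos
        have hadd := finrank_eq_add (k := 𝕜) U
        have hq : ∀ x : X ⧸ U, idem M B • x = x := fun x => by
          obtain ⟨x, rfl⟩ := U.mkQ_surjective x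
          rw [← U.mkQ.map_smul, hX]
        rw [← bchar_add hM U, ih _ (by omega) (X ⧸ U) rfl hq]
        simp only [← finrank_act_add (k := 𝕜) U (hi _), Nat.cast_add, add_smul, sum_add_distrib]
        congr 1
        obtain ⟨m₀, hm₀, ⟨T⟩⟩ := isSimpleModule_iff_quot_maximal.1 hU
        haveI : m₀.IsMaximal := hm₀
        have hfix₀ : ∀ x : 𝔸 ⧸ m₀, idem M B • x = x := fun x => T.symm.injective (by
          rw [T.symm.map_smul]; exact Subtype.ext (hX _))
        let γ : bsetB p M B := ⟨_, m₀, Ideal.IsMaximal.out, hfix₀, rfl⟩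
        obtain ⟨T'⟩ := nonempty_equiv_of_bchar_eq hM Ideal.IsMaximal.out (hm γ) (hf γ).symm
        have hrU : ∀ β, finrank 𝕜 (LinearMap.range (act 𝕜 U (i β))) = if γ = β then 1 else 0 :=
          fun β => by
            refine (finrank_act_map ((T.trans T').restrictScalars 𝕜) (i β) (i β)
              fun x => (T.trans T').map_smul (i β) x).trans ((hrank β γ).trans ?_)
            congr
        rw [sum_eq_single γ]
        · rw [hrU, if_pos rfl, Nat.cast_one, one_smul, bchar_congr T]
        · intro β _ hβ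
          rw [hrU, if_neg (Ne.symm hβ), Nat.cast_zero, zero_smul]
        · simp
  have hsingβ : ∀ (β : bsetB p M B) (g : G), p ∣ orderOf g → (β : G → ℂ) g = 0 := fun β g hg => by
    rw [← hf β, bchar, if_pos hg]
  have hvanish : ∀ β, ∀ h : G, p ∣ orderOf h →
      ∑ χ ∈ univ.filter (· ∈ B), (d χ β : ℂ) * (χ : G → ℂ) h = 0 := fun β h hh => by
    refine Eq.trans (sum_congr rfl fun χ _ => ?_) (sum_cval_singular hM hB (hb β) hh)
    rw [hd]
  refine ⟨d, fun χ hχ => funext fun s => ?_, fun β h hh => ?_⟩
  · by_cases hs : p ∣ orderOf s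
    · rw [regPart_of_dvd hs, Finset.sum_apply, sum_eq_zero fun β _ => by
        rw [Pi.smul_apply, hsingβ β s hs, smul_zero]]
    let D : IrrCharacter G → ℂ := fun ψ => if ψ ∈ B then
      (ψ : G → ℂ) s - ∑ β : bsetB p M B, (d ψ β : ℂ) * (β : G → ℂ) s else 0
    -- at the regular elements
    have hregD : ∀ t : G, ¬ p ∣ orderOf t → ∑ ψ : IrrCharacter G, D ψ * (ψ : G → ℂ) t = 0 := by
      intro t ht
      have hfixX : ∀ l, ∀ x : leftIdeal (redA (blockEps hB t l)), idem M B • x = x := fun l x => by
        refine Subtype.ext ?_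
        obtain ⟨a, ha⟩ := Submodule.mem_span_singleton.1 x.2
        show idem M B * (x : 𝔸) = x
        rw [← ha, smul_eq_mul, blockEps, map_mul, redA_liftIdem, ← mul_assoc, idem_comm B a,
          mul_assoc a, ← mul_assoc (idem M B), idem_idem hB]
      have hl : ∀ l, ∑ ψ : IrrCharacter G, cval (ψ : G → ℂ) (blockEps hB t l) *
          ((ψ : G → ℂ) s - ∑ β : bsetB p M B, (d ψ β : ℂ) * (β : G → ℂ) s) = 0 := fun l => by
        have hidem := blockEps_idem hM hB ht l
        haveI : FiniteDimensional 𝕜 (leftIdeal (redA (blockEps hB t l))) := by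
          haveI : Module.Finite 𝕜 𝔸 := Module.Finite.of_basis (MonoidAlgebra.basis G 𝕜)
          exact inferInstanceAs (FiniteDimensional 𝕜
            ((leftIdeal (redA (blockEps hB t l))).restrictScalars 𝕜))
        have h := congrFun (hcount _ (leftIdeal (redA (blockEps hB t l))) rfl (hfixX l)) s
        rw [bchar_leftIdeal_eq_sum hM hidem hs, Finset.sum_apply] at h
        have hpair : ∀ β, (finrank 𝕜 (LinearMap.range
            (act 𝕜 (leftIdeal (redA (blockEps hB t l))) (i β))) : ℂ) =
            ∑ ψ : IrrCharacter G, (d ψ β : ℂ) * cval (ψ : G → ℂ) (blockEps hB t l) := fun β => by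
          rw [← hbred β, finrank_pair (hb β) hidem]
          exact sum_congr rfl fun ψ _ => by rw [hd]
        simp only [Pi.smul_apply, smul_eq_mul, hpair, sum_mul] at h
        conv_rhs at h => rw [sum_comm]
        simp only [mul_sub, sum_sub_distrib, mul_sum]
        rw [sub_eq_zero]
        convert h using 1
        · exact sum_congr rfl fun ψ _ => mul_comm _ _
        · exact sum_congr rfl fun ψ _ => sum_congr rfl fun β _ => by ring
      have he : ∀ ψ : IrrCharacter G, ∑ l ∈ range (orderOf t), zeta (orderOf t) ^ l *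
          cval (ψ : G → ℂ) (blockEps hB t l) = if ψ ∈ B then (ψ : G → ℂ) t else 0 := fun ψ => by
        have hw : ∀ g : G, ∑ l ∈ range (orderOf t), zeta (orderOf t) ^ l *
            ((blockEps hB t l).coeff g : ℂ) = blockCoeff B (g * t⁻¹) := fun g => by
          have h := congrArg (fun z : LA M G => (((liftIdem hB * z).coeff g : localRing M) : ℂ))
            (sum_zeta_eps hM ht)
          simp only [mul_sum, mul_smul_comm, MonoidAlgebra.coeff_sum, Finsupp.finsetSum_apply,
            MonoidAlgebra.coeff_smul, Finsupp.smul_apply, smul_eq_mul] at h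
          push_cast at h
          simp only [coe_lc (memLocalRing_zeta_pow (orderOf_pos t) _)] at h
          simp only [blockEps]
          rw [h, coeff_mul']
          push_cast
          rw [sum_eq_single (g * t⁻¹)]
          · rw [coeff_liftIdem, show (g * t⁻¹)⁻¹ * g = t by group]
            simp
          · intro z _ hz
            rw [MonoidAlgebra.coeff_single, Finsupp.single_apply, if_neg]
            · simp
            · intro e; exact hz (by rw [e]; group)
          · simp
        simp only [cval, mul_sum]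
        rw [sum_comm]
        simp only [← mul_assoc, ← sum_mul, hw]
        rw [← Fintype.sum_equiv (Equiv.mulRight t) (fun k => blockCoeff B k * (ψ : G → ℂ) (k * t))
          (fun g => blockCoeff B (g * t⁻¹) * (ψ : G → ℂ) g) fun k => by simp,
          ← blockPart_eq_conv B (isClassFunction_irr ψ), blockPart_irr]
        split_ifs <;> rfl
      calc ∑ ψ : IrrCharacter G, D ψ * (ψ : G → ℂ) t
          = ∑ ψ : IrrCharacter G, (∑ l ∈ range (orderOf t), zeta (orderOf t) ^ l *
              cval (ψ : G → ℂ) (blockEps hB t l)) *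
              ((ψ : G → ℂ) s - ∑ β : bsetB p M B, (d ψ β : ℂ) * (β : G → ℂ) s) :=
            sum_congr rfl fun ψ _ => by simp only [he, D]; split_ifs <;> ring
        _ = ∑ l ∈ range (orderOf t), zeta (orderOf t) ^ l * ∑ ψ : IrrCharacter G,
              cval (ψ : G → ℂ) (blockEps hB t l) *
                ((ψ : G → ℂ) s - ∑ β : bsetB p M B, (d ψ β : ℂ) * (β : G → ℂ) s) := by
            simp only [sum_mul, mul_sum, mul_assoc]
            exact sum_comm
        _ = 0 := sum_eq_zero fun l _ => by rw [hl l, mul_zero]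
    -- at the singular elements
    have hsingD : ∀ t : G, p ∣ orderOf t → ∑ ψ : IrrCharacter G, D ψ * (ψ : G → ℂ) t = 0 := by
      intro t ht
      have ht' : p ∣ orderOf t⁻¹ := by rwa [orderOf_inv]
      have h1 := weak_orth hM (isIntClass_blockCoeff hB) (g := s) (h := t⁻¹) hs ht'
      have h2 : ∑ ψ ∈ univ.filter (· ∈ B), (∑ β : bsetB p M B, (d ψ β : ℂ) * (β : G → ℂ) s) *
          (ψ : G → ℂ) t = 0 := by
        simp only [sum_mul]
        rw [sum_comm, sum_eq_zero fun β _ => ?_]
        rw [sum_congr rfl fun ψ _ => show (d ψ β : ℂ) * (β : G → ℂ) s * (ψ : G → ℂ) t =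
          (β : G → ℂ) s * ((d ψ β : ℂ) * (ψ : G → ℂ) t) by ring, ← mul_sum, hvanish β t ht, mul_zero]
      simp only [D, ite_mul, zero_mul]
      rw [← sum_filter]
      simp only [sub_mul, sum_sub_distrib]
      rw [h2, sub_zero]
      refine Eq.trans (sum_congr rfl fun ψ _ => ?_) h1
      rw [conj_irr, inv_inv]
    have h0 : (∑ ψ : IrrCharacter G, D ψ • (ψ : G → ℂ)) = 0 := funext fun t => by
      simp only [Finset.sum_apply, Pi.smul_apply, smul_eq_mul, Pi.zero_apply]
      exact if h : p ∣ orderOf t then hsingD t h else hregD t h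
    have h := Fintype.linearIndependent_iff.1 CfsgLib.Char.linearIndependent_irr D h0 χ
    simp only [D, if_pos hχ, sub_eq_zero] at h
    rw [regPart_of_not_dvd hs, Finset.sum_apply]
    exact h
  · rw [finsum_mem_eq_sum_of_inter_support_eq (t := univ.filter (· ∈ B)) _ (by ext; simp)]
    exact hvanish β h hh

/-- **Brauer characters are integral combinations of the regular parts.** -/
theorem exists_int_combination (hM : IsPModular p M) {B : Set (IrrCharacter G)} (hB : IsPBlock M B)
    {f : G → ℂ} (hf : f ∈ bsetB p M B) :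
    ∃ n : IrrCharacter G → ℤ, ∀ s : G, ¬ p ∣ orderOf s →
      f s = ∑ᶠ χ ∈ B, (n χ : ℂ) * (χ : G → ℂ) s := by
  letI := irrFintype (G := G)
  have hf' : f ∈ Submodule.span ℂ (bsetB p M B) := Submodule.subset_span hf
  rw [span_bsetB hM hB] at hf'
  obtain ⟨m, hm, hfix, rfl⟩ := hf
  haveI := finiteDimensional_quot (M := M) m
  set θ : G → ℂ := fun g => bchar p M (𝔸 ⧸ m) (regP p g)
  have hθg : IsGeneralizedCharacter G θ := isGeneralized_bchar_regP hM _
  choose n hn using fun χ : IrrCharacter G => CfsgLib.Char.IsGeneralized.exists_classInner_eq_int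
    hθg (CfsgLib.Char.IsIrrCharacter.isGeneralized χ.2)
  refine ⟨n, fun s hs => ?_⟩
  rw [finsum_mem_eq_sum_of_inter_support_eq (t := univ.filter (· ∈ B)) _ (by ext; simp)]
  simp only [← hn]
  rw [← blockPart_eq_sum_inner]
  have key : ∀ g ∈ Submodule.span ℂ ((fun φ : IrrCharacter G => regPart p (φ : G → ℂ)) '' B),
      ∀ s, ¬ p ∣ orderOf s → blockPart B g s = g s := by
    intro g hg s hs
    induction hg using Submodule.span_induction with
    | mem g hg =>
      obtain ⟨φ, hφ, rfl⟩ := hg
      rw [blockPart_regPart hM hB, blockPart_irr, if_pos hφ]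
    | zero => rw [← blockPartLin_apply, map_zero]
    | add a c _ _ ha hc => rw [← blockPartLin_apply, map_add, Pi.add_apply, blockPartLin_apply, blockPartLin_apply, ha, hc, Pi.add_apply]
    | smul r a _ ha => rw [← blockPartLin_apply, map_smul, Pi.smul_apply, blockPartLin_apply, ha, Pi.smul_apply]
  rw [← key _ hf' s hs]
  exact blockPart_congr_regular hM hB (fun c hc => by simp only [θ, regP_of_not_dvd hc]) hs

end CfsgLib.BrauerBasis
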