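import Cfsg.Agent.Blocks.Induced
import Cfsg.Agent.Char.Induction

/-!
# Brauer's second main theorem for ordinary characters
-/

namespace CfsgLib.Block

open Cfsg Finset CfsgLib.Block.Chr CfsgLib.Char
open scoped ComplexConjugate

set_option linter.unusedSectionVars false
set_option linter.style.haveILetI false

universe u

variable {G : Type u} [Group G] [Fintype G] {M : Ideal AlgInt} [M.IsPrime] {p : ℕ}
  {H : Subgroup G} [Fintype H]

/-- The annihilation statement: a character outside the induced block kills the idempotent. -/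
theorem sum_blockCoeff_mul_eq_zero (hM : IsPModular p M) {b : Set (IrrCharacter H)}
    {B B₀ : Set (IrrCharacter G)} (hind : IsInducedBlock M H b B₀) (hB : IsPBlock M B)
    (hne : B ≠ B₀) {χ : IrrCharacter G} (hχ : χ ∈ B) (h : H) {x : G}
    (hx : IsPPart p (h : G) x) (hC : Subgroup.centralizer ({x} : Set G) ≤ H) :
    ∑ k : H, blockCoeff b k * (χ : G → ℂ) ((k : G) * (h : G)) = 0 := by
  classical
  letI := irrFintype (G := G)
  obtain ⟨ξ₀, hξ₀⟩ := exists_mem_block hind.1
  obtain ⟨χ₀, hχ₀⟩ := exists_mem_block hind.2.1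
  obtain ⟨s, hxs, hcs, ⟨n₀, hn₀⟩, hs⟩ := hx
  have hxH : x ∈ H := hC (Subgroup.mem_centralizer_singleton_iff.2 rfl)
  have hsH : s ∈ H := hC (Subgroup.mem_centralizer_singleton_iff.2 hcs.eq.symm)
  set Q := Subgroup.zpowers (⟨x, hxH⟩ : H) with hQdef
  have hQ : IsPGroup p Q :=
    IsPGroup.of_card (n := n₀) (by rw [Nat.card_zpowers, Subgroup.orderOf_mk, hn₀])
  have hQG : IsPGroup p (Subgroup.zpowers x) :=
    IsPGroup.of_card (n := n₀) (by rw [Nat.card_zpowers, hn₀])
  set f := blockCoeff b
  set E := resFun H (blockCoeff B)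
  have hf : IsIntClass M f := isIntClass_blockCoeff hind.1
  have hE : IsIntClass M E := isIntClass_resFun H (isIntClass_blockCoeff hB)
  set N := conv f E with hNdef
  have hN : IsIntClass M N := isIntClass_conv hf hE
  -- `N` is nilpotent modulo the ideal
  have hωE : MemLocalIdeal M (omega (ξ₀ : H → ℂ) E) := by
    have h1 := induced_cong H (hind.2.2 ξ₀ hξ₀ χ₀ hχ₀) (isIntClass_blockCoeff hB)
    rw [omega_blockCoeff, if_neg fun hm => hne (block_eq_of_common hB hind.2.1 hm hχ₀),
      sub_zero] at h1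
    exact h1
  have hωN : ∀ ξ : IrrCharacter H, MemLocalIdeal M (omega (ξ : H → ℂ) N) := by
    intro ξ
    rw [hNdef, omega_conv ξ hf.1, omega_blockCoeff]
    split_ifs with hξ
    · rw [one_mul]
      exact (memLocalIdeal_iff_of_cong (omega_cong (sameBlock_of_mem hind.1 hξ hξ₀) hE)).2 hωE
    · rw [zero_mul]; exact memLocalIdeal_zero
  obtain ⟨k, hk0, hk⟩ := exists_convPow_mem_ideal hM hN hωN
  -- modulo the ideal and on the centralizer of `x` it is idempotent
  have hcent : ∀ w : H, w ∈ Subgroup.centralizer (Q : Set H) ↔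
      (w : G) ∈ Subgroup.centralizer ({x} : Set G) := by
    intro w
    rw [hQdef, Subgroup.mem_centralizer_iff, Subgroup.mem_centralizer_singleton_iff]
    constructor
    · exact fun hw => (congrArg (Subtype.val : H → G) (hw _ (Subgroup.mem_zpowers _))).symm
    · intro hw u hu
      obtain ⟨i, rfl⟩ := hu
      have : Commute (⟨x, hxH⟩ : H) w := Subtype.ext hw.symm
      exact (this.zpow_left i).eq
  have hzG : ∀ w : G, w ∈ Subgroup.centralizer (Subgroup.zpowers x : Set G) ↔
      w ∈ Subgroup.centralizer ({x} : Set G) := by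
    intro w
    rw [Subgroup.mem_centralizer_iff, Subgroup.mem_centralizer_singleton_iff]
    refine ⟨fun hw => (hw x (Subgroup.mem_zpowers x)).symm, fun hw u hu => ?_⟩
    obtain ⟨i, rfl⟩ := hu
    exact ((show Commute x w from hw.symm).zpow_left i).eq
  have hconv : ∀ a c : H → ℂ, IsIntClass M a → IsIntClass M c →
      (∀ w ∈ Subgroup.centralizer (Q : Set H), MemLocalIdeal M (c w)) →
      ∀ w ∈ Subgroup.centralizer (Q : Set H), MemLocalIdeal M (conv a c w) := by
    intro a c ha hc hI w hw
    refine (memLocalIdeal_iff_of_cong (conv_cong hM ha hc hQ hw)).2 (memLocalIdeal_sum fun g hg => ?_)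
    exact memLocalIdeal_mul_left (ha.2 g)
      (hI _ (Subgroup.mul_mem _ (Subgroup.inv_mem _ (mem_filter.1 hg).2) hw))
  have hDE : ∀ w ∈ Subgroup.centralizer (Q : Set H), MemLocalIdeal M (conv E E w - E w) := by
    intro w hw
    have hH := conv_cong hM hE hE hQ hw
    have hG := conv_cong hM (isIntClass_blockCoeff hB) (isIntClass_blockCoeff hB) hQG
      ((hzG _).2 ((hcent w).1 hw))
    rw [conv_blockCoeff_self] at hG
    have hsum : ∑ g ∈ univ.filter (· ∈ Subgroup.centralizer (Q : Set H)), E g * E (g⁻¹ * w) =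
        ∑ g ∈ univ.filter (· ∈ Subgroup.centralizer (Subgroup.zpowers x : Set G)),
          blockCoeff B g * blockCoeff B (g⁻¹ * (w : G)) := by
      refine sum_bij (fun g _ => (g : G)) (fun g hg => ?_)
        (fun g _ g' _ h => Subtype.ext h) (fun g hg => ?_) (fun g _ => rfl)
      · exact mem_filter.2 ⟨mem_univ _, (hzG _).2 ((hcent g).1 (mem_filter.1 hg).2)⟩
      · have hg' := (hzG g).1 (mem_filter.1 hg).2
        exact ⟨⟨g, hC hg'⟩, mem_filter.2 ⟨mem_univ _, (hcent _).2 hg'⟩, rfl⟩
    rw [hsum] at hH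
    exact memLocalIdeal_sub_trans hH (memLocalIdeal_sub_comm hG)
  have hDN : ∀ w ∈ Subgroup.centralizer (Q : Set H), MemLocalIdeal M (conv N N w - N w) := by
    intro w hw
    have hD : IsIntClass M (conv E E + (-1 : ℂ) • E) :=
      isIntClass_add_smul (isIntClass_conv hE hE) hE (memLocalRing_neg memLocalRing_one)
    have h1 := hconv f _ hf hD (fun v hv => by
      simpa [sub_eq_add_neg] using hDE v hv) w hw
    have e : conv N N w - N w = conv f (conv E E + (-1 : ℂ) • E) w := by
      letI := irrFintype (G := H)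
      have hE' := hD.1
      rw [eq_sum_omega (isClassFunction_conv hN.1 hN.1) w, eq_sum_omega hN.1 w,
        eq_sum_omega (isClassFunction_conv hf.1 hE') w, ← mul_sub, ← sum_sub_distrib]
      congr 1
      refine sum_congr rfl fun ξ _ => ?_
      rw [omega_conv ξ hN.1, hNdef, omega_conv ξ hf.1, omega_conv ξ hf.1 (conv E E + _),
        omega_add, omega_smul, omega_conv ξ hE.1, omega_blockCoeff]
      split_ifs <;> ring
    rwa [e]
  have hpow : ∀ j, ∀ w ∈ Subgroup.centralizer (Q : Set H),
      MemLocalIdeal M (convPow N (j + 1) w - N w) := by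
    intro j
    induction j with
    | zero =>
      intro w _
      rw [show convPow N 1 w = N w from ?_, sub_self]
      · exact memLocalIdeal_zero
      · show conv N deltaOne w = N w
        rw [conv, sum_eq_single w]
        · simp [deltaOne_one]
        · intro g _ hg
          rw [deltaOne_of_ne fun hc => hg (inv_mul_eq_one.1 hc), mul_zero]
        · simp
    | succ j ih =>
      intro w hw
      refine memLocalIdeal_sub_trans (y := conv N N w) ?_ (hDN w hw)
      have h1 := hconv N (convPow N (j + 1) + (-1 : ℂ) • N) hN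
        (isIntClass_add_smul (isIntClass_convPow hN (j + 1)) hN (memLocalRing_neg memLocalRing_one))
        (fun v hv => by simpa [sub_eq_add_neg] using ih v hv) w hw
      have e : conv N (convPow N (j + 1) + (-1 : ℂ) • N) w =
          convPow N (j + 1 + 1) w - conv N N w := by
        show _ = conv N (convPow N (j + 1)) w - conv N N w
        simp only [conv, Pi.add_apply, Pi.smul_apply, smul_eq_mul, ← sum_sub_distrib]
        exact sum_congr rfl fun g _ => by ring
      rwa [← e]
  obtain ⟨j, rfl⟩ := Nat.exists_eq_succ_of_ne_zero hk0.ne'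
  have hzero : ∀ w : H, (w : G) ∈ Subgroup.centralizer ({x} : Set G) → MemLocalIdeal M (N w) :=
    fun w hw => (memLocalIdeal_iff_of_cong (hpow j w ((hcent w).2 hw))).1 (hk w)
  -- the functions on the whole group
  set β := Cfsg.extendByZero H f with hβ
  have hβR : ∀ g, MemLocalRing M (β g) := fun g => by
    by_cases hg : g ∈ H
    · rw [hβ, CfsgLib.Char.extendByZero_of_mem _ hg]; exact hf.2 _
    · rw [hβ, CfsgLib.Char.extendByZero_of_not_mem _ hg]; exact memLocalRing_zero
  have hβc : ∀ c : H, ∀ g, β ((c : G) * g * (c : G)⁻¹) = β g := by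
    intro c g
    by_cases hg : g ∈ H
    · have hg' : (c : G) * g * (c : G)⁻¹ ∈ H := H.mul_mem (H.mul_mem c.2 hg) (H.inv_mem c.2)
      rw [hβ, CfsgLib.Char.extendByZero_of_mem _ hg, CfsgLib.Char.extendByZero_of_mem _ hg']
      exact hf.1 ⟨g, hg⟩ c
    · have hg' : (c : G) * g * (c : G)⁻¹ ∉ H := fun hm => hg (by
        simpa [mul_assoc] using H.mul_mem (H.mul_mem (H.inv_mem c.2) hm) c.2)
      rw [hβ, CfsgLib.Char.extendByZero_of_not_mem _ hg,
        CfsgLib.Char.extendByZero_of_not_mem _ hg']
  have hβconv : ∀ (a : G → ℂ) (w : H), conv β a w = conv f (resFun H a) w := by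
    intro a w
    rw [conv, hβ, CfsgLib.Char.sum_extendByZero]
    rfl
  have hββ : conv β β = β := by
    funext g
    by_cases hg : g ∈ H
    · rw [show g = ((⟨g, hg⟩ : H) : G) from rfl, hβconv,
        show resFun H β = f from funext fun v => CfsgLib.Char.extendByZero_apply f v,
        conv_blockCoeff_self]
      exact (CfsgLib.Char.extendByZero_apply f ⟨g, hg⟩).symm
    · conv_rhs => rw [hβ, CfsgLib.Char.extendByZero_of_not_mem _ hg]
      rw [conv, hβ, CfsgLib.Char.sum_extendByZero]
      refine sum_eq_zero fun v _ => ?_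
      rw [CfsgLib.Char.extendByZero_of_not_mem, mul_zero]
      exact fun hm => hg (by simpa using H.mul_mem v.2 hm)
  set S : IrrCharacter G → ℂ := fun ψ => ∑ g : G, β g * (ψ : G → ℂ) (g * (s * x))
  have horth : ∀ w : G, ∑ ψ ∈ univ.filter (· ∈ B), S ψ * conj ((ψ : G → ℂ) w) = 0 := by
    intro w
    obtain ⟨y, r, hyr, hcr, ⟨n₁, hn₁⟩, ⟨m₁, hm₁, hr₁⟩, -, -, -, -, -⟩ := exists_pPart hM.1 w
    have := charSum_eq_zero hM (isIntClass_blockCoeff hB) hβR hββ (x := x) (y := y) (s := s)
      (t := r⁻¹) (fun g => hβc ⟨x, hxH⟩ g) (fun g => hβc ⟨s, hsH⟩ g) hcs hcr.inv_right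
      (n := n₀ + n₁) (by rw [pow_add, pow_mul, ← hn₀, pow_orderOf_eq_one, one_pow])
      (by rw [pow_add, mul_comm, pow_mul, hn₁, one_pow])
      (m := orderOf s * m₁) (fun hd => (hM.1.dvd_mul.1 hd).elim hs hm₁)
      (by rw [pow_mul, pow_orderOf_eq_one, one_pow])
      (by rw [inv_pow, mul_comm, pow_mul, hr₁, one_pow, inv_one])
      (fun i z hi hz => by
        have hi2 : i⁻¹ * x * i = y := by
          calc i⁻¹ * x * i = i⁻¹ * (x * i * y⁻¹) * y := by group
            _ = y := by rw [hi]; group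
        have hmem : Commute x (i * (s * z * r⁻¹)⁻¹) := by
          have hz2 : z⁻¹ * x * z = y := by
            calc z⁻¹ * x * z = z⁻¹ * (x * z * y⁻¹) * y := by group
              _ = y := by rw [hz]; group
          have h2 : x * i = i * y := by rw [← hi2]; group
          have h3 : y * z⁻¹ = z⁻¹ * x := by rw [← hz2]; group
          show x * (i * (s * z * r⁻¹)⁻¹) = i * (s * z * r⁻¹)⁻¹ * x
          calc x * (i * (s * z * r⁻¹)⁻¹) = x * i * r * z⁻¹ * s⁻¹ := by group
            _ = i * (y * r) * z⁻¹ * s⁻¹ := by rw [h2]; group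
            _ = i * r * (y * z⁻¹) * s⁻¹ := by rw [hcr.eq]; group
            _ = i * r * z⁻¹ * (x * s⁻¹) := by rw [h3]; group
            _ = i * r * z⁻¹ * (s⁻¹ * x) := by rw [hcs.inv_right.eq]
            _ = i * (s * z * r⁻¹)⁻¹ * x := by group
        have hwH := hC (Subgroup.mem_centralizer_singleton_iff.2 hmem.eq.symm)
        rw [show i * (s * z * r⁻¹)⁻¹ = ((⟨_, hwH⟩ : H) : G) from rfl, hβconv]
        exact hzero _ (Subgroup.mem_centralizer_singleton_iff.2 hmem.eq.symm))
    rw [← this]
    refine sum_congr rfl fun ψ _ => ?_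
    rw [conj_irr, ← hyr, mul_inv_rev, ← hcr.inv_inv.eq]
  have hS : S χ = 0 := by
    have h1 : ∑ w : G, (∑ ψ ∈ univ.filter (· ∈ B), S ψ * conj ((ψ : G → ℂ) w)) *
        (χ : G → ℂ) w = 0 := sum_eq_zero fun w _ => by rw [horth w, zero_mul]
    simp only [sum_mul] at h1
    rw [sum_comm] at h1
    have h2 : ∀ ψ : IrrCharacter G, ∑ w : G, S ψ * conj ((ψ : G → ℂ) w) * (χ : G → ℂ) w =
        if χ = ψ then S ψ * (Nat.card G : ℂ) else 0 := by
      intro ψ
      have h := classInner_irr χ ψ
      rw [classInner, inv_mul_eq_iff_eq_mul₀ (Nat.cast_ne_zero.2 Nat.card_pos.ne')] at h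
      simp only [mul_assoc, ← mul_sum]
      rw [sum_congr rfl fun w _ => mul_comm _ _, h]
      split_ifs <;> simp
    simp only [h2, sum_ite_eq, mem_filter, mem_univ, true_and, if_pos hχ, mul_eq_zero,
      Nat.cast_eq_zero, Nat.card_pos.ne', or_false] at h1
    exact h1
  rw [← hS]
  simp only [S, hβ]
  rw [CfsgLib.Char.sum_extendByZero]
  refine sum_congr rfl fun v _ => ?_
  rw [← hcs.eq, hxs]

theorem blockPart_eq_conv {G : Type u} [Group G] [Fintype G] (B : Set (IrrCharacter G))
    {θ : G → ℂ} (hθ : IsClassFunction G θ) (y : G) :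
    blockPart B θ y = ∑ k : G, blockCoeff B k * θ (k * y) := by
  classical
  letI := irrFintype (G := G)
  have hirr : ∀ χ : IrrCharacter G, ∑ k : G, blockCoeff B k * (χ : G → ℂ) (k * y) =
      (if χ ∈ B then 1 else 0) * (χ : G → ℂ) y := by
    intro χ
    have h := class_mul χ (isClassFunction_blockCoeff B) (fun z => if z = y then 1 else 0)
    simp only [mul_ite, mul_one, mul_zero, ite_mul, one_mul, zero_mul, sum_ite_eq', mem_univ,
      if_true] at h
    rw [← omega_blockCoeff B χ, omega]
    have := irr_one_ne_zero χ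
    field_simp
    linear_combination h
  rw [blockPart_eq_sum_inner]
  simp only [classFun_expand hθ, mul_sum]
  rw [sum_comm, sum_filter]
  refine sum_congr rfl fun χ _ => ?_
  rw [sum_congr rfl fun k _ => mul_left_comm _ _ _, ← mul_sum, hirr χ]
  split_ifs <;> simp

/-- The second main theorem. -/
theorem blockPart_eq_zero_of_not_induced (hM : IsPModular p M) {x : G} {k : ℕ}
    (hx : orderOf x = p ^ k) [Fintype (Subgroup.centralizer ({x} : Set G))]
    {B : Set (IrrCharacter G)} (hB : IsPBlock M B) {χ : IrrCharacter G} (hχ : χ ∈ B)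
    {b : Set (IrrCharacter (Subgroup.centralizer ({x} : Set G)))} (hb : IsPBlock M b)
    (hnot : ¬ IsInducedBlock M (Subgroup.centralizer ({x} : Set G)) b B)
    (y : Subgroup.centralizer ({x} : Set G)) (hy : ¬ p ∣ orderOf y) :
    blockPart b (fun c : Subgroup.centralizer ({x} : Set G) => (χ : G → ℂ) (x * (c : G))) y = 0 := by
  classical
  have hQ : IsPGroup p (Subgroup.zpowers x) :=
    IsPGroup.of_card (n := k) (by rw [Nat.card_zpowers, hx])
  have hxC : x ∈ (Subgroup.centralizer ({x} : Set G)) := Subgroup.mem_centralizer_singleton_iff.2 rfl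
  have hle : Subgroup.zpowers x ≤ (Subgroup.centralizer ({x} : Set G)) := Subgroup.zpowers_le.2 hxC
  have hCH : Subgroup.centralizer (Subgroup.zpowers x : Set G) ≤ (Subgroup.centralizer ({x} : Set G)) := fun w hw =>
    Subgroup.mem_centralizer_singleton_iff.2
      ((Subgroup.mem_centralizer_iff.1 hw x (Subgroup.mem_zpowers x)).symm)
  have hHN : (Subgroup.centralizer ({x} : Set G)) ≤ Subgroup.normalizer (Subgroup.zpowers x : Set G) := by
    refine le_trans ?_ (Subgroup.centralizer_le_normalizer _)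
    intro w hw
    rw [Subgroup.mem_centralizer_iff]
    intro u hu
    obtain ⟨i, rfl⟩ := hu
    exact ((show Commute x w from (Subgroup.mem_centralizer_singleton_iff.1 hw).symm).zpow_left i).eq
  obtain ⟨B₀, hB₀⟩ := exists_induced hM hQ hle hCH hHN hb
  have hne : B ≠ B₀ := fun h => hnot (h ▸ hB₀)
  have hθ : IsClassFunction (Subgroup.centralizer ({x} : Set G)) (fun c : (Subgroup.centralizer ({x} : Set G)) => (χ : G → ℂ) (x * (c : G))) := by
    intro c v
    have hv : Commute x (v : G) := (Subgroup.mem_centralizer_singleton_iff.1 v.2).symm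
    show (χ : G → ℂ) (x * ((v * c * v⁻¹ : (Subgroup.centralizer ({x} : Set G))) : G)) = (χ : G → ℂ) (x * (c : G))
    rw [← isClassFunction_irr χ (x * (c : G)) (v : G)]
    push_cast
    refine congrArg (χ : G → ℂ) ?_
    calc x * ((v : G) * c * (v : G)⁻¹) = (x * (v : G)) * c * (v : G)⁻¹ := by group
      _ = (v : G) * (x * c) * (v : G)⁻¹ := by rw [hv.eq]; group
  rw [blockPart_eq_conv b hθ y]
  have hpart : IsPPart p ((⟨x, hxC⟩ * y : (Subgroup.centralizer ({x} : Set G))) : G) x :=
    ⟨y, rfl, (Subgroup.mem_centralizer_singleton_iff.1 y.2).symm, ⟨k, hx⟩,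
      by rwa [Subgroup.orderOf_coe]⟩
  rw [← sum_blockCoeff_mul_eq_zero hM hB₀ hB hne hχ (⟨x, hxC⟩ * y) hpart le_rfl]
  refine sum_congr rfl fun v _ => ?_
  congr 2
  push_cast
  rw [← mul_assoc, ← mul_assoc, (Subgroup.mem_centralizer_singleton_iff.1 v.2).symm]

end CfsgLib.Block
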