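import Cfsg.Agent.Blocks.BrauerFeit

/-!
# The idempotent of the principal block, counted by products of `p`-elements and `p'`-elements
-/

namespace CfsgLib.Block

open Cfsg Finset CfsgLib.Block.Chr CfsgLib.Char
open scoped ComplexConjugate

set_option linter.unusedSectionVars false
set_option linter.style.haveILetI false

universe u

variable {G : Type u} [Group G] [Fintype G] {M : Ideal AlgInt} [M.IsPrime] {p : ℕ}

theorem oneIrr_height_zero : blockHeight p (principalBlock M G) (oneIrr G : G → ℂ) = 0 := by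
  have h : charDegree (oneIrr G : G → ℂ) = 1 := by simp [charDegree]
  rw [blockHeight, h, Nat.factorization_one]
  simp

/-- The number of `p`-regular elements is a unit modulo `p`. -/
theorem card_regular_unit (hM : IsPModular p M) :
    ¬ MemLocalIdeal M ((univ.filter fun y : G => ¬ p ∣ orderOf y).card : ℂ) := by
  haveI : Fact p.Prime := ⟨hM.1⟩
  have h := (heightForm_unit_iff hM isPBlock_principalBlock (oneIrr_mem_principalBlock (G := G))
    (oneIrr_mem_principalBlock (G := G))).2 oneIrr_height_zero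
  have e : heightForm p (oneIrr G) (oneIrr G) =
      ((univ.filter fun y : G => ¬ p ∣ orderOf y).card : ℂ) := by
    rw [heightForm, omega, oneIrr_apply, div_one, ← sum_boole]
    refine sum_congr rfl fun y _ => ?_
    by_cases hy : p ∣ orderOf y <;> simp [regPart, hy]
  rwa [← e]

theorem principal_coeff_cong (hM : IsPModular p M) {g : G} (hg : ¬ p ∣ orderOf g) :
    MemLocalIdeal M (blockCoeff (principalBlock M G) g -
      (Nat.card {xy : G × G // (∃ k : ℕ, orderOf xy.1 = p ^ k) ∧ ¬ p ∣ orderOf xy.2 ∧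
        xy.1 * xy.2 = g} : ℂ) / (Nat.card {y : G // ¬ p ∣ orderOf y} : ℂ)) := by
  classical
  letI := irrFintype (G := G)
  haveI : Fact p.Prime := ⟨hM.1⟩
  let π : G → ℂ := fun u => if ∃ k : ℕ, orderOf u = p ^ k then 1 else 0
  let ρ : G → ℂ := regPart p fun _ => 1
  have hord : ∀ u y : G, orderOf (y * u * y⁻¹) = orderOf u := fun u y =>
    orderOf_injective (MulAut.conj y).toMonoidHom (MulAut.conj y).injective u
  have hπ : IsClassFunction G π := fun u y => by simp only [π, hord]
  have hρ : IsIntClass M ρ := ⟨fun u y => by simp only [ρ, regPart, hord], fun u => by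
    simp only [ρ, regPart]; split_ifs
    · exact memLocalRing_zero
    · exact memLocalRing_one⟩
  -- the average of a character over the `p`-elements is locally integral
  obtain ⟨f, hf, hfv⟩ := sectionInd_mem (G := G) hM (1 : G)
    (by rw [orderOf_one]; exact hM.1.not_dvd_one)
  have hfπ : f = π := by
    funext u
    have hiff : (∃ v : G, (∃ n : ℕ, v ^ p ^ n = 1) ∧ Commute 1 v ∧ IsConj (1 * v) u) ↔
        ∃ k : ℕ, orderOf u = p ^ k := by
      constructor
      · rintro ⟨v, ⟨n, hn⟩, -, hc⟩
        obtain ⟨k, -, hk⟩ := (Nat.dvd_prime_pow hM.1).1 (orderOf_dvd_of_pow_eq_one hn)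
        obtain ⟨c, hc⟩ := isConj_iff.1 hc
        exact ⟨k, by rw [← hc, one_mul, hord, hk]⟩
      · rintro ⟨k, hk⟩
        exact ⟨u, ⟨k, by rw [← hk, pow_orderOf_eq_one]⟩, Commute.one_left u,
          by rw [one_mul]⟩
    by_cases h : ∃ k : ℕ, orderOf u = p ^ k
    · rw [(hfv u).2.2 (hiff.2 h)]; simp only [π, if_pos h]
    · rcases (hfv u).1 with h0 | h1
      · rw [h0]; simp only [π, if_neg h]
      · exact absurd (hiff.1 ((hfv u).2.1 h1)) h
  let c : IrrCharacter G → ℂ := fun χ => (Nat.card G : ℂ)⁻¹ * ∑ u : G, π u * (χ : G → ℂ) u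
  have hc : ∀ χ, MemLocalRing M (c χ) := fun χ => by
    have h := hf (fun _ => 1) (fun φ hφ => by
      obtain ⟨n, hn⟩ := IsCharacter.exists_classInner_eq_natCast' isCharacter_one hφ
      rw [hn]; exact natCast_mem_localRing n) _ (IsCharacter.conj (isCharacter_irr χ))
    convert h using 1
    simp [c, classInner, hfπ]
  set B := principalBlock M G with hBdef
  have hB : IsPBlock M B := isPBlock_principalBlock
  have he : blockCoeff B g = ∑ χ ∈ univ.filter (· ∈ B), c χ * conj ((χ : G → ℂ) g) := by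
    simp only [c, mul_assoc, sum_mul, ← mul_sum]
    rw [blockCoeff_eq_sum, sum_comm, sum_eq_single (1 : G)]
    · simp only [π, orderOf_one, if_pos (⟨0, (pow_zero p).symm⟩ : ∃ k : ℕ, 1 = p ^ k), one_mul]
    · intro u _ hu
      by_cases h : ∃ k : ℕ, orderOf u = p ^ k
      · obtain ⟨k, hk⟩ := h
        have hk0 : k ≠ 0 := fun h0 => hu (orderOf_eq_one_iff.1 (by rw [hk, h0, pow_zero]))
        have h' := congrArg conj (weak_orth hM (isIntClass_blockCoeff hB) hg
          (hk ▸ dvd_pow_self p hk0 : p ∣ orderOf u))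
        simp only [map_sum, map_mul, Complex.conj_conj, map_zero] at h'
        simp only [π, if_pos (⟨k, hk⟩ : ∃ k : ℕ, orderOf u = p ^ k), one_mul]
        rw [← h']
        exact sum_congr rfl fun χ _ => mul_comm _ _
      · simp only [π, if_neg h, zero_mul, sum_const_zero]
    · simp
  have hzero : ∀ χ : IrrCharacter G, χ ∉ B → omega (χ : G → ℂ) ρ = 0 := by
    intro χ hχ
    have h := congrArg conj (classInner_regPart_eq_zero hM (oneIrr G) χ
      fun h => hχ ((sameBlock_iff_mem hB oneIrr_mem_principalBlock).2 h))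
    simp only [classInner, map_mul, map_inv₀, map_natCast, map_sum, Complex.conj_conj, map_zero,
      mul_eq_zero, inv_eq_zero, Nat.cast_eq_zero, Nat.card_pos.ne', false_or] at h
    rw [omega, show ∑ u : G, ρ u * (χ : G → ℂ) u = 0 from ?_, zero_div]
    rw [← h]
    refine sum_congr rfl fun u _ => ?_
    by_cases hu : p ∣ orderOf u <;> simp [ρ, regPart, hu]
  have hN : conv π ρ g = ∑ χ ∈ univ.filter (· ∈ B),
      c χ * omega (χ : G → ℂ) ρ * conj ((χ : G → ℂ) g) := by
    rw [eq_sum_omega (isClassFunction_conv hπ hρ.1) g, mul_sum, sum_filter]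
    refine sum_congr rfl fun χ _ => ?_
    rw [omega_conv χ hπ]
    by_cases hχ : χ ∈ B
    · rw [if_pos hχ]
      simp only [c, omega]
      have := irr_one_ne_zero χ
      field_simp
    · rw [if_neg hχ, hzero χ hχ]; ring
  have hNcard : conv π ρ g = (Nat.card {xy : G × G // (∃ k : ℕ, orderOf xy.1 = p ^ k) ∧
      ¬ p ∣ orderOf xy.2 ∧ xy.1 * xy.2 = g} : ℂ) := by
    rw [conv, Nat.card_congr (β := {u : G // (∃ k : ℕ, orderOf u = p ^ k) ∧
      ¬ p ∣ orderOf (u⁻¹ * g)})
      { toFun := fun xy => ⟨xy.1.1, xy.2.1, by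
          rw [show xy.1.1⁻¹ * g = xy.1.2 from inv_mul_eq_iff_eq_mul.2 xy.2.2.2.symm]; exact xy.2.2.1⟩
        invFun := fun u => ⟨(u.1, u.1⁻¹ * g), u.2.1, u.2.2, mul_inv_cancel_left _ _⟩
        left_inv := fun xy => Subtype.ext (Prod.ext rfl
          (show xy.1.1⁻¹ * g = xy.1.2 from inv_mul_eq_iff_eq_mul.2 xy.2.2.2.symm))
        right_inv := fun u => rfl },
      Nat.card_eq_fintype_card, Fintype.card_subtype, ← sum_boole]
    refine sum_congr rfl fun u _ => ?_
    by_cases h1 : ∃ k : ℕ, orderOf u = p ^ k <;> by_cases h2 : p ∣ orderOf (u⁻¹ * g) <;>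
      simp [π, ρ, regPart, h1, h2]
  set R := ((univ.filter fun y : G => ¬ p ∣ orderOf y).card : ℂ) with hR
  have hRu : ¬ MemLocalIdeal M R := card_regular_unit hM
  have hRone : omega (oneIrr G : G → ℂ) ρ = R := by
    rw [omega, oneIrr_apply, div_one, hR, ← sum_boole]
    refine sum_congr rfl fun y _ => ?_
    by_cases hy : p ∣ orderOf y <;> simp [ρ, regPart, hy]
  have hdiff : MemLocalIdeal M (R * blockCoeff B g - conv π ρ g) := by
    rw [he, hN, mul_sum, ← sum_sub_distrib]
    refine memLocalIdeal_sum fun χ hχ => ?_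
    rw [show R * (c χ * conj ((χ : G → ℂ) g)) - c χ * omega (χ : G → ℂ) ρ * conj ((χ : G → ℂ) g) =
      c χ * conj ((χ : G → ℂ) g) * (R - omega (χ : G → ℂ) ρ) by ring, conj_irr, ← hRone]
    exact memLocalIdeal_mul_left (memLocalRing_mul (hc χ) (irr_mem χ _))
      (omega_cong (sameBlock_of_mem hB oneIrr_mem_principalBlock (mem_filter.1 hχ).2) hρ)
  rw [← hNcard, Nat.card_eq_fintype_card, Fintype.card_subtype, ← hR]
  have e : blockCoeff B g - conv π ρ g / R = R⁻¹ * (R * blockCoeff B g - conv π ρ g) := by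
    have := ne_zero_of_not_memLocalIdeal hRu
    field_simp
  rw [e]
  exact memLocalIdeal_mul_left (memLocalRing_inv (natCast_mem_localRing _) hRu) hdiff

end CfsgLib.Block
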