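import Cfsg.Agent.Blocks.Induced
import Cfsg.Agent.Blocks.PrincipalCoeff

/-!
# Height zero characters detect induced blocks; the third main theorem
-/

namespace CfsgLib.Block

open Cfsg Finset CfsgLib.Block.Chr CfsgLib.Char
open scoped ComplexConjugate

set_option linter.unusedSectionVars false
set_option linter.style.haveILetI false

universe u

variable {G : Type u} [Group G] [Fintype G] {M : Ideal AlgInt} [M.IsPrime] {p : ℕ} [Fact p.Prime]

theorem heightForm_eq_zero (hM : IsPModular p M) {B : Set (IrrCharacter G)} (hB : IsPBlock M B)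
    {χ ξ : IrrCharacter G} (hχ : χ ∈ B) (hξ : ξ ∉ B) : heightForm p χ ξ = 0 := by
  have h := mul_regInt (p := p) χ ξ
  rw [regInt_eq_zero_of_not_mem hM hB hχ hξ, Int.cast_zero, mul_zero] at h
  exact (mul_eq_zero.1 h.symm).resolve_left (Nat.cast_ne_zero.2 (irr_one ξ).2.ne')

variable {H : Subgroup G} [Fintype H]

/-- The induced block of `b` is `B` exactly when the height zero member of `B` gives a unit. -/
theorem induced_iff_unit (hM : IsPModular p M) {B : Set (IrrCharacter G)} (hB : IsPBlock M B)
    {χ : IrrCharacter G} (hχ : χ ∈ B) (h0 : blockHeight p B (χ : G → ℂ) = 0)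
    {b : Set (IrrCharacter H)} {B' : Set (IrrCharacter G)} (hind : IsInducedBlock M H b B')
    {ξ : IrrCharacter H} (hξ : ξ ∈ b) :
    B' = B ↔ ¬ MemLocalIdeal M
      (omega (ξ : H → ℂ) (resFun H (regPart p fun g => conj ((χ : G → ℂ) g)))) := by
  obtain ⟨χ', hχ'⟩ := exists_mem_block hind.2.1
  have hc := induced_cong H (hind.2.2 ξ hξ χ' hχ') (isIntClass_regConj (p := p) (M := M) χ)
  rw [memLocalIdeal_iff_of_cong hc]
  constructor
  · rintro rfl
    exact (heightForm_unit_iff hM hB hχ hχ').2 h0
  · intro hu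
    by_contra hne
    refine hu ?_
    rw [show omega (χ' : G → ℂ) (regPart p fun g => conj ((χ : G → ℂ) g)) = heightForm p χ χ' from rfl,
      heightForm_eq_zero hM hB hχ fun h => hne (block_eq_of_common hind.2.1 hB hχ' h)]
    exact memLocalIdeal_zero

/-- The restriction expands in height forms of the subgroup. -/
theorem omega_resFun_regConj [Fintype (IrrCharacter H)] (χ : IrrCharacter G) (ξ : IrrCharacter H) :
    omega (ξ : H → ℂ) (resFun H (regPart p fun g => conj ((χ : G → ℂ) g))) =
      ∑ ψ : IrrCharacter H, conj (classInner (fun h : H => (χ : G → ℂ) h) (ψ : H → ℂ)) *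
        heightForm p ψ ξ := by
  have hcl : IsClassFunction H (fun h : H => (χ : G → ℂ) h) := fun h x => by
    simpa using isClassFunction_irr χ (h : G) (x : G)
  simp only [heightForm, omega, ← mul_div_assoc, ← sum_div, mul_sum]
  rw [sum_comm]
  congr 1
  refine sum_congr rfl fun w _ => ?_
  rw [resFun]
  by_cases hw : p ∣ orderOf (w : G)
  · rw [regPart_of_dvd hw, zero_mul]
    refine (sum_eq_zero fun ψ _ => ?_).symm
    rw [regPart_of_dvd (by rwa [← Subgroup.orderOf_coe]), zero_mul, mul_zero]
  · rw [regPart_of_not_dvd hw, classFun_expand hcl w, map_sum, sum_mul]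
    refine sum_congr rfl fun ψ _ => ?_
    rw [regPart_of_not_dvd (by rwa [← Subgroup.orderOf_coe]), map_mul, mul_assoc]

/-- A height zero character of the induced block restricts with a height zero constituent of
multiplicity prime to `p`. -/
theorem exists_height_zero_constituent (hM : IsPModular p M) {b : Set (IrrCharacter H)}
    {B : Set (IrrCharacter G)} (hind : IsInducedBlock M H b B) {χ : IrrCharacter G} (hχ : χ ∈ B)
    (h0 : blockHeight p B (χ : G → ℂ) = 0) :
    ∃ ψ ∈ b, blockHeight p b (ψ : H → ℂ) = 0 ∧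
      ∃ n : ℕ, classInner (fun h : H => (χ : G → ℂ) h) (ψ : H → ℂ) = (n : ℂ) ∧ ¬ p ∣ n := by
  classical
  letI := irrFintype (G := H)
  obtain ⟨ξ, hξ⟩ := exists_mem_block hind.1
  have hu := (induced_iff_unit hM hind.2.1 hχ h0 hind hξ).1 rfl
  rw [omega_resFun_regConj] at hu
  by_contra hne
  refine hu (memLocalIdeal_sum fun ψ _ => ?_)
  obtain ⟨n, hn⟩ := IsCharacter.exists_classInner_eq_natCast (φ := fun h : H => (χ : G → ℂ) h)
    (IsCharacter.restrict (isCharacter_irr χ) H) ψ.2
  rw [hn, map_natCast]
  by_cases hψ : ψ ∈ b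
  · by_cases hpn : p ∣ n
    · exact memLocalIdeal_mul_right ((memLocalIdeal_natCast_iff hM).2 hpn) (heightForm_mem ψ ξ)
    · refine memLocalIdeal_mul_left (natCast_mem_localRing n) (by_contra fun hc => hne ?_)
      exact ⟨ψ, hψ, (heightForm_unit_iff hM hind.1 hψ hξ).1 hc, n, hn, hpn⟩
  · rw [heightForm_eq_zero hM (isPBlock_blockOf ψ) (mem_blockOf_self ψ) fun hm => hψ
      ((sameBlock_iff_mem hind.1 hξ).2 (sameBlock_symm hm)), mul_zero]
    exact memLocalIdeal_zero

/-- When the restriction stays irreducible of height zero, only its block induces. -/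
theorem induced_iff_eq (hM : IsPModular p M) {χ : IrrCharacter G} {ψ : IrrCharacter H}
    (hψ : (ψ : H → ℂ) = fun h : H => (χ : G → ℂ) h)
    (hχ0 : blockHeight p (blockOf M (χ : G → ℂ)) (χ : G → ℂ) = 0)
    (hψ0 : blockHeight p (blockOf M (ψ : H → ℂ)) (ψ : H → ℂ) = 0)
    {b : Set (IrrCharacter H)} (hb : InducedBlockDefined M H b) :
    IsInducedBlock M H b (blockOf M (χ : G → ℂ)) ↔ b = blockOf M (ψ : H → ℂ) := by
  classical
  letI := irrFintype (G := H)
  obtain ⟨B', hind⟩ := hb
  obtain ⟨ξ, hξ⟩ := exists_mem_block hind.1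
  have hval : omega (ξ : H → ℂ) (resFun H (regPart p fun g => conj ((χ : G → ℂ) g))) =
      heightForm p ψ ξ := by
    rw [omega_resFun_regConj, ← hψ, sum_eq_single ψ]
    · rw [classInner_irr, if_pos rfl, map_one, one_mul]
    · intro φ _ hφ
      rw [classInner_irr, if_neg (Ne.symm hφ), map_zero, zero_mul]
    · simp
  have hiff := induced_iff_unit hM (isPBlock_blockOf χ) (mem_blockOf_self χ) hχ0 hind hξ
  rw [hval] at hiff
  constructor
  · intro h
    have hu := hiff.1 (induced_unique hind h)
    by_contra hne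
    refine hu ?_
    rw [heightForm_eq_zero hM (isPBlock_blockOf ψ) (mem_blockOf_self ψ)
      fun hm => hne (block_eq_of_common hind.1 (isPBlock_blockOf ψ) hξ hm)]
    exact memLocalIdeal_zero
  · intro h
    have hu := (heightForm_unit_iff hM (isPBlock_blockOf ψ) (mem_blockOf_self ψ) (h ▸ hξ)).2 hψ0
    rw [← hiff.2 hu]
    exact hind

/-- Brauer's third main theorem. -/
theorem third_main (hM : IsPModular p M) {b : Set (IrrCharacter H)}
    (hb : InducedBlockDefined M H b) :
    IsInducedBlock M H b (principalBlock M G) ↔ b = principalBlock M H :=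
  induced_iff_eq hM (χ := oneIrr G) (ψ := oneIrr H) rfl oneIrr_height_zero oneIrr_height_zero hb

end CfsgLib.Block
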