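import Cfsg.Agent.Blocks.TraceFormula

/-!
# Consequences of weak block orthogonality

Block idempotents are supported on `p`-regular elements, blocks are determined by `p`-regular
classes, and taking block parts commutes with restriction to `p`-regular elements.
-/

namespace CfsgLib.Block

open Cfsg Finset CfsgLib.Block.Chr CfsgLib.Char
open scoped ComplexConjugate

set_option linter.unusedSectionVars false
set_option linter.style.haveILetI false

universe u

variable {G : Type u} [Group G] {M : Ideal AlgInt} {p : ℕ}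

/-- The restriction to `p`-regular elements, extended by zero. -/
noncomputable def regPart (p : ℕ) (f : G → ℂ) : G → ℂ := fun g => if p ∣ orderOf g then 0 else f g

theorem regPart_of_dvd {f : G → ℂ} {g : G} (h : p ∣ orderOf g) : regPart p f g = 0 := if_pos h

theorem regPart_of_not_dvd {f : G → ℂ} {g : G} (h : ¬ p ∣ orderOf g) : regPart p f g = f g :=
  if_neg h

/-- An algebraic integer which is rational is an integer. -/
theorem exists_int_of_isIntegral_ratCast {q : ℚ} (h : IsIntegral ℤ (q : ℂ)) :
    ∃ n : ℤ, (q : ℂ) = (n : ℂ) := by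
  have h' : IsIntegral ℤ q := (isIntegral_algHom_iff
    ((algebraMap ℚ ℂ).toIntAlgHom) (algebraMap ℚ ℂ).injective).1 (by simpa using h)
  obtain ⟨n, hn⟩ := IsIntegrallyClosed.isIntegral_iff.1 h'
  exact ⟨n, by rw [← hn]; simp⟩

variable [Fintype G]

/-- The degree of an irreducible character divides the order of the group. -/
theorem charDegree_dvd_card (χ : IrrCharacter G) :
    charDegree (χ : G → ℂ) ∣ Nat.card G := by
  classical
  obtain ⟨hd, hpos⟩ := irr_one χ
  have h1 : omega (χ : G → ℂ) (fun g => conj ((χ : G → ℂ) g)) =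
      (((Nat.card G : ℚ) / (charDegree (χ : G → ℂ) : ℚ) : ℚ) : ℂ) := by
    have h := classInner_irr χ χ
    rw [if_pos rfl, classInner] at h
    have hG : (Nat.card G : ℂ) ≠ 0 := Nat.cast_ne_zero.2 Nat.card_pos.ne'
    have hs : ∑ g : G, (χ : G → ℂ) g * conj ((χ : G → ℂ) g) = (Nat.card G : ℂ) := by
      field_simp at h; exact h
    rw [omega, sum_congr rfl fun g _ => mul_comm _ _, hs, hd]
    push_cast; rfl
  have hcl : IsClassFunction G (fun g => conj ((χ : G → ℂ) g)) := fun g x => by
    simp only [isClassFunction_irr χ g x]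
  have hint : IsIntegral ℤ (omega (χ : G → ℂ) (fun g => conj ((χ : G → ℂ) g))) := by
    rw [omega_eq_sum_classes χ hcl]
    refine IsIntegral.sum _ fun C _ => IsIntegral.mul ?_ (centralChar_isIntegral χ _)
    exact (IsCharacter.isIntegral (isCharacter_irr χ) _).map (starRingEnd ℂ).toIntAlgHom
  rw [h1] at hint
  obtain ⟨n, hn⟩ := exists_int_of_isIntegral_ratCast hint
  have hq : (Nat.card G : ℚ) / (charDegree (χ : G → ℂ) : ℚ) = (n : ℚ) := by exact_mod_cast hn
  rw [div_eq_iff (by exact_mod_cast hpos.ne')] at hq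
  exact Int.natCast_dvd_natCast.1 (Dvd.intro_left n (by exact_mod_cast hq.symm))

section Prime

variable [M.IsPrime]

/-- Block idempotents vanish at `p`-singular elements. -/
theorem blockCoeff_eq_zero_of_singular (hM : IsPModular p M) {B : Set (IrrCharacter G)}
    (hB : IsPBlock M B) {g : G} (hg : p ∣ orderOf g) : blockCoeff B g = 0 := by
  classical
  letI := irrFintype (G := G)
  rw [blockCoeff_eq_sum, weak_orth hM (isIntClass_blockCoeff hB) (g := 1) (h := g)
    (by rw [orderOf_one]; exact hM.1.not_dvd_one) hg, mul_zero]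

/-- Blocks are determined by the central characters at `p`-regular elements. -/
theorem sameBlock_of_regular (hM : IsPModular p M) (χ ψ : IrrCharacter G)
    (h : ∀ g : G, ¬ p ∣ orderOf g →
      MemLocalIdeal M (centralChar (χ : G → ℂ) g - centralChar (ψ : G → ℂ) g)) :
    SameBlock M (χ : G → ℂ) (ψ : G → ℂ) := by
  classical
  have hB := isPBlock_blockOf (M := M) χ
  suffices ψ ∈ blockOf M (χ : G → ℂ) from this
  by_contra hψ
  have ha := isIntClass_blockCoeff hB
  have h1 : omega (χ : G → ℂ) (blockCoeff (blockOf M (χ : G → ℂ))) -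
      omega (ψ : G → ℂ) (blockCoeff (blockOf M (χ : G → ℂ))) = 1 := by
    rw [omega_blockCoeff, omega_blockCoeff, if_pos (mem_blockOf_self χ), if_neg hψ, sub_zero]
  apply not_memLocalIdeal_one (M := M)
  rw [← h1, omega_eq_sum_classes χ ha.1, omega_eq_sum_classes ψ ha.1, ← sum_sub_distrib]
  refine memLocalIdeal_sum fun C _ => ?_
  by_cases hC : p ∣ orderOf C.out
  · rw [blockCoeff_eq_zero_of_singular hM hB hC]
    simpa using memLocalIdeal_zero
  · rw [← mul_sub]
    exact memLocalIdeal_mul_left (ha.2 _) (h _ hC)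

end Prime

theorem blockPart_eq_sum [Fintype (IrrCharacter G)] (B : Set (IrrCharacter G))
    [DecidablePred (· ∈ B)] (θ : G → ℂ) (g : G) :
    blockPart B θ g = (Nat.card G : ℂ)⁻¹ * ∑ z : G, θ z *
      ∑ χ ∈ univ.filter (· ∈ B), (χ : G → ℂ) g * conj ((χ : G → ℂ) z) := by
  rw [blockPart, finsum_mem_eq_sum_of_inter_support_eq (t := univ.filter (· ∈ B)) _ (by ext; simp)]
  rw [Subsingleton.elim (Fintype.ofFinite G) ‹Fintype G›]
  simp only [classInner, mul_sum, sum_mul]
  rw [sum_comm]
  exact sum_congr rfl fun z _ => sum_congr rfl fun χ _ => by ring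

theorem blockPart_eq_sum_inner [Fintype (IrrCharacter G)] (B : Set (IrrCharacter G))
    [DecidablePred (· ∈ B)] (θ : G → ℂ) (g : G) :
    blockPart B θ g = ∑ χ ∈ univ.filter (· ∈ B), classInner θ (χ : G → ℂ) * (χ : G → ℂ) g := by
  rw [blockPart, finsum_mem_eq_sum_of_inter_support_eq (t := univ.filter (· ∈ B)) _ (by ext; simp)]
  rw [Subsingleton.elim (Fintype.ofFinite G) ‹Fintype G›]

theorem classInner_blockPart (B : Set (IrrCharacter G)) [DecidablePred (· ∈ B)] (θ : G → ℂ)
    (ψ : IrrCharacter G) :
    classInner (blockPart B θ) (ψ : G → ℂ) = if ψ ∈ B then classInner θ (ψ : G → ℂ) else 0 := by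
  classical
  letI := irrFintype (G := G)
  have : classInner (blockPart B θ) (ψ : G → ℂ) =
      ∑ χ ∈ univ.filter (· ∈ B), classInner θ (χ : G → ℂ) * classInner (χ : G → ℂ) (ψ : G → ℂ) := by
    simp only [classInner, blockPart_eq_sum_inner, sum_mul, mul_sum]
    rw [sum_comm]
    exact sum_congr rfl fun χ _ => sum_congr rfl fun g _ => sum_congr rfl fun z _ => by ring
  rw [this]
  simp only [classInner_irr, mul_ite, mul_one, mul_zero, sum_ite_eq', mem_filter, mem_univ,
    true_and]

theorem blockPart_irr (B : Set (IrrCharacter G)) [DecidablePred (· ∈ B)] (χ : IrrCharacter G) :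
    blockPart B (χ : G → ℂ) = if χ ∈ B then (χ : G → ℂ) else 0 := by
  classical
  letI := irrFintype (G := G)
  funext g
  rw [blockPart_eq_sum_inner]
  simp only [classInner_irr, ite_mul, one_mul, zero_mul, sum_ite_eq, mem_filter, mem_univ, true_and]
  split_ifs <;> rfl

section Prime

variable [M.IsPrime]

theorem blockPart_regPart (hM : IsPModular p M) {B : Set (IrrCharacter G)} (hB : IsPBlock M B)
    (θ : G → ℂ) : blockPart B (regPart p θ) = regPart p (blockPart B θ) := by
  classical
  letI := irrFintype (G := G)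
  funext g
  by_cases hg : p ∣ orderOf g
  · rw [regPart_of_dvd hg, blockPart_eq_sum, sum_eq_zero, mul_zero]
    intro z _
    by_cases hz : p ∣ orderOf z
    · rw [regPart_of_dvd hz, zero_mul]
    · have h := congrArg conj (weak_orth hM (isIntClass_blockCoeff hB) (g := z) (h := g) hz hg)
      simp only [map_sum, map_mul, Complex.conj_conj, map_zero] at h
      rw [sum_congr rfl fun χ _ => mul_comm _ _, h, mul_zero]
  · rw [regPart_of_not_dvd hg, blockPart_eq_sum, blockPart_eq_sum]
    congr 1
    refine sum_congr rfl fun z _ => ?_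
    by_cases hz : p ∣ orderOf z
    · rw [regPart_of_dvd hz, weak_orth hM (isIntClass_blockCoeff hB) hg hz, mul_zero, mul_zero]
    · rw [regPart_of_not_dvd hz]

/-- The regular part of a character of a block is orthogonal to the characters outside it. -/
theorem classInner_regPart_eq_zero (hM : IsPModular p M) (χ ψ : IrrCharacter G)
    (h : ¬ SameBlock M (χ : G → ℂ) (ψ : G → ℂ)) :
    classInner (regPart p (χ : G → ℂ)) (ψ : G → ℂ) = 0 := by
  classical
  have hB := isPBlock_blockOf (M := M) χ
  have hψ : ψ ∉ blockOf M (χ : G → ℂ) := h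
  have h1 : blockPart (blockOf M (χ : G → ℂ)) (regPart p (χ : G → ℂ)) = regPart p (χ : G → ℂ) := by
    rw [blockPart_regPart hM hB, blockPart_irr, if_pos (mem_blockOf_self χ)]
  rw [← h1, classInner_blockPart, if_neg hψ]

end Prime

end CfsgLib.Block
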