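import Mathlib.LinearAlgebra.Matrix.NonsingularInverse
import Mathlib.RingTheory.RootsOfUnity.PrimitiveRoots
import Mathlib.GroupTheory.Perm.Cycle.Basic
import Mathlib.GroupTheory.Perm.Fin
import Mathlib.Algebra.CharP.Reduced
import Mathlib.RingTheory.Int.Basic
import Mathlib.Data.Nat.Prime.Int

/-!
# Traces of idempotent-like matrices commuting with a permutation of `p`-power order

`R` is a domain with a map `red` to a field of characteristic `p` such that elements with nonzero
image are units.  For a matrix `A` over `R` invariant under a permutation `u` of `p`-power order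
with `A ^ (m + 1) = A`, `p ∤ m`, the twisted trace `∑ j, A j (u j)` only depends on the reduction
of the block of `A` at the fixed points of `u`.
-/

namespace CfsgLib.Block.PermTrace

set_option linter.unusedSectionVars false

open Finset
open Matrix hiding diag

variable {Ω : Type*} {R : Type*} [CommRing R]

/-- Invariance of a matrix under a permutation of the indices. -/
def Inv (u : Equiv.Perm Ω) (X : Matrix Ω Ω R) : Prop := X.submatrix u u = X

theorem Inv.apply {u : Equiv.Perm Ω} {X : Matrix Ω Ω R} (h : Inv u X) (i j : Ω) :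
    X (u i) (u j) = X i j := congrFun (congrFun h i) j

variable (R) in
/-- The scaling family selecting the fixed points of `u`. -/
def fixVec [DecidableEq Ω] (u : Equiv.Perm Ω) (i : Ω) : R := if u i = i then 1 else 0

variable (R) in
/-- The projection on the fixed points of `u`. -/
def fixProj [DecidableEq Ω] (u : Equiv.Perm Ω) : Matrix Ω Ω R := diagonal (fixVec R u)

variable [Fintype Ω] [DecidableEq Ω]

/-- The trace of a matrix times the permutation matrix of `u`. -/
def twTrace (u : Equiv.Perm Ω) (X : Matrix Ω Ω R) : R := ∑ j, X j (u j)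

theorem twTrace_add (u : Equiv.Perm Ω) (X Y : Matrix Ω Ω R) :
    twTrace u (X + Y) = twTrace u X + twTrace u Y := by
  simp [twTrace, sum_add_distrib]

theorem twTrace_sub (u : Equiv.Perm Ω) (X Y : Matrix Ω Ω R) :
    twTrace u (X - Y) = twTrace u X - twTrace u Y := by
  simp [twTrace, sum_sub_distrib]

theorem twTrace_smul (u : Equiv.Perm Ω) (c : R) (X : Matrix Ω Ω R) :
    twTrace u (c • X) = c * twTrace u X := by
  simp [twTrace, mul_sum]

theorem twTrace_sum {ι : Type*} (u : Equiv.Perm Ω) (s : Finset ι) (X : ι → Matrix Ω Ω R) :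
    twTrace u (∑ i ∈ s, X i) = ∑ i ∈ s, twTrace u (X i) := by
  simp only [twTrace, Matrix.sum_apply]; exact sum_comm

theorem twTrace_one (X : Matrix Ω Ω R) : twTrace (1 : Equiv.Perm Ω) X = X.trace := rfl

theorem twTrace_mul_comm {u : Equiv.Perm Ω} {X Y : Matrix Ω Ω R} (_hX : Inv u X) (hY : Inv u Y) :
    twTrace u (X * Y) = twTrace u (Y * X) := by
  simp only [twTrace, Matrix.mul_apply]
  rw [sum_comm (f := fun j k => Y j k * X k (u j))]
  refine sum_congr rfl fun k _ => ?_
  calc ∑ c, X k c * Y c (u k) = ∑ j, X k (u j) * Y (u j) (u k) :=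
        (Equiv.sum_comp u (fun c => X k c * Y c (u k))).symm
    _ = ∑ j, Y j k * X k (u j) := sum_congr rfl fun j _ => by rw [hY.apply, mul_comm]

theorem isInv_one {u : Equiv.Perm Ω} : Inv u (1 : Matrix Ω Ω R) := submatrix_one_equiv u

theorem isInv_mul {u : Equiv.Perm Ω} {X Y : Matrix Ω Ω R} (hX : Inv u X) (hY : Inv u Y) :
    Inv u (X * Y) := by
  unfold Inv at *
  rw [← submatrix_mul_equiv X Y u u u, hX, hY]

theorem isInv_sub {u : Equiv.Perm Ω} {X Y : Matrix Ω Ω R} (hX : Inv u X) (hY : Inv u Y) :
    Inv u (X - Y) := by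
  ext i j; simp [hX.apply, hY.apply]

theorem isInv_add {u : Equiv.Perm Ω} {X Y : Matrix Ω Ω R} (hX : Inv u X) (hY : Inv u Y) :
    Inv u (X + Y) := by
  ext i j; simp [hX.apply, hY.apply]

theorem isInv_smul {u : Equiv.Perm Ω} {X : Matrix Ω Ω R} (c : R) (hX : Inv u X) : Inv u (c • X) := by
  ext i j; simp [hX.apply]

theorem isInv_pow {u : Equiv.Perm Ω} {X : Matrix Ω Ω R} (hX : Inv u X) (n : ℕ) : Inv u (X ^ n) := by
  induction n with
  | zero => simpa using isInv_one
  | succ n ih => rw [pow_succ]; exact isInv_mul ih hX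

theorem isInv_sum {ι : Type*} {u : Equiv.Perm Ω} (s : Finset ι) {X : ι → Matrix Ω Ω R}
    (hX : ∀ i ∈ s, Inv u (X i)) : Inv u (∑ i ∈ s, X i) := by
  ext i j
  simp only [submatrix_apply, Matrix.sum_apply]
  exact sum_congr rfl fun a ha => (hX a ha).apply i j

theorem isInv_inv_matrix {u : Equiv.Perm Ω} {X : Matrix Ω Ω R} (hX : Inv u X) : Inv u X⁻¹ := by
  unfold Inv at *
  rw [← inv_submatrix_equiv, hX]

theorem isInv_fixProj (u : Equiv.Perm Ω) : Inv u (fixProj R u) := by
  unfold Inv fixProj
  rw [submatrix_diagonal_equiv]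
  congr 1
  ext i
  simp [fixVec, u.injective.eq_iff]

theorem fixProj_mul_apply (u : Equiv.Perm Ω) (X : Matrix Ω Ω R) (i j : Ω) :
    (fixProj R u * X) i j = if u i = i then X i j else 0 := by
  simp [fixProj, fixVec, diagonal_mul]

theorem mul_fixProj_apply (u : Equiv.Perm Ω) (X : Matrix Ω Ω R) (i j : Ω) :
    (X * fixProj R u) i j = if u j = j then X i j else 0 := by
  simp [fixProj, fixVec, mul_diagonal]

theorem fixProj_mul_self (u : Equiv.Perm Ω) : fixProj R u * fixProj R u = fixProj R u := by
  simp only [fixProj, diagonal_mul_diagonal]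
  congr 1; ext i; by_cases h : u i = i <;> simp [fixVec, h]

theorem fixProj_one : fixProj R (1 : Equiv.Perm Ω) = 1 := by
  ext i j
  simp [fixProj, fixVec, Matrix.diagonal, Matrix.one_apply]

/-- Blocks at fixed points. -/
def block (u : Equiv.Perm Ω) (X : Matrix Ω Ω R) : Matrix Ω Ω R := fixProj R u * X * fixProj R u

theorem block_apply (u : Equiv.Perm Ω) (X : Matrix Ω Ω R) (i j : Ω) :
    block u X i j = if u i = i ∧ u j = j then X i j else 0 := by
  rw [block, mul_fixProj_apply, fixProj_mul_apply]
  by_cases hi : u i = i <;> by_cases hj : u j = j <;> simp [hi, hj]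

theorem block_smul (u : Equiv.Perm Ω) (c : R) (X : Matrix Ω Ω R) :
    block u (c • X) = c • block u X := by
  rw [block, Matrix.mul_smul, Matrix.smul_mul]; rfl

theorem block_sum {ι : Type*} (u : Equiv.Perm Ω) (s : Finset ι) (X : ι → Matrix Ω Ω R) :
    block u (∑ i ∈ s, X i) = ∑ i ∈ s, block u (X i) := by
  simp only [block, Finset.mul_sum, Finset.sum_mul]

theorem twTrace_block (u : Equiv.Perm Ω) (X : Matrix Ω Ω R) :
    twTrace u (block u X) = (block u X).trace := by
  refine sum_congr rfl fun j _ => ?_
  by_cases hj : u j = j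
  · simp [hj, Matrix.diag]
  · simp [block_apply, hj, Matrix.diag]

variable {p : ℕ}

/-- A twisting family attached to a primitive `p`-th root of unity. -/
theorem exists_twist (hp : p.Prime) (u : Equiv.Perm Ω) {n : ℕ} (hu : u ^ p ^ n = 1)
    {ζ : Rˣ} (hζ : ζ ^ p = 1) :
    ∃ v : Ω → Rˣ, (∀ i, u i = i → v i = 1) ∧ (∀ i, u i ≠ i → v (u i) = ζ * v i) ∧
      ∀ i, ∃ k : ℤ, v i = ζ ^ k := by
  classical
  let r : Ω → Ω := fun i => (Quotient.mk (Equiv.Perm.SameCycle.setoid u) i).out
  have hr : ∀ i, Equiv.Perm.SameCycle u (r i) i := fun i =>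
    Quotient.mk_out (s := Equiv.Perm.SameCycle.setoid u) i
  choose e he using hr
  have key : ∀ x : Ω, u x ≠ x → ∀ d : ℤ, (u ^ d) x = x → (p : ℤ) ∣ d := by
    intro x hx d hd
    by_contra hdvd
    have hcop : IsCoprime d ((p : ℤ) ^ n) :=
      ((((Int.prime_iff_natAbs_prime (k := (p : ℤ))).2 (by simpa using hp)).coprime_iff_not_dvd).2 hdvd).symm.pow_right
    obtain ⟨a, b, hab⟩ := hcop
    have hn' : u ^ ((p : ℤ) ^ n) = 1 := by
      rw [show ((p : ℤ) ^ n) = ((p ^ n : ℕ) : ℤ) by push_cast; rfl, zpow_natCast, hu]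
    have hu1 : u = (u ^ d) ^ a := by
      conv_lhs => rw [← zpow_one u, ← hab, zpow_add, mul_comm a d, mul_comm b, zpow_mul,
        zpow_mul, hn', _root_.one_zpow, mul_one]
    exact hx (by conv_lhs => rw [hu1]
                 exact Equiv.Perm.zpow_apply_eq_self_of_apply_eq_self hd a)
  refine ⟨fun i => if u i = i then 1 else ζ ^ e i, fun i hi => if_pos hi, fun i hi => ?_,
    fun i => ?_⟩
  · have hui : u (u i) ≠ u i := fun h => hi (u.injective h)
    simp only [if_neg hi, if_neg hui]
    have hreq : r (u i) = r i := by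
      show Quotient.out _ = Quotient.out _
      congr 1
      exact Quotient.sound ⟨-1, by simp⟩
    have hri : u (r i) ≠ r i := by
      intro h
      exact hi (by rw [← he i, Equiv.Perm.zpow_apply_eq_self_of_apply_eq_self h, h])
    have h1 : (u ^ (e (u i) - (e i + 1))) (r i) = r i := by
      have h2 : (u ^ (e i + 1)) (r i) = (u ^ e (u i)) (r i) := by
        rw [add_comm (e i) 1, zpow_add, zpow_one, Equiv.Perm.mul_apply, he i]
        conv_rhs => rw [← hreq, he (u i)]
      rw [sub_eq_neg_add, zpow_add, Equiv.Perm.mul_apply, ← h2, ← Equiv.Perm.mul_apply,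
        ← zpow_add, neg_add_cancel, zpow_zero, Equiv.Perm.one_apply]
    obtain ⟨c, hc⟩ := key _ hri _ h1
    rw [show e (u i) = (e i + 1) + (p : ℤ) * c by omega, zpow_add, zpow_add, zpow_mul,
      zpow_natCast, hζ, _root_.one_zpow, mul_one, zpow_one, mul_comm]
  · by_cases hi : u i = i
    · exact ⟨0, by simp [hi]⟩
    · exact ⟨e i, by simp [hi]⟩

variable {k : Type*} [Field k]

section Red

variable (red : R →+* k) (hred : ∀ x, red x ≠ 0 → IsUnit x)

theorem red_eq_one_of_pow [CharP k p] (hp : p.Prime) {z : R} (hz : z ^ p = 1) : red z = 1 := by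
  have := ExpChar.prime (R := k) hp
  have h : red z ^ p ^ 1 = 1 := by rw [pow_one, ← map_pow, hz, map_one]
  simpa using (ExpChar.pow_prime_pow_mul_eq_one_iff p 1 1 (red z)).1 (by simpa using h)

variable [IsDomain R] [CharP k p] (hp : p.Prime) {ζ : R} (hζ : IsPrimitiveRoot ζ p)
  {u : Equiv.Perm Ω} {n : ℕ} (hu : u ^ p ^ n = 1)

/-- Reduction of a matrix. -/
local notation "π" => RingHom.mapMatrix red

include hp hζ hu in
/-- The orbit congruence. -/
theorem red_sum_eq (f : Ω → R) (hf : ∀ i, f (u i) = f i) :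
    red (∑ i, f i) = red (∑ i, if u i = i then f i else 0) := by
  obtain ⟨v, hv1, hv2, hv3⟩ := exists_twist hp u hu (ζ := (hζ.isUnit hp.ne_zero).unit)
    (Units.ext (by simpa using hζ.pow_eq_one))
  have hred1 : ∀ i, red (v i) = 1 := by
    intro i
    obtain ⟨c, hc⟩ := hv3 i
    have : Units.map red.toMonoidHom (hζ.isUnit hp.ne_zero).unit = 1 :=
      Units.ext (by simpa using red_eq_one_of_pow red hp hζ.pow_eq_one)
    rw [hc]
    exact congrArg Units.val ((map_zpow (Units.map red.toMonoidHom)
      (hζ.isUnit hp.ne_zero).unit c).trans (by rw [this, _root_.one_zpow]))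
  set S := ∑ i, if u i = i then 0 else f i * (v i : R) with hS
  have hS0 : S = 0 := by
    have h1 : S = ζ * S := by
      conv_lhs => rw [hS, ← Equiv.sum_comp u]
      rw [hS, mul_sum]
      refine sum_congr rfl fun i _ => ?_
      by_cases hi : u i = i
      · simp [hi]
      · rw [if_neg (fun h => hi (u.injective h)), if_neg hi, hf, hv2 i hi]
        push_cast
        rw [IsUnit.unit_spec]; ring
    have h2 : (1 - ζ) * S = 0 := by rw [sub_mul, one_mul, ← h1, sub_self]
    exact (mul_eq_zero.1 h2).resolve_left (sub_ne_zero.2 (hζ.ne_one hp.one_lt).symm)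
  have h3 : ∀ i, red (f i) =
      red (if u i = i then f i else 0) + red (if u i = i then 0 else f i * (v i : R)) := by
    intro i; split_ifs with hi <;> simp [hred1]
  rw [map_sum, map_sum, sum_congr rfl fun i _ => h3 i, sum_add_distrib, ← map_sum red
    (fun i => if u i = i then 0 else f i * (v i : R)), ← hS, hS0, map_zero, add_zero]

include hp hζ hu in
/-- The fixed block is multiplicative modulo the maximal ideal. -/
theorem red_block_mul {X Y : Matrix Ω Ω R} (hX : Inv u X) (hY : Inv u Y) :
    π (block u (X * Y)) = π (block u X) * π (block u Y) := by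
  ext i j
  rw [← map_mul]
  simp only [RingHom.mapMatrix_apply, map_apply, block_apply, Matrix.mul_apply]
  by_cases hij : u i = i ∧ u j = j
  · rw [if_pos hij, red_sum_eq red hp hζ hu (fun l => X i l * Y l j) (fun l => by
      conv_lhs => rw [← hij.1, ← hij.2, hX.apply, hY.apply])]
    congr 1
    refine sum_congr rfl fun l _ => ?_
    by_cases hl : u l = l <;> simp [hij, hl]
  · rw [if_neg hij]
    congr 1
    refine (sum_eq_zero fun l _ => ?_).symm
    rcases not_and_or.1 hij with h | h <;> simp [h]

include hred in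
theorem isUnit_det_of_red_eq_one {S : Matrix Ω Ω R} (h : π S = 1) : IsUnit S.det :=
  hred _ (by rw [RingHom.map_det, h, det_one]; exact one_ne_zero)

include hred hp hζ hu in
/-- An idempotent with vanishing rows and columns at fixed points has zero twisted trace. -/
theorem twTrace_eq_zero_of_supported {E : Matrix Ω Ω R} (hE : Inv u E) (hEE : E * E = E)
    (hfix : ∀ i j, u i = i ∨ u j = j → E i j = 0) : twTrace u E = 0 := by
  obtain ⟨v, hv1, hv2, hv3⟩ := exists_twist hp u hu (ζ := (hζ.isUnit hp.ne_zero).unit)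
    (Units.ext (by simpa using hζ.pow_eq_one))
  set z := (hζ.isUnit hp.ne_zero).unit with hz
  let D : Matrix Ω Ω R := diagonal fun i => (v i : R)
  let D' : Matrix Ω Ω R := diagonal fun i => ((v i)⁻¹ : Rˣ)
  let E' := D * E * D'
  have hD : D' * D = 1 := by
    simp [D, D', diagonal_mul_diagonal, ← Units.val_mul]
  have hE'apply : ∀ i j, E' i j = v i * E i j * ((v j)⁻¹ : Rˣ) := fun i j => by
    simp [E', D, D', mul_diagonal, diagonal_mul]
  have hE'E' : E' * E' = E' := by
    calc D * E * D' * (D * E * D') = D * E * (D' * D) * E * D' := by simp only [Matrix.mul_assoc]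
      _ = E' := by rw [hD, Matrix.mul_one, Matrix.mul_assoc D E E, hEE]
  have hE'inv : Inv u E' := by
    ext i j
    simp only [submatrix_apply, hE'apply, hE.apply]
    by_cases h : u i = i ∨ u j = j
    · simp [hfix i j h]
    · push Not at h
      rw [hv2 i h.1, hv2 j h.2]
      push_cast [_root_.mul_inv_rev]
      calc (z : R) * v i * E i j * (((v j)⁻¹ : Rˣ) * (z⁻¹ : Rˣ))
          = ((z : R) * (z⁻¹ : Rˣ)) * ((v i : R) * E i j * ((v j)⁻¹ : Rˣ)) := by ring
        _ = _ := by rw [Units.mul_inv, one_mul]
  have hπE' : π E' = π E := by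
    ext i j
    have hz1 : Units.map red.toMonoidHom z = 1 :=
      Units.ext (by simpa [hz] using red_eq_one_of_pow red hp hζ.pow_eq_one)
    have h1 : ∀ i, Units.map red.toMonoidHom (v i) = 1 := fun i => by
      obtain ⟨c, hc⟩ := hv3 i
      rw [hc, map_zpow, hz1, _root_.one_zpow]
    have h2 : red (v i) = 1 := congrArg Units.val (h1 i)
    have h3 : red ((v j)⁻¹ : Rˣ) = 1 := by
      have := congrArg Units.val ((map_inv (Units.map red.toMonoidHom) (v j)).trans (by rw [h1 j, _root_.inv_one]))
      simpa using this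
    simp [hE'apply, h2, h3]
  set S := E' * E + (1 - E') * (1 - E) with hS
  have hπS : π S = 1 := by
    have hee : π E * π E = π E := by rw [← map_mul, hEE]
    simp only [hS, map_add, map_mul, map_sub, map_one, hπE']
    simp only [sub_mul, mul_sub, one_mul, mul_one, hee]
    abel
  have hdet := isUnit_det_of_red_eq_one red hred hπS
  have hSinv : Inv u S := isInv_add (isInv_mul hE'inv hE) (isInv_mul (isInv_sub isInv_one hE'inv) (isInv_sub isInv_one hE))
  have hSE : S * E = E' * S := by
    simp only [hS, add_mul, mul_add, sub_mul, mul_sub, one_mul, mul_one, ← Matrix.mul_assoc, hE'E']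
    simp only [Matrix.mul_assoc, hEE]
    abel
  have h1 : twTrace u E' = twTrace u E := by
    calc twTrace u E' = twTrace u (S * E * S⁻¹) := by
          rw [hSE, Matrix.mul_assoc, mul_nonsing_inv S hdet, Matrix.mul_one]
      _ = twTrace u (S⁻¹ * (S * E)) :=
          twTrace_mul_comm (isInv_mul hSinv hE) (isInv_inv_matrix hSinv)
      _ = twTrace u E := by rw [← Matrix.mul_assoc, nonsing_inv_mul S hdet, Matrix.one_mul]
  have h2 : ζ * twTrace u E' = twTrace u E := by
    simp only [twTrace, mul_sum]
    refine sum_congr rfl fun j _ => ?_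
    by_cases hj : u j = j
    · simp [hE'apply, hfix j (u j) (Or.inl hj)]
    · rw [hE'apply, hv2 j hj]
      push_cast [_root_.mul_inv_rev]
      calc ζ * ((v j : R) * E j (u j) * (((v j)⁻¹ : Rˣ) * (z⁻¹ : Rˣ)))
          = ((v j : R) * ((v j)⁻¹ : Rˣ)) * ((z : R) * (z⁻¹ : Rˣ)) * E j (u j) := by
            rw [hz, IsUnit.unit_spec]; ring
        _ = _ := by rw [Units.mul_inv, Units.mul_inv, one_mul, one_mul]
  have h3 : (ζ - 1) * twTrace u E = 0 := by
    rw [sub_mul, one_mul, sub_eq_zero]; rw [h1] at h2; exact h2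
  exact (mul_eq_zero.1 h3).resolve_left (sub_ne_zero.2 (hζ.ne_one hp.one_lt))

include hred hp hζ hu in
/-- An idempotent whose fixed block vanishes modulo the maximal ideal has zero twisted trace. -/
theorem twTrace_eq_zero_of_red_block {E : Matrix Ω Ω R} (hE : Inv u E) (hEE : E * E = E)
    (h0 : π (block u E) = 0) : twTrace u E = 0 := by
  set J := fixProj R u with hJdef
  have hJ : Inv u J := isInv_fixProj u
  have hJJ : J * J = J := fixProj_mul_self u
  set N := E * J * E with hNdef
  have hN : Inv u N := isInv_mul (isInv_mul hE hJ) hE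
  have hEN : E * N = N := by simp only [hNdef, ← Matrix.mul_assoc, hEE]
  have hNE : N * E = N := by simp only [hNdef, Matrix.mul_assoc, hEE]
  have hNN : π (N * N) = 0 := by
    have : N * N = E * block u E * E := by
      simp only [hNdef, block, ← hJdef, Matrix.mul_assoc]
      rw [← Matrix.mul_assoc E E, hEE]
    rw [this, map_mul, map_mul, h0, mul_zero, zero_mul]
  set Q := 1 - N with hQdef
  have hdet : IsUnit Q.det := by
    have h1 : π (Q * (1 + N)) = 1 := by
      have : Q * (1 + N) = 1 - N * N := by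
        simp only [hQdef, sub_mul, mul_add, one_mul, mul_one]; abel
      rw [this, map_sub, hNN, map_one, sub_zero]
    have := isUnit_det_of_red_eq_one red hred h1
    rw [det_mul] at this
    exact isUnit_of_mul_isUnit_left this
  have hQ : Inv u Q := isInv_sub isInv_one hN
  have hEQ : E * Q = E - N := by simp only [hQdef, mul_sub, mul_one, hEN]
  have hQE : Q * E = E - N := by simp only [hQdef, sub_mul, one_mul, hNE]
  have hcomm : Q⁻¹ * E = E * Q⁻¹ := by
    calc Q⁻¹ * E = Q⁻¹ * (E * Q) * Q⁻¹ := by
          simp only [Matrix.mul_assoc, mul_nonsing_inv Q hdet, Matrix.mul_one]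
      _ = E * Q⁻¹ := by
          rw [hEQ, ← hQE, ← Matrix.mul_assoc, nonsing_inv_mul Q hdet, Matrix.one_mul]
  set J' := 1 - J with hJ'def
  have hJ' : Inv u J' := isInv_sub isInv_one hJ
  have hJ'J' : J' * J' = J' := by
    simp only [hJ'def, sub_mul, mul_sub, one_mul, mul_one, hJJ]; abel
  have hK : E * J' * E = Q * E := by
    rw [hQE]; simp only [hJ'def, hNdef, mul_sub, sub_mul, mul_one, hEE]
  set W := E * Q⁻¹ with hWdef
  have hW : Inv u W := isInv_mul hE (isInv_inv_matrix hQ)
  have hWE : W * E = W := by rw [hWdef, Matrix.mul_assoc, hcomm, ← Matrix.mul_assoc, hEE]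
  have hEW : E * W = W := by rw [hWdef, ← Matrix.mul_assoc, hEE]
  have hWK : W * (Q * E) = E := by
    rw [hWdef, Matrix.mul_assoc, ← Matrix.mul_assoc Q⁻¹, nonsing_inv_mul Q hdet, Matrix.one_mul,
      hEE]
  set E0 := J' * W * J' with hE0def
  have hE0E0 : E0 * E0 = E0 := by
    have h1 : W * J' * W = W := by
      calc W * J' * W = (W * E) * J' * (E * W) := by rw [hWE, hEW]
        _ = W * (E * J' * E) * W := by simp only [Matrix.mul_assoc]
        _ = W := by rw [hK, hWK, hEW]
    calc J' * W * J' * (J' * W * J') = J' * (W * (J' * J') * W) * J' := by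
          simp only [Matrix.mul_assoc]
      _ = E0 := by rw [hJ'J', h1]
  have hfix : ∀ i j, u i = i ∨ u j = j → E0 i j = 0 := by
    have hd : J' = diagonal fun i => 1 - fixVec R u i := by
      rw [hJ'def, hJdef, fixProj, ← diagonal_one, diagonal_sub]
    intro i j h
    rw [hE0def, hd, mul_diagonal, diagonal_mul]
    rcases h with h | h <;> simp [fixVec, h]
  have key : twTrace u E0 = twTrace u E := by
    calc twTrace u (J' * W * J') = twTrace u (J' * (J' * W)) :=
          twTrace_mul_comm (isInv_mul hJ' hW) hJ'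
      _ = twTrace u (J' * W) := by rw [← Matrix.mul_assoc, hJ'J']
      _ = twTrace u (W * J') := twTrace_mul_comm hJ' hW
      _ = twTrace u (E * W * J') := by rw [hEW]
      _ = twTrace u (W * J' * E) := by
          rw [Matrix.mul_assoc, twTrace_mul_comm hE (isInv_mul hW hJ')]
      _ = twTrace u (W * (E * J' * E)) := by
          rw [← Matrix.mul_assoc W (E * J'), ← Matrix.mul_assoc W E, hWE]
      _ = twTrace u E := by rw [hK, hWK]
  rw [← key]
  exact twTrace_eq_zero_of_supported red hred hp hζ hu (isInv_mul (isInv_mul hJ' hW) hJ') hE0E0 hfix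

include hred hp hζ hu in
/-- The twisted trace of an idempotent equals the trace of a congruent idempotent at fixed
points. -/
theorem twTrace_idem_eq {E F : Matrix Ω Ω R} (hE : Inv u E) (hEE : E * E = E)
    (hF : block u F = F) (hFF : F * F = F) (hEF : π (block u E) = π F) :
    twTrace u E = F.trace := by
  set J := fixProj R u with hJdef
  have hJJ : J * J = J := fixProj_mul_self u
  have hFJ : F * J = F := by
    conv_lhs => rw [← hF]
    simp only [block, ← hJdef, Matrix.mul_assoc, hJJ]
    simpa only [block, ← hJdef, Matrix.mul_assoc] using hF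
  have hJF : J * F = F := by
    conv_lhs => rw [← hF]
    simp only [block, ← hJdef, ← Matrix.mul_assoc, hJJ]
    simpa only [block, ← hJdef] using hF
  have hFinv : Inv u F := by
    rw [← hF]
    ext i j
    simp only [submatrix_apply, block_apply, u.injective.eq_iff]
    by_cases h : u i = i ∧ u j = j
    · simp only [h, and_self, if_true]
    · simp [h]
  set Q := F * E * F + (1 - F) with hQdef
  have hπQ : π Q = 1 := by
    have : F * E * F = F * block u E * F := by
      calc F * E * F = (F * J) * E * (J * F) := by rw [hFJ, hJF]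
        _ = F * block u E * F := by simp only [block, ← hJdef, Matrix.mul_assoc]
    rw [hQdef, map_add, this, map_mul, map_mul, hEF, ← map_mul, ← map_mul, hFF, hFF, map_sub,
      map_one, add_sub_cancel]
  have hdet := isUnit_det_of_red_eq_one red hred hπQ
  have hQ : Inv u Q := isInv_add (isInv_mul (isInv_mul hFinv hE) hFinv) (isInv_sub isInv_one hFinv)
  have hFQ : F * Q = F * E * F := by
    simp only [hQdef, mul_add, mul_sub, mul_one, hFF, sub_self, add_zero, ← Matrix.mul_assoc]
  have hQF : Q * F = F * E * F := by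
    simp only [hQdef, add_mul, sub_mul, one_mul, hFF, sub_self, add_zero, Matrix.mul_assoc]
  have hcomm : Q⁻¹ * F = F * Q⁻¹ := by
    calc Q⁻¹ * F = Q⁻¹ * (F * Q) * Q⁻¹ := by
          simp only [Matrix.mul_assoc, mul_nonsing_inv Q hdet, Matrix.mul_one]
      _ = F * Q⁻¹ := by
          rw [hFQ, ← hQF, ← Matrix.mul_assoc, nonsing_inv_mul Q hdet, Matrix.one_mul]
  set W := F * Q⁻¹ with hWdef
  have hW : Inv u W := isInv_mul hFinv (isInv_inv_matrix hQ)
  have hWF : W * F = W := by rw [hWdef, Matrix.mul_assoc, hcomm, ← Matrix.mul_assoc, hFF]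
  have hFW : F * W = W := by rw [hWdef, ← Matrix.mul_assoc, hFF]
  have hWC : W * E * F = F := by
    calc W * E * F = W * F * E * F := by rw [hWF]
      _ = W * (F * E * F) := by simp only [Matrix.mul_assoc]
      _ = F := by rw [← hQF, hWdef, Matrix.mul_assoc, ← Matrix.mul_assoc Q⁻¹,
            nonsing_inv_mul Q hdet, Matrix.one_mul, hFF]
  have hWEW : W * E * W = W := by
    calc W * E * W = W * E * (F * W) := by rw [hFW]
      _ = F * W := by rw [← Matrix.mul_assoc, hWC]
      _ = W := hFW
  set E1 := E * W * E with hE1def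
  have hE1 : Inv u E1 := isInv_mul (isInv_mul hE hW) hE
  have h11 : E1 * E1 = E1 := by
    calc E * W * E * (E * W * E) = E * (W * (E * E) * W) * E := by simp only [Matrix.mul_assoc]
      _ = E1 := by rw [hEE, hWEW]
  have hEE1 : E * E1 = E1 := by simp only [hE1def, ← Matrix.mul_assoc, hEE]
  have hE1E : E1 * E = E1 := by simp only [hE1def, Matrix.mul_assoc, hEE]
  have h22 : (E - E1) * (E - E1) = E - E1 := by
    simp only [sub_mul, mul_sub, hEE, hEE1, hE1E, h11]; abel
  have hπW : π W = π F := by
    have h1 : π Q⁻¹ = 1 := by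
      have := congrArg π (mul_nonsing_inv Q hdet)
      rwa [map_mul, hπQ, one_mul, map_one] at this
    rw [hWdef, map_mul, h1, mul_one]
  have hb1 : π (block u E1) = π F := by
    have hWJ : W = J * W * J := by
      calc W = F * W * F := by rw [hFW, hWF]
        _ = (J * F) * W * (F * J) := by rw [hJF, hFJ]
        _ = J * (F * W * F) * J := by simp only [Matrix.mul_assoc]
        _ = J * W * J := by rw [hFW, hWF]
    have : block u E1 = block u E * W * block u E := by
      calc block u E1 = J * E * W * E * J := by simp only [block, hE1def, ← hJdef, Matrix.mul_assoc]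
        _ = J * E * (J * W * J) * E * J := by rw [← hWJ]
        _ = _ := by simp only [block, ← hJdef, Matrix.mul_assoc]
    rw [this, map_mul, map_mul, hEF, hπW, ← map_mul, ← map_mul, hFF, hFF]
  have h2 : twTrace u (E - E1) = 0 := by
    refine twTrace_eq_zero_of_red_block red hred hp hζ hu (isInv_sub hE hE1) h22 ?_
    rw [block, mul_sub, sub_mul, map_sub]
    rw [show fixProj R u * E * fixProj R u = block u E from rfl,
      show fixProj R u * E1 * fixProj R u = block u E1 from rfl, hEF, hb1, sub_self]
  rw [twTrace_sub, sub_eq_zero] at h2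
  rw [h2]
  calc twTrace u (E * W * E) = twTrace u (E * (E * W)) := twTrace_mul_comm (isInv_mul hE hW) hE
    _ = twTrace u (E * (F * W)) := by rw [← Matrix.mul_assoc, hEE, hFW]
    _ = twTrace u (W * (E * F)) := by
        rw [← Matrix.mul_assoc, twTrace_mul_comm (isInv_mul hE hFinv) hW]
    _ = twTrace u F := by rw [← Matrix.mul_assoc, hWC]
    _ = F.trace := by
        rw [← hF]; exact twTrace_block u F

include hred hp hζ hu in
/-- **Main trace lemma.** -/
theorem twTrace_eq {A B : Matrix Ω Ω R} {m : ℕ} (hm : ¬ p ∣ m) {ω : R} (hω : IsPrimitiveRoot ω m)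
    (hA : Inv u A) (hAm : A ^ (m + 1) = A) (hB : block u B = B) (hBm : B ^ (m + 1) = B)
    (hAB : π (block u A) = π B) : twTrace u A = B.trace := by
  have hm0 : m ≠ 0 := fun h => hm (h ▸ dvd_zero p)
  have hmk : (m : k) ≠ 0 := by rwa [Ne, CharP.cast_eq_zero_iff k p]
  obtain ⟨mi, hmi⟩ := hred (m : R) (by rwa [map_natCast])
  have hmi' : (mi⁻¹ : Rˣ) * (m : R) = 1 := by rw [← hmi, Units.inv_mul]
  have hB' : ∀ i : ℕ, block u (B ^ (i + 1)) = B ^ (i + 1) := by
    have hJB : fixProj R u * B = B := by
      conv_lhs => rw [← hB]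
      simp only [block, ← Matrix.mul_assoc, fixProj_mul_self]
      exact hB
    have hBJ : B * fixProj R u = B := by
      conv_lhs => rw [← hB]
      simp only [block, Matrix.mul_assoc, fixProj_mul_self]
      simpa only [block, Matrix.mul_assoc] using hB
    intro i
    rw [block, pow_succ', ← Matrix.mul_assoc, hJB, ← pow_succ', pow_succ, Matrix.mul_assoc, hBJ]
  have hpow : ∀ i : ℕ, π (block u (A ^ (i + 1))) = π (B ^ (i + 1)) := by
    intro i
    induction i with
    | zero => simpa using hAB
    | succ i ih =>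
      rw [pow_succ A, red_block_mul red hp hζ hu (isInv_pow hA _) hA, ih, hAB, ← map_mul, ← pow_succ]
  set F : Matrix Ω Ω R → ℕ → Matrix Ω Ω R := fun X i =>
    (mi⁻¹ : Rˣ) • ∑ j ∈ range m, ((ω ^ (i * (m - 1))) ^ (j + 1)) • X ^ (j + 1) with hF
  have hidem : ∀ (X : Matrix Ω Ω R) (i : ℕ), X ^ (m + 1) = X → F X i * F X i = F X i := by
    intro X i hX
    set w := ω ^ (i * (m - 1))
    set Y := w • X with hYdef
    set S := ∑ j ∈ range m, Y ^ (j + 1) with hSdef
    have hFS : F X i = ((mi⁻¹ : Rˣ) : R) • S := by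
      simp only [hF, hSdef, hYdef, smul_pow, Units.smul_def]; rfl
    have hY : Y ^ (m + 1) = Y := by
      rw [hYdef, smul_pow, hX, pow_succ]
      congr 1
      rw [← pow_mul, mul_comm (i * (m - 1)) m, pow_mul, hω.pow_eq_one, one_pow, one_mul]
    have hYS : Y * S = S := by
      rw [hSdef, mul_sum]
      have e1 := sum_range_succ (fun j => Y ^ (j + 1)) m
      have e2 := sum_range_succ' (fun j => Y ^ (j + 1)) m
      rw [e2] at e1
      simp only [zero_add, pow_one] at e1
      rw [hY] at e1
      calc ∑ j ∈ range m, Y * Y ^ (j + 1) = ∑ j ∈ range m, Y ^ (j + 1 + 1) :=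
            sum_congr rfl fun j _ => (pow_succ' Y (j + 1)).symm
        _ = _ := add_right_cancel e1
    have hpowS : ∀ j, Y ^ j * S = S := by
      intro j; induction j with
      | zero => simp
      | succ j ih => rw [pow_succ, Matrix.mul_assoc, hYS, ih]
    have hSS : S * S = (m : R) • S := by
      conv_lhs => rw [hSdef, sum_mul]
      rw [sum_congr rfl fun j _ => hpowS (j + 1), sum_const, card_range, Nat.cast_smul_eq_nsmul]
    rw [hFS, smul_mul_smul_comm, hSS, smul_smul, mul_assoc, hmi', mul_one]
  have hrec : ∀ X : Matrix Ω Ω R, ∑ i ∈ range m, (ω ^ i) • F X i = X := by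
    intro X
    have hcoef : ∀ j ∈ range m, (∑ i ∈ range m, ω ^ i * (ω ^ (i * (m - 1))) ^ (j + 1)) =
        if j = 0 then (m : R) else 0 := by
      intro j hj
      have : ∀ i, ω ^ i * (ω ^ (i * (m - 1))) ^ (j + 1) = (ω ^ (1 + (m - 1) * (j + 1))) ^ i := by
        intro i; rw [← pow_mul, ← pow_add, ← pow_mul]; ring_nf
      simp only [this]
      rcases Nat.eq_zero_or_pos j with rfl | hj0
      · have e : 1 + (m - 1) * (0 + 1) = m := by omega
        rw [e, hω.pow_eq_one]
        simp
      · rw [if_neg hj0.ne']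
        have hne : ω ^ (1 + (m - 1) * (j + 1)) ≠ 1 := by
          rw [Ne, hω.pow_eq_one_iff_dvd]
          intro hd
          have h2 : m ∣ j := by
            have h3 : (1 + (m - 1) * (j + 1)) + j = m * (j + 1) := by
              obtain ⟨m', rfl⟩ := Nat.exists_eq_succ_of_ne_zero hm0
              simp only [Nat.succ_sub_one, Nat.succ_eq_add_one]; ring
            exact (Nat.dvd_add_right hd).1 (h3 ▸ dvd_mul_right m (j + 1))
          exact absurd (Nat.le_of_dvd hj0 h2) (not_le.2 (mem_range.1 hj))
        have hg := geom_sum_mul (ω ^ (1 + (m - 1) * (j + 1))) m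
        rw [← pow_mul ω _ m, mul_comm _ m, pow_mul, hω.pow_eq_one, one_pow, sub_self] at hg
        exact (mul_eq_zero.1 hg).resolve_right (sub_ne_zero.2 hne)
    calc ∑ i ∈ range m, (ω ^ i) • F X i
        = ∑ i ∈ range m, ∑ j ∈ range m,
            (((mi⁻¹ : Rˣ) : R) * (ω ^ i * (ω ^ (i * (m - 1))) ^ (j + 1))) • X ^ (j + 1) := by
          refine sum_congr rfl fun i _ => ?_
          simp only [hF, smul_sum, Units.smul_def, smul_smul]
          exact sum_congr rfl fun j _ => by congr 1; ring
      _ = X := by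
          rw [sum_comm]
          simp only [← sum_smul, ← mul_sum]
          rw [sum_congr rfl fun j hj => by rw [hcoef j hj]]
          rw [sum_eq_single_of_mem 0 (mem_range.2 (Nat.pos_of_ne_zero hm0))]
          · simp [hmi']
          · intro j _ hj; simp [hj]
  have hT : ∀ i ∈ range m, twTrace u (F A i) = (F B i).trace := by
    intro i _
    refine twTrace_idem_eq red hred hp hζ hu ?_ (hidem A i hAm) ?_ (hidem B i hBm) ?_
    · simp only [hF, Units.smul_def]
      exact isInv_smul _ (isInv_sum _ fun j _ => isInv_smul _ (isInv_pow hA _))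
    · simp only [hF, Units.smul_def, block_smul, block_sum, hB']
    · simp only [hF, Units.smul_def, block_smul, block_sum]
      have hs : ∀ (c : R) (X : Matrix Ω Ω R), π (c • X) = red c • π X := fun c X => by
        ext i j; simp
      simp only [hs, map_sum, hpow]
  rw [← hrec A, ← hrec B, twTrace_sum, trace_sum]
  exact sum_congr rfl fun i hi => by rw [twTrace_smul, trace_smul, hT i hi, smul_eq_mul]

end Red

end CfsgLib.Block.PermTrace
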