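import Cfsg.Agent.Blocks.Basic
import Cfsg.Agent.Blocks.PermTrace

/-!
# Two-sided multiplication operators on the group ring and weak block orthogonality

For an integral idempotent of the group algebra (`conv b (blockCoeff B)`) and commuting data, the sum
`∑ χ ∈ B, (∑ g, b g χ (g s x)) χ (y⁻¹ t)` equals the trace of any idempotent-like matrix congruent to
the block of the operator `f ↦ b e_B s x f y⁻¹ t` at the fixed points of `z ↦ x z y⁻¹`.
-/

namespace CfsgLib.Block

open Cfsg Finset CfsgLib.Block.Chr CfsgLib.Char CfsgLib.Block.PermTrace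
open Matrix hiding mul_inv_rev
open scoped ComplexConjugate

set_option linter.unusedSectionVars false
set_option linter.style.haveILetI false

universe u

variable {G : Type u} [Group G] {M : Ideal AlgInt}

/-- The permutation `z ↦ x z y⁻¹`. -/
def biPerm (x y : G) : Equiv.Perm G := (Equiv.mulLeft x).trans (Equiv.mulRight y⁻¹)

@[simp] theorem biPerm_apply (x y z : G) : biPerm x y z = x * z * y⁻¹ := rfl

theorem biPerm_pow (x y : G) (n : ℕ) (z : G) : (biPerm x y ^ n) z = x ^ n * z * (y ^ n)⁻¹ := by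
  induction n with
  | zero => simp
  | succ n ih =>
    rw [pow_succ', Equiv.Perm.mul_apply, biPerm_apply, ih, pow_succ' x, pow_succ' y, mul_inv_rev]
    simp only [mul_assoc]

theorem biPerm_pow_eq_one {x y : G} {N : ℕ} (hx : x ^ N = 1) (hy : y ^ N = 1) :
    biPerm x y ^ N = 1 := by
  ext z; simp [biPerm_pow, hx, hy]

variable {R : Type*} [CommRing R] [Fintype G] [DecidableEq G]

/-- The matrix of left multiplication by a function. -/
def lmat (a : G → R) : Matrix G G R := fun i z => a (i * z⁻¹)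

/-- The matrix of `z ↦ s z t`. -/
def pmat (R : Type*) [CommRing R] (s t : G) : Matrix G G R :=
  fun i z => if i = s * z * t then 1 else 0

theorem lmat_mul_lmat (a b : G → R) :
    lmat a * lmat b = lmat fun x => ∑ g : G, a g * b (g⁻¹ * x) := by
  ext i z
  simp only [Matrix.mul_apply, lmat]
  refine Fintype.sum_equiv ((Equiv.inv G).trans (Equiv.mulLeft i)) _ _ fun w => ?_
  simp [mul_assoc]

theorem pmat_mul_pmat (s t s' t' : G) : pmat R s t * pmat R s' t' = pmat R (s * s') (t' * t) := by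
  ext i z
  simp only [Matrix.mul_apply, pmat, mul_ite, mul_one, mul_zero, sum_ite_eq', mem_univ, if_true]
  simp only [mul_assoc]

theorem pmat_one : pmat R (1 : G) 1 = 1 := by
  ext i z; simp [pmat, Matrix.one_apply]

theorem pmat_pow (s t : G) (m : ℕ) : pmat R s t ^ m = pmat R (s ^ m) (t ^ m) := by
  induction m with
  | zero => simp [pmat_one]
  | succ m ih => rw [pow_succ, ih, pmat_mul_pmat, pow_succ, pow_succ']

theorem lmat_mul_pmat_apply (a : G → R) (s t i z : G) :
    (lmat a * pmat R s t) i z = a (i * (s * z * t)⁻¹) := by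
  simp [Matrix.mul_apply, lmat, pmat]

theorem commute_lmat_pmat {a : G → R} {s : G} (ha : ∀ g, a (s * g * s⁻¹) = a g) (t : G) :
    Commute (lmat a) (pmat R s t) := by
  refine Matrix.ext fun i z => ?_
  rw [lmat_mul_pmat_apply]
  simp only [Matrix.mul_apply, lmat, pmat, ite_mul, one_mul, zero_mul]
  rw [sum_eq_single (s⁻¹ * i * t⁻¹)]
  · rw [if_pos (by group), ← ha (s⁻¹ * i * t⁻¹ * z⁻¹)]
    congr 1
    group
  · intro w _ hw
    rw [if_neg]
    intro h; exact hw (by rw [h]; group)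
  · simp

theorem op_pow {a : G → R} (hidem : lmat a * lmat a = lmat a) {s t : G}
    (ha : ∀ g, a (s * g * s⁻¹) = a g) {m : ℕ} (hs : s ^ m = 1) (ht : t ^ m = 1) :
    (lmat a * pmat R s t) ^ (m + 1) = lmat a * pmat R s t := by
  rw [(commute_lmat_pmat ha t).mul_pow]
  congr 1
  · have : ∀ n, lmat a ^ (n + 1) = lmat a := fun n => by
      induction n with
      | zero => simp
      | succ n ih => rw [pow_succ, ih, hidem]
    exact this m
  · rw [pow_succ, pmat_pow, hs, ht, pmat_one, Matrix.one_mul]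

theorem op_inv {a : G → R} {x y s t : G} (ha : ∀ g, a (x * g * x⁻¹) = a g) (hxs : Commute x s)
    (hyt : Commute y t) : Inv (biPerm x y) (lmat a * pmat R s t) := by
  ext i z
  rw [submatrix_apply, lmat_mul_pmat_apply, lmat_mul_pmat_apply, biPerm_apply, biPerm_apply,
    ← ha (i * (s * z * t)⁻¹)]
  congr 1
  have h1 : s * x = x * s := hxs.symm.eq
  have h2 : y⁻¹ * t = t * y⁻¹ := hyt.inv_left.eq
  calc x * i * y⁻¹ * (s * (x * z * y⁻¹) * t)⁻¹
      = x * i * y⁻¹ * (s * x * z * (y⁻¹ * t))⁻¹ := by simp only [mul_assoc]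
    _ = x * i * y⁻¹ * (x * s * z * (t * y⁻¹))⁻¹ := by rw [h1, h2]
    _ = x * (i * (s * z * t)⁻¹) * x⁻¹ := by group

/-- The `p`-part and the `p'`-part of an element. -/
theorem exists_pPart {p : ℕ} (hp : p.Prime) (g : G) :
    ∃ x y : G, x * y = g ∧ Commute x y ∧ (∃ n : ℕ, x ^ p ^ n = 1) ∧
      (∃ m : ℕ, ¬ p ∣ m ∧ y ^ m = 1) ∧ (p ∣ orderOf g → x ≠ 1) ∧
      ¬ p ∣ orderOf y ∧ (∃ k : ℕ, orderOf x = p ^ k) ∧
      x ∈ Subgroup.zpowers g ∧ y ∈ Subgroup.zpowers g := by
  set o := orderOf g with ho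
  set k := o.factorization p with hk
  set m := o / p ^ k with hm
  have ho0 : o ≠ 0 := (orderOf_pos g).ne'
  have hpm : ¬ p ∣ m := Nat.not_dvd_ordCompl hp ho0
  have hprod : p ^ k * m = o := Nat.ordProj_mul_ordCompl_eq_self o p
  have hcop : Nat.Coprime (p ^ k) m :=
    (hp.coprime_iff_not_dvd.2 hpm).pow_left k
  have hcop' : IsCoprime ((p ^ k : ℕ) : ℤ) (m : ℤ) := Nat.isCoprime_iff_coprime.2 hcop
  obtain ⟨a, b, hab⟩ := hcop'
  have hgo : g ^ (o : ℤ) = 1 := by rw [zpow_natCast, ho, pow_orderOf_eq_one]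
  have hx : (g ^ (b * m)) ^ p ^ k = 1 := by
    rw [← zpow_natCast, ← zpow_mul, show b * (m : ℤ) * ((p ^ k : ℕ) : ℤ) = (o : ℤ) * b by
      rw [← hprod]; push_cast; ring, zpow_mul, hgo, _root_.one_zpow]
  have hy : (g ^ (a * (p ^ k : ℕ))) ^ m = 1 := by
    rw [← zpow_natCast, ← zpow_mul, show a * ((p ^ k : ℕ) : ℤ) * (m : ℤ) = (o : ℤ) * a by
      rw [← hprod]; push_cast; ring, zpow_mul, hgo, _root_.one_zpow]
  refine ⟨g ^ (b * m), g ^ (a * (p ^ k : ℕ)), ?_, Commute.zpow_zpow_self g _ _, ⟨k, hx⟩,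
    ⟨m, hpm, hy⟩, ?_, fun h => hpm (h.trans (orderOf_dvd_of_pow_eq_one hy)), ?_,
    ⟨_, rfl⟩, ⟨_, rfl⟩⟩
  · rw [← zpow_add, add_comm, hab, zpow_one]
  · intro hpo hx1
    have hg : g = g ^ (a * (p ^ k : ℕ)) := by
      conv_lhs => rw [← zpow_one g, ← hab, zpow_add, hx1, mul_one]
    exact hpm (hpo.trans (orderOf_dvd_of_pow_eq_one (by rw [hg]; exact hy)))
  · obtain ⟨i, -, hi⟩ := (Nat.dvd_prime_pow hp).1 (orderOf_dvd_of_pow_eq_one hx)
    exact ⟨i, hi⟩

theorem pPart_unique {p : ℕ} (hp : p.Prime) {g x : G} (h : IsPPart p g x) {x' y' : G}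
    (hg : x' * y' = g) (hc : Commute x' y') {n : ℕ} (hx' : x' ^ p ^ n = 1) {m : ℕ} (hm : ¬ p ∣ m)
    (hy' : y' ^ m = 1) : x = x' := by
  obtain ⟨y, hxy, hcom, ⟨k, hk⟩, hy⟩ := h
  -- both are the power of `g` killing the other part
  have hx : x ^ p ^ k = 1 := hk ▸ pow_orderOf_eq_one x
  set q := orderOf y
  have hcop : Nat.Coprime (p ^ (k + n)) (q * m) :=
    (hp.coprime_iff_not_dvd.2 (fun h => (hp.dvd_mul.1 h).elim hy hm)).pow_left _
  obtain ⟨c, d, hcd⟩ := Nat.isCoprime_iff_coprime.2 hcop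
  have key : ∀ u v : G, u * v = g → Commute u v → u ^ p ^ (k + n) = 1 → v ^ (q * m) = 1 →
      u = g ^ (d * (q * m : ℕ)) := by
    intro u v huv huvc hu hv
    rw [← huv, huvc.mul_zpow, show v ^ (d * ((q * m : ℕ) : ℤ)) = 1 by
      rw [mul_comm, zpow_mul, zpow_natCast, hv, _root_.one_zpow], mul_one]
    conv_lhs => rw [← zpow_one u, ← hcd, zpow_add, mul_comm c, zpow_mul, zpow_natCast, hu,
      _root_.one_zpow, one_mul]
  rw [key x y hxy hcom (by rw [pow_add, pow_mul, hx, one_pow])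
      (by rw [pow_mul, pow_orderOf_eq_one, one_pow]),
    key x' y' hg hc (by rw [pow_add, mul_comm, pow_mul, hx', one_pow])
      (by rw [mul_comm, pow_mul, hy', one_pow])]

section Formula

variable [M.IsPrime]

/-- The local-integer valued function of a function with values in the local ring. -/
noncomputable def toLocal (a : G → ℂ) (ha : ∀ g, MemLocalRing M (a g)) : G → localRing M :=
  fun g => ⟨a g, ha g⟩

theorem conv_idem_of_central {b e : G → ℂ} (hb : conv b b = b) (he : IsClassFunction G e)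
    (hee : conv e e = e) : conv (conv b e) (conv b e) = conv b e := by
  have assoc : ∀ u v w : G → ℂ, conv (conv u v) w = conv u (conv v w) := by
    intro u v w
    funext x
    simp only [conv, sum_mul, mul_sum]
    rw [sum_comm]
    refine sum_congr rfl fun g _ => ?_
    rw [← Equiv.sum_comp (Equiv.mulLeft g)]
    simp [mul_assoc]
  have comm : ∀ u : G → ℂ, conv e u = conv u e := by
    intro u
    funext x
    simp only [conv]
    refine Fintype.sum_equiv ((Equiv.inv G).trans (Equiv.mulRight x)) _ _ fun g => ?_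
    show e g * u (g⁻¹ * x) = u (g⁻¹ * x) * e ((g⁻¹ * x)⁻¹ * x)
    rw [mul_comm, ← he g x⁻¹]
    congr 2
    group
  rw [assoc, ← assoc e, comm b, assoc b e, hee, ← assoc, hb]

theorem conv_blockCoeff_self (B : Set (IrrCharacter G)) :
    conv (blockCoeff B) (blockCoeff B) = blockCoeff B := by
  classical
  letI := irrFintype (G := G)
  have hc := isClassFunction_blockCoeff B
  funext g
  rw [eq_sum_omega (isClassFunction_conv hc hc) g, eq_sum_omega hc g]
  congr 1
  refine sum_congr rfl fun χ _ => ?_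
  rw [omega_conv χ hc, omega_blockCoeff]
  split_ifs <;> simp

/-- The value of the twisted trace of the operator. -/
theorem trace_value (B : Set (IrrCharacter G)) [DecidablePred (· ∈ B)]
    [Fintype (IrrCharacter G)] (b : G → ℂ) (x y s t : G) :
    ∑ z : G, conv b (blockCoeff B) (z * (s * (x * z * y⁻¹) * t)⁻¹) =
      ∑ χ ∈ univ.filter (· ∈ B),
        (∑ g : G, b g * (χ : G → ℂ) (g * (s * x))) * (χ : G → ℂ) (y⁻¹ * t) := by
  have key : ∀ (χ : IrrCharacter G) (k m : G), (∑ z : G, (χ : G → ℂ) (z * k * z⁻¹ * m)) *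
      (χ : G → ℂ) 1 = (Nat.card G : ℂ) * ((χ : G → ℂ) k * (χ : G → ℂ) m) := by
    intro χ k m
    have h := class_mul χ (isClassFunction_classInd k) (fun w => deltaOne (m⁻¹ * w))
    have h1 : ∀ w, deltaOne (m⁻¹ * w) = if w = m then (1 : ℂ) else 0 := fun w => by
      by_cases hw : w = m
      · rw [if_pos hw, hw, inv_mul_cancel, deltaOne_one]
      · rw [if_neg hw, deltaOne_of_ne fun h => hw (inv_mul_eq_one.1 h).symm]
    simp only [h1, mul_ite, mul_one, mul_zero, ite_mul, one_mul, zero_mul, sum_ite_eq', mem_univ,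
      if_true] at h
    have h2 : ∀ f : G → ℂ, ∑ z : G, f (z * k * z⁻¹) =
        (Nat.card (Subgroup.centralizer ({k} : Set G)) : ℂ) * ∑ w : G, classInd k w * f w := by
      intro f
      classical
      rw [← sum_fiberwise univ (fun z => z * k * z⁻¹) (fun z => f (z * k * z⁻¹)), mul_sum]
      refine sum_congr rfl fun w _ => ?_
      by_cases hw : IsConj k w
      · obtain ⟨c, hc⟩ := isConj_iff.1 hw
        rw [sum_congr rfl fun z hz => by rw [(mem_filter.1 hz).2], sum_const, nsmul_eq_mul,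
          classInd_of_isConj hw, one_mul]
        congr 1
        norm_cast
        rw [Nat.card_eq_fintype_card, ← Fintype.card_coe]
        refine Fintype.card_congr
          { toFun := fun z => ⟨c⁻¹ * z.1, ?_⟩
            invFun := fun v => ⟨c * v.1, ?_⟩
            left_inv := fun z => by ext; simp
            right_inv := fun v => by ext; simp }
        · rw [Subgroup.mem_centralizer_singleton_iff]
          have hz := (mem_filter.1 z.2).2
          calc c⁻¹ * z.1 * k = c⁻¹ * (z.1 * k * z.1⁻¹) * z.1 := by group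
            _ = c⁻¹ * (c * k * c⁻¹) * z.1 := by rw [hz, hc]
            _ = k * (c⁻¹ * z.1) := by group
        · refine mem_filter.2 ⟨mem_univ _, ?_⟩
          have hv := Subgroup.mem_centralizer_singleton_iff.1 v.2
          calc c * v.1 * k * (c * v.1)⁻¹ = c * (v.1 * k * v.1⁻¹) * c⁻¹ := by group
            _ = c * k * c⁻¹ := by rw [hv]; group
            _ = w := hc
      · rw [classInd_of_not_isConj hw, zero_mul, mul_zero]
        refine sum_eq_zero fun z hz => ?_
        exact absurd (isConj_iff.2 ⟨z, (mem_filter.1 hz).2⟩) hw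
    rw [h2 (fun w => (χ : G → ℂ) (w * m)), mul_assoc, h]
    have h3 : ∑ w : G, classInd k w * (χ : G → ℂ) w =
        ((Subgroup.centralizer ({k} : Set G)).index : ℂ) * (χ : G → ℂ) k := by
      classical
      rw [← sum_class_eq (isClassFunction_irr χ) k, sum_filter]
      refine sum_congr rfl fun w _ => ?_
      by_cases hw : IsConj k w
      · rw [classInd_of_isConj hw, if_pos hw, one_mul]
      · rw [classInd_of_not_isConj hw, if_neg hw, zero_mul]
    rw [h3, ← Subgroup.card_mul_index (Subgroup.centralizer ({k} : Set G))]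
    push_cast; ring
  have hz : ∀ z g : G, g⁻¹ * (z * (s * (x * z * y⁻¹) * t)⁻¹) =
      g⁻¹ * (z * (t⁻¹ * y) * z⁻¹ * (x⁻¹ * s⁻¹)) := fun z g => by group
  have hcard : (Nat.card G : ℂ) ≠ 0 := Nat.cast_ne_zero.2 Nat.card_pos.ne'
  simp only [conv, hz, blockCoeff_eq_sum, mul_sum, sum_mul]
  rw [sum_comm (s := (univ : Finset G)) (t := (univ : Finset G))]
  rw [sum_comm (s := univ.filter (· ∈ B)) (t := (univ : Finset G))]
  refine sum_congr rfl fun g _ => ?_
  rw [sum_comm]
  refine sum_congr rfl fun χ _ => ?_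
  have h0 := irr_one_ne_zero χ
  have hzz : ∀ z : G, conj ((χ : G → ℂ) (g⁻¹ * (z * (t⁻¹ * y) * z⁻¹ * (x⁻¹ * s⁻¹)))) =
      (χ : G → ℂ) (z * (y⁻¹ * t) * z⁻¹ * (g * (s * x))) := by
    intro z
    rw [conj_irr, show (g⁻¹ * (z * (t⁻¹ * y) * z⁻¹ * (x⁻¹ * s⁻¹)))⁻¹ =
        (s * x * (z * (y⁻¹ * t) * z⁻¹)) * g by group,
      classFun_mul_comm (isClassFunction_irr χ) _ g,
      classFun_mul_comm (isClassFunction_irr χ) (z * (y⁻¹ * t) * z⁻¹) (g * (s * x))]
    simp only [mul_assoc]
  simp only [hzz]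
  rw [← mul_sum, ← mul_sum, ← mul_sum]
  have := key χ (y⁻¹ * t) (g * (s * x))
  field_simp
  linear_combination (b g) * this

variable {p : ℕ}

/-- **Trace formula.** -/
theorem charSum_eq_trace (hM : IsPModular p M) {B : Set (IrrCharacter G)} [DecidablePred (· ∈ B)]
    [Fintype (IrrCharacter G)] (hB : IsIntClass M (blockCoeff B)) {b : G → ℂ}
    (hbR : ∀ g, MemLocalRing M (b g)) (hbb : conv b b = b) {x y s t : G}
    (hbx : ∀ g, b (x * g * x⁻¹) = b g) (hbs : ∀ g, b (s * g * s⁻¹) = b g)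
    (hxs : Commute x s) (hyt : Commute y t) {n : ℕ} (hx : x ^ p ^ n = 1) (hy : y ^ p ^ n = 1)
    {m : ℕ} (hm : ¬ p ∣ m) (hsm : s ^ m = 1) (htm : t ^ m = 1)
    {F : Matrix G G (localRing M)} (hF : block (biPerm x y) F = F) (hFm : F ^ (m + 1) = F)
    (hcong : ∀ i z : G, x * i * y⁻¹ = i → x * z * y⁻¹ = z →
      MemLocalIdeal M (conv b (blockCoeff B) (i * (s * z * t)⁻¹) - (F i z : ℂ))) :
    ∑ χ ∈ univ.filter (· ∈ B),
      (∑ g : G, b g * (χ : G → ℂ) (g * (s * x))) * (χ : G → ℂ) (y⁻¹ * t) = (F.trace : ℂ) := by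
  have := charP_residue hM
  set a := conv b (blockCoeff B) with ha
  have haR : ∀ g, MemLocalRing M (a g) := fun g =>
    memLocalRing_sum fun h _ => memLocalRing_mul (hbR h) (hB.2 _)
  set aR := toLocal a haR with haR'
  have hinvar : ∀ c : G, (∀ g, b (c * g * c⁻¹) = b g) → ∀ g, aR (c * g * c⁻¹) = aR g := by
    intro c hc g
    refine Subtype.ext ?_
    show a (c * g * c⁻¹) = a g
    rw [ha, conv, conv, ← Equiv.sum_comp (MulAut.conj c).toEquiv]
    refine sum_congr rfl fun h _ => ?_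
    show b (c * h * c⁻¹) * blockCoeff B ((c * h * c⁻¹)⁻¹ * (c * g * c⁻¹)) = _
    rw [hc h, show (c * h * c⁻¹)⁻¹ * (c * g * c⁻¹) = c * (h⁻¹ * g) * c⁻¹ by group,
      isClassFunction_blockCoeff B]
  have hidem : lmat aR * lmat aR = lmat aR := by
    rw [lmat_mul_lmat]
    congr 1
    funext w
    refine Subtype.ext ?_
    push_cast
    exact congrFun (conv_idem_of_central hbb hB.1 (conv_blockCoeff_self B)) w
  obtain ⟨ζ, hζ⟩ := exists_primitiveRoot (M := M) p hM.1.ne_zero
  obtain ⟨ω, hω⟩ := exists_primitiveRoot (M := M) m (fun h => hm (h ▸ dvd_zero p))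
  have hT := twTrace_eq (res M) isUnit_of_res_ne_zero hM.1 hζ (biPerm_pow_eq_one hx hy)
    (A := lmat aR * pmat (localRing M) s t) hm hω (op_inv (hinvar x hbx) hxs hyt)
    (op_pow hidem (hinvar s hbs) hsm htm) hF hFm (by
      ext i z
      simp only [RingHom.mapMatrix_apply, map_apply, block_apply, lmat_mul_pmat_apply, biPerm_apply]
      by_cases h : x * i * y⁻¹ = i ∧ x * z * y⁻¹ = z
      · rw [if_pos h, res_eq_iff]
        exact hcong i z h.1 h.2
      · rw [if_neg h, map_zero]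
        have hFiz : F i z = 0 := by
          rw [← hF, block_apply, if_neg]
          simpa only [biPerm_apply] using h
        rw [hFiz, map_zero])
  rw [← trace_value, ← hT, twTrace]
  push_cast
  refine sum_congr rfl fun z _ => ?_
  rw [lmat_mul_pmat_apply]
  rfl

/-- The trace formula when the fixed block vanishes modulo the local ideal. -/
theorem charSum_eq_zero (hM : IsPModular p M) {B : Set (IrrCharacter G)} [DecidablePred (· ∈ B)]
    [Fintype (IrrCharacter G)] (hB : IsIntClass M (blockCoeff B)) {b : G → ℂ}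
    (hbR : ∀ g, MemLocalRing M (b g)) (hbb : conv b b = b) {x y s t : G}
    (hbx : ∀ g, b (x * g * x⁻¹) = b g) (hbs : ∀ g, b (s * g * s⁻¹) = b g)
    (hxs : Commute x s) (hyt : Commute y t) {n : ℕ} (hx : x ^ p ^ n = 1) (hy : y ^ p ^ n = 1)
    {m : ℕ} (hm : ¬ p ∣ m) (hsm : s ^ m = 1) (htm : t ^ m = 1)
    (hcong : ∀ i z : G, x * i * y⁻¹ = i → x * z * y⁻¹ = z →
      MemLocalIdeal M (conv b (blockCoeff B) (i * (s * z * t)⁻¹))) :
    ∑ χ ∈ univ.filter (· ∈ B),
      (∑ g : G, b g * (χ : G → ℂ) (g * (s * x))) * (χ : G → ℂ) (y⁻¹ * t) = 0 := by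
  rw [charSum_eq_trace hM hB hbR hbb hbx hbs hxs hyt hx hy hm hsm htm (F := 0)
    (by simp [block]) (by simp) (fun i z hi hz => by simpa using hcong i z hi hz)]
  simp

theorem conv_deltaOne (a : G → ℂ) : conv deltaOne a = a := by
  funext x
  rw [conv, sum_eq_single (1 : G)]
  · simp [deltaOne_one]
  · intro g _ hg; rw [deltaOne_of_ne hg, zero_mul]
  · simp

theorem sum_deltaOne_mul (f : G → ℂ) (w : G) :
    ∑ g : G, deltaOne g * f (g * w) = f w := by
  rw [sum_eq_single (1 : G)]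
  · simp [deltaOne_one]
  · intro g _ hg; rw [deltaOne_of_ne hg, zero_mul]
  · simp

/-- Block orthogonality when the `p`-parts are not conjugate. -/
theorem block_orth (hM : IsPModular p M) {B : Set (IrrCharacter G)} [DecidablePred (· ∈ B)]
    [Fintype (IrrCharacter G)] (hB : IsIntClass M (blockCoeff B)) {g h x y : G}
    (hgx : IsPPart p g x) (hhy : IsPPart p h y) (hxy : ¬ IsConj x y) :
    ∑ χ ∈ univ.filter (· ∈ B), (χ : G → ℂ) g * conj ((χ : G → ℂ) h) = 0 := by
  obtain ⟨s, hgs, hcs, ⟨k, hk⟩, hs⟩ := hgx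
  obtain ⟨r, hhr, hcr, ⟨l, hl⟩, hr⟩ := hhy
  have := charSum_eq_zero hM hB (b := deltaOne) (fun g => isIntClass_deltaOne.2 g)
    (conv_deltaOne deltaOne) (x := x) (y := y) (s := s) (t := r⁻¹)
    (fun g => isClassFunction_deltaOne g x) (fun g => isClassFunction_deltaOne g s)
    hcs hcr.inv_right (n := k + l) (by rw [pow_add, pow_mul, ← hk, pow_orderOf_eq_one, one_pow])
    (by rw [pow_add, mul_comm, pow_mul, ← hl, pow_orderOf_eq_one, one_pow])
    (m := orderOf s * orderOf r) (fun h => (hM.1.dvd_mul.1 h).elim hs hr)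
    (by rw [pow_mul, pow_orderOf_eq_one, one_pow])
    (by rw [inv_pow, mul_comm, pow_mul, pow_orderOf_eq_one, one_pow, inv_one])
    (fun i z hi _ => absurd (isConj_iff.2 ⟨i⁻¹, by
      rw [inv_inv]
      calc i⁻¹ * x * i = i⁻¹ * (x * i * y⁻¹) * y := by group
        _ = y := by rw [hi]; group⟩) hxy)
  rw [← this]
  refine sum_congr rfl fun χ _ => ?_
  rw [sum_deltaOne_mul, conj_irr, ← hgs, ← hhr, hcs.eq, mul_inv_rev, ← hcr.inv_inv.eq]

/-- **Weak block orthogonality.** -/
theorem weak_orth (hM : IsPModular p M) {B : Set (IrrCharacter G)} [DecidablePred (· ∈ B)]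
    [Fintype (IrrCharacter G)] (hB : IsIntClass M (blockCoeff B)) {g h : G}
    (hg : ¬ p ∣ orderOf g) (hh : p ∣ orderOf h) :
    ∑ χ ∈ univ.filter (· ∈ B), (χ : G → ℂ) g * conj ((χ : G → ℂ) h) = 0 := by
  obtain ⟨x, y, hxy, hc, -, -, hne, hy, hx, -, -⟩ := exists_pPart hM.1 h
  refine block_orth hM hB (x := 1) (y := x)
    ⟨g, one_mul g, Commute.one_left g, ⟨0, by simp⟩, hg⟩ ⟨y, hxy, hc, hx, hy⟩ ?_
  intro h1
  exact hne hh (isConj_one_right.1 h1)

end Formula

end CfsgLib.Block
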