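import Cfsg.Agent.Blocks.Integrality
import Cfsg.Agent.Blocks.Regular
import Cfsg.Agent.Char.Inner

/-!
# Characters of defect zero vanish on `p`-singular elements
-/

namespace CfsgLib.Block

open Cfsg Finset CfsgLib.Block.Chr CfsgLib.Char
open scoped ComplexConjugate

universe u

variable {G : Type u} [Group G] [Fintype G]

theorem eq_zero_of_defectZero {p : ℕ} (hp : p.Prime) (φ : IrrCharacter G)
    (hdef : p ^ (Nat.card G).factorization p ∣ charDegree (φ : G → ℂ)) {g : G}
    (hg : p ∣ orderOf g) : (φ : G → ℂ) g = 0 := by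
  classical
  haveI := Fact.mk hp
  obtain ⟨z, hz⟩ := exists_int_regPart hp φ φ
  have hd := (irr_one φ).2
  have hba : (Nat.card G).factorization p - (charDegree (φ : G → ℂ)).factorization p = 0 :=
    Nat.sub_eq_zero_of_le ((hp.pow_dvd_iff_le_factorization hd.ne').1 hdef)
  rw [hba, pow_zero, Nat.cast_one, one_mul] at hz
  have h1 : Cfsg.classInner (regPart p (φ : G → ℂ)) (φ : G → ℂ) =
      (((Nat.card G : ℝ)⁻¹ * ∑ x : G, if p ∣ orderOf x then 0 else ‖(φ : G → ℂ) x‖ ^ 2 : ℝ) : ℂ) := by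
    simp only [CfsgLib.Char.classInner_def, Complex.ofReal_mul, Complex.ofReal_inv,
      Complex.ofReal_natCast, Complex.ofReal_sum]
    congr 1
    refine Finset.sum_congr rfl fun x _ => ?_
    by_cases hx : p ∣ orderOf x
    · simp [regPart_of_dvd hx, hx]
    · simp [regPart_of_not_dvd hx, hx, Complex.mul_conj']
  rw [hz, ← Complex.ofReal_intCast, Complex.ofReal_inj] at h1
  have htot : ∑ x : G, ‖(φ : G → ℂ) x‖ ^ 2 = (Nat.card G : ℝ) := by
    have := IsIrrCharacter.classInner_self φ.2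
    rw [CfsgLib.Char.classInner_self, Complex.ofReal_eq_one,
      inv_mul_eq_one₀ (by exact_mod_cast Nat.card_pos.ne')] at this
    exact this.symm
  have hGpos : (0 : ℝ) < Nat.card G := by exact_mod_cast Nat.card_pos
  have hpos : 0 < ∑ x : G, if p ∣ orderOf x then 0 else ‖(φ : G → ℂ) x‖ ^ 2 := by
    refine lt_of_lt_of_le ?_ (Finset.single_le_sum (fun x _ => ?_) (Finset.mem_univ (1 : G)))
    · rw [orderOf_one, if_neg hp.not_dvd_one]
      exact pow_pos (norm_pos_iff.2 (IsIrrCharacter.apply_one_ne_zero φ.2)) 2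
    · split_ifs
      · exact le_rfl
      · positivity
  have hz1 : (1 : ℝ) ≤ (z : ℝ) := by
    have : (0 : ℝ) < (z : ℝ) := h1 ▸ mul_pos (inv_pos.2 hGpos) hpos
    exact_mod_cast (Int.cast_pos.1 this : 0 < z)
  rw [h1, le_inv_mul_iff₀ hGpos, mul_one, ← htot] at hz1
  by_contra hne
  have : ∑ x : G, (if p ∣ orderOf x then 0 else ‖(φ : G → ℂ) x‖ ^ 2) <
      ∑ x : G, ‖(φ : G → ℂ) x‖ ^ 2 := by
    refine Finset.sum_lt_sum (fun x _ => ?_) ⟨g, Finset.mem_univ g, ?_⟩
    · split_ifs
      · positivity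
      · exact le_rfl
    · rw [if_pos hg]; exact pow_pos (norm_pos_iff.2 hne) 2
  linarith

end CfsgLib.Block
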