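import Cfsg.Agent.Blocks.Regular
import Cfsg.Agent.HeightExt.Block

/-!
# The principal character, normal subgroups of order prime to `p`, defect zero
-/

namespace CfsgLib.Block

open Cfsg Finset CfsgLib.Block.Chr CfsgLib.Char
open scoped ComplexConjugate

set_option linter.unusedSectionVars false
set_option linter.style.haveILetI false

universe u

variable {G : Type u} [Group G] {M : Ideal AlgInt} {p : ℕ}

/-- The principal character as a member of the irreducible characters. -/
noncomputable def oneIrr (G : Type u) [Group G] : IrrCharacter G :=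
  ⟨fun _ => 1, isIrrCharacter_one⟩

@[simp] theorem oneIrr_apply (g : G) : (oneIrr G : G → ℂ) g = 1 := rfl

theorem oneIrr_coe : (oneIrr G : G → ℂ) = fun _ => 1 := rfl

theorem isPBlock_principalBlock : IsPBlock M (principalBlock M G) := ⟨oneIrr G, rfl⟩

theorem oneIrr_mem_principalBlock [Fintype G] [M.IsPrime] : oneIrr G ∈ principalBlock M G :=
  mem_blockOf_self (oneIrr G)

theorem finsum_set_eq [Fintype (IrrCharacter G)] (B : Set (IrrCharacter G))
    [DecidablePred (· ∈ B)] {A : Type*} [AddCommMonoid A] (f : IrrCharacter G → A) :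
    ∑ᶠ χ ∈ B, f χ = ∑ χ ∈ univ.filter (· ∈ B), f χ :=
  finsum_mem_eq_sum_of_inter_support_eq (t := univ.filter (· ∈ B)) _ (by ext; simp)

/-- A representation is irreducible when its pull-back along a surjection is. -/
theorem isIrreducible_of_comp {H : Type*} [Group H] {n : ℕ} (f : G →* H)
    (hf : Function.Surjective f) (σ : Representation ℂ H (Fin n → ℂ))
    (h : Representation.IsIrreducible (σ.comp f : Representation ℂ G (Fin n → ℂ))) :
    σ.IsIrreducible := by
  let e : Subrepresentation (σ.comp f : Representation ℂ G (Fin n → ℂ)) ≃o Subrepresentation σ :=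
    { toFun := fun S => ⟨S.toSubmodule, fun g x hx => by
        obtain ⟨y, rfl⟩ := hf g
        exact S.apply_mem_toSubmodule y hx⟩
      invFun := fun S => ⟨S.toSubmodule, fun g x hx => S.apply_mem_toSubmodule (f g) hx⟩
      left_inv := fun _ => rfl
      right_inv := fun _ => rfl
      map_rel_iff' := Iff.rfl }
  exact e.isSimpleOrder_iff.1 h

variable [Fintype G]

theorem classInner_regPart (θ ψ : G → ℂ) :
    classInner (regPart p θ) ψ =
      (Nat.card G : ℂ)⁻¹ * ∑ g ∈ univ.filter (fun g : G => ¬ p ∣ orderOf g), θ g * conj (ψ g) := by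
  rw [classInner, sum_filter]
  congr 1
  refine sum_congr rfl fun g _ => ?_
  by_cases hg : p ∣ orderOf g
  · rw [regPart_of_dvd hg, if_neg (not_not_intro hg), zero_mul]
  · rw [regPart_of_not_dvd hg, if_pos hg]

theorem classInner_conj_symm (θ ψ : G → ℂ) : conj (classInner θ ψ) = classInner ψ θ := by
  simp only [classInner, map_mul, map_inv₀, map_natCast, map_sum, Complex.conj_conj]
  congr 1
  exact sum_congr rfl fun g _ => mul_comm _ _

/-! ### The indicator of a normal subgroup -/

/-- A normal subgroup on which an irreducible character has nonzero sum lies in its kernel. -/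
theorem sum_eq_zero_or_ker (χ : IrrCharacter G) (N : Subgroup G) [N.Normal]
    [DecidablePred (· ∈ N)] :
    (∑ n ∈ univ.filter (· ∈ N), (χ : G → ℂ) n) = 0 ∨
      ∀ n ∈ N, (χ : G → ℂ) n = (χ : G → ℂ) 1 := by
  classical
  refine or_iff_not_imp_left.2 fun h0 m hm => ?_
  let a : G → ℂ := fun g => if g ∈ N then 1 else 0
  have ha : IsClassFunction G a := fun g x => by
    have hiff : x * g * x⁻¹ ∈ N ↔ g ∈ N :=
      ⟨fun h => by simpa [mul_assoc] using Subgroup.Normal.conj_mem ‹_› _ h x⁻¹,
        fun h => Subgroup.Normal.conj_mem ‹_› _ h x⟩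
    by_cases hg : g ∈ N
    · simp only [a, if_pos hg, if_pos (hiff.2 hg)]
    · simp only [a, if_neg hg, if_neg (mt hiff.1 hg)]
  have h := class_mul χ ha (fun k => if k = m then 1 else 0)
  simp only [a, mul_ite, mul_one, mul_zero, ite_mul, one_mul, zero_mul, sum_ite_eq', mem_univ,
    if_true] at h
  rw [← sum_filter, ← sum_filter] at h
  have hshift : ∑ g ∈ univ.filter (· ∈ N), (χ : G → ℂ) (g * m) =
      ∑ g ∈ univ.filter (· ∈ N), (χ : G → ℂ) g :=
    sum_nbij' (fun g => g * m) (fun g => g * m⁻¹)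
      (fun g hg => by simp only [mem_filter, mem_univ, true_and] at hg ⊢; exact N.mul_mem hg hm)
      (fun g hg => by
        simp only [mem_filter, mem_univ, true_and] at hg ⊢; exact N.mul_mem hg (N.inv_mem hm))
      (fun g _ => by group) (fun g _ => by group) (fun g _ => rfl)
  rw [hshift] at h
  exact (mul_left_cancel₀ h0 h).symm

theorem blockCoeff_normal (N : Subgroup G) [N.Normal] [DecidablePred (· ∈ N)] (g : G) :
    blockCoeff {χ : IrrCharacter G | ∀ n ∈ N, (χ : G → ℂ) n = (χ : G → ℂ) 1} g =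
      if g ∈ N then (Nat.card N : ℂ)⁻¹ else 0 := by
  classical
  letI := irrFintype (G := G)
  let a : G → ℂ := fun g => if g ∈ N then 1 else 0
  have ha : IsClassFunction G a := fun g x => by
    have hiff : x * g * x⁻¹ ∈ N ↔ g ∈ N :=
      ⟨fun h => by simpa [mul_assoc] using Subgroup.Normal.conj_mem ‹_› _ h x⁻¹,
        fun h => Subgroup.Normal.conj_mem ‹_› _ h x⟩
    by_cases hg : g ∈ N
    · simp only [a, if_pos hg, if_pos (hiff.2 hg)]
    · simp only [a, if_neg hg, if_neg (mt hiff.1 hg)]
  have hcard : ((univ.filter (· ∈ N)).card : ℂ) = (Nat.card N : ℂ) := by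
    rw [Nat.card_eq_fintype_card, Fintype.card_subtype]
  have hinner : ∀ χ : IrrCharacter G, classInner a (χ : G → ℂ) =
      if (∀ n ∈ N, (χ : G → ℂ) n = (χ : G → ℂ) 1) then
        (Nat.card G : ℂ)⁻¹ * ((Nat.card N : ℂ) * (χ : G → ℂ) 1) else 0 := by
    intro χ
    have hsum : classInner a (χ : G → ℂ) =
        (Nat.card G : ℂ)⁻¹ * conj (∑ n ∈ univ.filter (· ∈ N), (χ : G → ℂ) n) := by
      rw [classInner, map_sum, sum_filter]
      congr 1
      refine sum_congr rfl fun g _ => ?_
      by_cases hg : g ∈ N <;> simp [a, hg]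
    rw [hsum]
    by_cases hk : ∀ n ∈ N, (χ : G → ℂ) n = (χ : G → ℂ) 1
    · rw [if_pos hk, sum_congr rfl fun n hn => hk n (mem_filter.1 hn).2, sum_const, nsmul_eq_mul,
        hcard, (irr_one χ).1]
      simp
    · rw [if_neg hk, (sum_eq_zero_or_ker χ N).resolve_right hk, map_zero, mul_zero]
  have h := congrArg conj (classFun_expand ha g)
  have hag : conj (a g) = a g := by by_cases hg : g ∈ N <;> simp [a, hg]
  simp only [hag, map_sum, map_mul, hinner, apply_ite conj, map_inv₀, map_natCast, map_zero,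
    ite_mul, zero_mul] at h
  rw [← sum_filter] at h
  rw [blockCoeff_eq_sum]
  have hN : (Nat.card N : ℂ) ≠ 0 := Nat.cast_ne_zero.2 Nat.card_pos.ne'
  have hone : ∀ χ : IrrCharacter G, conj ((χ : G → ℂ) 1) = (χ : G → ℂ) 1 := fun χ => by
    rw [(irr_one χ).1]; simp
  simp only [hone] at h
  have h2 : (if g ∈ N then (Nat.card N : ℂ)⁻¹ else 0) = (Nat.card N : ℂ)⁻¹ * a g := by
    by_cases hg : g ∈ N <;> simp [a, hg]
  rw [h2, h, mul_sum, mul_sum]
  refine sum_congr (by ext; simp) fun χ _ => ?_
  field_simp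

section Prime

variable [M.IsPrime]

/-- The characters trivial on a normal subgroup of order prime to `p` form a union of blocks. -/
theorem blockOf_subset_normal (hM : IsPModular p M) (N : Subgroup G) [N.Normal]
    (hN : ¬ p ∣ Nat.card N) {χ : IrrCharacter G}
    (hχ : ∀ n ∈ N, (χ : G → ℂ) n = (χ : G → ℂ) 1) :
    blockOf M (χ : G → ℂ) ⊆
      {ψ : IrrCharacter G | ∀ n ∈ N, (ψ : G → ℂ) n = (ψ : G → ℂ) 1} := by
  classical
  refine blockOf_subset_of_integral (fun g => ?_) hχ
  rw [blockCoeff_normal]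
  split_ifs
  · exact memLocalRing_natCast_inv hM hN
  · exact memLocalRing_zero

/-- With a normal `p`-complement, the characters trivial on it form the principal block. -/
theorem principalBlock_of_complement (hM : IsPModular p M) (N : Subgroup G) [N.Normal]
    (hN : ¬ p ∣ Nat.card N) (hidx : ∃ k : ℕ, N.index = p ^ k) :
    principalBlock M G = {χ : IrrCharacter G | ∀ n ∈ N, (χ : G → ℂ) n = (χ : G → ℂ) 1} := by
  refine Set.Subset.antisymm (blockOf_subset_normal hM N hN (χ := oneIrr G) (fun _ _ => rfl)) ?_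
  intro χ hχ
  refine sameBlock_of_regular hM (oneIrr G) χ fun g hg => ?_
  have hgN : g ∈ N := by
    obtain ⟨k, hk⟩ := hidx
    rw [← QuotientGroup.eq_one_iff (N := N)]
    have h1 : orderOf (g : G ⧸ N) ∣ orderOf g := orderOf_map_dvd (QuotientGroup.mk' N) g
    have h2 : orderOf (g : G ⧸ N) ∣ p ^ k := by
      rw [← hk]; exact orderOf_dvd_natCard _
    have hcop : (orderOf g).Coprime (p ^ k) :=
      Nat.Coprime.pow_right _ (Nat.Coprime.symm (hM.1.coprime_iff_not_dvd.2 hg))
    exact orderOf_eq_one_iff.1 (Nat.eq_one_of_dvd_coprimes hcop h1 h2)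
  rw [centralChar, centralChar, oneIrr_apply, oneIrr_apply, mul_one, div_one, hχ g hgN,
    mul_div_assoc, div_self (irr_one_ne_zero χ), mul_one, sub_self]
  exact memLocalIdeal_zero

end Prime

/-- A character vanishing on the nontrivial elements of a subgroup has degree divisible by its
order. -/
theorem card_dvd_charDegree (χ : IrrCharacter G) (P : Subgroup G)
    (h : ∀ x ∈ P, x ≠ 1 → (χ : G → ℂ) x = 0) : Nat.card P ∣ charDegree (χ : G → ℂ) := by
  classical
  obtain ⟨n, ρ, hρ⟩ := isCharacter_irr χ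
  have hint := HeightExt.isIntegral_average ρ P 1 (fun d _ => by simp)
  rw [hρ] at hint
  have hs : ∑ d : ↥P, (χ : G → ℂ) (1 * d) = (χ : G → ℂ) 1 := by
    rw [Finset.sum_eq_single (1 : ↥P)]
    · simp
    · intro d _ hd
      rw [one_mul]
      exact h d d.2 fun hc => hd (Subtype.ext hc)
    · simp
  rw [hs, (irr_one χ).1, ← Nat.card_eq_fintype_card] at hint
  have h1 : (Nat.card P : ℂ)⁻¹ * (charDegree (χ : G → ℂ) : ℂ) =
      (((charDegree (χ : G → ℂ) : ℚ) / (Nat.card P : ℚ) : ℚ) : ℂ) := by
    push_cast; rw [div_eq_mul_inv, mul_comm]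
  rw [h1] at hint
  obtain ⟨m, hm⟩ := exists_int_of_isIntegral_ratCast hint
  have hq : (charDegree (χ : G → ℂ) : ℚ) / (Nat.card P : ℚ) = (m : ℚ) := by exact_mod_cast hm
  rw [div_eq_iff (by exact_mod_cast Nat.card_pos.ne')] at hq
  exact Int.natCast_dvd_natCast.1 (Dvd.intro_left m (by exact_mod_cast hq.symm))

end CfsgLib.Block
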