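import Cfsg.Agent.Blocks.Principal
import Cfsg.Agent.Blocks.Congr

/-!
# Defect and heights, read at a defect class
-/

namespace CfsgLib.Block

open Cfsg Finset CfsgLib.Block.Chr CfsgLib.Char
open scoped ComplexConjugate

set_option linter.unusedSectionVars false
set_option linter.style.haveILetI false

universe u

variable {G : Type u} [Group G] [Fintype G] {M : Ideal AlgInt} [M.IsPrime] {p : ℕ}

theorem defectClass_regular (hM : IsPModular p M) {B : Set (IrrCharacter G)} (hB : IsPBlock M B)
    {y : G} (hy : IsDefectClass M B y) : ¬ p ∣ orderOf y := fun h =>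
  hy.2.1 (by rw [blockCoeff_eq_zero_of_singular hM hB h]; exact memLocalIdeal_zero)

/-- The quotient of the group order by the order of a Sylow `p`-subgroup is a unit. -/
theorem pow_factorization_unit (hM : IsPModular p M) {n : ℕ} (hn : n ≠ 0) :
    MemLocalRing M (((p ^ n.factorization p : ℕ) : ℂ) / (n : ℂ)) := by
  have h := Nat.ordProj_mul_ordCompl_eq_self n p
  have hp : ((p ^ n.factorization p : ℕ) : ℂ) ≠ 0 :=
    Nat.cast_ne_zero.2 (pow_ne_zero _ hM.1.ne_zero)
  nth_rewrite 2 [← h]
  rw [Nat.cast_mul, div_mul_cancel_left₀ hp]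
  exact memLocalRing_natCast_inv hM (Nat.not_dvd_ordCompl hM.1 hn)

theorem centralizer_factorization_le (y : G) :
    (Nat.card (Subgroup.centralizer ({y} : Set G))).factorization p ≤
      (Nat.card G).factorization p :=
  (Nat.factorization_le_iff_dvd Nat.card_pos.ne' Nat.card_pos.ne').2
    (Subgroup.card_subgroup_dvd_card _) p

variable {B : Set (IrrCharacter G)} {y : G}

/-- The degree of a member of a block, divided by `p ^ (a - d)`, is a unit times the value at a
defect class. -/
theorem exists_unit_mul (hM : IsPModular p M) (hy : IsDefectClass M B y) {χ : IrrCharacter G}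
    (hχ : χ ∈ B) :
    ∃ w : ℂ, MemLocalRing M w ∧ ¬ MemLocalIdeal M w ∧
      (charDegree (χ : G → ℂ) : ℂ) /
        (p : ℂ) ^ ((Nat.card G).factorization p -
          (Nat.card (Subgroup.centralizer ({y} : Set G))).factorization p) =
        w * (χ : G → ℂ) y := by
  set C := Subgroup.centralizer ({y} : Set G)
  set k := (Nat.card G).factorization p - (Nat.card C).factorization p with hk
  have hp0 : (p : ℂ) ≠ 0 := Nat.cast_ne_zero.2 hM.1.ne_zero
  have hidx : C.index.factorization p = k := by
    rw [hk, ← Subgroup.index_mul_card C, Nat.factorization_mul Subgroup.index_ne_zero_of_finite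
      Nat.card_pos.ne', Finsupp.add_apply, Nat.add_sub_cancel]
  set m := C.index / p ^ k with hm
  have hmdvd : ¬ p ∣ m := by rw [hm, ← hidx]; exact Nat.not_dvd_ordCompl hM.1 Subgroup.index_ne_zero_of_finite
  have hmk : C.index = p ^ k * m := by rw [hm, ← hidx, Nat.ordProj_mul_ordCompl_eq_self]
  have hω := hy.2.2 χ hχ
  have hωm := centralChar_mem (M := M) χ y
  refine ⟨(m : ℂ) * (centralChar (χ : G → ℂ) y)⁻¹,
    memLocalRing_mul (natCast_mem_localRing m) (memLocalRing_inv hωm hω),
    not_memLocalIdeal_mul (natCast_mem_localRing m) (mt (memLocalIdeal_natCast_iff hM).1 hmdvd)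
      (not_memLocalIdeal_inv hωm hω), ?_⟩
  have hne := ne_zero_of_not_memLocalIdeal hω
  rw [centralChar, show Subgroup.centralizer ({y} : Set G) = C from rfl, hmk,
    (irr_one χ).1] at hne ⊢
  have hd : (charDegree (χ : G → ℂ) : ℂ) ≠ 0 := Nat.cast_ne_zero.2 (irr_one χ).2.ne'
  have hm0 : (m : ℂ) ≠ 0 := Nat.cast_ne_zero.2 fun h => hmdvd (h ▸ dvd_zero p)
  have hv : (χ : G → ℂ) y ≠ 0 := fun h => hne (by rw [h, mul_zero, zero_div])
  push_cast
  field_simp

theorem defect_le_degree (hM : IsPModular p M) (hy : IsDefectClass M B y)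
    {χ : IrrCharacter G} (hχ : χ ∈ B) :
    (Nat.card G).factorization p - (Nat.card (Subgroup.centralizer ({y} : Set G))).factorization p ≤
      (charDegree (χ : G → ℂ)).factorization p := by
  obtain ⟨w, hw, -, he⟩ := exists_unit_mul hM hy hχ
  have h := pow_dvd_of_memLocalRing hM (n := (charDegree (χ : G → ℂ) : ℤ))
    (by rw [Int.cast_natCast, he]; exact memLocalRing_mul hw (irr_mem χ y))
  exact (hM.1.pow_dvd_iff_le_factorization (irr_one χ).2.ne').1 (by exact_mod_cast h)

theorem degree_eq_iff (hM : IsPModular p M) (hy : IsDefectClass M B y)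
    {χ : IrrCharacter G} (hχ : χ ∈ B) :
    (charDegree (χ : G → ℂ)).factorization p =
      (Nat.card G).factorization p -
        (Nat.card (Subgroup.centralizer ({y} : Set G))).factorization p ↔
      ¬ MemLocalIdeal M ((χ : G → ℂ) y) := by
  obtain ⟨w, hw, hw', he⟩ := exists_unit_mul hM hy hχ
  set k := (Nat.card G).factorization p -
    (Nat.card (Subgroup.centralizer ({y} : Set G))).factorization p
  constructor
  · intro hk h
    have h2 := pow_succ_dvd_of_memLocalIdeal hM (n := (charDegree (χ : G → ℂ) : ℤ)) (k := k)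
      (by rw [Int.cast_natCast, he]; exact memLocalIdeal_mul_left hw h)
    have h3 := (hM.1.pow_dvd_iff_le_factorization (irr_one χ).2.ne').1
      (by exact_mod_cast h2 : p ^ (k + 1) ∣ charDegree (χ : G → ℂ))
    omega
  · intro h
    refine le_antisymm (not_lt.1 fun hlt => ?_) (defect_le_degree hM hy hχ)
    obtain ⟨r, hr⟩ := (hM.1.pow_dvd_iff_le_factorization (irr_one χ).2.ne').2 hlt
    refine not_memLocalIdeal_mul hw hw' h ?_
    rw [← he, hr]
    have hp0 : (p : ℂ) ≠ 0 := Nat.cast_ne_zero.2 hM.1.ne_zero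
    rw [show ((p ^ k.succ * r : ℕ) : ℂ) / (p : ℂ) ^ k = (p : ℂ) * (r : ℂ) by
      push_cast; rw [pow_succ]; field_simp]
    exact memLocalIdeal_mul_right (memLocalIdeal_p hM) (natCast_mem_localRing r)

/-- Some member of the block attains the least possible power of `p` in its degree. -/
theorem exists_degree_eq (hM : IsPModular p M) (hB : IsPBlock M B) (hy : IsDefectClass M B y) :
    ∃ χ ∈ B, (charDegree (χ : G → ℂ)).factorization p =
      (Nat.card G).factorization p -
        (Nat.card (Subgroup.centralizer ({y} : Set G))).factorization p := by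
  classical
  letI := irrFintype (G := G)
  by_contra hne
  push Not at hne
  haveI : Fact p.Prime := ⟨hM.1⟩
  set C := Subgroup.centralizer ({y} : Set G)
  set a := (Nat.card G).factorization p with ha
  set d := (Nat.card C).factorization p with hd
  have hp0 : (p : ℂ) ≠ 0 := Nat.cast_ne_zero.2 hM.1.ne_zero
  obtain ⟨S⟩ : Nonempty (Sylow p C) := inferInstance
  let P := (S : Subgroup C).map C.subtype
  haveI : Fintype ↥P := Fintype.ofFinite _
  have hP : IsPGroup p P := S.isPGroup'.map _
  have hcard : Fintype.card ↥P = p ^ d := by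
    rw [← Nat.card_eq_fintype_card, Subgroup.card_map_of_injective C.subtype_injective,
      S.card_eq_multiplicity]
  have hPc : ∀ u : ↥P, Commute y (u : G) := fun u => by
    obtain ⟨v, -, hv⟩ := Subgroup.mem_map.1 u.2
    rw [← hv]
    exact (Subgroup.mem_centralizer_singleton_iff.1 v.2).symm
  have hreg := defectClass_regular hM hB hy
  have hsum : blockCoeff B y = ∑ u : ↥P, blockCoeff B (y * u) := by
    rw [sum_eq_single (1 : ↥P)]
    · simp
    · intro u _ hu
      refine blockCoeff_eq_zero_of_singular hM hB ?_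
      obtain ⟨n, hn⟩ := hP u
      obtain ⟨k, -, hk⟩ := (Nat.dvd_prime_pow hM.1).1 (orderOf_dvd_of_pow_eq_one hn)
      have hk' : orderOf (u : G) = p ^ k := by rw [← hk, Subgroup.orderOf_coe]
      have hk0 : k ≠ 0 := fun h0 => hu (orderOf_eq_one_iff.1 (by rw [hk, h0, pow_zero]))
      rw [(hPc u).orderOf_mul_eq_mul_orderOf_of_coprime (by
        rw [hk']; exact Nat.Coprime.pow_right _ (hM.1.coprime_iff_not_dvd.2 hreg).symm), hk']
      exact dvd_mul_of_dvd_right (dvd_pow_self p hk0) _
    · simp
  refine hy.2.1 ?_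
  rw [hsum]
  simp only [blockCoeff_eq_sum, ← mul_sum]
  rw [sum_comm, mul_sum]
  refine memLocalIdeal_sum fun χ hχ => ?_
  have hlt : a - d + 1 ≤ (charDegree (χ : G → ℂ)).factorization p :=
    lt_of_le_of_ne (defect_le_degree hM hy (mem_filter.1 hχ).2) (hne χ (mem_filter.1 hχ).2).symm
  obtain ⟨r, hr⟩ := (hM.1.pow_dvd_iff_le_factorization (irr_one χ).2.ne').2 hlt
  obtain ⟨n, ρ, hρ⟩ := IsCharacter.conj (isCharacter_irr χ)
  have havg : MemLocalRing M ((Fintype.card ↥P : ℂ)⁻¹ * ∑ u : ↥P, conj ((χ : G → ℂ) (y * u))) := by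
    refine memLocalRing_of_isIntegral ?_
    have h := HeightExt.isIntegral_average ρ P y fun v hv => (hPc ⟨v, hv⟩).symm
    rw [hρ] at h
    exact h
  rw [← mul_sum, (irr_one χ).1, hr]
  have hda : d ≤ a := centralizer_factorization_le y
  have : (Nat.card G : ℂ)⁻¹ * (((p ^ (a - d + 1) * r : ℕ) : ℂ) *
      ∑ u : ↥P, conj ((χ : G → ℂ) (y * u))) =
      (p : ℂ) * ((((p ^ a : ℕ) : ℂ) / (Nat.card G : ℂ)) * (r : ℂ) *
        ((Fintype.card ↥P : ℂ)⁻¹ * ∑ u : ↥P, conj ((χ : G → ℂ) (y * u)))) := by
    have e : p ^ (a - d + 1) * p ^ d = p * p ^ a := by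
      rw [← pow_add, ← pow_succ', show a - d + 1 + d = a + 1 by omega]
    have e' : ((p ^ (a - d + 1) : ℕ) : ℂ) * ((p ^ d : ℕ) : ℂ) = (p : ℂ) * ((p ^ a : ℕ) : ℂ) := by
      exact_mod_cast e
    have hd0 : ((p ^ d : ℕ) : ℂ) ≠ 0 := Nat.cast_ne_zero.2 (pow_ne_zero _ hM.1.ne_zero)
    rw [hcard, Nat.cast_mul, eq_div_of_mul_eq hd0 e']
    ring
  rw [this]
  exact memLocalIdeal_mul_right (memLocalIdeal_p hM) (memLocalRing_mul (memLocalRing_mul
    (pow_factorization_unit hM Nat.card_pos.ne') (natCast_mem_localRing r)) havg)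

/-- The least exponent of `p` in the degrees of the members of a block. -/
theorem sInf_degree_eq (hM : IsPModular p M) (hB : IsPBlock M B) (hy : IsDefectClass M B y) :
    sInf ((fun χ : IrrCharacter G => (charDegree (χ : G → ℂ)).factorization p) '' B) =
      (Nat.card G).factorization p -
        (Nat.card (Subgroup.centralizer ({y} : Set G))).factorization p := by
  obtain ⟨χ, hχ, h⟩ := exists_degree_eq hM hB hy
  refine le_antisymm (h ▸ Nat.sInf_le ⟨χ, hχ, rfl⟩) (le_csInf ⟨_, χ, hχ, rfl⟩ ?_)
  rintro _ ⟨ψ, hψ, rfl⟩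
  exact defect_le_degree hM hy hψ

theorem blockDefect_eq (hM : IsPModular p M) (hB : IsPBlock M B) (hy : IsDefectClass M B y) :
    blockDefect p B = (Nat.card (Subgroup.centralizer ({y} : Set G))).factorization p := by
  rw [blockDefect, sInf_degree_eq hM hB hy, Nat.sub_sub_self (centralizer_factorization_le y)]

theorem card_defectGroup (hM : IsPModular p M) (hB : IsPBlock M B) {D : Subgroup G}
    (hD : IsDefectGroup p M B D) : Nat.card D = p ^ blockDefect p B := by
  obtain ⟨g, hg, P, rfl⟩ := hD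
  haveI : Fact p.Prime := ⟨hM.1⟩
  rw [blockDefect_eq hM hB hg, Subgroup.card_map_of_injective
    (Subgroup.centralizer ({g} : Set G)).subtype_injective, P.card_eq_multiplicity]

/-- A member has height zero exactly when its value at a defect class is a unit. -/
theorem blockHeight_eq_zero_iff (hM : IsPModular p M) (hB : IsPBlock M B)
    (hy : IsDefectClass M B y) {χ : IrrCharacter G} (hχ : χ ∈ B) :
    blockHeight p B (χ : G → ℂ) = 0 ↔ ¬ MemLocalIdeal M ((χ : G → ℂ) y) := by
  rw [← degree_eq_iff hM hy hχ, blockHeight, sInf_degree_eq hM hB hy, Nat.sub_eq_zero_iff_le]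
  exact ⟨fun h => le_antisymm h (defect_le_degree hM hy hχ), le_of_eq⟩

end CfsgLib.Block
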