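import Cfsg.Agent.Blocks.Integrality
import Cfsg.Agent.Blocks.Heights

/-!
# The integers `p ^ a * [χ on p-regular elements, ψ]` of a block

They form a multiple of an idempotent matrix, congruent modulo `p` to a matrix of rank one
supported on the characters of height zero.
-/

namespace CfsgLib.Block

open Cfsg Finset CfsgLib.Block.Chr CfsgLib.Char
open scoped ComplexConjugate

set_option linter.unusedSectionVars false
set_option linter.style.haveILetI false

universe u

variable {G : Type u} [Group G] [Fintype G] {M : Ideal AlgInt} {p : ℕ} [Fact p.Prime]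

theorem exists_int_regInt (χ ψ : IrrCharacter G) :
    ∃ n : ℤ, ((p ^ (Nat.card G).factorization p : ℕ) : ℂ) *
      classInner (regPart p (χ : G → ℂ)) (ψ : G → ℂ) = (n : ℂ) := by
  obtain ⟨z, hz⟩ := exists_int_regPart (Fact.out : p.Prime) χ ψ
  refine ⟨((p ^ (charDegree (χ : G → ℂ)).factorization p : ℕ) : ℤ) * z, ?_⟩
  have hba : (charDegree (χ : G → ℂ)).factorization p ≤ (Nat.card G).factorization p :=
    (Nat.factorization_le_iff_dvd (irr_one χ).2.ne' Nat.card_pos.ne').2 (charDegree_dvd_card χ) p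
  rw [Int.cast_mul, Int.cast_natCast, ← hz, ← mul_assoc, ← Nat.cast_mul, ← pow_add,
    Nat.add_sub_cancel' hba]

/-- `p ^ a` times the inner product of the regular part of `χ` with `ψ`, an integer. -/
noncomputable def regInt (p : ℕ) [Fact p.Prime] (χ ψ : IrrCharacter G) : ℤ :=
  Classical.choose (exists_int_regInt (p := p) χ ψ)

theorem regInt_spec (χ ψ : IrrCharacter G) :
    (regInt p χ ψ : ℂ) = ((p ^ (Nat.card G).factorization p : ℕ) : ℂ) *
      classInner (regPart p (χ : G → ℂ)) (ψ : G → ℂ) :=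
  (Classical.choose_spec (exists_int_regInt (p := p) χ ψ)).symm

theorem classInner_regPart_eq (χ ψ : IrrCharacter G) :
    classInner (regPart p (χ : G → ℂ)) (ψ : G → ℂ) =
      (regInt p χ ψ : ℂ) / ((p ^ (Nat.card G).factorization p : ℕ) : ℂ) := by
  rw [regInt_spec, mul_div_cancel_left₀]
  exact Nat.cast_ne_zero.2 (pow_ne_zero _ (Fact.out : p.Prime).ne_zero)

theorem regInt_comm (χ ψ : IrrCharacter G) : regInt p χ ψ = regInt p ψ χ := by
  have h : conj (regInt p χ ψ : ℂ) = (regInt p ψ χ : ℂ) := by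
    rw [regInt_spec, regInt_spec, map_mul, map_natCast]
    congr 1
    simp only [classInner_regPart, map_mul, map_inv₀, map_natCast, map_sum, Complex.conj_conj]
    congr 1
    exact sum_congr rfl fun g _ => mul_comm _ _
  rw [map_intCast] at h
  exact_mod_cast h

/-- The central character of `ξ` at the regular part of the conjugate of `χ`. -/
noncomputable def heightForm (p : ℕ) (χ ξ : IrrCharacter G) : ℂ :=
  omega (ξ : G → ℂ) (regPart p fun g => conj ((χ : G → ℂ) g))

theorem mul_regInt (χ ξ : IrrCharacter G) :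
    ((Nat.card G / p ^ (Nat.card G).factorization p : ℕ) : ℂ) * (regInt p χ ξ : ℂ) =
      (charDegree (ξ : G → ℂ) : ℂ) * heightForm p χ ξ := by
  rw [regInt_comm, regInt_spec, ← mul_assoc, ← Nat.cast_mul,
    Nat.div_mul_cancel (Nat.ordProj_dvd _ _), classInner, mul_inv_cancel_left₀
      (Nat.cast_ne_zero.2 Nat.card_pos.ne'), heightForm, omega, ← (irr_one ξ).1,
    mul_div_cancel₀ _ (irr_one_ne_zero ξ)]
  refine sum_congr rfl fun g _ => ?_
  by_cases hg : p ∣ orderOf g <;> simp [regPart, hg, mul_comm]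

variable [M.IsPrime] {B : Set (IrrCharacter G)}

theorem isIntClass_regConj (χ : IrrCharacter G) :
    IsIntClass M (regPart p fun g => conj ((χ : G → ℂ) g)) := by
  refine ⟨fun g x => ?_, fun g => ?_⟩
  · have ho : orderOf (x * g * x⁻¹) = orderOf g :=
      orderOf_injective (MulAut.conj x).toMonoidHom (MulAut.conj x).injective g
    simp only [regPart, ho, isClassFunction_irr χ g x]
  · simp only [regPart]
    split_ifs
    · exact memLocalRing_zero
    · rw [conj_irr]; exact irr_mem χ _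

theorem heightForm_mem (χ ξ : IrrCharacter G) : MemLocalRing M (heightForm p χ ξ) :=
  omega_mem ξ (isIntClass_regConj χ)

theorem heightForm_cong (hB : IsPBlock M B) (χ : IrrCharacter G) {ξ ξ' : IrrCharacter G}
    (hξ : ξ ∈ B) (hξ' : ξ' ∈ B) : MemLocalIdeal M (heightForm p χ ξ - heightForm p χ ξ') :=
  omega_cong (sameBlock_of_mem hB hξ hξ') (isIntClass_regConj χ)

theorem degree_ge (hM : IsPModular p M) (hB : IsPBlock M B) {χ : IrrCharacter G} (hχ : χ ∈ B) :
    (Nat.card G).factorization p - blockDefect p B ≤ (charDegree (χ : G → ℂ)).factorization p := by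
  classical
  obtain ⟨y, hy⟩ := exists_isDefectClass hB
  rw [blockDefect_eq hM hB hy]
  exact defect_le_degree hM hy hχ

/-- Exponent of `p` in a degree, in terms of the height. -/
theorem factorization_degree (hM : IsPModular p M) (hB : IsPBlock M B) {χ : IrrCharacter G}
    (hχ : χ ∈ B) : (charDegree (χ : G → ℂ)).factorization p =
      (Nat.card G).factorization p - blockDefect p B + blockHeight p B (χ : G → ℂ) := by
  classical
  obtain ⟨y, hy⟩ := exists_isDefectClass hB
  rw [blockHeight, sInf_degree_eq hM hB hy, blockDefect_eq hM hB hy,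
    Nat.add_sub_cancel' (defect_le_degree hM hy hχ)]

theorem blockDefect_le (B : Set (IrrCharacter G)) :
    blockDefect p B ≤ (Nat.card G).factorization p := Nat.sub_le _ _

theorem exists_height_zero (hM : IsPModular p M) (hB : IsPBlock M B) :
    ∃ χ ∈ B, blockHeight p B (χ : G → ℂ) = 0 := by
  classical
  obtain ⟨y, hy⟩ := exists_isDefectClass hB
  obtain ⟨χ, hχ, h⟩ := exists_degree_eq hM hB hy
  exact ⟨χ, hχ, by rw [blockHeight, sInf_degree_eq hM hB hy, h, Nat.sub_self]⟩

/-- Some character of the block has unit height form. -/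
theorem exists_heightForm_unit (hM : IsPModular p M) (hB : IsPBlock M B) {ξ : IrrCharacter G}
    (hξ : ξ ∈ B) : ∃ χ ∈ B, ¬ MemLocalIdeal M (heightForm p χ ξ) := by
  classical
  letI := irrFintype (G := G)
  by_contra hne
  push Not at hne
  obtain ⟨y, hy⟩ := exists_isDefectClass hB
  set C := Subgroup.centralizer ({y} : Set G)
  obtain ⟨S⟩ : Nonempty (Sylow p C) := inferInstance
  let P := (S : Subgroup C).map C.subtype
  haveI : Fintype ↥P := Fintype.ofFinite _
  have hP : IsPGroup p P := S.isPGroup'.map _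
  have hPc : ∀ u : ↥P, Commute y (u : G) := fun u => by
    obtain ⟨v, -, hv⟩ := Subgroup.mem_map.1 u.2
    rw [← hv]
    exact (Subgroup.mem_centralizer_singleton_iff.1 v.2).symm
  have hreg := defectClass_regular hM hB hy
  let c : IrrCharacter G → ℂ := fun χ =>
    (Fintype.card ↥P : ℂ)⁻¹ * ∑ u : ↥P, (χ : G → ℂ) (y * u)
  have hc : ∀ χ, MemLocalRing M (c χ) := fun χ => by
    obtain ⟨n, ρ, hρ⟩ := isCharacter_irr χ
    refine memLocalRing_of_isIntegral ?_
    simp only [c, ← hρ]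
    exact HeightExt.isIntegral_average ρ P y fun d hd => (hPc ⟨d, hd⟩).symm
  -- the combination is supported on regular elements
  have hS : ∀ t : G, ∑ χ ∈ univ.filter (· ∈ B), c χ * regPart p (fun g => conj ((χ : G → ℂ) g)) t =
      (Fintype.card ↥P : ℂ)⁻¹ * ∑ χ ∈ univ.filter (· ∈ B), (χ : G → ℂ) y * conj ((χ : G → ℂ) t) := by
    intro t
    by_cases ht : p ∣ orderOf t
    · rw [weak_orth hM (isIntClass_blockCoeff hB) hreg ht, mul_zero]
      exact sum_eq_zero fun χ _ => by rw [regPart_of_dvd ht, mul_zero]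
    · simp only [regPart_of_not_dvd ht, c, mul_assoc, ← mul_sum, sum_mul]
      rw [sum_comm]
      congr 1
      rw [sum_eq_single (1 : ↥P)]
      · simp
      · intro u _ hu
        have hsing : p ∣ orderOf (y * (u : G)) := by
          obtain ⟨n, hn⟩ := hP u
          obtain ⟨k, -, hk⟩ := (Nat.dvd_prime_pow hM.1).1 (orderOf_dvd_of_pow_eq_one hn)
          have hk' : orderOf (u : G) = p ^ k := by rw [← hk, Subgroup.orderOf_coe]
          have hk0 : k ≠ 0 := fun h0 => hu (orderOf_eq_one_iff.1 (by rw [hk, h0, pow_zero]))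
          rw [(hPc u).orderOf_mul_eq_mul_orderOf_of_coprime (by
            rw [hk']; exact Nat.Coprime.pow_right _ (hM.1.coprime_iff_not_dvd.2 hreg).symm), hk']
          exact dvd_mul_of_dvd_right (dvd_pow_self p hk0) _
        have h := congrArg conj (weak_orth hM (isIntClass_blockCoeff hB) ht hsing)
        simp only [map_sum, map_mul, Complex.conj_conj, map_zero] at h
        rw [← h]
        exact sum_congr rfl fun χ _ => mul_comm _ _
      · simp
  -- evaluate at the central character of `ξ`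
  have hw : ∑ χ ∈ univ.filter (· ∈ B), c χ * heightForm p χ ξ =
      ((Nat.card C / Fintype.card ↥P : ℕ) : ℂ) * centralChar (ξ : G → ℂ) y := by
    simp only [heightForm, omega, ← mul_div_assoc, ← sum_div, mul_sum, ← mul_assoc]
    rw [sum_comm]
    simp only [← sum_mul, hS]
    have h2 : ∀ χ : IrrCharacter G, ∑ g : G, conj ((χ : G → ℂ) g) * (ξ : G → ℂ) g =
        if ξ = χ then (Nat.card G : ℂ) else 0 := by
      intro χ
      have h := classInner_irr ξ χ
      rw [classInner, inv_mul_eq_iff_eq_mul₀ (Nat.cast_ne_zero.2 Nat.card_pos.ne')] at h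
      rw [sum_congr rfl fun g _ => mul_comm _ _, h]
      split_ifs <;> simp
    simp only [mul_assoc, sum_mul, ← mul_sum]
    rw [sum_comm]
    simp only [← mul_sum, h2, mul_ite, mul_zero, sum_ite_eq, mem_filter, mem_univ, true_and,
      if_pos hξ]
    rw [centralChar, Nat.cast_div, show Subgroup.centralizer ({y} : Set G) = C from rfl,
      show (Nat.card G : ℂ) = (C.index : ℂ) * (Nat.card C : ℂ) by
        exact_mod_cast (Subgroup.index_mul_card C).symm]
    · ring
    · rw [← Nat.card_eq_fintype_card, Subgroup.card_map_of_injective C.subtype_injective]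
      exact Subgroup.card_subgroup_dvd_card _
    · exact Nat.cast_ne_zero.2 Fintype.card_ne_zero
  refine not_memLocalIdeal_mul (natCast_mem_localRing _) ?_ (hy.2.2 ξ hξ)
    (hw ▸ memLocalIdeal_sum fun χ hχ => memLocalIdeal_mul_left (hc χ) (hne χ (mem_filter.1 hχ).2))
  rw [memLocalIdeal_natCast_iff hM, ← Nat.card_eq_fintype_card,
    Subgroup.card_map_of_injective C.subtype_injective, ← Subgroup.index_mul_card (S : Subgroup C),
    Nat.mul_div_cancel _ Nat.card_pos]
  exact S.not_dvd_index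

/-- Transfer of the height form. -/
theorem exists_heightForm_transfer (hM : IsPModular p M) (hB : IsPBlock M B) {χ ξ : IrrCharacter G}
    (hχ : χ ∈ B) (hξ : ξ ∈ B) (h0 : blockHeight p B (ξ : G → ℂ) = 0) :
    ∃ r : ℂ, MemLocalRing M r ∧ (MemLocalIdeal M r ↔ blockHeight p B (χ : G → ℂ) ≠ 0) ∧
      heightForm p χ ξ = r * heightForm p ξ χ := by
  have e1 := mul_regInt (p := p) χ ξ
  have e2 := mul_regInt (p := p) ξ χ
  rw [regInt_comm, e2] at e1
  set k := (Nat.card G).factorization p - blockDefect p B with hk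
  set h := blockHeight p B (χ : G → ℂ)
  have f1 := factorization_degree hM hB hχ
  have f2 := factorization_degree hM hB hξ
  rw [h0, add_zero] at f2
  set d1 := charDegree (χ : G → ℂ) / p ^ (k + h) with hd1
  set d2 := charDegree (ξ : G → ℂ) / p ^ k with hd2
  have n1 : ¬ p ∣ d1 := by rw [hd1, ← f1]; exact Nat.not_dvd_ordCompl hM.1 (irr_one χ).2.ne'
  have n2 : ¬ p ∣ d2 := by rw [hd2, hk, ← f2]; exact Nat.not_dvd_ordCompl hM.1 (irr_one ξ).2.ne'
  have g1 : charDegree (χ : G → ℂ) = p ^ (k + h) * d1 := by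
    rw [hd1, ← f1, Nat.ordProj_mul_ordCompl_eq_self]
  have g2 : charDegree (ξ : G → ℂ) = p ^ k * d2 := by
    rw [hd2, hk, ← f2, Nat.ordProj_mul_ordCompl_eq_self]
  refine ⟨(p : ℂ) ^ h * (d1 : ℂ) * (d2 : ℂ)⁻¹, ?_, ?_, ?_⟩
  · exact memLocalRing_mul (memLocalRing_mul ((localRing M).pow_mem (natCast_mem_localRing p) h)
      (natCast_mem_localRing d1)) (memLocalRing_natCast_inv hM n2)
  · constructor
    · intro hm hh
      rw [hh, pow_zero, one_mul] at hm
      refine not_memLocalIdeal_mul (natCast_mem_localRing d1)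
        (mt (memLocalIdeal_natCast_iff hM).1 n1)
        (not_memLocalIdeal_inv (natCast_mem_localRing d2)
          (mt (memLocalIdeal_natCast_iff hM).1 n2)) hm
    · intro hh
      obtain ⟨m, hm⟩ := Nat.exists_eq_succ_of_ne_zero hh
      rw [hm, pow_succ', mul_assoc, mul_assoc]
      exact memLocalIdeal_mul_right (memLocalIdeal_p hM) (memLocalRing_mul
        ((localRing M).pow_mem (natCast_mem_localRing p) m)
        (memLocalRing_mul (natCast_mem_localRing d1) (memLocalRing_natCast_inv hM n2)))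
  · have hp0 : (p : ℂ) ≠ 0 := Nat.cast_ne_zero.2 hM.1.ne_zero
    have hd0 : (d2 : ℂ) ≠ 0 := Nat.cast_ne_zero.2 fun hz => n2 (hz ▸ dvd_zero p)
    rw [g1, g2] at e1
    push_cast at e1
    rw [pow_add] at e1
    field_simp
    have hk : (p : ℂ) ^ k ≠ 0 := pow_ne_zero _ hp0
    apply mul_left_cancel₀ hk
    linear_combination -e1

theorem heightForm_unit_iff (hM : IsPModular p M) (hB : IsPBlock M B) {χ ξ : IrrCharacter G}
    (hχ : χ ∈ B) (hξ : ξ ∈ B) :
    ¬ MemLocalIdeal M (heightForm p χ ξ) ↔ blockHeight p B (χ : G → ℂ) = 0 := by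
  obtain ⟨η, hη, hη0⟩ := exists_height_zero hM hB
  have key : ∀ φ ∈ B, ∀ ζ ∈ B, blockHeight p B (ζ : G → ℂ) = 0 →
      (¬ MemLocalIdeal M (heightForm p φ ξ) ↔
        blockHeight p B (φ : G → ℂ) = 0 ∧ ¬ MemLocalIdeal M (heightForm p ζ ξ)) := by
    intro φ hφ ζ hζ hζ0
    obtain ⟨r, hr, hri, he⟩ := exists_heightForm_transfer hM hB hφ hζ hζ0
    have c1 := heightForm_cong (p := p) hB φ hξ hζ
    have c2 := heightForm_cong (p := p) hB ζ hξ hφ
    rw [memLocalIdeal_iff_of_cong c1, memLocalIdeal_iff_of_cong c2, he]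
    constructor
    · intro h
      exact ⟨by_contra fun hh => h (memLocalIdeal_mul_right (hri.2 hh) (heightForm_mem ζ φ)),
        fun hh => h (memLocalIdeal_mul_left hr hh)⟩
    · rintro ⟨h0, h1⟩
      exact not_memLocalIdeal_mul hr (fun hh => hri.1 hh h0) h1
  have hηunit : ¬ MemLocalIdeal M (heightForm p η ξ) := by
    obtain ⟨φ, hφ, hu⟩ := exists_heightForm_unit hM hB hξ
    exact ((key φ hφ η hη hη0).1 hu).2
  rw [key χ hχ η hη hη0]
  exact and_iff_left hηunit

theorem regInt_eq_zero_of_not_mem (hM : IsPModular p M) (hB : IsPBlock M B) {χ ψ : IrrCharacter G}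
    (hχ : χ ∈ B) (hψ : ψ ∉ B) : regInt p χ ψ = 0 := by
  have h := classInner_regPart_eq_zero hM χ ψ (fun h => hψ ((sameBlock_iff_mem hB hχ).2 h))
  have h2 := regInt_spec (p := p) χ ψ
  rw [h, mul_zero] at h2
  exact_mod_cast h2

theorem unit_ordCompl (hM : IsPModular p M) :
    MemLocalRing M ((Nat.card G / p ^ (Nat.card G).factorization p : ℕ) : ℂ)⁻¹ ∧
      ¬ MemLocalIdeal M ((Nat.card G / p ^ (Nat.card G).factorization p : ℕ) : ℂ) :=
  ⟨memLocalRing_natCast_inv hM (Nat.not_dvd_ordCompl hM.1 Nat.card_pos.ne'),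
    mt (memLocalIdeal_natCast_iff hM).1 (Nat.not_dvd_ordCompl hM.1 Nat.card_pos.ne')⟩

theorem regInt_div_pow (hM : IsPModular p M) (χ ξ : IrrCharacter G) :
    ∃ v : ℂ, MemLocalRing M v ∧ ¬ MemLocalIdeal M v ∧
      (regInt p χ ξ : ℂ) / (p : ℂ) ^ (charDegree (ξ : G → ℂ)).factorization p =
        v * heightForm p χ ξ := by
  obtain ⟨hw, hw'⟩ := unit_ordCompl (G := G) hM
  set w := ((Nat.card G / p ^ (Nat.card G).factorization p : ℕ) : ℂ) with hwd
  set b := (charDegree (ξ : G → ℂ)).factorization p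
  set d := charDegree (ξ : G → ℂ) / p ^ b
  have hd : ¬ p ∣ d := Nat.not_dvd_ordCompl hM.1 (irr_one ξ).2.ne'
  refine ⟨w⁻¹ * (d : ℂ), memLocalRing_mul hw (natCast_mem_localRing d),
    not_memLocalIdeal_mul hw (not_memLocalIdeal_inv (natCast_mem_localRing _) hw')
      (mt (memLocalIdeal_natCast_iff hM).1 hd), ?_⟩
  have h := mul_regInt (p := p) χ ξ
  rw [← Nat.ordProj_mul_ordCompl_eq_self (charDegree (ξ : G → ℂ)) p, Nat.cast_mul,
    Nat.cast_pow] at h
  have hp0 : (p : ℂ) ≠ 0 := Nat.cast_ne_zero.2 hM.1.ne_zero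
  have hw0 : w ≠ 0 := ne_zero_of_not_memLocalIdeal hw'
  field_simp
  linear_combination h

theorem pow_dvd_regInt (hM : IsPModular p M) (χ ξ : IrrCharacter G) :
    (p : ℤ) ^ (charDegree (ξ : G → ℂ)).factorization p ∣ regInt p χ ξ := by
  obtain ⟨v, hv, -, he⟩ := regInt_div_pow hM χ ξ
  exact pow_dvd_of_memLocalRing hM (he ▸ memLocalRing_mul hv (heightForm_mem χ ξ))

theorem pow_succ_dvd_regInt_iff (hM : IsPModular p M) (hB : IsPBlock M B) {χ ξ : IrrCharacter G}
    (hχ : χ ∈ B) (hξ : ξ ∈ B) :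
    (p : ℤ) ^ ((charDegree (ξ : G → ℂ)).factorization p + 1) ∣ regInt p χ ξ ↔
      blockHeight p B (χ : G → ℂ) ≠ 0 := by
  obtain ⟨v, hv, hv', he⟩ := regInt_div_pow hM χ ξ
  rw [Ne, ← heightForm_unit_iff hM hB hχ hξ, not_not]
  constructor
  · rintro ⟨m, hm⟩
    by_contra hu
    refine not_memLocalIdeal_mul hv hv' hu ?_
    rw [← he, hm]
    have hp0 : (p : ℂ) ≠ 0 := Nat.cast_ne_zero.2 hM.1.ne_zero
    push_cast
    rw [pow_succ, show ((p : ℂ) ^ (charDegree (ξ : G → ℂ)).factorization p * (p : ℂ)) * (m : ℂ) /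
      (p : ℂ) ^ (charDegree (ξ : G → ℂ)).factorization p = (p : ℂ) * (m : ℂ) by field_simp]
    exact memLocalIdeal_mul_right (memLocalIdeal_p hM) (intCast_mem (localRing M) m)
  · intro hu
    exact pow_succ_dvd_of_memLocalIdeal hM (he ▸ memLocalIdeal_mul_left hv hu)

theorem regInt_ne_zero (hM : IsPModular p M) (hB : IsPBlock M B) {χ ξ : IrrCharacter G}
    (hχ : χ ∈ B) (hξ : ξ ∈ B) (h0 : blockHeight p B (χ : G → ℂ) = 0) : regInt p χ ξ ≠ 0 :=
  fun h => (pow_succ_dvd_regInt_iff hM hB hχ hξ).1 (h ▸ dvd_zero _) h0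

/-- The matrix of the integers is a multiple of an idempotent. -/
theorem regInt_mul (hM : IsPModular p M) (hB : IsPBlock M B) [Fintype (IrrCharacter G)]
    [DecidablePred (· ∈ B)] {χ : IrrCharacter G} (hχ : χ ∈ B) (φ : IrrCharacter G) :
    ∑ ψ ∈ univ.filter (· ∈ B), regInt p χ ψ * regInt p ψ φ =
      ((p ^ (Nat.card G).factorization p : ℕ) : ℤ) * regInt p χ φ := by
  classical
  have hexp : ∀ g, regPart p (χ : G → ℂ) g = ∑ ψ ∈ univ.filter (· ∈ B),
      classInner (regPart p (χ : G → ℂ)) (ψ : G → ℂ) * (ψ : G → ℂ) g := by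
    intro g
    rw [← blockPart_eq_sum_inner, blockPart_regPart hM hB, blockPart_irr, if_pos hχ]
  have hidem : classInner (regPart p (χ : G → ℂ)) (φ : G → ℂ) = ∑ ψ ∈ univ.filter (· ∈ B),
      classInner (regPart p (χ : G → ℂ)) (ψ : G → ℂ) *
        classInner (regPart p (ψ : G → ℂ)) (φ : G → ℂ) := by
    have h1 : ∀ ψ : IrrCharacter G, classInner (regPart p (ψ : G → ℂ)) (φ : G → ℂ) =
        (Nat.card G : ℂ)⁻¹ * ∑ g : G, (ψ : G → ℂ) g *
          conj (regPart p (φ : G → ℂ) g) := by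
      intro ψ
      rw [classInner]
      congr 1
      refine sum_congr rfl fun g _ => ?_
      by_cases hg : p ∣ orderOf g <;> simp [regPart, hg]
    have h2 : classInner (regPart p (χ : G → ℂ)) (φ : G → ℂ) =
        (Nat.card G : ℂ)⁻¹ * ∑ g : G, regPart p (χ : G → ℂ) g *
          conj (regPart p (φ : G → ℂ) g) := by
      rw [classInner]
      congr 1
      refine sum_congr rfl fun g _ => ?_
      by_cases hg : p ∣ orderOf g <;> simp [regPart, hg]
    rw [h2]
    simp only [h1, mul_sum]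
    rw [sum_comm]
    refine sum_congr rfl fun g _ => ?_
    rw [hexp g, sum_mul, mul_sum]
    exact sum_congr rfl fun ψ _ => by ring
  have h := congrArg (fun z : ℂ => ((p ^ (Nat.card G).factorization p : ℕ) : ℂ) *
    (((p ^ (Nat.card G).factorization p : ℕ) : ℂ) * z)) hidem
  simp only [mul_sum] at h
  have h' : ((p ^ (Nat.card G).factorization p : ℕ) : ℂ) * (regInt p χ φ : ℂ) =
      ∑ ψ ∈ univ.filter (· ∈ B), (regInt p χ ψ : ℂ) * (regInt p ψ φ : ℂ) := by
    simp only [regInt_spec]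
    rw [h]
    exact sum_congr rfl fun ψ _ => by ring
  exact_mod_cast h'.symm

/-! ### The reduced matrix -/

/-- `regInt` divided by `p ^ (a - d)`. -/
noncomputable def redInt (p : ℕ) [Fact p.Prime] (B : Set (IrrCharacter G))
    (χ ψ : IrrCharacter G) : ℤ :=
  regInt p χ ψ / (p : ℤ) ^ ((Nat.card G).factorization p - blockDefect p B)

theorem redInt_spec (hM : IsPModular p M) (hB : IsPBlock M B) {χ ψ : IrrCharacter G}
    (hψ : ψ ∈ B) :
    (p : ℤ) ^ ((Nat.card G).factorization p - blockDefect p B) * redInt p B χ ψ = regInt p χ ψ :=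
  Int.mul_ediv_cancel' ((pow_dvd_pow (p : ℤ) (degree_ge hM hB hψ)).trans (pow_dvd_regInt hM χ ψ))

theorem redInt_comm (χ ψ : IrrCharacter G) : redInt p B χ ψ = redInt p B ψ χ := by
  rw [redInt, redInt, regInt_comm]

theorem redInt_sum_sq (hM : IsPModular p M) (hB : IsPBlock M B) [Fintype (IrrCharacter G)]
    [DecidablePred (· ∈ B)] {χ : IrrCharacter G} (hχ : χ ∈ B) :
    ∑ ψ ∈ univ.filter (· ∈ B), redInt p B χ ψ ^ 2 =
      (p : ℤ) ^ blockDefect p B * redInt p B χ χ := by
  have hp0 : ((p : ℤ) ^ ((Nat.card G).factorization p - blockDefect p B)) ≠ 0 :=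
    pow_ne_zero _ (Int.natCast_ne_zero.2 hM.1.ne_zero)
  refine mul_left_cancel₀ (mul_ne_zero hp0 hp0) ?_
  have h := regInt_mul hM hB hχ χ
  rw [mul_sum]
  have hterm : ∀ ψ ∈ univ.filter (· ∈ B),
      (p : ℤ) ^ ((Nat.card G).factorization p - blockDefect p B) *
        (p : ℤ) ^ ((Nat.card G).factorization p - blockDefect p B) * redInt p B χ ψ ^ 2 =
      regInt p χ ψ * regInt p ψ χ := by
    intro ψ hψ
    rw [regInt_comm ψ χ, ← redInt_spec hM hB (χ := χ) (mem_filter.1 hψ).2]
    ring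
  rw [sum_congr rfl hterm, h, ← redInt_spec hM hB hχ]
  push_cast
  nth_rewrite 1 [← Nat.sub_add_cancel (blockDefect_le (p := p) B)]
  rw [pow_add]
  ring

theorem pow_dvd_redInt (hM : IsPModular p M) (hB : IsPBlock M B) {χ ψ : IrrCharacter G}
    (hχ : χ ∈ B) (hψ : ψ ∈ B) :
    (p : ℤ) ^ blockHeight p B (ψ : G → ℂ) ∣ redInt p B χ ψ ∧
      ((p : ℤ) ^ (blockHeight p B (ψ : G → ℂ) + 1) ∣ redInt p B χ ψ ↔
        blockHeight p B (χ : G → ℂ) ≠ 0) := by
  have hp0 : ((p : ℤ) ^ ((Nat.card G).factorization p - blockDefect p B)) ≠ 0 :=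
    pow_ne_zero _ (Int.natCast_ne_zero.2 hM.1.ne_zero)
  refine ⟨?_, ?_⟩
  · refine (mul_dvd_mul_iff_left hp0).1 ?_
    rw [redInt_spec hM hB hψ, ← pow_add, ← factorization_degree hM hB hψ]
    exact pow_dvd_regInt hM χ ψ
  · rw [← mul_dvd_mul_iff_left hp0, redInt_spec hM hB hψ, ← pow_add, ← add_assoc,
      ← factorization_degree hM hB hψ]
    exact pow_succ_dvd_regInt_iff hM hB hχ hψ

theorem redInt_ne_zero (hM : IsPModular p M) (hB : IsPBlock M B) {χ ψ : IrrCharacter G}
    (hχ : χ ∈ B) (hψ : ψ ∈ B) (h0 : blockHeight p B (χ : G → ℂ) = 0) :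
    redInt p B χ ψ ≠ 0 := fun h =>
  regInt_ne_zero hM hB hχ hψ h0 (by rw [← redInt_spec hM hB hψ, h, mul_zero])

/-- The Brauer–Feit bound. -/
theorem brauer_feit (hM : IsPModular p M) (hB : IsPBlock M B) :
    4 * Nat.card B ≤ p ^ (2 * blockDefect p B) + 4 := by
  classical
  letI := irrFintype (G := G)
  obtain ⟨ξ, hξ, h0⟩ := exists_height_zero hM hB
  have hs := redInt_sum_sq hM hB hξ
  rw [← add_sum_erase _ _ (mem_filter.2 ⟨mem_univ ξ, hξ⟩)] at hs
  have hcard : ((univ.filter (· ∈ B)).erase ξ).card = Nat.card B - 1 := by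
    rw [card_erase_of_mem (mem_filter.2 ⟨mem_univ ξ, hξ⟩), Nat.card_eq_fintype_card,
      Fintype.card_subtype]
  have hlow : (((univ.filter (· ∈ B)).erase ξ).card : ℤ) ≤
      ∑ ψ ∈ (univ.filter (· ∈ B)).erase ξ, redInt p B ξ ψ ^ 2 := by
    rw [card_eq_sum_ones, Nat.cast_sum]
    refine sum_le_sum fun ψ hψ => ?_
    have hne := redInt_ne_zero hM hB hξ (mem_filter.1 (mem_of_mem_erase hψ)).2 h0
    have : 0 < redInt p B ξ ψ ^ 2 := by positivity
    omega
  have hB1 : 1 ≤ Nat.card B := Nat.one_le_iff_ne_zero.2 (Nat.card_ne_zero.2 ⟨⟨⟨ξ, hξ⟩⟩, inferInstance⟩)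
  rw [hcard, Nat.cast_sub hB1, Nat.cast_one] at hlow
  have key : 4 * (Nat.card B : ℤ) ≤ ((p : ℤ) ^ blockDefect p B) ^ 2 + 4 := by
    nlinarith [sq_nonneg (2 * redInt p B ξ ξ - (p : ℤ) ^ blockDefect p B)]
  rw [mul_comm 2 (blockDefect p B), pow_mul]
  exact_mod_cast key

/-- A character of positive height has height at most `d - 2`. -/
theorem height_add_two_le (hM : IsPModular p M) (hB : IsPBlock M B) {χ : IrrCharacter G}
    (hχ : χ ∈ B) (hpos : blockHeight p B (χ : G → ℂ) ≠ 0) :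
    blockHeight p B (χ : G → ℂ) + 2 ≤ blockDefect p B := by
  classical
  letI := irrFintype (G := G)
  obtain ⟨ξ, hξ, h0⟩ := exists_height_zero hM hB
  have hne : ξ ≠ χ := fun h => hpos (h ▸ h0)
  set m := redInt p B χ χ
  set d := blockDefect p B
  set h := blockHeight p B (χ : G → ℂ)
  have hoff : redInt p B χ ξ ≠ 0 := by
    rw [redInt_comm]; exact redInt_ne_zero hM hB hξ hχ h0
  have hm : (p : ℤ) ^ (h + 1) ∣ m := (pow_dvd_redInt hM hB hχ hχ).2.2 hpos
  have hs := redInt_sum_sq hM hB hχ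
  rw [← add_sum_erase _ _ (mem_filter.2 ⟨mem_univ χ, hχ⟩)] at hs
  have hoffpos : (0 : ℤ) < ∑ ψ ∈ (univ.filter (· ∈ B)).erase χ, redInt p B χ ψ ^ 2 :=
    lt_of_lt_of_le (by positivity : (0 : ℤ) < redInt p B χ ξ ^ 2)
      (single_le_sum (fun ψ _ => sq_nonneg (redInt p B χ ψ))
        (mem_erase.2 ⟨hne, mem_filter.2 ⟨mem_univ ξ, hξ⟩⟩))
  have hlt : m * m < (p : ℤ) ^ d * m := by
    change m ^ 2 + _ = (p : ℤ) ^ d * m at hs
    nlinarith
  have hpd : (0 : ℤ) < (p : ℤ) ^ d := pow_pos (Int.natCast_pos.2 hM.1.pos) d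
  have hm0 : 0 < m := by nlinarith [mul_self_nonneg m]
  have hmd : m < (p : ℤ) ^ d := lt_of_mul_lt_mul_right hlt hm0.le
  have := lt_of_le_of_lt (Int.le_of_dvd hm0 hm) hmd
  have hh : h + 1 < d := (Nat.pow_lt_pow_iff_right hM.1.one_lt).1 (by exact_mod_cast this)
  omega

end CfsgLib.Block
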