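import Cfsg.Agent.Blocks.NormalSub

/-!
# Induced blocks

A map on integral class functions which is multiplicative modulo the local ideal is the central
character of a block. For `P C(P) ≤ H ≤ N(P)` the induced central characters are of this kind.
-/

namespace CfsgLib.Block

open Cfsg Finset CfsgLib.Block.Chr CfsgLib.Char
open scoped ComplexConjugate

set_option linter.unusedSectionVars false
set_option linter.style.haveILetI false

universe u

variable {G : Type u} [Group G] [Fintype G] {M : Ideal AlgInt} {p : ℕ}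

/-- Iterated convolution. -/
noncomputable def convPow (a : G → ℂ) : ℕ → G → ℂ
  | 0 => deltaOne
  | k + 1 => conv a (convPow a k)

theorem isClassFunction_convPow {a : G → ℂ} (ha : IsClassFunction G a) :
    ∀ k, IsClassFunction G (convPow a k)
  | 0 => isClassFunction_deltaOne
  | k + 1 => isClassFunction_conv ha (isClassFunction_convPow ha k)

theorem omega_convPow (χ : IrrCharacter G) {a : G → ℂ} (ha : IsClassFunction G a) :
    ∀ k, omega (χ : G → ℂ) (convPow a k) = omega (χ : G → ℂ) a ^ k
  | 0 => by rw [pow_zero]; exact omega_deltaOne χ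
  | k + 1 => by
    show omega (χ : G → ℂ) (conv a (convPow a k)) = _
    rw [omega_conv χ ha, omega_convPow χ ha k, pow_succ']

variable [M.IsPrime]

theorem isIntClass_convPow {a : G → ℂ} (ha : IsIntClass M a) :
    ∀ k, IsIntClass M (convPow a k)
  | 0 => isIntClass_deltaOne
  | k + 1 => isIntClass_conv ha (isIntClass_convPow ha k)

theorem isIntClass_add_smul {a b : G → ℂ} {c : ℂ} (ha : IsIntClass M a) (hb : IsIntClass M b)
    (hc : MemLocalRing M c) : IsIntClass M (a + c • b) :=
  ⟨fun g x => by
    show a (x * g * x⁻¹) + c * b (x * g * x⁻¹) = a g + c * b g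
    rw [ha.1 g x, hb.1 g x], fun g => memLocalRing_add (ha.2 g) (memLocalRing_mul hc (hb.2 g))⟩

/-- An integral class function with all central character values in the ideal is nilpotent modulo
the ideal. -/
theorem exists_convPow_mem_ideal (hM : IsPModular p M) {n : G → ℂ} (hn : IsIntClass M n)
    (h : ∀ χ : IrrCharacter G, MemLocalIdeal M (omega (χ : G → ℂ) n)) :
    ∃ k : ℕ, 0 < k ∧ ∀ g, MemLocalIdeal M (convPow n k g) := by
  classical
  letI := irrFintype (G := G)
  set a := (Nat.card G).factorization p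
  choose e he using fun χ : IrrCharacter G => exists_pow_dvd_of_memLocalIdeal hM (h χ) (a + 1)
  refine ⟨(∑ χ, e χ) + 1, Nat.succ_pos _, fun g => ?_⟩
  set k := (∑ χ, e χ) + 1
  rw [eq_sum_omega (isClassFunction_convPow hn.1 k) g, mul_sum]
  refine memLocalIdeal_sum fun χ _ => ?_
  rw [omega_convPow χ hn.1]
  obtain ⟨j, hj⟩ : ∃ j, k = e χ + j :=
    ⟨k - e χ, (Nat.add_sub_cancel' ((single_le_sum (fun i _ => Nat.zero_le (e i))
      (mem_univ χ)).trans (Nat.le_succ _))).symm⟩
  have hp0 : (p : ℂ) ≠ 0 := Nat.cast_ne_zero.2 hM.1.ne_zero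
  have hG : (Nat.card G : ℂ) ≠ 0 := Nat.cast_ne_zero.2 Nat.card_pos.ne'
  have e1 : (Nat.card G : ℂ)⁻¹ * ((χ : G → ℂ) 1 * omega (χ : G → ℂ) n ^ k * conj ((χ : G → ℂ) g)) =
      (p : ℂ) * ((((p ^ a : ℕ) : ℂ) / (Nat.card G : ℂ)) * ((χ : G → ℂ) 1) *
        (omega (χ : G → ℂ) n ^ e χ / (p : ℂ) ^ (a + 1)) * omega (χ : G → ℂ) n ^ j *
          (χ : G → ℂ) g⁻¹) := by
    rw [hj, pow_add, conj_irr]
    push_cast
    field_simp
    ring
  rw [e1]
  refine memLocalIdeal_mul_right (memLocalIdeal_p hM) ?_
  exact memLocalRing_mul (memLocalRing_mul (memLocalRing_mul (memLocalRing_mul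
    (pow_factorization_unit hM Nat.card_pos.ne') (irr_mem χ 1)) (he χ))
    ((localRing M).pow_mem (omega_mem χ hn) j)) (irr_mem χ _)

/-- An integral class function multiplicative map is a central character of some block. -/
theorem exists_block_of_hom (hM : IsPModular p M) (L : (G → ℂ) → ℂ)
    (hadd : ∀ a b, L (a + b) = L a + L b) (hsmul : ∀ (c : ℂ) a, L (c • a) = c * L a)
    (hmem : ∀ a, IsIntClass M a → MemLocalRing M (L a))
    (hideal : ∀ a, IsIntClass M a → (∀ g, MemLocalIdeal M (a g)) → MemLocalIdeal M (L a))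
    (hone : L deltaOne = 1)
    (hmul : ∀ a b, IsIntClass M a → IsIntClass M b →
      MemLocalIdeal M (L (conv a b) - L a * L b)) :
    ∃ B : Set (IrrCharacter G), IsPBlock M B ∧ ∀ χ ∈ B, ∀ a, IsIntClass M a →
      MemLocalIdeal M (L a - omega (χ : G → ℂ) a) := by
  classical
  letI := irrFintype (G := G)
  haveI : Fintype (Set (IrrCharacter G)) := Fintype.ofFinite _
  set 𝔅 := (univ : Finset (IrrCharacter G)).image fun χ : IrrCharacter G => blockOf M (χ : G → ℂ)
  have hblock : ∀ B ∈ 𝔅, IsPBlock M B := fun B hB => by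
    obtain ⟨χ, -, rfl⟩ := mem_image.1 hB
    exact isPBlock_blockOf χ
  have hsumB : (deltaOne : G → ℂ) = ∑ B ∈ 𝔅, blockCoeff B := by
    funext g
    have hcl : IsClassFunction G (∑ B ∈ 𝔅, blockCoeff B) := fun x y => by
      simp only [Finset.sum_apply]
      exact sum_congr rfl fun B _ => isClassFunction_blockCoeff B x y
    rw [eq_sum_omega isClassFunction_deltaOne g, eq_sum_omega hcl g]
    congr 1
    refine sum_congr rfl fun χ _ => ?_
    congr 2
    rw [omega_deltaOne]
    have : omega (χ : G → ℂ) (∑ B ∈ 𝔅, blockCoeff B) =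
        ∑ B ∈ 𝔅, omega (χ : G → ℂ) (blockCoeff B) := by
      simp only [omega, Finset.sum_apply, sum_mul, ← sum_div]
      rw [sum_comm]
    rw [this, sum_eq_single (blockOf M (χ : G → ℂ))]
    · rw [omega_blockCoeff, if_pos (mem_blockOf_self χ)]
    · intro B hB hne
      rw [omega_blockCoeff, if_neg fun h => hne (eq_blockOf_of_mem (hblock B hB) h)]
    · exact fun h => absurd (mem_image_of_mem _ (mem_univ χ)) h
  have hLsum : L deltaOne = ∑ B ∈ 𝔅, L (blockCoeff B) := by
    rw [hsumB]
    exact map_sum (AddMonoidHom.mk' L hadd) _ _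
  obtain ⟨B, hB, hBu⟩ : ∃ B ∈ 𝔅, ¬ MemLocalIdeal M (L (blockCoeff B)) := by
    by_contra hne
    push Not at hne
    exact not_memLocalIdeal_one (M := M) (hone ▸ hLsum ▸ memLocalIdeal_sum hne)
  have hBP := hblock B hB
  refine ⟨B, hBP, fun χ hχ a ha => ?_⟩
  set e := blockCoeff B
  have he := isIntClass_blockCoeff hBP
  set c := omega (χ : G → ℂ) a
  have hc := omega_mem (M := M) χ ha
  set n := conv a e + (-c) • e with hn
  have hnI : IsIntClass M n := by
    refine ⟨fun g x => ?_, fun g => ?_⟩
    · show conv a (blockCoeff B) (x * g * x⁻¹) + -c * blockCoeff B (x * g * x⁻¹) =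
        conv a (blockCoeff B) g + -c * blockCoeff B g
      rw [isClassFunction_conv ha.1 he.1 g x, he.1 g x]
    · exact memLocalRing_add ((isIntClass_conv ha he).2 g)
        (memLocalRing_mul (memLocalRing_neg hc) (he.2 g))
  have hωn : ∀ ψ : IrrCharacter G, MemLocalIdeal M (omega (ψ : G → ℂ) n) := by
    intro ψ
    rw [hn, omega_add, omega_smul, omega_conv ψ ha.1, omega_blockCoeff]
    split_ifs with hψ
    · rw [mul_one, mul_one, ← sub_eq_add_neg]
      exact omega_cong (sameBlock_of_mem hBP hψ hχ) ha
    · simpa using memLocalIdeal_zero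
  obtain ⟨k, -, hk⟩ := exists_convPow_mem_ideal hM hnI hωn
  have hpow : ∀ j, MemLocalIdeal M (L (convPow n j) - L n ^ j) := by
    intro j
    induction j with
    | zero => show MemLocalIdeal M (L deltaOne - _); rw [hone]; simpa using memLocalIdeal_zero
    | succ j ih =>
      refine memLocalIdeal_sub_trans (y := L n * L (convPow n j))
        (hmul n _ hnI (isIntClass_convPow hnI j)) ?_
      rw [pow_succ', ← mul_sub]
      exact memLocalIdeal_mul_left (hmem n hnI) ih
  have hLn : MemLocalIdeal M (L n) := by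
    by_contra hu
    have h2 : ∀ j, ¬ MemLocalIdeal M (L n ^ j) := by
      intro j
      induction j with
      | zero => simpa using not_memLocalIdeal_one
      | succ j ih =>
        rw [pow_succ']
        exact not_memLocalIdeal_mul (hmem n hnI) hu ih
    exact h2 k ((memLocalIdeal_iff_of_cong (hpow k)).1
      (hideal _ (isIntClass_convPow hnI k) hk))
  have hexp : L n = L (conv a e) - c * L e := by rw [hn, hadd, hsmul]; ring
  have key : MemLocalIdeal M (L a * L e - c * L e) :=
    memLocalIdeal_sub_trans (memLocalIdeal_sub_comm (hmul a e ha he)) (hexp ▸ hLn)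
  rw [← sub_mul] at key
  have h3 := memLocalIdeal_mul_right key (memLocalRing_inv (hmem e he) hBu)
  rwa [mul_assoc, mul_inv_cancel₀ (ne_zero_of_not_memLocalIdeal hBu), mul_one] at h3

variable (H : Subgroup G)

/-- The restriction of a function to a subgroup. -/
def resFun (a : G → ℂ) : H → ℂ := fun h => a h

theorem isIntClass_resFun {a : G → ℂ} (ha : IsIntClass M a) : IsIntClass M (resFun H a) :=
  ⟨fun h x => by simpa [resFun] using ha.1 (h : G) (x : G), fun h => ha.2 _⟩

variable [Fintype H]

theorem inducedCentralChar_eq (ξ : H → ℂ) (g : G) :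
    inducedCentralChar H ξ g = omega ξ (resFun H (classInd g)) := by
  classical
  rw [inducedCentralChar, omega, finsum_mem_eq_sum_of_inter_support_eq
    (t := univ.filter (fun h : H => IsConj g (h : G))) _ (by ext; simp), sum_div, sum_filter]
  refine sum_congr rfl fun h _ => ?_
  by_cases hc : IsConj g (h : G)
  · rw [if_pos hc, resFun, classInd_of_isConj hc, one_mul]
  · rw [if_neg hc, resFun, classInd_of_not_isConj hc, zero_mul, zero_div]

theorem sameBlock_of_omega {χ ψ : IrrCharacter G}
    (h : ∀ g, MemLocalIdeal M (omega (χ : G → ℂ) (classInd g) - omega (ψ : G → ℂ) (classInd g))) :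
    SameBlock M (χ : G → ℂ) (ψ : G → ℂ) := fun g => by
  rw [← omega_classInd, ← omega_classInd]; exact h g

/-- The induced central characters extend linearly. -/
theorem induced_cong {ξ : IrrCharacter H} {χ : IrrCharacter G}
    (h : ∀ g, MemLocalIdeal M (inducedCentralChar H (ξ : H → ℂ) g - centralChar (χ : G → ℂ) g))
    {a : G → ℂ} (ha : IsIntClass M a) :
    MemLocalIdeal M (omega (ξ : H → ℂ) (resFun H a) - omega (χ : G → ℂ) a) := by
  classical
  have hexp : ∀ x : G, a x = ∑ C : ConjClasses G, a C.out * classInd C.out x := by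
    intro x
    rw [sum_eq_single (ConjClasses.mk x)]
    · have hc : IsConj (ConjClasses.mk x).out x :=
        ConjClasses.mk_eq_mk_iff_isConj.1 (Quotient.out_eq (ConjClasses.mk x))
      rw [classInd_of_isConj hc, mul_one]
      obtain ⟨c, hc⟩ := isConj_iff.1 hc
      nth_rewrite 1 [← hc]
      exact ha.1 _ _
    · intro C _ hC
      rw [classInd_of_not_isConj, mul_zero]
      intro hc
      refine hC ?_
      rw [← Quotient.out_eq C]
      exact ConjClasses.mk_eq_mk_iff_isConj.2 hc
    · simp
  have h1 : omega (ξ : H → ℂ) (resFun H a) =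
      ∑ C : ConjClasses G, a C.out * omega (ξ : H → ℂ) (resFun H (classInd C.out)) := by
    simp only [omega, resFun, ← mul_div_assoc, mul_sum, ← sum_div]
    congr 1
    rw [sum_comm]
    refine sum_congr rfl fun x _ => ?_
    rw [hexp (x : G), sum_mul]
    exact sum_congr rfl fun C _ => by ring
  rw [h1, omega_eq_sum_classes χ ha.1, ← sum_sub_distrib]
  refine memLocalIdeal_sum fun C _ => ?_
  rw [← mul_sub, ← inducedCentralChar_eq]
  exact memLocalIdeal_mul_left (ha.2 _) (h _)

omit [Fintype G] in
theorem omega_mem_ideal {ξ : IrrCharacter H} {n : H → ℂ} (hn : IsIntClass M n)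
    (h : ∀ w : H, MemLocalIdeal M (n w) ∨ MemLocalIdeal M (centralChar (ξ : H → ℂ) w)) :
    MemLocalIdeal M (omega (ξ : H → ℂ) n) := by
  classical
  rw [omega_eq_sum_classes ξ hn.1]
  refine memLocalIdeal_sum fun C _ => ?_
  rcases h C.out with h | h
  · exact memLocalIdeal_mul_right h (centralChar_mem ξ _)
  · exact memLocalIdeal_mul_left (hn.2 _) h

variable {H} {P : Subgroup G}

/-- For `P C(P) ≤ H ≤ N(P)` a block of `H` has an induced block. -/
theorem exists_induced (hM : IsPModular p M) (hP : IsPGroup p P) (hPH : P ≤ H)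
    (hCH : Subgroup.centralizer (P : Set G) ≤ H) (hHN : H ≤ Subgroup.normalizer (P : Set G))
    {b : Set (IrrCharacter H)} (hb : IsPBlock M b) : InducedBlockDefined M H b := by
  classical
  obtain ⟨ξ, hξ⟩ := exists_mem_block hb
  haveI : (P.subgroupOf H).Normal := by
    rwa [← Subgroup.normal_subgroupOf_iff_le_normalizer hPH] at hHN
  have hPsub : IsPGroup p (P.subgroupOf H) :=
    hP.of_equiv (Subgroup.subgroupOfEquivOfLe hPH).symm
  let L : (G → ℂ) → ℂ := fun a => omega (ξ : H → ℂ) (resFun H a)
  have hnum : ∀ w : H, w ∈ Subgroup.centralizer ((P.subgroupOf H : Subgroup H) : Set H) →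
      (w : G) ∈ Subgroup.centralizer (P : Set G) := by
    intro w hw
    rw [Subgroup.mem_centralizer_iff] at hw ⊢
    intro u hu
    exact congrArg (Subtype.val : H → G) (hw ⟨u, hPH hu⟩ hu)
  have hone : L deltaOne = 1 := by
    rw [show L deltaOne = omega (ξ : H → ℂ) (deltaOne : H → ℂ) from ?_, omega_deltaOne]
    refine congrArg (omega (ξ : H → ℂ)) (funext fun w => ?_)
    by_cases hw : w = 1
    · subst hw; simp [resFun, deltaOne_one]
    · rw [deltaOne_of_ne hw, resFun, deltaOne_of_ne fun hc => hw (Subtype.ext hc)]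
  obtain ⟨B, hB, hL⟩ := exists_block_of_hom hM L
    (fun a b => by show omega _ _ = _; exact omega_add (ξ : H → ℂ) (resFun H a) (resFun H b))
    (fun c a => omega_smul (ξ : H → ℂ) c (resFun H a))
    (fun a ha => omega_mem ξ (isIntClass_resFun H ha))
    (fun a ha hI => omega_mem_ideal H (isIntClass_resFun H ha) fun w => Or.inl (hI _))
    hone (fun a b ha hb' => by
      have h1 : L (conv a b) - L a * L b =
          omega (ξ : H → ℂ) (resFun H (conv a b) + (-1 : ℂ) • conv (resFun H a) (resFun H b)) := by
        rw [omega_add, omega_smul, omega_conv ξ (isIntClass_resFun (M := M) H ha).1]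
        show L (conv a b) - L a * L b = L (conv a b) + _
        ring
      rw [h1]
      refine omega_mem_ideal H ⟨fun g x => ?_, fun g => ?_⟩ fun w => ?_
      · simp only [Pi.add_apply, Pi.smul_apply,
          (isIntClass_resFun (M := M) H (isIntClass_conv ha hb')).1 g x,
          isClassFunction_conv (isIntClass_resFun (M := M) H ha).1
            (isIntClass_resFun (M := M) H hb').1 g x]
      · refine memLocalRing_add ((isIntClass_resFun H (isIntClass_conv ha hb')).2 g) ?_
        simpa using memLocalRing_neg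
          ((isIntClass_conv (isIntClass_resFun H ha) (isIntClass_resFun H hb')).2 g)
      by_cases hw : w ∈ Subgroup.centralizer ((P.subgroupOf H : Subgroup H) : Set H)
      · refine Or.inl ?_
        have hG := conv_cong hM ha hb' hP (hnum w hw)
        have hH := conv_cong hM (isIntClass_resFun H ha) (isIntClass_resFun H hb') hPsub hw
        have hsum : ∑ g ∈ univ.filter (· ∈ Subgroup.centralizer ((P.subgroupOf H : Subgroup H) : Set H)),
            resFun H a g * resFun H b (g⁻¹ * w) =
            ∑ g ∈ univ.filter (· ∈ Subgroup.centralizer (P : Set G)), a g * b (g⁻¹ * (w : G)) := by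
          refine sum_bij (fun g _ => (g : G)) (fun g hg => ?_)
            (fun g _ g' _ h => Subtype.ext h) (fun g hg => ?_) (fun g _ => rfl)
          · exact mem_filter.2 ⟨mem_univ _, hnum g (mem_filter.1 hg).2⟩
          · refine ⟨⟨g, hCH (mem_filter.1 hg).2⟩, mem_filter.2 ⟨mem_univ _, ?_⟩, rfl⟩
            rw [Subgroup.mem_centralizer_iff]
            intro u hu
            exact Subtype.ext (Subgroup.mem_centralizer_iff.1 (mem_filter.1 hg).2 (u : G) hu)
        rw [hsum] at hH
        simp only [Pi.add_apply, Pi.smul_apply, smul_eq_mul, neg_one_mul, ← sub_eq_add_neg]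
        exact memLocalIdeal_sub_trans hG (memLocalIdeal_sub_comm hH)
      · exact Or.inr (centralChar_mem_ideal_of_normal hM (P.subgroupOf H) hPsub ξ hw))
  refine ⟨B, hb, hB, fun ξ' hξ' χ hχ g => ?_⟩
  have h1 := hL χ hχ (classInd g) (isIntClass_classInd g)
  rw [omega_classInd] at h1
  rw [inducedCentralChar_eq]
  exact memLocalIdeal_sub_trans (omega_cong (sameBlock_of_mem hb hξ' hξ)
    (isIntClass_resFun H (isIntClass_classInd g))) h1

theorem induced_unique {b : Set (IrrCharacter H)} {B B' : Set (IrrCharacter G)}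
    (h : IsInducedBlock M H b B) (h' : IsInducedBlock M H b B') : B = B' := by
  obtain ⟨ξ, hξ⟩ := exists_mem_block h.1
  obtain ⟨χ, hχ⟩ := exists_mem_block h.2.1
  obtain ⟨χ', hχ'⟩ := exists_mem_block h'.2.1
  refine block_eq_of_common h.2.1 h'.2.1 hχ ?_
  refine (sameBlock_iff_mem h'.2.1 hχ').2 fun g => ?_
  exact memLocalIdeal_sub_trans (memLocalIdeal_sub_comm (h'.2.2 ξ hξ χ' hχ' g)) (h.2.2 ξ hξ χ hχ g)

/-- The Brauer central character agrees with the induced one modulo the local ideal. -/
theorem brauerCentralChar_cong (hM : IsPModular p M) (hP : IsPGroup p P) (hPH : P ≤ H)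
    (hHN : H ≤ Subgroup.normalizer (P : Set G)) (ξ : IrrCharacter H) (g : G) :
    MemLocalIdeal M (brauerCentralChar P H (ξ : H → ℂ) g -
      inducedCentralChar H (ξ : H → ℂ) g) := by
  classical
  haveI : (P.subgroupOf H).Normal := by
    rwa [← Subgroup.normal_subgroupOf_iff_le_normalizer hPH] at hHN
  have hPsub : IsPGroup p (P.subgroupOf H) :=
    hP.of_equiv (Subgroup.subgroupOfEquivOfLe hPH).symm
  have hcent : ∀ w : H, (w : G) ∈ Subgroup.centralizer (P : Set G) ↔
      w ∈ Subgroup.centralizer ((P.subgroupOf H : Subgroup H) : Set H) := by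
    intro w
    rw [Subgroup.mem_centralizer_iff, Subgroup.mem_centralizer_iff]
    exact ⟨fun h u hu => Subtype.ext (h (u : G) hu),
      fun h u hu => congrArg (Subtype.val : H → G) (h ⟨u, hPH hu⟩ hu)⟩
  let a : H → ℂ := fun w =>
    if IsConj g (w : G) ∧ (w : G) ∈ Subgroup.centralizer (P : Set G) then 1 else 0
  have hacl : IsClassFunction H a := by
    intro w x
    have h1 : IsConj g ((x * w * x⁻¹ : H) : G) ↔ IsConj g (w : G) := by
      have hc : IsConj (w : G) ((x * w * x⁻¹ : H) : G) := isConj_iff.2 ⟨(x : G), by simp⟩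
      exact ⟨fun h => h.trans hc.symm, fun h => h.trans hc⟩
    have hCN : (Subgroup.centralizer ((P.subgroupOf H : Subgroup H) : Set H)).Normal :=
      inferInstance
    have h2 : x * w * x⁻¹ ∈ Subgroup.centralizer ((P.subgroupOf H : Subgroup H) : Set H) ↔
        w ∈ Subgroup.centralizer ((P.subgroupOf H : Subgroup H) : Set H) :=
      ⟨fun h => by simpa [mul_assoc] using hCN.conj_mem _ h x⁻¹, fun h => hCN.conj_mem _ h x⟩
    simp only [a, h1, hcent, h2]
  have e1 : brauerCentralChar P H (ξ : H → ℂ) g = omega (ξ : H → ℂ) a := by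
    rw [brauerCentralChar, omega, finsum_mem_eq_sum_of_inter_support_eq
      (t := univ.filter (fun h : H => IsConj g (h : G) ∧ (h : G) ∈ Subgroup.centralizer (P : Set G)))
        _ (by ext; simp), sum_div, sum_filter]
    refine sum_congr rfl fun w _ => ?_
    simp only [a]
    by_cases hw : IsConj g (w : G) ∧ (w : G) ∈ Subgroup.centralizer (P : Set G)
    · rw [if_pos hw, if_pos hw, one_mul]
    · rw [if_neg hw, if_neg hw, zero_mul, zero_div]
  rw [e1, inducedCentralChar_eq]
  have e2 : omega (ξ : H → ℂ) a - omega (ξ : H → ℂ) (resFun H (classInd g)) =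
      omega (ξ : H → ℂ) (a + (-1 : ℂ) • resFun H (classInd g)) := by
    rw [omega_add, omega_smul]; ring
  have hres := isIntClass_resFun (M := M) H (isIntClass_classInd g)
  rw [e2]
  refine omega_mem_ideal H ⟨fun w x => by
    simp only [Pi.add_apply, Pi.smul_apply, hacl w x, hres.1 w x], fun w => ?_⟩ fun w => ?_
  · refine memLocalRing_add ?_ (memLocalRing_mul (memLocalRing_neg memLocalRing_one) (hres.2 w))
    simp only [a]; split_ifs
    · exact memLocalRing_one
    · exact memLocalRing_zero
  · by_cases hw : (w : G) ∈ Subgroup.centralizer (P : Set G)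
    · refine Or.inl ?_
      have : (a + (-1 : ℂ) • resFun H (classInd g)) w = 0 := by
        by_cases hc : IsConj g (w : G)
        · simp only [a, Pi.add_apply, Pi.smul_apply, resFun, classInd_of_isConj hc]
          rw [if_pos ⟨hc, hw⟩]; simp
        · simp only [a, Pi.add_apply, Pi.smul_apply, resFun, classInd_of_not_isConj hc]
          rw [if_neg fun h => hc h.1]; simp
      rw [this]; exact memLocalIdeal_zero
    · exact Or.inr (centralChar_mem_ideal_of_normal hM (P.subgroupOf H) hPsub ξ
        (mt (hcent w).2 hw))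

end CfsgLib.Block
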