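import Cfsg.Agent.Blocks.BlockCount
import Cfsg.Agent.Blocks.Induced
import Cfsg.Agent.Blocks.BrauerFeit
import Cfsg.Agent.Blocks.Congr

/-!
# The Brauer correspondence

Defect groups of induced blocks, elements on which central characters do not vanish modulo the
local ideal, and Brauer's first main theorem.
-/

namespace CfsgLib.Block

open Cfsg Finset CfsgLib.Block.Chr CfsgLib.Char
open scoped ComplexConjugate

set_option linter.unusedSectionVars false
set_option linter.style.haveILetI false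

universe u

variable {G : Type u} [Group G] [Fintype G] {M : Ideal AlgInt} [M.IsPrime] {p : ℕ}

theorem exists_of_omega {χ : IrrCharacter G} {a : G → ℂ} (ha : IsIntClass M a)
    (h : ¬ MemLocalIdeal M (omega (χ : G → ℂ) a)) :
    ∃ w, ¬ MemLocalIdeal M (a w) ∧ ¬ MemLocalIdeal M (centralChar (χ : G → ℂ) w) := by
  classical
  by_contra hne
  push Not at hne
  refine h ?_
  rw [omega_eq_sum_classes χ ha.1]
  refine memLocalIdeal_sum fun C _ => ?_
  by_cases hC : MemLocalIdeal M (a C.out)
  · exact memLocalIdeal_mul_right hC (centralChar_mem χ _)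
  · exact memLocalIdeal_mul_left (ha.2 _) (hne _ hC)

theorem irr_apply_ne_zero_of_centralChar {χ : IrrCharacter G} {g : G}
    (h : ¬ MemLocalIdeal M (centralChar (χ : G → ℂ) g)) : (χ : G → ℂ) g ≠ 0 := fun h0 =>
  h (by rw [centralChar, h0, mul_zero, zero_div]; exact memLocalIdeal_zero)

variable {H : Subgroup G} [Fintype H]

theorem omega_res_blockCoeff {b : Set (IrrCharacter H)} {B : Set (IrrCharacter G)}
    (hind : IsInducedBlock M H b B) {ξ : IrrCharacter H} (hξ : ξ ∈ b)
    {B' : Set (IrrCharacter G)} (hB' : IsPBlock M B') [Decidable (B' = B)] :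
    MemLocalIdeal M (omega (ξ : H → ℂ) (resFun H (blockCoeff B')) - if B' = B then 1 else 0) := by
  classical
  obtain ⟨χ, hχ⟩ := exists_mem_block hind.2.1
  have h := induced_cong H (hind.2.2 ξ hξ χ hχ) (isIntClass_blockCoeff hB')
  rw [omega_blockCoeff] at h
  by_cases hBB : B' = B
  · subst hBB
    rw [if_pos hχ] at h
    rwa [if_pos rfl]
  · rw [if_neg fun h' => hBB (block_eq_of_common hB' hind.2.1 h' hχ)] at h
    rwa [if_neg hBB]

/-- A defect group of a block is contained in a defect group of the induced block. -/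
theorem defectGroup_le_induced (hM : IsPModular p M) {b : Set (IrrCharacter H)}
    {B : Set (IrrCharacter G)} (hind : IsInducedBlock M H b B) {D : Subgroup H}
    (hD : IsDefectGroup p M b D) :
    ∃ E : Subgroup G, IsDefectGroup p M B E ∧ D.map H.subtype ≤ E := by
  classical
  obtain ⟨ξ, hξ⟩ := exists_mem_block hind.1
  have hne : ¬ MemLocalIdeal M (omega (ξ : H → ℂ) (resFun H (blockCoeff B))) := by
    intro h
    have h1 := memLocalIdeal_sub h (omega_res_blockCoeff hind hξ hind.2.1)
    rw [if_pos rfl, sub_sub_cancel] at h1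
    exact not_memLocalIdeal_one h1
  obtain ⟨h, hh1, hh2⟩ :=
    exists_of_omega (isIntClass_resFun H (isIntClass_blockCoeff hind.2.1)) hne
  obtain ⟨x, hx⟩ := exists_defectGroup_le_centralizer hM hind.1 ⟨ξ, hξ, hh2⟩ hD
  have hh' : ((x⁻¹ * h * x : H) : G) ∈ Subgroup.centralizer ((D.map H.subtype : Subgroup G) : Set G) := by
    rw [Subgroup.mem_centralizer_iff]
    rintro _ ⟨u, hu, rfl⟩
    have hc : x * u * x⁻¹ * h = h * (x * u * x⁻¹) :=
      Subgroup.mem_centralizer_singleton_iff.1 (hx ⟨u, hu, rfl⟩)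
    have : u * (x⁻¹ * h * x) = x⁻¹ * h * x * u := by
      calc u * (x⁻¹ * h * x) = x⁻¹ * (x * u * x⁻¹ * h) * x := by group
        _ = x⁻¹ * (h * (x * u * x⁻¹)) * x := by rw [hc]
        _ = x⁻¹ * h * x * u := by group
    exact congrArg (Subtype.val : H → G) this
  refine exists_defectGroup_ge hM hind.2.1 (h := ((x⁻¹ * h * x : H) : G)) ?_
    ((isPGroup_defectGroup hD).map H.subtype) hh'
  have hcl := (isClassFunction_blockCoeff (G := G) B) (h : G) (x : G)⁻¹
  have : ((x⁻¹ * h * x : H) : G) = (x : G)⁻¹ * (h : G) * (x : G)⁻¹⁻¹ := by simp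
  rw [this, hcl]
  exact hh1

variable {P : Subgroup G}

theorem centralizer_subgroupOf_iff (hPH : P ≤ H) (w : H) :
    w ∈ Subgroup.centralizer ((P.subgroupOf H : Subgroup H) : Set H) ↔
      (w : G) ∈ Subgroup.centralizer (P : Set G) := by
  rw [Subgroup.mem_centralizer_iff, Subgroup.mem_centralizer_iff]
  exact ⟨fun h u hu => congrArg (Subtype.val : H → G) (h ⟨u, hPH hu⟩ hu),
    fun h u hu => Subtype.ext (h (u : G) hu)⟩

theorem conv_res_cong (hM : IsPModular p M) (hP : IsPGroup p P) (hPH : P ≤ H)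
    (hCH : Subgroup.centralizer (P : Set G) ≤ H) {a b : G → ℂ} (ha : IsIntClass M a)
    (hb : IsIntClass M b) {c : H → ℂ} (hc : IsIntClass M c)
    (hcb : ∀ w : H, (w : G) ∈ Subgroup.centralizer (P : Set G) →
      MemLocalIdeal M (c w - b w))
    {w : H} (hw : (w : G) ∈ Subgroup.centralizer (P : Set G)) :
    MemLocalIdeal M (conv (resFun H a) c w - conv a b (w : G)) := by
  classical
  have hPsub : IsPGroup p (P.subgroupOf H) :=
    hP.of_equiv (Subgroup.subgroupOfEquivOfLe hPH).symm
  have hG := conv_cong hM ha hb hP hw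
  have hH := conv_cong hM (isIntClass_resFun H ha) hc hPsub
    ((centralizer_subgroupOf_iff hPH w).2 hw)
  refine memLocalIdeal_sub_trans hH (memLocalIdeal_sub_trans ?_ (memLocalIdeal_sub_comm hG))
  have hsum : ∑ g ∈ univ.filter (· ∈ Subgroup.centralizer ((P.subgroupOf H : Subgroup H) : Set H)),
      resFun H a g * resFun H b (g⁻¹ * w) =
      ∑ g ∈ univ.filter (· ∈ Subgroup.centralizer (P : Set G)), a g * b (g⁻¹ * (w : G)) := by
    refine sum_bij (fun g _ => (g : G)) (fun g hg => ?_)
      (fun g _ g' _ h => Subtype.ext h) (fun g hg => ?_) (fun g _ => rfl)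
    · exact mem_filter.2 ⟨mem_univ _, (centralizer_subgroupOf_iff hPH g).1 (mem_filter.1 hg).2⟩
    · exact ⟨⟨g, hCH (mem_filter.1 hg).2⟩, mem_filter.2 ⟨mem_univ _,
        (centralizer_subgroupOf_iff hPH _).2 (mem_filter.1 hg).2⟩, rfl⟩
  rw [← hsum, ← sum_sub_distrib]
  refine memLocalIdeal_sum fun g hg => ?_
  rw [← mul_sub]
  refine memLocalIdeal_mul_left (ha.2 _) (hcb _ ?_)
  rw [Subgroup.coe_mul, Subgroup.coe_inv]
  exact mul_mem (inv_mem ((centralizer_subgroupOf_iff hPH g).1 (mem_filter.1 hg).2)) hw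

theorem conv_deltaOne_right (a : G → ℂ) : conv a deltaOne = a := by
  funext x
  rw [conv, sum_eq_single x]
  · rw [inv_mul_cancel, deltaOne_one, mul_one]
  · intro g _ hg
    rw [deltaOne_of_ne fun h => hg (inv_mul_eq_one.1 h), mul_zero]
  · simp

/-- A block having a defect group containing a conjugate of `P` is induced from `H`. -/
theorem exists_inducing (hM : IsPModular p M) (hP : IsPGroup p P) (hPH : P ≤ H)
    (hCH : Subgroup.centralizer (P : Set G) ≤ H) (hHN : H ≤ Subgroup.normalizer (P : Set G))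
    {B : Set (IrrCharacter G)} (hB : IsPBlock M B) {D : Subgroup G}
    (hD : IsDefectGroup p M B D) {x : G} (hx : P.map (MulAut.conj x).toMonoidHom ≤ D) :
    ∃ b : Set (IrrCharacter H), IsInducedBlock M H b B := by
  classical
  obtain ⟨g, hg, hgD, -⟩ := (isDefectGroup_iff hM hB).1 hD
  have hh : x⁻¹ * g * x ∈ Subgroup.centralizer (P : Set G) := by
    rw [Subgroup.mem_centralizer_iff]
    intro u hu
    have := Subgroup.mem_centralizer_iff.1 hgD (x * u * x⁻¹) (hx ⟨u, hu, rfl⟩)
    calc u * (x⁻¹ * g * x) = x⁻¹ * (x * u * x⁻¹ * g) * x := by group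
      _ = x⁻¹ * (g * (x * u * x⁻¹)) * x := by rw [this]
      _ = x⁻¹ * g * x * u := by group
  set e := blockCoeff B with he_def
  have he : IsIntClass M e := isIntClass_blockCoeff (M := M) hB
  have heh : ¬ MemLocalIdeal M (e (x⁻¹ * g * x)) := by
    have := he.1 g x⁻¹
    rw [inv_inv] at this
    rw [this]
    exact hg.2.1
  set a := resFun H e
  have ha := isIntClass_resFun (M := M) H he
  obtain ⟨ξ, hξ⟩ : ∃ ξ : IrrCharacter H, ¬ MemLocalIdeal M (omega (ξ : H → ℂ) a) := by
    by_contra hne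
    push Not at hne
    obtain ⟨k, hk, hkI⟩ := exists_convPow_mem_ideal hM ha hne
    have hpow : ∀ j, ∀ w : H, (w : G) ∈ Subgroup.centralizer (P : Set G) →
        MemLocalIdeal M (convPow a (j + 1) w - e w) := by
      intro j
      induction j with
      | zero =>
        intro w _
        show MemLocalIdeal M (conv a (convPow a 0) w - a w)
        rw [show convPow a 0 = deltaOne from rfl, conv_deltaOne_right, sub_self]
        exact memLocalIdeal_zero
      | succ j ih =>
        intro w hw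
        have := conv_res_cong hM hP hPH hCH he he (isIntClass_convPow ha (j + 1)) ih hw
        rw [conv_blockCoeff_self] at this
        exact this
    obtain ⟨j, rfl⟩ := Nat.exists_eq_succ_of_ne_zero hk.ne'
    exact heh ((memLocalIdeal_iff_of_cong (hpow j ⟨_, hCH hh⟩ hh)).1 (hkI _))
  refine ⟨blockOf M (ξ : H → ℂ), ?_⟩
  obtain ⟨B', hind⟩ := exists_induced hM hP hPH hCH hHN (isPBlock_blockOf (M := M) ξ)
  by_cases hBB : B = B'
  · rwa [hBB]
  · have := omega_res_blockCoeff hind (mem_blockOf_self ξ) hB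
    rw [if_neg hBB, sub_zero] at this
    exact absurd this hξ

/-- For `P C(P) ≤ H ≤ N(P)` and `P` a defect group of the induced block, `P` is the defect group of
the inducing block. -/
theorem eq_defectGroup_of_induced (hM : IsPModular p M) (hPH : P ≤ H)
    (hHN : H ≤ Subgroup.normalizer (P : Set G)) {B : Set (IrrCharacter G)}
    (hP : IsDefectGroup p M B P) {b : Set (IrrCharacter H)} (hind : IsInducedBlock M H b B)
    {D : Subgroup H} (hD : IsDefectGroup p M b D) : D = P.subgroupOf H := by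
  classical
  haveI : (P.subgroupOf H).Normal := by
    rwa [← Subgroup.normal_subgroupOf_iff_le_normalizer hPH] at hHN
  have h1 : P.subgroupOf H ≤ D := normal_le_defectGroup hM hind.1 hD _
    ((isPGroup_defectGroup hP).of_equiv (Subgroup.subgroupOfEquivOfLe hPH).symm)
  obtain ⟨E, hE, hle⟩ := defectGroup_le_induced hM hind hD
  refine (Subgroup.eq_of_le_of_card_ge h1 ?_).symm
  rw [Nat.card_congr (Subgroup.subgroupOfEquivOfLe hPH).toEquiv, card_defectGroup hM hind.2.1 hP,
    ← card_defectGroup hM hind.2.1 hE,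
    Nat.card_congr (D.equivMapOfInjective H.subtype H.subtype_injective).toEquiv]
  exact Subgroup.card_le_of_le hle

theorem isDefectGroup_of_induced (hM : IsPModular p M) (hPH : P ≤ H)
    (hHN : H ≤ Subgroup.normalizer (P : Set G)) {B : Set (IrrCharacter G)}
    (hP : IsDefectGroup p M B P) {b : Set (IrrCharacter H)} (hind : IsInducedBlock M H b B) :
    IsDefectGroup p M b (P.subgroupOf H) := by
  obtain ⟨D, hD⟩ := exists_defectGroup (M := M) hind.1 hM
  exact eq_defectGroup_of_induced hM hPH hHN hP hind hD ▸ hD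

omit [Fintype H] in
/-- An element at which a central character does not vanish modulo the ideal has a conjugate
centralizing a given defect group with `p`-part in its centre. -/
theorem exists_conj_pPart_mem (hM : IsPModular p M) {B : Set (IrrCharacter G)}
    (hB : IsPBlock M B) {P : Subgroup G} (hP : IsDefectGroup p M B P) {g : G}
    (hg : ∃ χ ∈ B, ¬ MemLocalIdeal M (centralChar (χ : G → ℂ) g)) :
    ∃ x : G, IsConj g x ∧ x ∈ Subgroup.centralizer (P : Set G) ∧
      ∀ z : G, IsPPart p x z → z ∈ P ∧ ∀ w ∈ P, z * w = w * z := by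
  classical
  haveI : Fact p.Prime := ⟨hM.1⟩
  set L := P ⊔ Subgroup.centralizer (P : Set G)
  letI : Fintype L := Fintype.ofFinite _
  have hPL : P ≤ L := le_sup_left
  have hCL : Subgroup.centralizer (P : Set G) ≤ L := le_sup_right
  have hLN : L ≤ Subgroup.normalizer (P : Set G) :=
    sup_le Subgroup.le_normalizer (Subgroup.centralizer_le_normalizer _)
  have hPp := isPGroup_defectGroup hP
  obtain ⟨b, hind⟩ := exists_inducing (H := L) hM hPp hPL hCL hLN hB hP (x := 1)
    (by rintro _ ⟨u, hu, rfl⟩; simpa using hu)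
  obtain ⟨χ, hχ, hgχ⟩ := hg
  obtain ⟨ξ, hξ⟩ := exists_mem_block hind.1
  have hne : ¬ MemLocalIdeal M (omega (ξ : L → ℂ) (resFun L (classInd g))) := fun h => hgχ
    ((memLocalIdeal_iff_of_cong (hind.2.2 ξ hξ χ hχ g)).1 (by rwa [inducedCentralChar_eq]))
  obtain ⟨w, hw1, hw2⟩ := exists_of_omega (isIntClass_resFun L (isIntClass_classInd g)) hne
  have hconj : IsConj g (w : G) := by
    by_contra hc
    exact hw1 (by rw [resFun, classInd_of_not_isConj hc]; exact memLocalIdeal_zero)
  haveI : (P.subgroupOf L).Normal := by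
    exact (Subgroup.normal_subgroupOf_iff_le_normalizer hPL).2 hLN
  have hwC : (w : G) ∈ Subgroup.centralizer (P : Set G) := by
    rw [← centralizer_subgroupOf_iff hPL]
    by_contra hwc
    exact hw2 (centralChar_mem_ideal_of_normal hM (P.subgroupOf L)
      (hPp.of_equiv (Subgroup.subgroupOfEquivOfLe hPL).symm) ξ hwc)
  refine ⟨w, hconj, hwC, fun z hz => ?_⟩
  obtain ⟨y, hzy, hcomm, ⟨k, hk⟩, hy⟩ := hz
  obtain ⟨x', y', hg', hc', -, ⟨m', hm', hy'⟩, -, -, hxk, hxz, -⟩ := exists_pPart hM.1 (w : G)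
  obtain ⟨k', hk'⟩ := hxk
  have hzx : z = x' := pPart_unique hM.1 (x := z) ⟨y, hzy, hcomm, ⟨k, hk⟩, hy⟩ hg' hc'
    (n := k') (by rw [← hk']; exact pow_orderOf_eq_one _) hm' hy'
  have hzL : z ∈ L := hzx ▸ Subgroup.zpowers_le.2 w.2 hxz
  have hzC : z ∈ Subgroup.centralizer (P : Set G) := hzx ▸ Subgroup.zpowers_le.2 hwC hxz
  have hyL : y ∈ L := by
    rw [show y = z⁻¹ * (w : G) by rw [← hzy]; group]
    exact mul_mem (inv_mem hzL) w.2
  have hpart : IsPPart p w (⟨z, hzL⟩ : L) := ⟨⟨y, hyL⟩, Subtype.ext hzy, Subtype.ext hcomm.eq,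
    ⟨k, by rw [← hk]; exact (Subgroup.orderOf_coe _).symm⟩,
    by rw [← Subgroup.orderOf_coe]; exact hy⟩
  have hzP : z ∈ P := by
    by_contra hzP
    refine irr_apply_ne_zero_of_centralChar hw2 (apply_eq_zero_of_not_mem_defectGroup hM hind.1 hξ
      hpart fun D hD hmem => hzP ?_)
    rw [eq_defectGroup_of_induced hM hPL hLN hP hind hD] at hmem
    exact hmem
  exact ⟨hzP, fun u hu => (Subgroup.mem_centralizer_iff.1 hzC u hu).symm⟩

omit [Fintype H] in
/-- Translating a defect class by an element of its centralizer of `p`-power order. -/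
theorem apply_mul_defectClass (hM : IsPModular p M) {B : Set (IrrCharacter G)}
    (hB : IsPBlock M B) {y : G} (hy : IsDefectClass M B y) {x : G} (hc : Commute x y)
    (hx : ∃ k : ℕ, orderOf x = p ^ k) {χ : IrrCharacter G} (hχ : χ ∈ B)
    (h0 : blockHeight p B (χ : G → ℂ) = 0) : ¬ MemLocalIdeal M ((χ : G → ℂ) (x * y)) := by
  obtain ⟨k, hk⟩ := hx
  have h := char_cong_pPart hM (IsIrrCharacter.isCharacter χ.2) hc (n := k)
    (by rw [← hk]; exact pow_orderOf_eq_one _) (defectClass_regular hM hB hy)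
    (pow_orderOf_eq_one y)
  exact fun hmem => (blockHeight_eq_zero_iff hM hB hy hχ).1 h0 ((memLocalIdeal_iff_of_cong h).1 hmem)

omit [Fintype H] in
theorem centralChar_mul_defectClass (hM : IsPModular p M) {B : Set (IrrCharacter G)}
    (hB : IsPBlock M B) {y : G} (hy : IsDefectClass M B y) {x : G} (hc : Commute x y)
    (hx : ∃ k : ℕ, orderOf x = p ^ k)
    (hidx : ¬ p ∣ ((Subgroup.centralizer ({x * y} : Set G)).subgroupOf
      (Subgroup.centralizer ({y} : Set G))).index)
    {χ : IrrCharacter G} (hχ : χ ∈ B) : ¬ MemLocalIdeal M (centralChar (χ : G → ℂ) (x * y)) := by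
  classical
  haveI : Fact p.Prime := ⟨hM.1⟩
  obtain ⟨χ₀, hχ₀, h0⟩ := exists_height_zero hM hB
  refine fun hmem => ?_
  have hmem0 : MemLocalIdeal M (centralChar (χ₀ : G → ℂ) (x * y)) :=
    (memLocalIdeal_iff_of_cong (sameBlock_of_mem hB hχ hχ₀ (x * y))).1 hmem
  obtain ⟨k, hk⟩ := hx
  have hle : Subgroup.centralizer ({x * y} : Set G) ≤ Subgroup.centralizer ({y} : Set G) := by
    intro c hc'
    rw [Subgroup.mem_centralizer_singleton_iff] at hc' ⊢
    obtain ⟨x', y', hg', hcx, ⟨n, hn⟩, ⟨m, hm, hm'⟩, -, -, -, -, hyz⟩ :=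
      exists_pPart hM.1 (x * y)
    have hxx : x = x' := pPart_unique hM.1 (x := x)
      ⟨y, rfl, hc, ⟨k, hk⟩, defectClass_regular hM hB hy⟩ hg' hcx hn hm hm'
    have hyy : y = y' := by
      rw [← hxx] at hg'
      exact (mul_left_cancel hg').symm
    rw [← hyy] at hyz
    obtain ⟨j, hj⟩ := Subgroup.mem_zpowers_iff.1 hyz
    have := (Commute.zpow_right (show Commute c (x * y) from hc') j).eq
    rwa [hj] at this
  have hmul := Subgroup.relIndex_mul_index hle
  set m := ((Subgroup.centralizer ({x * y} : Set G)).subgroupOf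
    (Subgroup.centralizer ({y} : Set G))).index with hm_def
  set r : ℂ := centralChar (χ₀ : G → ℂ) y * ((χ₀ : G → ℂ) y)⁻¹ with hr_def
  have hu : ¬ MemLocalIdeal M ((χ₀ : G → ℂ) y) := (blockHeight_eq_zero_iff hM hB hy hχ₀).1 h0
  have hr : MemLocalRing M r :=
    memLocalRing_mul (centralChar_mem χ₀ y) (memLocalRing_inv (irr_mem χ₀ y) hu)
  have e : centralChar (χ₀ : G → ℂ) (x * y) - (m : ℂ) * centralChar (χ₀ : G → ℂ) y =
      (m : ℂ) * r * ((χ₀ : G → ℂ) (x * y) - (χ₀ : G → ℂ) y) := by
    have hne := ne_zero_of_not_memLocalIdeal hu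
    rw [hr_def, centralChar, centralChar, ← hmul, show
      (Subgroup.centralizer ({x * y} : Set G)).relIndex (Subgroup.centralizer ({y} : Set G)) = m
      from rfl]
    push_cast
    field_simp
  have h := char_cong_pPart hM (IsIrrCharacter.isCharacter χ₀.2) hc (n := k)
    (by rw [← hk]; exact pow_orderOf_eq_one _) (defectClass_regular hM hB hy)
    (pow_orderOf_eq_one y)
  refine not_memLocalIdeal_mul (natCast_mem_localRing m)
    (mt (memLocalIdeal_natCast_iff hM).1 hidx) (hy.2.2 χ₀ hχ₀) ((memLocalIdeal_iff_of_cong ?_).1 hmem0)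
  rw [e]
  exact memLocalIdeal_mul_left (memLocalRing_mul (natCast_mem_localRing m) hr) h

/-- Every central element of a defect group of an induced block is conjugate to a central element
of a defect group of the inducing block. -/
theorem exists_conj_center_mem (hM : IsPModular p M) {b : Set (IrrCharacter H)}
    {B : Set (IrrCharacter G)} (hind : IsInducedBlock M H b B) {D : Subgroup H}
    (hD : IsDefectGroup p M b D) {P : Subgroup G} (hP : IsDefectGroup p M B P) {x : G}
    (hx : x ∈ P) (hxc : ∀ w ∈ P, x * w = w * x) :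
    ∃ g : G, g * x * g⁻¹ ∈ D.map H.subtype ∧
      ∀ w ∈ D.map H.subtype, (g * x * g⁻¹) * w = w * (g * x * g⁻¹) := by
  classical
  haveI : Fact p.Prime := ⟨hM.1⟩
  obtain ⟨y, hy, hyP, hcard⟩ := (isDefectGroup_iff hM hind.2.1).1 hP
  have hcxy : Commute x y := Subgroup.mem_centralizer_iff.1 hyP x hx
  obtain ⟨k, hk⟩ : ∃ k : ℕ, orderOf x = p ^ k := by
    obtain ⟨k, hk⟩ := (isPGroup_defectGroup hP) ⟨x, hx⟩
    obtain ⟨j, -, hj⟩ := (Nat.dvd_prime_pow hM.1).1
      (orderOf_dvd_of_pow_eq_one (congrArg Subtype.val hk : x ^ p ^ k = 1))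
    exact ⟨j, hj⟩
  have hPC : P ≤ Subgroup.centralizer ({x * y} : Set G) := fun u hu => by
    rw [Subgroup.mem_centralizer_singleton_iff]
    exact ((show Commute u x from (hxc u hu).symm).mul_right
      (Subgroup.mem_centralizer_iff.1 hyP u hu)).eq
  have hidx : ¬ p ∣ ((Subgroup.centralizer ({x * y} : Set G)).subgroupOf
      (Subgroup.centralizer ({y} : Set G))).index := by
    intro hdvd
    have hPy : P ≤ Subgroup.centralizer ({y} : Set G) := le_centralizer_singleton.2 hyP
    have h1 : P.relIndex (Subgroup.centralizer ({y} : Set G)) * Nat.card P =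
        Nat.card (Subgroup.centralizer ({y} : Set G)) := by
      rw [← Nat.card_congr (Subgroup.subgroupOfEquivOfLe hPy).toEquiv]
      exact Subgroup.index_mul_card _
    have h2 : ((Subgroup.centralizer ({x * y} : Set G)).subgroupOf
        (Subgroup.centralizer ({y} : Set G))).index ∣
        P.relIndex (Subgroup.centralizer ({y} : Set G)) :=
      Subgroup.index_dvd_of_le fun u hu => hPC hu
    obtain ⟨c, hc⟩ := hdvd.trans h2
    have h3 : p ^ (blockDefect p B + 1) ∣ Nat.card (Subgroup.centralizer ({y} : Set G)) :=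
      ⟨c, by rw [← h1, hc, hcard]; ring⟩
    have h4 := (hM.1.pow_dvd_iff_le_factorization Nat.card_pos.ne').1 h3
    rw [← blockDefect_eq hM hind.2.1 hy] at h4
    omega
  obtain ⟨χ, hχ⟩ := exists_mem_block hind.2.1
  obtain ⟨ξ, hξ⟩ := exists_mem_block hind.1
  have hne : ¬ MemLocalIdeal M (omega (ξ : H → ℂ) (resFun H (classInd (x * y)))) := fun h =>
    centralChar_mul_defectClass hM hind.2.1 hy hcxy ⟨k, hk⟩ hidx hχ
      ((memLocalIdeal_iff_of_cong (hind.2.2 ξ hξ χ hχ (x * y))).1 (by rwa [inducedCentralChar_eq]))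
  obtain ⟨h, hh1, hh2⟩ := exists_of_omega (isIntClass_resFun H (isIntClass_classInd _)) hne
  have hconj : IsConj (x * y) (h : G) := by
    by_contra hc
    exact hh1 (by rw [resFun, classInd_of_not_isConj hc]; exact memLocalIdeal_zero)
  obtain ⟨h', hh', -, hz⟩ := exists_conj_pPart_mem hM hind.1 hD ⟨ξ, hξ, hh2⟩
  obtain ⟨c, hc⟩ := isConj_iff.1 (hconj.trans
    (show IsConj (h : G) (h' : G) from H.subtype.map_isConj hh'))
  refine ⟨c, ?_⟩
  obtain ⟨z₀, y₀, hg₀, hc₀, ⟨n₀, hn₀⟩, ⟨m₀, hm₀, hy₀⟩, -, hreg₀, hord₀, -, -⟩ :=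
    exists_pPart hM.1 h'
  obtain ⟨hzD, hzc⟩ := hz z₀ ⟨y₀, hg₀, hc₀, hord₀, hreg₀⟩
  have hzx : c * x * c⁻¹ = (z₀ : G) := by
    refine pPart_unique hM.1 (x := c * x * c⁻¹) ⟨c * y * c⁻¹, ?_, hcxy.map (MulAut.conj c),
      ⟨k, ?_⟩, ?_⟩ (show (z₀ : G) * (y₀ : G) = (h' : G) from congrArg Subtype.val hg₀)
      (congrArg Subtype.val hc₀.eq) (n := n₀) (congrArg Subtype.val hn₀) hm₀
      (congrArg Subtype.val hy₀)
    · rw [← hc]; group
    · rw [← hk]; exact orderOf_injective (MulAut.conj c).toMonoidHom (MulAut.conj c).injective x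
    · rw [show orderOf (c * y * c⁻¹) = orderOf y from
        orderOf_injective (MulAut.conj c).toMonoidHom (MulAut.conj c).injective y]
      exact defectClass_regular hM hind.2.1 hy
  rw [hzx]
  refine ⟨⟨z₀, hzD, rfl⟩, ?_⟩
  rintro _ ⟨w, hw, rfl⟩
  exact congrArg (Subtype.val : H → G) (hzc w hw)

/-- Induction preserves defect zero. -/
theorem blockDefect_zero_iff (hM : IsPModular p M) {b : Set (IrrCharacter H)}
    {B : Set (IrrCharacter G)} (hind : IsInducedBlock M H b B) :
    blockDefect p b = 0 ↔ blockDefect p B = 0 := by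
  haveI : Fact p.Prime := ⟨hM.1⟩
  obtain ⟨D, hD⟩ := exists_defectGroup (M := M) hind.1 hM
  obtain ⟨P, hP⟩ := exists_defectGroup (M := M) hind.2.1 hM
  have hbD := card_defectGroup hM hind.1 hD
  have hBP := card_defectGroup hM hind.2.1 hP
  constructor
  · intro h
    have hD1 : D = ⊥ := Subgroup.card_eq_one.1 (by rw [hbD, h, pow_zero])
    by_contra hne
    haveI : Nontrivial P := Finite.one_lt_card_iff_nontrivial.1
      (by rw [hBP]; exact Nat.one_lt_pow hne hM.1.one_lt)
    haveI := (isPGroup_defectGroup hP).center_nontrivial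
    obtain ⟨⟨x, hx⟩, hx1⟩ := exists_ne (1 : Subgroup.center P)
    obtain ⟨g, hg, -⟩ := exists_conj_center_mem hM hind hD hP x.2
      fun w hw => congrArg Subtype.val (Subgroup.mem_center_iff.1 hx ⟨w, hw⟩).symm
    rw [hD1, Subgroup.map_bot, Subgroup.mem_bot, conj_eq_one_iff] at hg
    exact hx1 (Subtype.ext (Subtype.ext hg))
  · intro h
    obtain ⟨E, hE, hle⟩ := defectGroup_le_induced hM hind hD
    have hE1 : E = ⊥ := Subgroup.card_eq_one.1 (by rw [card_defectGroup hM hind.2.1 hE, h, pow_zero])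
    rw [hE1, le_bot_iff, Subgroup.map_eq_bot_iff_of_injective _ H.subtype_injective] at hle
    rw [hle, Subgroup.card_bot] at hbD
    by_contra hne
    exact (Nat.one_lt_pow hne hM.1.one_lt).ne hbD

end CfsgLib.Block
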