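import Cfsg.Agent.Blocks.Correspond
import Cfsg.Agent.Blocks.SecondMain
import Cfsg.Agent.Blocks.ThirdMain
import Cfsg.Agent.Char.Induction

/-!
# Degrees in blocks, induced characters, and independence of blocks from the maximal ideal
-/

namespace CfsgLib.Block

open Cfsg Finset CfsgLib.Block.Chr CfsgLib.Char
open scoped ComplexConjugate

set_option linter.unusedSectionVars false
set_option linter.style.haveILetI false

universe u

variable {G : Type u} [Group G] [Fintype G] {p : ℕ}

theorem sum_mul_indFun (H : Subgroup G) [Fintype H] {a : G → ℂ} (ha : IsClassFunction G a)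
    (θ : H → ℂ) :
    ∑ g : G, a g * indFun H θ g = (H.index : ℂ) * ∑ h : H, a h * θ h := by
  classical
  have hH : (Nat.card H : ℂ) ≠ 0 := Nat.cast_ne_zero.2 Nat.card_pos.ne'
  have hstep : ∀ x : G, ∑ g : G, a g * extendByZero H θ (x⁻¹ * g * x) =
      ∑ h : H, a h * θ h := by
    intro x
    rw [← Equiv.sum_comp (MulAut.conj x).toEquiv]
    simp only [MulEquiv.toEquiv_eq_coe, MulEquiv.coe_toEquiv, MulAut.conj_apply]
    rw [← sum_subset (subset_univ (univ.filter (· ∈ H))) (fun g _ hg => by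
      rw [show x⁻¹ * (x * g * x⁻¹) * x = g by group,
        CfsgLib.Char.extendByZero_of_not_mem θ (fun h => hg (mem_filter.2 ⟨mem_univ _, h⟩)),
        mul_zero])]
    refine (sum_bij (fun (h : H) _ => (h : G)) (fun h _ => mem_filter.2 ⟨mem_univ _, h.2⟩)
      (fun h _ h' _ e => Subtype.ext e) (fun g hg => ⟨⟨g, (mem_filter.1 hg).2⟩, mem_univ _, rfl⟩)
      (fun h _ => ?_)).symm
    rw [show x⁻¹ * (x * (h : G) * x⁻¹) * x = h by group, ha,
      CfsgLib.Char.extendByZero_of_mem θ h.2]
  simp only [indFun, mul_left_comm (a _), mul_sum]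
  rw [sum_comm, ← mul_sum]
  simp only [← mul_sum]
  rw [sum_congr rfl fun x _ => hstep x, sum_const, card_univ, nsmul_eq_mul,
    ← Nat.card_eq_fintype_card, ← H.index_mul_card]
  push_cast
  field_simp

theorem omega_indFun (H : Subgroup G) [Fintype H] (ξ : IrrCharacter H) {a : G → ℂ}
    (ha : IsClassFunction G a) :
    omega (indFun H (ξ : H → ℂ)) a = omega (ξ : H → ℂ) (resFun H a) := by
  have h1 : indFun H (ξ : H → ℂ) 1 = (H.index : ℂ) * (ξ : H → ℂ) 1 :=
    CfsgLib.Char.indFun_one _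
  have hne : (H.index : ℂ) ≠ 0 := Nat.cast_ne_zero.2 Subgroup.index_ne_zero_of_finite
  rw [omega, omega, sum_mul_indFun H ha, h1, mul_div_mul_left _ _ hne]
  rfl

variable {M : Ideal AlgInt} [M.IsPrime]

theorem factorization_of_ratio (hM : IsPModular p M) {n d : ℕ} (hd : d ≠ 0) {w : ℂ}
    (hw : MemLocalRing M w) (h : (n : ℂ) = (d : ℂ) * w) :
    (MemLocalIdeal M w → n = 0 ∨ d.factorization p < n.factorization p) ∧
      (¬ MemLocalIdeal M w → n ≠ 0 ∧ n.factorization p = d.factorization p) := by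
  haveI : Fact p.Prime := ⟨hM.1⟩
  set b := d.factorization p
  have hp0 : (p : ℂ) ≠ 0 := Nat.cast_ne_zero.2 hM.1.ne_zero
  have hdd : (d : ℂ) = (p : ℂ) ^ b * ((d / p ^ b : ℕ) : ℂ) := by
    rw [← Nat.cast_pow, ← Nat.cast_mul, Nat.ordProj_mul_ordCompl_eq_self]
  set d' := d / p ^ b
  have hd' : ¬ p ∣ d' := Nat.not_dvd_ordCompl hM.1 hd
  have e : ((n : ℤ) : ℂ) / (p : ℂ) ^ b = (d' : ℂ) * w := by
    rw [Int.cast_natCast, h, hdd]; field_simp
  have hdvd : p ^ b ∣ n := by
    have := pow_dvd_of_memLocalRing (n := (n : ℤ)) (k := b) hM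
      (e ▸ memLocalRing_mul (natCast_mem_localRing d') hw)
    exact_mod_cast this
  constructor
  · intro hI
    have := pow_succ_dvd_of_memLocalIdeal (n := (n : ℤ)) (k := b) hM
      (e ▸ memLocalIdeal_mul_left (natCast_mem_localRing d') hI)
    have h2 : p ^ (b + 1) ∣ n := by exact_mod_cast this
    rcases eq_or_ne n 0 with h0 | h0
    · exact Or.inl h0
    · exact Or.inr ((hM.1.pow_dvd_iff_le_factorization h0).1 h2)
  · intro hu
    have hn : n ≠ 0 := by
      rintro rfl
      rw [Nat.cast_zero, eq_comm, mul_eq_zero] at h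
      exact hu (h.resolve_left (Nat.cast_ne_zero.2 hd) ▸ memLocalIdeal_zero)
    refine ⟨hn, le_antisymm ?_ ((hM.1.pow_dvd_iff_le_factorization hn).1 hdvd)⟩
    by_contra hlt
    push Not at hlt
    obtain ⟨c, hc⟩ := (hM.1.pow_dvd_iff_le_factorization hn).2 (Nat.succ_le_of_lt hlt)
    have hw' : (d' : ℂ) * w = (p : ℂ) * (c : ℂ) := by
      rw [← e, Int.cast_natCast, hc, Nat.cast_mul, Nat.cast_pow, pow_succ]
      field_simp
    refine not_memLocalIdeal_mul (natCast_mem_localRing d')
      (mt (memLocalIdeal_natCast_iff hM).1 hd') hu ?_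
    rw [hw']
    exact memLocalIdeal_mul_right (memLocalIdeal_p hM) (natCast_mem_localRing c)

/-- The value at `1` of the block part of an induced character. -/
theorem blockPart_indFun_one (H : Subgroup G) [Fintype H] (ξ : IrrCharacter H)
    (B : Set (IrrCharacter G)) :
    ∃ n : ℕ, blockPart B (indFun H (ξ : H → ℂ)) 1 = (n : ℂ) ∧
      (n : ℂ) = (charDegree (indFun H (ξ : H → ℂ)) : ℂ) *
        omega (ξ : H → ℂ) (resFun H (blockCoeff B)) ∧ charDegree (indFun H (ξ : H → ℂ)) ≠ 0 := by
  classical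
  letI := irrFintype (G := G)
  have hchar := CfsgLib.Char.IsCharacter.indFun (G := G) (H := H) (isCharacter_irr ξ)
  choose m hm using fun χ : IrrCharacter G =>
    IsCharacter.exists_classInner_eq_natCast hchar χ.2
  have hdeg : charDegree (indFun H (ξ : H → ℂ)) = H.index * charDegree (ξ : H → ℂ) := by
    have h1 : indFun H (ξ : H → ℂ) 1 = ((H.index * charDegree (ξ : H → ℂ) : ℕ) : ℂ) := by
      rw [CfsgLib.Char.indFun_one, (irr_one ξ).1, Nat.cast_mul]
    rw [charDegree, h1, Complex.natCast_re, Nat.floor_natCast]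
  refine ⟨∑ χ ∈ univ.filter (· ∈ B), m χ * charDegree (χ : G → ℂ), ?_, ?_, ?_⟩
  · rw [blockPart_eq_sum_inner]
    push_cast
    exact sum_congr rfl fun χ _ => by rw [hm χ, (irr_one χ).1]
  · have h1 : blockPart B (indFun H (ξ : H → ℂ)) 1 =
        ((∑ χ ∈ univ.filter (· ∈ B), m χ * charDegree (χ : G → ℂ) : ℕ) : ℂ) := by
      rw [blockPart_eq_sum_inner]
      push_cast
      exact sum_congr rfl fun χ _ => by rw [hm χ, (irr_one χ).1]
    rw [← h1, blockPart_eq_conv B (CfsgLib.Char.isClassFunction_indFun H _), hdeg]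
    simp only [mul_one]
    rw [sum_mul_indFun H (isClassFunction_blockCoeff B), omega, (irr_one ξ).1]
    have : (charDegree (ξ : H → ℂ) : ℂ) ≠ 0 := Nat.cast_ne_zero.2 (irr_one ξ).2.ne'
    push_cast
    field_simp
    rfl
  · rw [hdeg]
    exact Nat.mul_ne_zero Subgroup.index_ne_zero_of_finite (irr_one ξ).2.ne'

open Classical in
theorem regularIndicator (hM : IsPModular p M) :
    ∃ f ∈ localMultiplier G M, (∀ g : G, (f g = 0 ∨ f g = 1)) ∧
      ∀ g : G, ¬ p ∣ orderOf g → f g = if g = 1 then 1 else 0 := by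
  classical
  haveI : Fact p.Prime := ⟨hM.1⟩
  obtain ⟨f, hf, hval⟩ := sectionInd_mem (G := G) hM (1 : G) (by simp [hM.1.ne_one])
  refine ⟨f, hf, fun g => (hval g).1, fun g hg => ?_⟩
  by_cases h1 : g = 1
  · subst h1
    rw [if_pos rfl]
    exact (hval 1).2.2 ⟨1, ⟨0, by simp⟩, Commute.one_left 1, by simp⟩
  · rw [if_neg h1]
    refine (hval g).1.resolve_right fun h => ?_
    obtain ⟨u, ⟨n, hn⟩, -, hu⟩ := (hval g).2.1 h
    rw [one_mul] at hu
    obtain ⟨c, rfl⟩ := isConj_iff.1 hu
    have ho : orderOf (c * u * c⁻¹) = orderOf u :=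
      orderOf_injective (MulAut.conj c).toMonoidHom (MulAut.conj c).injective u
    obtain ⟨k, -, hk⟩ := (Nat.dvd_prime_pow hM.1).1 (orderOf_dvd_of_pow_eq_one hn)
    rw [ho, hk] at hg
    cases k with
    | zero => exact h1 (by rw [show u = 1 from orderOf_eq_one_iff.1 (by rw [hk, pow_zero])]; simp)
    | succ k => exact hg (dvd_pow_self p k.succ_ne_zero)

theorem regularIndicator_mem {f : G → ℂ} (hf : f ∈ localMultiplier G M) {φ ψ : G → ℂ}
    (hφ : ∀ χ : G → ℂ, IsCharacter G χ → MemLocalRing M (classInner φ χ))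
    (hψ : IsCharacter G ψ) : MemLocalRing M (classInner (f * φ) ψ) :=
  hf φ hφ ψ hψ

/-- The idempotent of a block at `1` has exact `p`-part `p ^ (a - d)`. -/
theorem blockCoeff_one_unit (hM : IsPModular p M) {B : Set (IrrCharacter G)} (hB : IsPBlock M B) :
    MemLocalRing M (blockCoeff B (1 : G) /
        (p : ℂ) ^ ((Nat.card G).factorization p - blockDefect p B)) ∧
      ¬ MemLocalIdeal M (blockCoeff B (1 : G) /
        (p : ℂ) ^ ((Nat.card G).factorization p - blockDefect p B)) := by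
  classical
  haveI : Fact p.Prime := ⟨hM.1⟩
  letI := irrFintype (G := G)
  have hp0 : (p : ℂ) ≠ 0 := Nat.cast_ne_zero.2 hM.1.ne_zero
  have hG0 : (Nat.card G : ℂ) ≠ 0 := Nat.cast_ne_zero.2 Nat.card_pos.ne'
  set k := (Nat.card G).factorization p - blockDefect p B
  obtain ⟨f, hf, hf01, hfreg⟩ := regularIndicator (G := G) hM
  have hfreal : ∀ g, conj (f g) = f g := fun g => by
    rcases hf01 g with h | h <;> simp [h]
  set u : IrrCharacter G → ℂ := fun ξ => classInner (ξ : G → ℂ) f
  have hu : ∀ ξ, MemLocalRing M (u ξ) := by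
    intro ξ
    have h1 := regularIndicator_mem hf (φ := fun _ => (1 : ℂ)) (ψ := fun g => conj ((ξ : G → ℂ) g))
      (fun χ hχ => by
        obtain ⟨n, hn⟩ := IsCharacter.exists_classInner_eq_natCast'
          (CfsgLib.Char.isCharacter_one (G := G)) hχ
        rw [hn]; exact natCast_mem_localRing n)
      (IsCharacter.conj (isCharacter_irr ξ))
    convert h1 using 1
    simp only [u, classInner, Pi.mul_apply, mul_one, Complex.conj_conj]
    congr 1
    exact sum_congr rfl fun g _ => by rw [hfreal, mul_comm]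
  obtain ⟨χ, hχ, h0⟩ := exists_height_zero hM hB
  have hv : ∀ ξ ∈ B, MemLocalRing M ((ξ : G → ℂ) 1 / (p : ℂ) ^ k) := by
    intro ξ hξ
    rw [(irr_one ξ).1, ← Int.cast_natCast]
    refine memLocalRing_div_pow_of_dvd hM.1.ne_zero ?_
    exact_mod_cast (hM.1.pow_dvd_iff_le_factorization (irr_one ξ).2.ne').2 (degree_ge hM hB hξ)
  have he : blockCoeff B (1 : G) = ∑ ξ ∈ univ.filter (· ∈ B), (ξ : G → ℂ) 1 * u ξ := by
    have h1 : ∀ g : G, blockCoeff B g⁻¹ * f g = if g = 1 then blockCoeff B (1 : G) else 0 := by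
      intro g
      by_cases hg : p ∣ orderOf g
      · rw [blockCoeff_eq_zero_of_singular hM hB (by rwa [orderOf_inv]), zero_mul, if_neg]
        rintro rfl
        exact hM.1.not_dvd_one (orderOf_one (G := G) ▸ hg)
      · rw [hfreg g hg]
        split_ifs with h
        · rw [h, inv_one, mul_one]
        · rw [mul_zero]
    have h2 : ∑ g : G, blockCoeff B g⁻¹ * f g = blockCoeff B (1 : G) := by simp [h1]
    rw [← h2]
    simp only [u, classInner, blockCoeff_eq_sum, mul_sum, sum_mul]
    rw [sum_comm]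
    refine sum_congr rfl fun ξ _ => sum_congr rfl fun g _ => ?_
    rw [hfreal, conj_irr, inv_inv]
    ring
  have hχ1 : (χ : G → ℂ) 1 =
      ∑ ξ ∈ univ.filter (· ∈ B), (ξ : G → ℂ) 1 * u ξ * heightForm p χ ξ := by
    have hN : ((Nat.card G / p ^ (Nat.card G).factorization p : ℕ) : ℂ) *
        ((p ^ (Nat.card G).factorization p : ℕ) : ℂ) = (Nat.card G : ℂ) := by
      rw [← Nat.cast_mul, mul_comm, Nat.ordProj_mul_ordCompl_eq_self]
    have h1 : ∀ ξ : IrrCharacter G, (ξ : G → ℂ) 1 * u ξ * heightForm p χ ξ =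
        (Nat.card G : ℂ) * (classInner (regPart p (χ : G → ℂ)) (ξ : G → ℂ) * u ξ) := by
      intro ξ
      rw [(irr_one ξ).1, mul_right_comm, ← mul_regInt, regInt_spec, ← mul_assoc, hN, mul_assoc]
    rw [sum_congr rfl fun ξ _ => h1 ξ, ← mul_sum, sum_filter]
    rw [sum_congr rfl fun ξ _ => show (if ξ ∈ B then classInner (regPart p (χ : G → ℂ)) (ξ : G → ℂ) * u ξ
        else 0) = classInner (regPart p (χ : G → ℂ)) (ξ : G → ℂ) * u ξ by
      split_ifs with hξ
      · rfl
      · rw [classInner_regPart_eq, regInt_eq_zero_of_not_mem hM hB hχ hξ]; simp]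
    have hreg : IsClassFunction G (regPart p (χ : G → ℂ)) := by
      intro g x
      have ho : orderOf (x * g * x⁻¹) = orderOf g :=
        orderOf_injective (MulAut.conj x).toMonoidHom (MulAut.conj x).injective g
      simp only [regPart, ho, isClassFunction_irr χ g x]
    have hexp : ∑ ξ : IrrCharacter G, classInner (regPart p (χ : G → ℂ)) (ξ : G → ℂ) * u ξ =
        classInner (regPart p (χ : G → ℂ)) f := by
      rw [classInner_eq_sum_irr hreg f,
        sum_irr_eq (fun θ => classInner (regPart p (χ : G → ℂ)) θ * classInner θ f)]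
      exact sum_congr rfl fun θ _ => by rw [classInner_conj]
    rw [hexp, classInner, sum_eq_single 1]
    · rw [regPart_of_not_dvd (by simp [hM.1.ne_one]), hfreg 1 (by simp [hM.1.ne_one]), if_pos rfl,
        map_one, mul_one]
      field_simp
    · intro g _ hg
      by_cases hd : p ∣ orderOf g
      · rw [regPart_of_dvd hd, zero_mul]
      · rw [hfreg g hd, if_neg hg, map_zero, mul_zero]
    · simp
  have hloc : MemLocalRing M (blockCoeff B (1 : G) / (p : ℂ) ^ k) := by
    rw [he, sum_div]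
    refine memLocalRing_sum fun ξ hξ => ?_
    rw [mul_div_right_comm]
    exact memLocalRing_mul (hv ξ (mem_filter.1 hξ).2) (hu ξ)
  refine ⟨hloc, fun hI => ?_⟩
  have hc : MemLocalIdeal M ((χ : G → ℂ) 1 / (p : ℂ) ^ k -
      heightForm p χ χ * (blockCoeff B (1 : G) / (p : ℂ) ^ k)) := by
    rw [he, sum_div, mul_sum, hχ1, sum_div, ← sum_sub_distrib]
    refine memLocalIdeal_sum fun ξ hξ => ?_
    have : (ξ : G → ℂ) 1 * u ξ * heightForm p χ ξ / (p : ℂ) ^ k -
        heightForm p χ χ * ((ξ : G → ℂ) 1 * u ξ / (p : ℂ) ^ k) =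
        (ξ : G → ℂ) 1 / (p : ℂ) ^ k * u ξ * (heightForm p χ ξ - heightForm p χ χ) := by ring
    rw [this]
    exact memLocalIdeal_mul_left (memLocalRing_mul (hv ξ (mem_filter.1 hξ).2) (hu ξ))
      (heightForm_cong hB χ (mem_filter.1 hξ).2 hχ)
  have hI2 := (memLocalIdeal_iff_of_cong hc).2
    (memLocalIdeal_mul_left (heightForm_mem χ χ) hI)
  rw [(irr_one χ).1, ← Int.cast_natCast] at hI2
  have h3 : p ^ (k + 1) ∣ charDegree (χ : G → ℂ) := by
    exact_mod_cast pow_succ_dvd_of_memLocalIdeal hM hI2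
  have h4 := (hM.1.pow_dvd_iff_le_factorization (irr_one χ).2.ne').1 h3
  rw [factorization_degree hM hB hχ, h0] at h4
  omega

theorem sum_degree_sq_factorization (hM : IsPModular p M) {B : Set (IrrCharacter G)}
    (hB : IsPBlock M B) :
    (∑ᶠ χ ∈ B, charDegree (χ : G → ℂ) ^ 2).factorization p =
      2 * (Nat.card G).factorization p - blockDefect p B := by
  classical
  haveI : Fact p.Prime := ⟨hM.1⟩
  letI := irrFintype (G := G)
  have hp0 : (p : ℂ) ≠ 0 := Nat.cast_ne_zero.2 hM.1.ne_zero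
  have hG0 : (Nat.card G : ℂ) ≠ 0 := Nat.cast_ne_zero.2 Nat.card_pos.ne'
  set k := (Nat.card G).factorization p - blockDefect p B
  obtain ⟨hr, hu⟩ := blockCoeff_one_unit hM hB
  rw [finsum_set_eq B (fun χ => charDegree (χ : G → ℂ) ^ 2)]
  set n := ∑ χ ∈ univ.filter (· ∈ B), charDegree (χ : G → ℂ) ^ 2
  have hn : (n : ℂ) = ((Nat.card G * p ^ k : ℕ) : ℂ) * (blockCoeff B (1 : G) / (p : ℂ) ^ k) := by
    have h1 : (Nat.card G : ℂ) * blockCoeff B (1 : G) = (n : ℂ) := by
      rw [blockCoeff_eq_sum, ← mul_assoc, mul_inv_cancel₀ hG0, one_mul]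
      simp only [n, Nat.cast_sum, Nat.cast_pow]
      exact sum_congr rfl fun χ _ => by rw [conj_irr, inv_one, (irr_one χ).1, sq]
    rw [← h1]
    push_cast
    field_simp
  have h := ((factorization_of_ratio hM
    (Nat.mul_ne_zero Nat.card_pos.ne' (pow_ne_zero _ hM.1.ne_zero)) hr hn).2 hu).2
  rw [h, Nat.factorization_mul Nat.card_pos.ne' (pow_ne_zero _ hM.1.ne_zero), Finsupp.add_apply,
    hM.1.factorization_pow, Finsupp.single_eq_same]
  have := blockDefect_le (p := p) B
  omega

/-- Blocks do not depend on the maximal ideal. -/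
theorem blockOf_subset_blockOf {M' : Ideal AlgInt} [M'.IsPrime] (hM : IsPModular p M)
    (hM' : IsPModular p M') (χ : IrrCharacter G) :
    blockOf M' (χ : G → ℂ) ⊆ blockOf M (χ : G → ℂ) := by
  classical
  letI := irrFintype (G := G)
  set B := blockOf M (χ : G → ℂ)
  have hB : IsPBlock M B := isPBlock_blockOf χ
  refine blockOf_subset_of_integral (fun y => ?_) (mem_blockOf_self χ)
  by_cases hy : p ∣ orderOf y
  · rw [blockCoeff_eq_zero_of_singular hM hB hy]; exact memLocalRing_zero
  obtain ⟨f, hf, hf01, hfreg⟩ := regularIndicator (G := G) hM'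
  set θ : G → ℂ := fun x => ∑ ψ ∈ univ.filter (· ∈ B), conj ((ψ : G → ℂ) y) * (ψ : G → ℂ) x
  have hθsing : ∀ x, p ∣ orderOf x → θ x = 0 := by
    intro x hx
    have h := weak_orth hM (isIntClass_blockCoeff hB) hy hx
    have h' := congrArg conj h
    simp only [map_sum, map_mul, Complex.conj_conj, map_zero] at h'
    exact h'
  have hθ : ∀ φ : G → ℂ, IsCharacter G φ → MemLocalRing M' (classInner θ φ) := by
    intro φ hφ
    have : θ = ∑ ψ ∈ univ.filter (· ∈ B), conj ((ψ : G → ℂ) y) • (ψ : G → ℂ) := by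
      funext x; simp [θ, Finset.sum_apply]
    rw [this, classInner_sum_left]
    refine memLocalRing_sum fun ψ _ => ?_
    rw [classInner_smul_left, conj_irr]
    obtain ⟨n, hn⟩ := IsCharacter.exists_classInner_eq_natCast' (isCharacter_irr ψ) hφ
    rw [hn]
    exact memLocalRing_mul (irr_mem ψ _) (natCast_mem_localRing n)
  have h1 := regularIndicator_mem hf hθ (CfsgLib.Char.isCharacter_one (G := G))
  convert h1 using 1
  rw [classInner, sum_eq_single 1]
  · rw [Pi.mul_apply, hfreg 1 (by simp [hM.1.ne_one]), if_pos rfl, one_mul, map_one, mul_one,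
      blockCoeff_eq_sum]
    simp only [θ]
    congr 1
    exact sum_congr rfl fun ψ _ => mul_comm _ _
  · intro g _ hg
    by_cases hd : p ∣ orderOf g
    · rw [Pi.mul_apply, hθsing g hd, mul_zero, zero_mul]
    · rw [Pi.mul_apply, hfreg g hd, if_neg hg, zero_mul, zero_mul]
  · simp

theorem irr_central_mul (χ : IrrCharacter G) {x : G} (hx : x ∈ Subgroup.center G) (c : G) :
    (χ : G → ℂ) (x * c) = centralChar (χ : G → ℂ) x * (χ : G → ℂ) c := by
  classical
  have hC : Subgroup.centralizer ({x} : Set G) = ⊤ := by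
    rw [eq_top_iff]
    intro g _
    exact Subgroup.mem_centralizer_singleton_iff.2 (Subgroup.mem_center_iff.1 hx g)
  have hiff : ∀ g, IsConj x g ↔ g = x := by
    intro g
    refine ⟨fun h => ?_, fun h => h ▸ IsConj.refl x⟩
    obtain ⟨c, rfl⟩ := isConj_iff.1 h
    rw [Subgroup.mem_center_iff.1 hx c, mul_inv_cancel_right]
  have h := class_mul χ (isClassFunction_classInd x) (fun g => if g = c then 1 else 0)
  have hci : ∀ g, classInd x g = if g = x then 1 else 0 := by
    intro g
    by_cases hg : g = x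
    · rw [if_pos hg, hg, classInd_of_isConj (IsConj.refl x)]
    · rw [if_neg hg, classInd_of_not_isConj fun h => hg ((hiff g).1 h)]
  simp only [hci, ite_mul, one_mul, zero_mul, mul_ite, mul_one, mul_zero, sum_ite_eq', mem_univ,
    if_true] at h
  rw [centralChar, hC, Subgroup.index_top, Nat.cast_one, one_mul]
  rw [eq_comm, div_mul_eq_mul_div, div_eq_iff (irr_one_ne_zero χ)]
  exact h.symm

theorem centralChar_cong_one (hM : IsPModular p M) (χ : IrrCharacter G) {x : G}
    (hx : x ∈ Subgroup.center G) (hord : ∃ k : ℕ, orderOf x = p ^ k) :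
    MemLocalIdeal M (centralChar (χ : G → ℂ) x - 1) := by
  haveI : Fact p.Prime := ⟨hM.1⟩
  obtain ⟨k, hk⟩ := hord
  haveI : (Subgroup.zpowers x).Normal :=
    ⟨fun n hn g => by
      rw [Subgroup.mem_center_iff.1 (Subgroup.zpowers_le.2 hx hn) g, mul_inv_cancel_right]
      exact hn⟩
  obtain ⟨φ, hφ, hker⟩ := exists_ker_mem_block hM (isPBlock_blockOf (M := M) χ)
    (Subgroup.zpowers x) (IsPGroup.of_card (n := k) (by rw [Nat.card_zpowers, hk]))
  have h1 : centralChar (φ : G → ℂ) x = 1 := by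
    have hC : Subgroup.centralizer ({x} : Set G) = ⊤ := by
      rw [eq_top_iff]
      intro g _
      exact Subgroup.mem_centralizer_singleton_iff.2 (Subgroup.mem_center_iff.1 hx g)
    rw [centralChar, hC, Subgroup.index_top, Nat.cast_one, one_mul,
      hker x (Subgroup.mem_zpowers x), div_self (irr_one_ne_zero φ)]
  exact h1 ▸ sameBlock_of_mem (isPBlock_blockOf χ) (mem_blockOf_self χ) hφ x

end CfsgLib.Block
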