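import Cfsg.Agent.Blocks.Heights
import Mathlib.GroupTheory.GroupAction.Quotient
import Mathlib.Algebra.Group.End

/-!
# Defect groups: the min-max theorem and the vanishing of character values

Modulo the local ideal the convolution of class functions, evaluated on the centralizer of a
`p`-subgroup `Q`, only involves that centralizer.  With it the idempotent of a block vanishes
modulo the local ideal at elements centralizing a `p`-subgroup contained in no defect group.
-/

namespace CfsgLib.Block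

open Cfsg Finset CfsgLib.Block.Chr CfsgLib.Char
open scoped ComplexConjugate

set_option linter.unusedSectionVars false
set_option linter.style.haveILetI false

universe u

variable {G : Type u} [Group G] [Fintype G] {M : Ideal AlgInt} [M.IsPrime] {p : ℕ}

/-- A sum invariant under a `p`-group is congruent to the sum over the fixed points. -/
theorem sum_cong_fixed (hM : IsPModular p M) {α : Type*} [Fintype α] {Q : Type*} [Group Q]
    [Finite Q] [MulAction Q α] (hQ : IsPGroup p Q) (f : α → ℂ) (hf : ∀ a, MemLocalRing M (f a))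
    (hinv : ∀ (q : Q) (a : α), f (q • a) = f a) [DecidablePred (· ∈ MulAction.fixedPoints Q α)] :
    MemLocalIdeal M (∑ a, f a - ∑ a ∈ univ.filter (· ∈ MulAction.fixedPoints Q α), f a) := by
  classical
  haveI : Fact p.Prime := ⟨hM.1⟩
  rw [← sum_filter_add_sum_filter_not univ (· ∈ MulAction.fixedPoints Q α), add_sub_cancel_left,
    ← sum_fiberwise _ (fun a => (Quotient.mk'' a : MulAction.orbitRel.Quotient Q α)) f]
  refine memLocalIdeal_sum fun C _ => ?_
  obtain ⟨a, rfl⟩ := Quotient.mk''_surjective C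
  by_cases ha : a ∈ MulAction.fixedPoints Q α
  · rw [sum_eq_zero]
    · exact memLocalIdeal_zero
    intro b hb
    exfalso
    simp only [mem_filter, mem_univ, true_and, Quotient.eq'', MulAction.orbitRel_apply] at hb
    obtain ⟨q, rfl⟩ := hb.2
    exact hb.1 (by show (q • a) ∈ _; rw [ha q]; exact ha)
  · have hset : (univ.filter fun b => b ∉ MulAction.fixedPoints Q α).filter
        (fun b => (Quotient.mk'' b : MulAction.orbitRel.Quotient Q α) = Quotient.mk'' a) =
        univ.filter (· ∈ MulAction.orbit Q a) := by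
      ext b
      simp only [mem_filter, mem_univ, true_and, Quotient.eq'', MulAction.orbitRel_apply]
      refine ⟨fun h => h.2, fun h => ⟨fun hb => ha ?_, h⟩⟩
      obtain ⟨q, rfl⟩ := h
      have : q⁻¹ • q • a = q • a := hb q⁻¹
      rw [inv_smul_smul] at this
      exact this ▸ hb
    have hconst : ∀ b ∈ univ.filter (· ∈ MulAction.orbit Q a), f b = f a := by
      intro b hb
      obtain ⟨q, rfl⟩ := (mem_filter.1 hb).2
      exact hinv q a
    rw [hset, sum_congr rfl hconst, sum_const, nsmul_eq_mul]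
    haveI : Fintype (MulAction.orbit Q a) := Fintype.ofFinite _
    obtain ⟨k, hk⟩ := hQ.card_orbit a
    have hk0 : k ≠ 0 := by
      rintro rfl
      refine ha (MulAction.mem_fixedPoints_iff_card_orbit_eq_one.2 ?_)
      rw [← Nat.card_eq_fintype_card, hk, pow_zero]
    refine memLocalIdeal_mul_right ((memLocalIdeal_natCast_iff hM).2 ?_) (hf a)
    rw [show (univ.filter (· ∈ MulAction.orbit Q a)).card = p ^ k by
      rw [← hk, Nat.card_eq_fintype_card, Fintype.card_subtype]]
    exact dvd_pow_self p hk0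

/-- Convolution of class functions at an element centralizing a `p`-subgroup. -/
theorem conv_cong (hM : IsPModular p M) {a b : G → ℂ} (ha : IsIntClass M a) (hb : IsIntClass M b)
    {Q : Subgroup G} (hQ : IsPGroup p Q) {h : G} (hh : h ∈ Subgroup.centralizer (Q : Set G))
    [DecidablePred (· ∈ Subgroup.centralizer (Q : Set G))] :
    MemLocalIdeal M (conv a b h -
      ∑ g ∈ univ.filter (· ∈ Subgroup.centralizer (Q : Set G)), a g * b (g⁻¹ * h)) := by
  classical
  letI : MulAction Q G := MulAction.compHom G ((MulAut.conj).comp Q.subtype)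
  have hsmul : ∀ (q : Q) (g : G), q • g = (q : G) * g * (q : G)⁻¹ := fun q g => rfl
  have hfix : ∀ g : G, g ∈ MulAction.fixedPoints Q G ↔ g ∈ Subgroup.centralizer (Q : Set G) := by
    intro g
    simp only [MulAction.mem_fixedPoints, hsmul, Subgroup.mem_centralizer_iff]
    exact ⟨fun hg u hu => mul_inv_eq_iff_eq_mul.1 (hg ⟨u, hu⟩),
      fun hg u => mul_inv_eq_iff_eq_mul.2 (hg (u : G) u.2)⟩
  have h1 := sum_cong_fixed hM hQ (fun g => a g * b (g⁻¹ * h))
    (fun g => memLocalRing_mul (ha.2 g) (hb.2 _)) fun q g => by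
      rw [hsmul, ha.1 g, show ((q : G) * g * (q : G)⁻¹)⁻¹ * h = (q : G) * (g⁻¹ * h) * (q : G)⁻¹ by
        rw [show ((q : G) * g * (q : G)⁻¹)⁻¹ * h = (q : G) * g⁻¹ * ((q : G)⁻¹ * h) by group,
          show (q : G)⁻¹ * h = h * (q : G)⁻¹ from
            ((Subgroup.mem_centralizer_iff.1 hh) _ (Q.inv_mem q.2))]
        group, hb.1]
  simp only [hfix] at h1
  exact h1

/-- A central character which is a unit on a block divides its idempotent. -/
theorem exists_conv_eq_blockCoeff {B : Set (IrrCharacter G)} (hB : IsPBlock M B) {h : G}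
    (hh : ∃ χ ∈ B, ¬ MemLocalIdeal M (centralChar (χ : G → ℂ) h)) :
    ∃ a : G → ℂ, IsIntClass M a ∧ conv (classInd h) a = blockCoeff B := by
  classical
  letI := irrFintype (G := G)
  set v : IrrCharacter G → ℂ := fun χ => centralChar (χ : G → ℂ) h with hv
  have hunit : ∀ ψ ∈ B, ¬ MemLocalIdeal M (v ψ) := by
    obtain ⟨χ, hχ, hχh⟩ := hh
    intro ψ hψ hc
    exact hχh ((memLocalIdeal_iff_of_cong (sameBlock_of_mem hB hχ hψ h)).2 hc)
  have key : ∀ S : Finset (IrrCharacter G), (∀ ψ ∈ S, ψ ∈ B) →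
      ∃ q ∈ omegaRing M G, 1 - ∏ ψ ∈ S, (1 - (fun _ : IrrCharacter G => (v ψ)⁻¹) * v) = v * q := by
    intro S
    induction S using Finset.induction_on with
    | empty => exact fun _ => ⟨0, (omegaRing M G).zero_mem, by simp⟩
    | insert ψ S hψ ih =>
      intro hS
      obtain ⟨q, hq, he⟩ := ih fun φ hφ => hS φ (mem_insert_of_mem hφ)
      have hc : (fun _ : IrrCharacter G => (v ψ)⁻¹) ∈ omegaRing M G :=
        const_mem_omegaRing (memLocalRing_inv (centralChar_mem _ _)
          (hunit ψ (hS ψ (mem_insert_self ψ S))))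
      refine ⟨q + (fun _ : IrrCharacter G => (v ψ)⁻¹) *
        ∏ φ ∈ S, (1 - (fun _ : IrrCharacter G => (v φ)⁻¹) * v),
        add_mem hq (mul_mem hc (prod_mem fun φ hφ => sub_mem (one_mem _)
          (mul_mem (const_mem_omegaRing (memLocalRing_inv (centralChar_mem _ _)
            (hunit φ (hS φ (mem_insert_of_mem hφ))))) (centralChar_mem_omegaRing h)))), ?_⟩
      rw [prod_insert hψ, mul_add, ← he]
      ring
  obtain ⟨q, hq, he⟩ := key (univ.filter (· ∈ B)) fun ψ hψ => (mem_filter.1 hψ).2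
  have he1 : (fun χ : IrrCharacter G => if χ ∈ B then (1 : ℂ) else 0) ∈ omegaRing M G :=
    ⟨blockCoeff B, isIntClass_blockCoeff hB, fun χ => omega_blockCoeff B χ⟩
  obtain ⟨a, ha, hva⟩ := mul_mem he1 hq
  refine ⟨a, ha, funext fun g => ?_⟩
  rw [eq_sum_omega (isClassFunction_conv (isClassFunction_classInd h) ha.1) g,
    eq_sum_omega (isClassFunction_blockCoeff B) g]
  congr 1
  refine sum_congr rfl fun χ _ => ?_
  congr 2
  rw [omega_conv χ (isClassFunction_classInd h), omega_classInd, hva, omega_blockCoeff]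
  have h2 := congrFun he χ
  simp only [Pi.sub_apply, Pi.one_apply, prod_apply, Pi.mul_apply] at h2
  simp only [Pi.mul_apply]
  by_cases hχ : χ ∈ B
  · rw [if_pos hχ, one_mul, ← h2, prod_eq_zero (mem_filter.2 ⟨mem_univ χ, hχ⟩), sub_zero]
    rw [inv_mul_cancel₀ (ne_zero_of_not_memLocalIdeal (hunit χ hχ)), sub_self]
  · rw [if_neg hχ, zero_mul, mul_zero]

/-- A unit central character puts a conjugate of the class in the centralizer of every
`p`-subgroup seen by the idempotent. -/
theorem exists_conj_mem_centralizer (hM : IsPModular p M) {B : Set (IrrCharacter G)}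
    (hB : IsPBlock M B) {g h : G} (hg : ∃ χ ∈ B, ¬ MemLocalIdeal M (centralChar (χ : G → ℂ) g))
    (hh : ¬ MemLocalIdeal M (blockCoeff B h)) {Q : Subgroup G} (hQ : IsPGroup p Q)
    (hQh : h ∈ Subgroup.centralizer (Q : Set G)) :
    ∃ k : G, IsConj g k ∧ k ∈ Subgroup.centralizer (Q : Set G) := by
  classical
  obtain ⟨a, ha, he⟩ := exists_conv_eq_blockCoeff hB hg
  by_contra hne
  push Not at hne
  refine hh ?_
  have h1 := conv_cong hM (isIntClass_classInd g) ha hQ hQh
  rw [he, sum_eq_zero fun k hk => by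
    rw [classInd_of_not_isConj fun hc => hne k hc (mem_filter.1 hk).2, zero_mul], sub_zero] at h1
  exact h1

theorem isDefectClass_of_isConj {B : Set (IrrCharacter G)} {g g' : G} (hc : IsConj g g')
    (hg : IsDefectClass M B g) : IsDefectClass M B g' := by
  classical
  obtain ⟨x, hx⟩ := isConj_iff.1 hc
  have h1 : blockCoeff B g' = blockCoeff B g := by
    rw [← hx, isClassFunction_blockCoeff B g x]
  refine ⟨h1 ▸ hg.1, h1 ▸ hg.2.1, fun χ hχ => ?_⟩
  have h2 : classInd g = classInd g' := by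
    funext z
    by_cases hz : IsConj g z
    · rw [classInd_of_isConj hz, classInd_of_isConj (hc.symm.trans hz)]
    · rw [classInd_of_not_isConj hz, classInd_of_not_isConj fun h => hz (hc.trans h)]
  rw [← omega_classInd, ← h2, omega_classInd]
  exact hg.2.2 χ hχ

theorem le_centralizer_singleton {P : Subgroup G} {g : G} :
    P ≤ Subgroup.centralizer ({g} : Set G) ↔ g ∈ Subgroup.centralizer (P : Set G) := by
  constructor
  · exact fun h => Subgroup.mem_centralizer_iff.2 fun u hu =>
      Subgroup.mem_centralizer_singleton_iff.1 (h hu)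
  · exact fun h u hu =>
      Subgroup.mem_centralizer_singleton_iff.2 (Subgroup.mem_centralizer_iff.1 h u hu)

/-- Defect groups, described by their order. -/
theorem isDefectGroup_iff (hM : IsPModular p M) {B : Set (IrrCharacter G)} (hB : IsPBlock M B)
    {D : Subgroup G} :
    IsDefectGroup p M B D ↔ ∃ g : G, IsDefectClass M B g ∧
      g ∈ Subgroup.centralizer (D : Set G) ∧ Nat.card D = p ^ blockDefect p B := by
  haveI : Fact p.Prime := ⟨hM.1⟩
  constructor
  · intro hD
    have hcard := card_defectGroup hM hB hD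
    obtain ⟨g, hg, P, rfl⟩ := hD
    exact ⟨g, hg, le_centralizer_singleton.1 (Subgroup.map_subtype_le _), hcard⟩
  · rintro ⟨g, hg, hgD, hcard⟩
    have hle := le_centralizer_singleton.2 hgD
    refine ⟨g, hg, Sylow.ofCard (D.subgroupOf (Subgroup.centralizer ({g} : Set G))) ?_, ?_⟩
    · rw [Nat.card_congr (Subgroup.subgroupOfEquivOfLe hle).toEquiv, hcard,
        blockDefect_eq hM hB hg]
    · rw [Sylow.coe_ofCard, Subgroup.map_subgroupOf_eq_of_le hle]

theorem isDefectGroup_conj (hM : IsPModular p M) {B : Set (IrrCharacter G)} (hB : IsPBlock M B)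
    {D : Subgroup G} (hD : IsDefectGroup p M B D) (x : G) :
    IsDefectGroup p M B (D.map (MulAut.conj x).toMonoidHom) := by
  obtain ⟨g, hg, hgD, hcard⟩ := (isDefectGroup_iff hM hB).1 hD
  refine (isDefectGroup_iff hM hB).2
    ⟨x * g * x⁻¹, isDefectClass_of_isConj (isConj_iff.2 ⟨x, rfl⟩) hg, ?_, ?_⟩
  · rw [Subgroup.mem_centralizer_iff]
    rintro _ ⟨u, hu, rfl⟩
    have hc := Subgroup.mem_centralizer_iff.1 hgD u hu
    simp only [MulEquiv.toMonoidHom_eq_coe, MonoidHom.coe_coe, MulAut.conj_apply]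
    calc x * u * x⁻¹ * (x * g * x⁻¹) = x * (u * g) * x⁻¹ := by group
      _ = x * (g * u) * x⁻¹ := by rw [hc]
      _ = x * g * x⁻¹ * (x * u * x⁻¹) := by group
  · rw [Subgroup.card_map_of_injective (MulAut.conj x).injective, hcard]

theorem exists_defectGroup {B : Set (IrrCharacter G)} (hB : IsPBlock M B) (hM : IsPModular p M) :
    ∃ D, IsDefectGroup p M B D := by
  haveI : Fact p.Prime := ⟨hM.1⟩
  obtain ⟨g, hg⟩ := exists_isDefectClass hB
  obtain ⟨S⟩ : Nonempty (Sylow p (Subgroup.centralizer ({g} : Set G))) := inferInstance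
  exact ⟨_, g, hg, S, rfl⟩

theorem isPGroup_defectGroup {B : Set (IrrCharacter G)} {D : Subgroup G}
    (hD : IsDefectGroup p M B D) : IsPGroup p D := by
  obtain ⟨g, hg, P, rfl⟩ := hD
  exact P.isPGroup'.map _

/-- A `p`-subgroup centralizing an element with unit idempotent coefficient is conjugate into
every defect group. -/
theorem exists_conj_le_defectGroup (hM : IsPModular p M) {B : Set (IrrCharacter G)}
    (hB : IsPBlock M B) {D : Subgroup G} (hD : IsDefectGroup p M B D) {h : G}
    (hh : ¬ MemLocalIdeal M (blockCoeff B h)) {Q : Subgroup G} (hQ : IsPGroup p Q)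
    (hQh : h ∈ Subgroup.centralizer (Q : Set G)) :
    ∃ x : G, Q.map (MulAut.conj x).toMonoidHom ≤ D := by
  haveI : Fact p.Prime := ⟨hM.1⟩
  obtain ⟨g, hg, S, rfl⟩ := hD
  obtain ⟨χ, hχ⟩ := exists_mem_block hB
  obtain ⟨k, hk, hkQ⟩ := exists_conj_mem_centralizer hM hB ⟨χ, hχ, hg.2.2 χ hχ⟩ hh hQ hQh
  obtain ⟨c, hc⟩ := isConj_iff.1 hk
  set Q' := Q.map (MulAut.conj c⁻¹).toMonoidHom
  have hle : Q' ≤ (Subgroup.centralizer ({g} : Set G)) := by
    rintro _ ⟨u, hu, rfl⟩
    rw [Subgroup.mem_centralizer_singleton_iff]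
    have hcu := Subgroup.mem_centralizer_iff.1 hkQ u hu
    rw [← hc] at hcu
    simp only [MulEquiv.toMonoidHom_eq_coe, MonoidHom.coe_coe, MulAut.conj_apply]
    calc c⁻¹ * u * c⁻¹⁻¹ * g = c⁻¹ * (u * (c * g * c⁻¹)) * c := by group
      _ = c⁻¹ * (c * g * c⁻¹ * u) * c := by rw [hcu]
      _ = g * (c⁻¹ * u * c⁻¹⁻¹) := by group
  obtain ⟨T, hT⟩ := IsPGroup.exists_le_sylow
    ((hQ.map (MulAut.conj c⁻¹).toMonoidHom).comap_of_injective (Subgroup.centralizer ({g} : Set G)).subtype (Subgroup.centralizer ({g} : Set G)).subtype_injective)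
  obtain ⟨w, hw⟩ := MulAction.exists_smul_eq (Subgroup.centralizer ({g} : Set G)) T S
  refine ⟨(w : G) * c⁻¹, ?_⟩
  rintro _ ⟨u, hu, rfl⟩
  have hu' : (MulAut.conj c⁻¹) u ∈ (Subgroup.centralizer ({g} : Set G)) := hle ⟨u, hu, rfl⟩
  have huT : (⟨_, hu'⟩ : (Subgroup.centralizer ({g} : Set G))) ∈ T := hT (show (MulAut.conj c⁻¹) u ∈ Q' from ⟨u, hu, rfl⟩)
  have hmem : w * ⟨_, hu'⟩ * w⁻¹ ∈ (S : Subgroup (Subgroup.centralizer ({g} : Set G))) := by
    rw [← hw]
    exact ⟨⟨_, hu'⟩, huT, rfl⟩
  refine Subgroup.mem_map.2 ⟨_, hmem, ?_⟩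
  simp [mul_assoc]

theorem exists_defectGroup_ge (hM : IsPModular p M) {B : Set (IrrCharacter G)}
    (hB : IsPBlock M B) {h : G}
    (hh : ¬ MemLocalIdeal M (blockCoeff B h)) {Q : Subgroup G} (hQ : IsPGroup p Q)
    (hQh : h ∈ Subgroup.centralizer (Q : Set G)) :
    ∃ D, IsDefectGroup p M B D ∧ Q ≤ D := by
  obtain ⟨D, hD⟩ := exists_defectGroup hB hM
  obtain ⟨x, hx⟩ := exists_conj_le_defectGroup hM hB hD hh hQ hQh
  refine ⟨_, isDefectGroup_conj hM hB hD x⁻¹, fun u hu => ?_⟩
  exact ⟨_, hx ⟨u, hu, rfl⟩, by simp [mul_assoc]⟩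

/-- Defect groups are conjugate. -/
theorem defectGroup_conj (hM : IsPModular p M) {B : Set (IrrCharacter G)} (hB : IsPBlock M B)
    {D E : Subgroup G} (hD : IsDefectGroup p M B D) (hE : IsDefectGroup p M B E) :
    ∃ x : G, E.map (MulAut.conj x).toMonoidHom = D := by
  obtain ⟨g, hg, hgE, hEcard⟩ := (isDefectGroup_iff hM hB).1 hE
  obtain ⟨x, hx⟩ := exists_conj_le_defectGroup hM hB hD hg.2.1 (isPGroup_defectGroup hE) hgE
  refine ⟨x, Subgroup.eq_of_le_of_card_ge hx ?_⟩
  rw [Subgroup.card_map_of_injective (MulAut.conj x).injective, hEcard, card_defectGroup hM hB hD]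

/-- A character vanishes where the `p`-part lies in no defect group of its block. -/
theorem apply_eq_zero_of_not_mem_defectGroup (hM : IsPModular p M) {B : Set (IrrCharacter G)}
    (hB : IsPBlock M B) {χ : IrrCharacter G} (hχ : χ ∈ B) {g x : G} (hx : IsPPart p g x)
    (hD : ∀ D : Subgroup G, IsDefectGroup p M B D → x ∉ D) : (χ : G → ℂ) g = 0 := by
  classical
  letI := irrFintype (G := G)
  obtain ⟨s, hgs, hcs, ⟨k, hk⟩, hs⟩ := hx
  have hQ : IsPGroup p (Subgroup.zpowers x) :=
    IsPGroup.of_card (n := k) (by rw [Nat.card_zpowers, hk])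
  have hvan : ∀ w : G, Commute x w → MemLocalIdeal M (blockCoeff B w) := by
    intro w hw
    by_contra hne
    obtain ⟨D, hD', hle⟩ := exists_defectGroup_ge hM hB hne hQ (by
      rw [Subgroup.mem_centralizer_iff]
      rintro _ ⟨n, rfl⟩
      exact (hw.zpow_left n).eq)
    exact hD D hD' (hle (Subgroup.mem_zpowers x))
  have hsum := charSum_eq_zero hM (isIntClass_blockCoeff hB) (b := deltaOne)
    (fun g => isIntClass_deltaOne.2 g) (conv_deltaOne deltaOne) (x := x) (y := x) (s := s)
    (t := s⁻¹) (fun g => isClassFunction_deltaOne g x) (fun g => isClassFunction_deltaOne g s)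
    hcs hcs.inv_right (n := k) (by rw [← hk, pow_orderOf_eq_one])
    (by rw [← hk, pow_orderOf_eq_one]) (m := orderOf s) hs (pow_orderOf_eq_one s)
    (by rw [inv_pow, pow_orderOf_eq_one, inv_one]) fun i z hi hz => by
      rw [conv_deltaOne]
      have hi' : Commute x i := mul_inv_eq_iff_eq_mul.1 hi
      have hz' : Commute x z := mul_inv_eq_iff_eq_mul.1 hz
      exact hvan _ (hi'.mul_right ((hcs.mul_right hz').mul_right hcs.inv_right).inv_right)
  have hsum' : ∑ χ ∈ univ.filter (· ∈ B),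
      ((‖(χ : G → ℂ) g‖ ^ 2 : ℝ) : ℂ) = 0 := by
    rw [← hsum]
    refine sum_congr rfl fun ψ _ => ?_
    rw [sum_deltaOne_mul, ← hcs.eq, hgs, show x⁻¹ * s⁻¹ = g⁻¹ by rw [← hgs, hcs.eq, mul_inv_rev],
      ← conj_irr, Complex.mul_conj']
    norm_cast
  rw [← Complex.ofReal_sum, Complex.ofReal_eq_zero] at hsum'
  have h := (sum_eq_zero_iff_of_nonneg fun (ψ : IrrCharacter G) _ =>
    sq_nonneg ‖(ψ : G → ℂ) g‖).1 hsum' χ (mem_filter.2 ⟨mem_univ χ, hχ⟩)
  simpa using h

end CfsgLib.Block
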