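import Cfsg.Agent.Blocks.Cover
import Cfsg.Agent.Blocks.BlockSize
import Cfsg.Agent.Blocks.MinMax
import Cfsg.Agent.Blocks.Heights
import Cfsg.Agent.Char.CliffordCorrespondence

/-!
# The correspondence between blocks of a group and of the stabilizer of a block of a normal subgroup
-/

set_option autoImplicit false
set_option linter.style.haveILetI false
set_option linter.unusedSectionVars false

namespace CfsgLib.Block

open Cfsg Finset CfsgLib.Block.Chr CfsgLib.Char
open scoped ComplexConjugate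

universe u

variable {G : Type u} [Group G] [Fintype G] {N T : Subgroup G} [hN : N.Normal] [Fintype N]
  [Fintype T] {M : Ideal AlgInt} [M.IsPrime] {p : ℕ}

/-- `T` consists of the elements carrying the set `b` into itself. -/
def IsStab (b : Set (IrrCharacter N)) (T : Subgroup G) : Prop :=
  ∀ g : G, ∀ θ ∈ b, (g ∈ T ↔ conjIrr g θ ∈ b)

theorem isStab_of_iff {b : Set (IrrCharacter N)} (hb : IsPBlock M b)
    (hT : ∀ g : G, g ∈ T ↔ ∀ θ ∈ b, ∀ θ' : IrrCharacter N,
      (∀ n : N, (θ' : N → ℂ) n = (θ : N → ℂ) ⟨g * n * g⁻¹, hN.conj_mem n n.2 g⟩) → θ' ∈ b) :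
    IsStab b T := by
  intro g θ hθ
  refine ⟨fun h => (hT g).1 h θ hθ _ fun n => rfl, fun h => (hT g).2 fun η hη η' he => ?_⟩
  rw [show η' = conjIrr g η from Subtype.ext (funext he)]
  exact (sameBlock_iff_mem hb h).2 (sameBlock_conjIrr g (sameBlock_of_mem hb hθ hη))

variable {b : Set (IrrCharacter N)}

theorem IsStab.inertia_le (hS : IsStab b T) {θ : IrrCharacter N} (hθ : θ ∈ b) :
    inertia (θ : N → ℂ) ≤ T := fun g hg =>
  (hS g θ hθ).2 (by rwa [show conjIrr g θ = θ from Subtype.ext hg])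

/-- Restriction from `T` to `N`. -/
def resN (hNT : N ≤ T) (ψ : T → ℂ) : N → ℂ := fun n => ψ ⟨(n : G), hNT n.2⟩

theorem classInner_resN_conj (hNT : N ≤ T) {ψ : T → ℂ} (hψ : IsClassFunction T ψ) {t : G}
    (ht : t ∈ T) (θ : N → ℂ) :
    classInner (resN hNT ψ) (conjOn t θ) = classInner (resN hNT ψ) θ := by
  have h : conjOn t (resN hNT ψ) = resN hNT ψ := funext fun n => by
    have := hψ ⟨(n : G), hNT n.2⟩ ⟨t, ht⟩
    exact this
  conv_lhs => rw [← h]
  exact classInner_conjOn t _ θ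

theorem classInner_pullBack_res (hNT : N ≤ T) [Fintype (N.subgroupOf T)] (ψ : T → ℂ) (θ : N → ℂ) :
    classInner (fun x : N.subgroupOf T => ψ x) (pullBack θ) = classInner (resN hNT ψ) θ := by
  rw [← classInner_pullBack hNT]; rfl

theorem exists_conj_of_constituent (hNT : N ≤ T) {ψ : IrrCharacter T} {θ φ : IrrCharacter N}
    (h : classInner (resN hNT (ψ : T → ℂ)) (θ : N → ℂ) ≠ 0)
    (h' : classInner (resN hNT (ψ : T → ℂ)) (φ : N → ℂ) ≠ 0) :
    ∃ t ∈ T, φ = conjIrr t θ := by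
  classical
  haveI := Fintype.ofFinite (N.subgroupOf T)
  rw [← classInner_pullBack_res hNT] at h h'
  obtain ⟨t, ht⟩ := mem_conjOrbit.1 (mem_conjOrbit_of_constituent ψ.2
    (isIrrCharacter_pullBack hNT θ.2) (isIrrCharacter_pullBack hNT φ.2) h h')
  refine ⟨t, t.2, Subtype.ext (funext fun n => ?_)⟩
  exact congrFun ht ⟨Subgroup.inclusion hNT n, Subgroup.mem_subgroupOf.2 n.2⟩

theorem degree_over (hNT : N ≤ T) {ψ : IrrCharacter T} {θ : IrrCharacter N}
    (h : classInner (resN hNT (ψ : T → ℂ)) (θ : N → ℂ) ≠ 0) :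
    (ψ : T → ℂ) 1 = classInner (resN hNT (ψ : T → ℂ)) (θ : N → ℂ) *
      ((inertia (θ : N → ℂ)).relIndex T : ℂ) * (θ : N → ℂ) 1 := by
  classical
  haveI := Fintype.ofFinite (N.subgroupOf T)
  have hi : inertia (pullBack (T := T) (θ : N → ℂ)) =
      (inertia (θ : N → ℂ)).subgroupOf T := by
    ext t
    rw [Subgroup.mem_subgroupOf, mem_inertia, mem_inertia]
    constructor
    · intro e
      funext n
      exact congrFun e ⟨Subgroup.inclusion hNT n, Subgroup.mem_subgroupOf.2 n.2⟩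
    · intro e
      funext x
      exact congrFun e ⟨((x : T) : G), Subgroup.mem_subgroupOf.mp x.2⟩
  have h1 := degree_eq_mul ψ.2 (isIrrCharacter_pullBack hNT θ.2)
    (by rwa [classInner_pullBack_res hNT])
  rw [classInner_pullBack_res hNT, hi] at h1
  exact h1

/-- Induction from the stabilizer of `b` of characters over `b`. -/
theorem stab_indFun (hS : IsStab b T) (hNT : N ≤ T) {ψ : IrrCharacter T} {θ : IrrCharacter N}
    (hθ : θ ∈ b) (hc : classInner (resN hNT (ψ : T → ℂ)) (θ : N → ℂ) ≠ 0) :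
    ∃ χ : IrrCharacter G, (χ : G → ℂ) = indFun T (ψ : T → ℂ) ∧
      (∀ η ∈ b, classInner (fun n : N => (χ : G → ℂ) n) (η : N → ℂ) =
        classInner (resN hNT (ψ : T → ℂ)) (η : N → ℂ)) := by
  classical
  have hψc : IsCharacter T (ψ : T → ℂ) := IsIrrCharacter.isCharacter ψ.2
  have hI := IsCharacter.indFun (G := G) hψc
  obtain ⟨χ, hχ, hχc⟩ := IsCharacter.exists_constituent hI (fun h0 => by
    have h1 := congrFun h0 1
    rw [indFun_one, Pi.zero_apply, mul_eq_zero] at h1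
    exact h1.elim (by exact_mod_cast T.index_ne_zero_of_finite)
      (IsIrrCharacter.apply_one_ne_zero ψ.2))
  have hχT : classInner (fun t : T => χ t) (ψ : T → ℂ) ≠ 0 := fun h0 => hχc (by
    rw [classInner_indFun _ (IsIrrCharacter.isClassFunction hχ), ← classInner_conj, h0, map_zero])
  have hrestT := IsCharacter.sub_irr
    (IsCharacter.restrict (IsIrrCharacter.isCharacter hχ) T) ψ.2 hχT
  have hsplit : ∀ η : IrrCharacter N, ∃ e k : ℕ,
      classInner (resN hNT (ψ : T → ℂ)) (η : N → ℂ) = e ∧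
      classInner (fun n : N => χ n) (η : N → ℂ) = ((e + k : ℕ) : ℂ) := by
    intro η
    obtain ⟨e, he⟩ := IsCharacter.exists_classInner_eq_natCast
      (IsCharacter.comp hψc (Subgroup.inclusion hNT)) η.2
    obtain ⟨k, hk⟩ := IsCharacter.exists_classInner_eq_natCast
      (IsCharacter.comp hrestT (Subgroup.inclusion hNT)) η.2
    refine ⟨e, k, he, ?_⟩
    rw [Nat.cast_add, ← he, ← hk, ← classInner_add_left]
    congr 1
    funext n
    simp [Subgroup.coe_inclusion]
  obtain ⟨e, k, he, hf⟩ := hsplit θ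
  have he0 : e ≠ 0 := fun h0 => hc (by rw [he, h0, Nat.cast_zero])
  have hf0 : classInner (fun n : N => χ n) (θ : N → ℂ) ≠ 0 := by
    rw [hf, Nat.cast_ne_zero]; omega
  have hχ1 := degree_eq_mul hχ θ.2 hf0
  rw [hf, ← Subgroup.relIndex_mul_index (hS.inertia_le hθ)] at hχ1
  have hψ1 := degree_over hNT hc
  rw [he] at hψ1
  obtain ⟨d, hd, hd'⟩ := IsIrrCharacter.exists_degree θ.2
  have hle := IsCharacter.re_constituent_le hI hχ hχc
  rw [indFun_one, hψ1, hχ1, hd', ← Nat.cast_mul, ← Nat.cast_mul, ← Nat.cast_mul, ← Nat.cast_mul,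
    ← Nat.cast_mul, Complex.natCast_re, Complex.natCast_re, Nat.cast_le] at hle
  have hk0 : k = 0 := by
    by_contra hk0
    set r := (inertia (θ : N → ℂ)).relIndex T with hr
    have hr0 : 0 < r := Nat.pos_of_ne_zero (fun h0 => by
      have := Subgroup.relIndex_mul_index (hS.inertia_le hθ)
      rw [← hr, h0, zero_mul] at this
      exact Subgroup.index_ne_zero_of_finite this.symm)
    have hTi : 0 < T.index := Nat.pos_of_ne_zero T.index_ne_zero_of_finite
    have h3 : (e + k) * (r * T.index) * d = T.index * (e * r * d) + k * (r * T.index) * d := by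
      ring
    have h4 : 0 < k * (r * T.index) * d :=
      Nat.mul_pos (Nat.mul_pos (Nat.pos_of_ne_zero hk0) (Nat.mul_pos hr0 hTi)) hd
    omega
  subst hk0
  have heq : indFun T (ψ : T → ℂ) = χ := IsCharacter.eq_of_constituent hI hχ hχc (by
    rw [indFun_one, hψ1, hχ1, Nat.add_zero, Nat.cast_mul]; ring)
  refine ⟨⟨χ, hχ⟩, heq.symm, fun η hη => ?_⟩
  by_cases hη0 : classInner (fun n : N => χ n) (η : N → ℂ) = 0
  · obtain ⟨e', k', he', hf'⟩ := hsplit η
    rw [hf', Nat.cast_eq_zero] at hη0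
    show classInner (fun n : N => χ n) _ = _
    rw [hf', he']
    norm_cast
    omega
  · obtain ⟨g, hg⟩ := mem_conjOrbit.1 (mem_conjOrbit_of_constituent hχ θ.2 η.2 hf0 hη0)
    have hgT : g ∈ T := (hS g θ hθ).2 (by
      rwa [show conjIrr g θ = η from Subtype.ext hg.symm])
    show classInner (fun n : N => χ n) _ = _
    rw [hg, classInner_restrict_conjOn (IsIrrCharacter.isClassFunction hχ),
      classInner_resN_conj hNT (IsIrrCharacter.isClassFunction ψ.2) hgT, hf, he, Nat.add_zero]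

/-- The only constituent over `b` of the restriction of the induced character. -/
theorem eq_of_constituent_over (hS : IsStab b T) (hNT : N ≤ T) {χ : IrrCharacter G}
    {ψ φ : IrrCharacter T} (hχ : (χ : G → ℂ) = indFun T (ψ : T → ℂ)) {θ η : IrrCharacter N}
    (hθ : θ ∈ b) (hc : classInner (resN hNT (ψ : T → ℂ)) (θ : N → ℂ) ≠ 0)
    (hη : η ∈ b) (hc' : classInner (resN hNT (φ : T → ℂ)) (η : N → ℂ) ≠ 0)
    (hφ : classInner (fun t : T => (χ : G → ℂ) t) (φ : T → ℂ) ≠ 0) : φ = ψ := by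
  classical
  by_contra hne
  obtain ⟨χ', hχ', hall⟩ := stab_indFun hS hNT hθ hc
  have hχe : χ' = χ := Subtype.ext (hχ'.trans hχ.symm)
  subst hχe
  have hres := IsCharacter.restrict (IsIrrCharacter.isCharacter χ'.2) T
  have h1 : classInner (fun t : T => (χ' : G → ℂ) t) (ψ : T → ℂ) ≠ 0 := by
    rw [← classInner_indFun_right (IsIrrCharacter.isClassFunction χ'.2), ← hχ,
      IsIrrCharacter.classInner_self χ'.2]
    exact one_ne_zero
  have h2 : classInner ((fun t : T => (χ' : G → ℂ) t) - (ψ : T → ℂ)) (φ : T → ℂ) ≠ 0 := by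
    rw [classInner_sub_left, IsIrrCharacter.classInner_of_ne ψ.2 φ.2
      (fun h => hne (Subtype.ext h.symm)), sub_zero]
    exact hφ
  have hd := IsCharacter.sub_irr hres ψ.2 h1
  obtain ⟨e, he⟩ := IsCharacter.exists_classInner_eq_natCast
    (IsCharacter.comp (IsIrrCharacter.isCharacter ψ.2) (Subgroup.inclusion hNT)) η.2
  obtain ⟨e', he'⟩ := IsCharacter.exists_classInner_eq_natCast
    (IsCharacter.comp (IsIrrCharacter.isCharacter φ.2) (Subgroup.inclusion hNT)) η.2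
  obtain ⟨k, hk⟩ := IsCharacter.exists_classInner_eq_natCast
    (IsCharacter.comp (IsCharacter.sub_irr hd φ.2 h2) (Subgroup.inclusion hNT)) η.2
  have h3 : classInner (fun n : N => (χ' : G → ℂ) n) (η : N → ℂ) = ((e + e' + k : ℕ) : ℂ) := by
    rw [Nat.cast_add, Nat.cast_add, ← he, ← he', ← hk, ← classInner_add_left,
      ← classInner_add_left]
    congr 1
    funext n
    simp [Subgroup.coe_inclusion]
  have h4 : classInner (fun n : N => (ψ : T → ℂ) (Subgroup.inclusion hNT n)) (η : N → ℂ) =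
      ((e + e' + k : ℕ) : ℂ) := (hall η hη).symm.trans h3
  rw [he, Nat.cast_inj] at h4
  have : e' ≠ 0 := fun h0 => hc' (by
    rw [show resN hNT (φ : T → ℂ) = fun n => (φ : T → ℂ) (Subgroup.inclusion hNT n) from rfl,
      he', h0, Nat.cast_zero])
  omega

/-- Every character over `b` is induced from the stabilizer. -/
theorem exists_stab_inducing (hS : IsStab b T) (hNT : N ≤ T) {χ : IrrCharacter G}
    {θ : IrrCharacter N} (hθ : θ ∈ b)
    (hc : classInner (fun n : N => (χ : G → ℂ) n) (θ : N → ℂ) ≠ 0) :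
    ∃ ψ : IrrCharacter T, (χ : G → ℂ) = indFun T (ψ : T → ℂ) ∧
      classInner (resN hNT (ψ : T → ℂ)) (θ : N → ℂ) ≠ 0 := by
  classical
  have hres := IsCharacter.restrict (IsIrrCharacter.isCharacter χ.2) T
  have h1 : classInner (fun n : N => (χ : G → ℂ) n) (θ : N → ℂ) = ∑ ψ ∈ irrFinset T,
      classInner (fun t : T => (χ : G → ℂ) t) ψ * classInner (resN hNT ψ) (θ : N → ℂ) := by
    have h2 : (fun n : N => (χ : G → ℂ) n) = ∑ ψ ∈ irrFinset T,
        classInner (fun t : T => (χ : G → ℂ) t) ψ • resN hNT ψ := by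
      funext n
      have := congrFun (eq_sum_irr (IsCharacter.isClassFunction hres)) (Subgroup.inclusion hNT n)
      simpa [resN, Finset.sum_apply, Subgroup.inclusion] using this
    rw [h2, classInner_sum_left]
    simp_rw [classInner_smul_left]
  obtain ⟨ψ, hψ, hne⟩ := Finset.exists_ne_zero_of_sum_ne_zero (h1 ▸ hc)
  rw [mem_irrFinset] at hψ
  obtain ⟨hne1, hne2⟩ := mul_ne_zero_iff.1 hne
  obtain ⟨χ', hχ', -⟩ := stab_indFun hS hNT (ψ := ⟨ψ, hψ⟩) hθ hne2
  refine ⟨⟨ψ, hψ⟩, ?_, hne2⟩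
  by_contra hh
  refine hne1 ?_
  rw [← classInner_indFun_right (IsIrrCharacter.isClassFunction χ.2)]
  show classInner (χ : G → ℂ) (indFun T ((⟨ψ, hψ⟩ : IrrCharacter T) : T → ℂ)) = 0
  rw [← hχ', IsIrrCharacter.classInner_of_ne χ.2 χ'.2 fun h => hh (h.trans hχ')]

/-! ### The idempotent of `b` as a class function on the stabilizer -/

open Classical in
/-- The idempotent of `b`, extended by zero to `T`. -/
noncomputable def stabFun (b : Set (IrrCharacter N)) (T : Subgroup G) : T → ℂ :=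
  fun t => if h : (t : G) ∈ N then blockCoeff b ⟨(t : G), h⟩ else 0

theorem isIntClass_stabFun (hb : IsPBlock M b) (hS : IsStab b T) :
    IsIntClass M (stabFun b T) := by
  classical
  letI := irrFintype (G := N)
  refine ⟨fun t x => ?_, fun t => ?_⟩
  · by_cases ht : (t : G) ∈ N
    · have ht' : ((x * t * x⁻¹ : T) : G) ∈ N := hN.conj_mem _ ht (x : G)
      rw [stabFun, stabFun, dif_pos ht, dif_pos ht', blockCoeff_eq_sum, blockCoeff_eq_sum]
      congr 1
      refine sum_bij' (fun φ _ => conjIrr (x : G) φ) (fun φ _ => conjIrr (x : G)⁻¹ φ)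
        (fun φ hφ => ?_) (fun φ hφ => ?_) (fun φ _ => ?_) (fun φ _ => ?_) (fun φ _ => ?_)
      · exact mem_filter.2 ⟨mem_univ _, (hS _ _ (mem_filter.1 hφ).2).1 x.2⟩
      · exact mem_filter.2 ⟨mem_univ _, (hS _ _ (mem_filter.1 hφ).2).1 (T.inv_mem x.2)⟩
      · refine Subtype.ext ?_
        simp only [conjIrr_coe]; rw [conjOn_conjOn, mul_inv_cancel, conjOn_one]
      · refine Subtype.ext ?_
        simp only [conjIrr_coe]; rw [conjOn_conjOn, inv_mul_cancel, conjOn_one]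
      · rw [conjIrr_coe, conjOn_apply_one, conjOn_apply]; rfl
    · have ht' : ((x * t * x⁻¹ : T) : G) ∉ N := fun hc => ht (by
        have := hN.conj_mem _ hc (x : G)⁻¹
        simpa [mul_assoc] using this)
      rw [stabFun, stabFun, dif_neg ht, dif_neg ht']
  · unfold stabFun
    split_ifs
    · exact blockCoeff_mem hb _
    · exact memLocalRing_zero

theorem omega_stabFun_eq_sum (hNT : N ≤ T) [Fintype (IrrCharacter N)] [DecidablePred (· ∈ b)]
    (ψ : IrrCharacter T) :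
    omega (ψ : T → ℂ) (stabFun b T) =
      (∑ φ ∈ univ.filter (· ∈ b), classInner (resN hNT (ψ : T → ℂ)) (φ : N → ℂ) *
        (φ : N → ℂ) 1) / (ψ : T → ℂ) 1 := by
  classical
  rw [omega]
  congr 1
  have h1 : ∑ t : T, stabFun b T t * (ψ : T → ℂ) t =
      ∑ n : N, blockCoeff b n * resN hNT (ψ : T → ℂ) n := by
    refine (Fintype.sum_of_injective (Subgroup.inclusion hNT) (Subgroup.inclusion_injective hNT)
      _ _ (fun t ht => ?_) fun n => ?_).symm
    · rw [stabFun, dif_neg fun h => ht ⟨⟨(t : G), h⟩, rfl⟩, zero_mul]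
    · rw [stabFun, dif_pos (show ((Subgroup.inclusion hNT n : T) : G) ∈ N from n.2)]
      rfl
  have hcl : IsClassFunction N (resN hNT (ψ : T → ℂ)) := IsCharacter.isClassFunction
    (IsCharacter.comp (IsIrrCharacter.isCharacter ψ.2) (Subgroup.inclusion hNT))
  rw [h1, sum_congr rfl fun n _ => congrArg (blockCoeff b n * ·) (classFun_expand hcl n)]
  simp only [mul_sum]
  rw [sum_comm, sum_filter]
  refine sum_congr rfl fun φ _ => ?_
  have h2 := omega_blockCoeff b φ
  rw [omega, div_eq_iff (irr_one_ne_zero φ)] at h2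
  rw [sum_congr rfl fun n _ => show blockCoeff b n *
      (classInner (resN hNT (ψ : T → ℂ)) (φ : N → ℂ) * (φ : N → ℂ) n) =
      classInner (resN hNT (ψ : T → ℂ)) (φ : N → ℂ) * (blockCoeff b n * (φ : N → ℂ) n) by ring,
    ← mul_sum, h2]
  split_ifs <;> simp

theorem omega_stabFun_over (hS : IsStab b T) (hNT : N ≤ T) {ψ : IrrCharacter T}
    {θ : IrrCharacter N} (hθ : θ ∈ b)
    (hc : classInner (resN hNT (ψ : T → ℂ)) (θ : N → ℂ) ≠ 0) :
    omega (ψ : T → ℂ) (stabFun b T) = 1 := by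
  classical
  letI := irrFintype (G := N)
  have hcl : IsClassFunction N (resN hNT (ψ : T → ℂ)) := IsCharacter.isClassFunction
    (IsCharacter.comp (IsIrrCharacter.isCharacter ψ.2) (Subgroup.inclusion hNT))
  rw [omega_stabFun_eq_sum hNT, div_eq_one_iff_eq (irr_one_ne_zero ψ)]
  have h1 := classFun_expand hcl 1
  rw [show resN hNT (ψ : T → ℂ) 1 = (ψ : T → ℂ) 1 from rfl] at h1
  rw [h1]
  refine sum_subset (subset_univ _) fun φ _ hφ => ?_
  by_cases h0 : classInner (resN hNT (ψ : T → ℂ)) (φ : N → ℂ) = 0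
  · rw [h0, zero_mul]
  · obtain ⟨t, ht, rfl⟩ := exists_conj_of_constituent hNT hc h0
    exact absurd (mem_filter.2 ⟨mem_univ _, (hS t θ hθ).1 ht⟩) hφ

theorem omega_stabFun_not_over (hNT : N ≤ T) {ψ : IrrCharacter T}
    (h : ∀ θ ∈ b, classInner (resN hNT (ψ : T → ℂ)) (θ : N → ℂ) = 0) :
    omega (ψ : T → ℂ) (stabFun b T) = 0 := by
  classical
  letI := irrFintype (G := N)
  rw [omega_stabFun_eq_sum hNT, sum_eq_zero fun φ hφ => by
    rw [h φ (mem_filter.1 hφ).2, zero_mul], zero_div]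

/-- Membership in a block covering `b` forces a constituent in `b`. -/
theorem over_of_sameBlock (hb : IsPBlock M b) (hS : IsStab b T) (hNT : N ≤ T)
    {ψ ψ' : IrrCharacter T} (hsb : SameBlock M (ψ : T → ℂ) (ψ' : T → ℂ))
    (hov : ∃ θ ∈ b, classInner (resN hNT (ψ : T → ℂ)) (θ : N → ℂ) ≠ 0) :
    ∃ θ ∈ b, classInner (resN hNT (ψ' : T → ℂ)) (θ : N → ℂ) ≠ 0 := by
  by_contra hne
  push Not at hne
  obtain ⟨θ, hθ, hc⟩ := hov
  have h := omega_cong hsb (isIntClass_stabFun (M := M) hb hS)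
  rw [omega_stabFun_over hS hNT hθ hc, omega_stabFun_not_over hNT hne, sub_zero] at h
  exact not_memLocalIdeal_one h

theorem indFun_mem_localRing (a : T → ℂ) (ha : IsIntClass M a) (g : G) :
    MemLocalRing M (indFun T a g) := by
  classical
  set F : G → ℂ := fun x => extendByZero T a (x⁻¹ * g * x) with hF
  have hinv : ∀ x : G, ∀ t : T, F (x * t) = F x := by
    intro x t
    have e : (x * (t : G))⁻¹ * g * (x * t) = (t : G)⁻¹ * (x⁻¹ * g * x) * t := by group
    simp only [hF, e]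
    by_cases hm : x⁻¹ * g * x ∈ T
    · rw [extendByZero_of_mem a hm,
        extendByZero_of_mem a (T.mul_mem (T.mul_mem (T.inv_mem t.2) hm) t.2)]
      have h := ha.1 ⟨x⁻¹ * g * x, hm⟩ t⁻¹
      rw [inv_inv] at h
      exact h
    · rw [extendByZero_of_not_mem a hm, extendByZero_of_not_mem a fun h => hm (by
        have := T.mul_mem (T.mul_mem t.2 h) (T.inv_mem t.2)
        simpa [mul_assoc] using this)]
  have hsum : ∑ x : G, F x = (Nat.card T : ℂ) * ∑ q : G ⧸ T, F q.out := by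
    rw [← sum_fiberwise univ (fun x : G => (x : G ⧸ T)) F, mul_sum]
    refine sum_congr rfl fun q _ => ?_
    rw [Nat.card_eq_fintype_card, ← card_univ, ← nsmul_eq_mul, ← sum_const]
    refine (sum_bij (fun (t : T) _ => q.out * (t : G)) (fun t _ => ?_) (fun t _ t' _ h =>
      Subtype.ext (mul_left_cancel h)) (fun x hx => ?_) fun t _ => (hinv _ t).symm).symm
    · rw [mem_filter]
      refine ⟨mem_univ _, ?_⟩
      rw [QuotientGroup.mk_mul_of_mem q.out t.2, QuotientGroup.out_eq']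
    · have hq : (q.out : G ⧸ T) = (x : G ⧸ T) := by
        rw [QuotientGroup.out_eq', (mem_filter.1 hx).2]
      exact ⟨⟨q.out⁻¹ * x, QuotientGroup.eq.1 hq⟩, mem_univ _, by simp⟩
  rw [indFun_def, hsum, inv_mul_cancel_left₀ (Nat.cast_ne_zero.2 Nat.card_pos.ne')]
  refine memLocalRing_sum fun q _ => ?_
  simp only [hF]
  by_cases hm : q.out⁻¹ * g * q.out ∈ T
  · rw [extendByZero_of_mem a hm]; exact ha.2 _
  · rw [extendByZero_of_not_mem a hm]; exact memLocalRing_zero

/-- The central character of `T` at `a`, read off from the induced character. -/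
theorem omega_indFun_stab (hb : IsPBlock M b) (hS : IsStab b T) (hNT : N ≤ T)
    {χ : IrrCharacter G} {ψ : IrrCharacter T} {θ : IrrCharacter N}
    (hχ : (χ : G → ℂ) = indFun T (ψ : T → ℂ)) (hθ : θ ∈ b)
    (hc : classInner (resN hNT (ψ : T → ℂ)) (θ : N → ℂ) ≠ 0) {a : T → ℂ} (ha : IsIntClass M a) :
    omega (χ : G → ℂ) (indFun T (conv a (stabFun b T))) = omega (ψ : T → ℂ) a := by
  classical
  letI := irrFintype (G := T)
  set a' := conv a (stabFun b T) with ha'
  have hcl : IsClassFunction T (fun t : T => (χ : G → ℂ) t) := IsCharacter.isClassFunction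
    (IsCharacter.restrict (IsIrrCharacter.isCharacter χ.2) T)
  have h1 : ∑ g : G, indFun T a' g * (χ : G → ℂ) g =
      (T.index : ℂ) * ∑ t : T, a' t * (χ : G → ℂ) t := by
    rw [sum_congr rfl fun g _ => mul_comm _ _, sum_mul_indFun T (isClassFunction_irr χ)]
    congr 1
    exact sum_congr rfl fun t _ => mul_comm _ _
  have h2 : ∑ t : T, a' t * (χ : G → ℂ) t = omega (ψ : T → ℂ) a * (ψ : T → ℂ) 1 := by
    rw [sum_congr rfl fun t _ => congrArg (a' t * ·) (classFun_expand hcl t)]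
    simp only [mul_sum]
    rw [sum_comm]
    have hterm : ∀ φ : IrrCharacter T, ∑ t : T, a' t *
        (classInner (fun t : T => (χ : G → ℂ) t) (φ : T → ℂ) * (φ : T → ℂ) t) =
        classInner (fun t : T => (χ : G → ℂ) t) (φ : T → ℂ) *
          (omega (φ : T → ℂ) a * omega (φ : T → ℂ) (stabFun b T)) * (φ : T → ℂ) 1 := by
      intro φ
      rw [← omega_conv φ ha.1, omega, mul_assoc, div_mul_cancel₀ _ (irr_one_ne_zero φ), mul_sum]
      exact sum_congr rfl fun t _ => by ring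
    rw [sum_congr rfl fun φ _ => hterm φ, sum_eq_single ψ]
    · rw [omega_stabFun_over hS hNT hθ hc, mul_one,
        show classInner (fun t : T => (χ : G → ℂ) t) (ψ : T → ℂ) = 1 from ?_, one_mul]
      rw [← classInner_indFun_right (IsIrrCharacter.isClassFunction χ.2), ← hχ,
        IsIrrCharacter.classInner_self χ.2]
    · intro φ _ hne
      by_cases hov : ∀ η ∈ b, classInner (resN hNT (φ : T → ℂ)) (η : N → ℂ) = 0
      · rw [omega_stabFun_not_over hNT hov]; ring
      · push Not at hov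
        obtain ⟨η, hη, hη'⟩ := hov
        by_cases h0 : classInner (fun t : T => (χ : G → ℂ) t) (φ : T → ℂ) = 0
        · rw [h0]; ring
        · exact absurd (eq_of_constituent_over hS hNT hχ hθ hc hη hη' h0) hne
    · simp
  rw [omega, h1, h2, hχ, indFun_one]
  have : (T.index : ℂ) ≠ 0 := Nat.cast_ne_zero.2 Subgroup.index_ne_zero_of_finite
  have := irr_one_ne_zero ψ
  field_simp

theorem sameBlock_of_indFun (hb : IsPBlock M b) (hS : IsStab b T) (hNT : N ≤ T)
    {χ₁ χ₂ : IrrCharacter G} {ψ₁ ψ₂ : IrrCharacter T} (h₁ : (χ₁ : G → ℂ) = indFun T (ψ₁ : T → ℂ))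
    (h₂ : (χ₂ : G → ℂ) = indFun T (ψ₂ : T → ℂ))
    (hov₁ : ∃ θ ∈ b, classInner (resN hNT (ψ₁ : T → ℂ)) (θ : N → ℂ) ≠ 0)
    (hov₂ : ∃ θ ∈ b, classInner (resN hNT (ψ₂ : T → ℂ)) (θ : N → ℂ) ≠ 0)
    (hsb : SameBlock M (χ₁ : G → ℂ) (χ₂ : G → ℂ)) : SameBlock M (ψ₁ : T → ℂ) (ψ₂ : T → ℂ) := by
  obtain ⟨θ₁, hθ₁, hc₁⟩ := hov₁
  obtain ⟨θ₂, hθ₂, hc₂⟩ := hov₂
  refine sameBlock_of_omega fun t => ?_
  have ha := isIntClass_classInd (M := M) t
  rw [← omega_indFun_stab hb hS hNT h₁ hθ₁ hc₁ ha, ← omega_indFun_stab hb hS hNT h₂ hθ₂ hc₂ ha]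
  exact omega_cong hsb ⟨isClassFunction_indFun T _,
    indFun_mem_localRing _ (isIntClass_conv ha (isIntClass_stabFun hb hS))⟩

theorem centralChar_indFun {χ : IrrCharacter G} {ψ : IrrCharacter T}
    (h : (χ : G → ℂ) = indFun T (ψ : T → ℂ)) (g : G) :
    inducedCentralChar T (ψ : T → ℂ) g = centralChar (χ : G → ℂ) g := by
  rw [inducedCentralChar_eq, ← omega_classInd, h, omega_indFun T ψ (isClassFunction_classInd g)]

/-- An induced character lies in the induced block. -/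
theorem mem_induced_of_indFun {B' : Set (IrrCharacter T)} {B : Set (IrrCharacter G)}
    (hind : IsInducedBlock M T B' B) {χ : IrrCharacter G} {ψ : IrrCharacter T} (hψ : ψ ∈ B')
    (h : (χ : G → ℂ) = indFun T (ψ : T → ℂ)) : χ ∈ B := by
  obtain ⟨χ₀, hχ₀⟩ := exists_mem_block hind.2.1
  refine (sameBlock_iff_mem hind.2.1 hχ₀).2 fun g => ?_
  rw [← centralChar_indFun h]
  exact memLocalIdeal_sub_comm (hind.2.2 ψ hψ χ₀ hχ₀ g)

/-- Part (i) of the correspondence. -/
theorem stab_block_correspond (hb : IsPBlock M b) (hS : IsStab b T) (hNT : N ≤ T)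
    {B' : Set (IrrCharacter T)} (hB' : IsPBlock M B')
    (hcov : ∃ ψ ∈ B', ∃ θ ∈ b, classInner (resN hNT (ψ : T → ℂ)) (θ : N → ℂ) ≠ 0) :
    ∃ B : Set (IrrCharacter G), IsInducedBlock M T B' B ∧
      (∃ χ ∈ B, ∃ θ ∈ b, classInner (fun n : N => (χ : G → ℂ) n) (θ : N → ℂ) ≠ 0) ∧
      (∀ ψ ∈ B', ∃ χ ∈ B, (χ : G → ℂ) = indFun T (ψ : T → ℂ)) ∧
      ∀ χ ∈ B, ∃ ψ ∈ B', (χ : G → ℂ) = indFun T (ψ : T → ℂ) := by
  obtain ⟨ψ₀, hψ₀, θ₀, hθ₀, hc₀⟩ := hcov
  obtain ⟨χ₀, hχ₀, hall⟩ := stab_indFun hS hNT hθ₀ hc₀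
  refine ⟨blockOf M (χ₀ : G → ℂ), ⟨hB', isPBlock_blockOf χ₀, fun ψ hψ χ hχ g => ?_⟩,
    ⟨χ₀, mem_blockOf_self χ₀, θ₀, hθ₀, by rwa [hall θ₀ hθ₀]⟩, fun ψ hψ => ?_, fun χ hχ => ?_⟩
  · have h1 : MemLocalIdeal M (inducedCentralChar T (ψ : T → ℂ) g -
        inducedCentralChar T (ψ₀ : T → ℂ) g) := by
      rw [inducedCentralChar_eq, inducedCentralChar_eq]
      exact omega_cong (sameBlock_of_mem hB' hψ hψ₀)
        (isIntClass_resFun T (isIntClass_classInd g))
    refine memLocalIdeal_sub_trans h1 ?_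
    rw [centralChar_indFun hχ₀]
    exact (hχ : SameBlock M (χ₀ : G → ℂ) (χ : G → ℂ)) g
  · obtain ⟨θ, hθ, hc⟩ := over_of_sameBlock hb hS hNT (sameBlock_of_mem hB' hψ₀ hψ)
      ⟨θ₀, hθ₀, hc₀⟩
    obtain ⟨χ, hχ, -⟩ := stab_indFun hS hNT hθ hc
    refine ⟨χ, fun g => ?_, hχ⟩
    rw [← centralChar_indFun hχ₀, ← centralChar_indFun hχ, inducedCentralChar_eq,
      inducedCentralChar_eq]
    exact omega_cong (sameBlock_of_mem hB' hψ₀ hψ) (isIntClass_resFun T (isIntClass_classInd g))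
  · obtain ⟨η, hη⟩ : ∃ η : IrrCharacter N,
        classInner (fun n : N => (χ : G → ℂ) n) (η : N → ℂ) ≠ 0 := by
      obtain ⟨η, hη, h⟩ := exists_constituent_restrict (N := N) χ.2
      exact ⟨⟨η, hη⟩, h⟩
    obtain ⟨g, θ, hθ, rfl⟩ := mem_orbitUnion_of_covering (isPBlock_blockOf χ₀) hb
      (mem_blockOf_self χ₀) hχ hθ₀ (by rwa [hall θ₀ hθ₀]) hη
    rw [conjIrr_coe, classInner_restrict_conjOn (isClassFunction_irr χ)] at hη
    obtain ⟨ψ, hψ, hc⟩ := exists_stab_inducing hS hNT hθ hη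
    refine ⟨ψ, (sameBlock_iff_mem hB' hψ₀).2 ?_, hψ⟩
    exact sameBlock_of_indFun hb hS hNT hχ₀ hψ ⟨θ₀, hθ₀, hc₀⟩ ⟨θ, hθ, hc⟩ hχ

theorem charDegree_indFun {χ : IrrCharacter G} {ψ : IrrCharacter T}
    (h : (χ : G → ℂ) = indFun T (ψ : T → ℂ)) :
    charDegree (χ : G → ℂ) = T.index * charDegree (ψ : T → ℂ) := by
  have h1 : (χ : G → ℂ) 1 = ((T.index * charDegree (ψ : T → ℂ) : ℕ) : ℂ) := by
    rw [h, indFun_one, (irr_one ψ).1, Nat.cast_mul]
  rw [charDegree, h1, Complex.natCast_re, Nat.floor_natCast]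

/-- Defects and heights are preserved. -/
theorem stab_defect_height {B' : Set (IrrCharacter T)}
    {B : Set (IrrCharacter G)} (hB' : IsPBlock M B')
    (h₁ : ∀ ψ ∈ B', ∃ χ ∈ B, (χ : G → ℂ) = indFun T (ψ : T → ℂ))
    (h₂ : ∀ χ ∈ B, ∃ ψ ∈ B', (χ : G → ℂ) = indFun T (ψ : T → ℂ)) :
    blockDefect p B = blockDefect p B' ∧ ∀ χ ∈ B, ∀ ψ ∈ B',
      (χ : G → ℂ) = indFun T (ψ : T → ℂ) →
        blockHeight p B (χ : G → ℂ) = blockHeight p B' (ψ : T → ℂ) := by
  set S := (fun χ : IrrCharacter G => (charDegree (χ : G → ℂ)).factorization p) '' B with hS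
  set S' := (fun ψ : IrrCharacter T => (charDegree (ψ : T → ℂ)).factorization p) '' B' with hS'
  have hv : ∀ (χ : IrrCharacter G) (ψ : IrrCharacter T), (χ : G → ℂ) = indFun T (ψ : T → ℂ) →
      (charDegree (χ : G → ℂ)).factorization p =
        T.index.factorization p + (charDegree (ψ : T → ℂ)).factorization p := fun χ ψ h => by
    rw [charDegree_indFun h, Nat.factorization_mul Subgroup.index_ne_zero_of_finite
      (irr_one ψ).2.ne', Finsupp.add_apply]
  obtain ⟨ψ₀, hψ₀⟩ := exists_mem_block hB'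
  obtain ⟨χ₀, hχ₀, -⟩ := h₁ ψ₀ hψ₀
  have hne : S.Nonempty := ⟨_, χ₀, hχ₀, rfl⟩
  have hne' : S'.Nonempty := ⟨_, ψ₀, hψ₀, rfl⟩
  have hinf : sInf S = T.index.factorization p + sInf S' := by
    refine le_antisymm ?_ ?_
    · obtain ⟨ψ, hψ, he⟩ := Nat.sInf_mem hne'
      obtain ⟨χ, hχ, hχψ⟩ := h₁ ψ hψ
      refine le_trans (Nat.sInf_le (show _ ∈ S from ⟨χ, hχ, rfl⟩)) (le_of_eq ?_)
      show (charDegree (χ : G → ℂ)).factorization p = _
      rw [hv χ ψ hχψ]
      exact congrArg _ he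
    · obtain ⟨χ, hχ, he⟩ := Nat.sInf_mem hne
      obtain ⟨ψ, hψ, hχψ⟩ := h₂ χ hχ
      rw [← he]
      show _ ≤ (charDegree (χ : G → ℂ)).factorization p
      rw [hv χ ψ hχψ]
      exact Nat.add_le_add_left (Nat.sInf_le (show _ ∈ S' from ⟨ψ, hψ, rfl⟩)) _
  refine ⟨?_, fun χ hχ ψ hψ h => ?_⟩
  · rw [blockDefect, blockDefect, ← hS, ← hS', hinf, ← T.card_mul_index,
      Nat.factorization_mul Nat.card_pos.ne' Subgroup.index_ne_zero_of_finite, Finsupp.add_apply]
    omega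
  · rw [blockHeight, blockHeight, ← hS, ← hS', hinf, hv χ ψ h]
    omega

end CfsgLib.Block
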