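import Cfsg.Agent.Blocks.Correspond

/-!
# Brauer's first main theorem
-/

namespace CfsgLib.Block

open Cfsg Finset CfsgLib.Block.Chr CfsgLib.Char
open scoped ComplexConjugate

set_option linter.unusedSectionVars false
set_option linter.style.haveILetI false

universe u

variable {G : Type u} [Group G] [Fintype G] {p : ℕ}

theorem map_centralizer_sub (H : Subgroup G) (x : H) :
    (Subgroup.centralizer ({x} : Set H)).map H.subtype =
      Subgroup.centralizer ({(x : G)} : Set G) ⊓ H := by
  ext c
  simp only [Subgroup.mem_map, Subgroup.mem_inf, Subgroup.mem_centralizer_singleton_iff]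
  constructor
  · rintro ⟨d, hd, rfl⟩
    exact ⟨congrArg (Subtype.val : H → G) hd, d.2⟩
  · rintro ⟨hc, hH⟩
    exact ⟨⟨c, hH⟩, Subtype.ext hc, rfl⟩

theorem classDefect_sub (H : Subgroup G) (x : H) :
    classDefect p x =
      (Nat.card ↥(Subgroup.centralizer ({(x : G)} : Set G) ⊓ H)).factorization p := by
  rw [← map_centralizer_sub, classDefect, ← Nat.card_congr
    ((Subgroup.centralizer ({x} : Set H)).equivMapOfInjective H.subtype H.subtype_injective).toEquiv]

theorem map_eq_of_card {P K : Subgroup G} (hp : Fact p.Prime) (hPK : P ≤ K)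
    (hP : Nat.card P = p ^ (Nat.card K).factorization p) :
    ∃ S : Sylow p K, (S : Subgroup K).map K.subtype = P :=
  ⟨Sylow.ofCard (P.subgroupOf K) (by
      haveI := hp
      rw [Nat.card_congr (Subgroup.subgroupOfEquivOfLe hPK).toEquiv, hP]),
    by rw [Sylow.coe_ofCard, Subgroup.map_subgroupOf_eq_of_le hPK]⟩

theorem card_of_map_eq {P K : Subgroup G} (hp : Fact p.Prime) (S : Sylow p K)
    (h : (S : Subgroup K).map K.subtype = P) :
    P ≤ K ∧ Nat.card P = p ^ (Nat.card K).factorization p := by
  haveI := hp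
  refine ⟨h ▸ Subgroup.map_subtype_le _, ?_⟩
  rw [← h, ← Nat.card_congr
    ((S : Subgroup K).equivMapOfInjective K.subtype K.subtype_injective).toEquiv]
  exact S.card_eq_multiplicity

variable {P : Subgroup G}

/-- Conjugate elements with defect group `P` centralizing `P` are conjugate in the normalizer. -/
theorem exists_normalizer_conj (hp : p.Prime) {c₁ c₂ : G} (hc : IsConj c₁ c₂)
    (h1 : c₁ ∈ Subgroup.centralizer (P : Set G)) (h2 : c₂ ∈ Subgroup.centralizer (P : Set G))
    (hcard : Nat.card P = p ^ classDefect p c₁) :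
    ∃ n ∈ Subgroup.normalizer (P : Set G), n * c₁ * n⁻¹ = c₂ := by
  haveI : Fact p.Prime := ⟨hp⟩
  obtain ⟨k, rfl⟩ := isConj_iff.1 hc
  set C := Subgroup.centralizer ({k * c₁ * k⁻¹} : Set G)
  have hCcard : Nat.card C = Nat.card (Subgroup.centralizer ({c₁} : Set G)) := by
    have : C = (Subgroup.centralizer ({c₁} : Set G)).map (MulAut.conj k).toMonoidHom := by
      ext u
      rw [Subgroup.mem_centralizer_singleton_iff, Subgroup.mem_map_equiv,
        Subgroup.mem_centralizer_singleton_iff, MulAut.conj_symm_apply]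
      constructor
      · intro h
        calc k⁻¹ * u * k * c₁ = k⁻¹ * (u * (k * c₁ * k⁻¹)) * k := by group
          _ = k⁻¹ * (k * c₁ * k⁻¹ * u) * k := by rw [h]
          _ = c₁ * (k⁻¹ * u * k) := by group
      · intro h
        calc u * (k * c₁ * k⁻¹) = k * (k⁻¹ * u * k * c₁) * k⁻¹ := by group
          _ = k * (c₁ * (k⁻¹ * u * k)) * k⁻¹ := by rw [h]
          _ = k * c₁ * k⁻¹ * u := by group
    rw [this]
    exact (Nat.card_congr ((Subgroup.centralizer ({c₁} : Set G)).equivMapOfInjective _
      (MulAut.conj k).injective).toEquiv).symm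
  set P' := P.map (MulAut.conj k).toMonoidHom
  have hP'card : Nat.card P' = Nat.card P :=
    (Nat.card_congr (P.equivMapOfInjective _ (MulAut.conj k).injective).toEquiv).symm
  have hP'C : P' ≤ C := by
    rintro _ ⟨u, hu, rfl⟩
    rw [Subgroup.mem_centralizer_singleton_iff]
    have := Subgroup.mem_centralizer_iff.1 h1 u hu
    simp only [MulEquiv.coe_toMonoidHom, MulAut.conj_apply]
    calc k * u * k⁻¹ * (k * c₁ * k⁻¹) = k * (u * c₁) * k⁻¹ := by group
      _ = k * (c₁ * u) * k⁻¹ := by rw [this]
      _ = k * c₁ * k⁻¹ * (k * u * k⁻¹) := by group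
  have hcC : Nat.card P = p ^ (Nat.card C).factorization p := by rw [hcard, classDefect, hCcard]
  obtain ⟨S, hS⟩ := map_eq_of_card (K := C) ⟨hp⟩ (le_centralizer_singleton.2 h2) hcC
  obtain ⟨T, hT⟩ := map_eq_of_card (K := C) ⟨hp⟩ hP'C (hP'card.trans hcC)
  obtain ⟨u, hu⟩ := MulAction.exists_smul_eq C T S
  have huc : (u : G) * (k * c₁ * k⁻¹) = k * c₁ * k⁻¹ * u :=
    Subgroup.mem_centralizer_singleton_iff.1 u.2
  refine ⟨u * k, ?_, ?_⟩
  · have hle : P.map (MulAut.conj ((u : G) * k)).toMonoidHom ≤ P := by
      rintro _ ⟨v, hv, rfl⟩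
      have hv' : k * v * k⁻¹ ∈ P' := ⟨v, hv, rfl⟩
      rw [← hT] at hv'
      obtain ⟨w, hw, hwv⟩ := hv'
      rw [← hS]
      refine ⟨u * w * u⁻¹, ?_, ?_⟩
      · show u * w * u⁻¹ ∈ (S : Subgroup C)
        rw [← hu]
        exact Subgroup.smul_mem_pointwise_smul w (MulAut.conj u) _ hw
      · simp only [map_mul, map_inv, MulEquiv.coe_toMonoidHom, MulAut.conj_apply, mul_inv_rev]
        rw [hwv]
        simp [mul_assoc]
    have heq : P.map (MulAut.conj ((u : G) * k)).toMonoidHom = P :=
      Subgroup.eq_of_le_of_card_ge hle (le_of_eq (Nat.card_congr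
        (P.equivMapOfInjective _ (MulAut.conj ((u : G) * k)).injective).toEquiv))
    rw [Subgroup.mem_normalizer_iff]
    intro v
    constructor
    · intro hv
      rw [← heq]
      exact ⟨v, hv, rfl⟩
    · intro hv
      rw [← heq] at hv
      obtain ⟨w, hw, hwv⟩ := hv
      simp only [MulEquiv.coe_toMonoidHom, MulAut.conj_apply] at hwv
      have : w = v := by simpa using hwv
      exact this ▸ hw
  · calc (u : G) * k * c₁ * ((u : G) * k)⁻¹ = (u : G) * (k * c₁ * k⁻¹) * (u : G)⁻¹ := by group
      _ = k * c₁ * k⁻¹ := by rw [huc]; group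

/-- A class of the normalizer with defect group `P` has defect group `P` in `G`. -/
theorem classDefect_eq_of_normalizer (hp : p.Prime) {c : G}
    (hc : c ∈ Subgroup.centralizer (P : Set G))
    (hcard : Nat.card P = p ^ (Nat.card ↥(Subgroup.centralizer ({c} : Set G) ⊓
      Subgroup.normalizer (P : Set G))).factorization p) :
    Nat.card P = p ^ classDefect p c := by
  haveI : Fact p.Prime := ⟨hp⟩
  set C := Subgroup.centralizer ({c} : Set G)
  set n := (Nat.card ↥(C ⊓ Subgroup.normalizer (P : Set G))).factorization p with hn_def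
  have hPC : P ≤ C := le_centralizer_singleton.2 hc
  have hPsub : Nat.card (P.subgroupOf C) = p ^ n := by
    rw [Nat.card_congr (Subgroup.subgroupOfEquivOfLe hPC).toEquiv, hcard]
  have hle : n ≤ classDefect p c := by
    have := Subgroup.card_subgroup_dvd_card (P.subgroupOf C)
    rw [hPsub] at this
    exact (hp.pow_dvd_iff_le_factorization Nat.card_pos.ne').1 this
  rcases hle.eq_or_lt with h | h
  · rw [hcard, h]
  exfalso
  have hdvd : p ^ (n + 1) ∣ Nat.card C :=
    (hp.pow_dvd_iff_le_factorization Nat.card_pos.ne').2 h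
  have h2 := Sylow.prime_pow_dvd_card_normalizer hdvd hPsub
  have h3 : (Subgroup.normalizer ((P.subgroupOf C : Subgroup C) : Set C)).map C.subtype =
      C ⊓ Subgroup.normalizer (P : Set G) := by
    rw [← Subgroup.subgroupOf_normalizer_eq hPC, Subgroup.subgroupOf_map_subtype, inf_comm]
  rw [Nat.card_congr ((Subgroup.normalizer ((P.subgroupOf C : Subgroup C) : Set C)).equivMapOfInjective
    C.subtype C.subtype_injective).toEquiv, h3] at h2
  exact absurd ((hp.pow_dvd_iff_le_factorization Nat.card_pos.ne').1 h2) (by omega)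

variable {M : Ideal AlgInt} [M.IsPrime]

/-- At a class with defect group `P` the induced central character from the normalizer is the
central character. -/
theorem induced_centralChar_normalizer (hM : IsPModular p M) (hP : IsPGroup p P)
    [Fintype (Subgroup.normalizer (P : Set G))]
    (ξ : IrrCharacter (Subgroup.normalizer (P : Set G))) {x : Subgroup.normalizer (P : Set G)}
    (hx : (x : G) ∈ Subgroup.centralizer (P : Set G))
    (hcard : Nat.card P = p ^ classDefect p (x : G)) :
    MemLocalIdeal M
      (inducedCentralChar (Subgroup.normalizer (P : Set G)) (ξ : _ → ℂ) (x : G) -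
        centralChar (ξ : _ → ℂ) x) := by
  classical
  have hPN : P ≤ (Subgroup.normalizer (P : Set G)) := Subgroup.le_normalizer
  haveI : (P.subgroupOf (Subgroup.normalizer (P : Set G))).Normal := (Subgroup.normal_subgroupOf_iff_le_normalizer hPN).2 le_rfl
  set a : (Subgroup.normalizer (P : Set G)) → ℂ := resFun (Subgroup.normalizer (P : Set G)) (classInd (x : G)) + (-1 : ℂ) • classInd x with ha_def
  have hr := isIntClass_resFun (M := M) (Subgroup.normalizer (P : Set G)) (isIntClass_classInd (x : G))
  have hI := isIntClass_classInd (M := M) x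
  have ha : IsIntClass M a := ⟨fun g y => by
      simp only [ha_def, Pi.add_apply, Pi.smul_apply, hr.1 g y, hI.1 g y],
    fun g => memLocalRing_add (hr.2 g)
      (memLocalRing_mul (memLocalRing_neg memLocalRing_one) (hI.2 g))⟩
  have e : inducedCentralChar (Subgroup.normalizer (P : Set G)) (ξ : (Subgroup.normalizer (P : Set G)) → ℂ) (x : G) - centralChar (ξ : (Subgroup.normalizer (P : Set G)) → ℂ) x =
      omega (ξ : (Subgroup.normalizer (P : Set G)) → ℂ) a := by
    rw [ha_def, omega_add, omega_smul, inducedCentralChar_eq, omega_classInd]; ring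
  rw [e]
  refine omega_mem_ideal (Subgroup.normalizer (P : Set G)) ha fun w => ?_
  by_cases hw : (w : G) ∈ Subgroup.centralizer (P : Set G)
  · refine Or.inl ?_
    have h0 : a w = 0 := by
      by_cases hc : IsConj (x : G) (w : G)
      · obtain ⟨n, hn, hnx⟩ := exists_normalizer_conj hM.1 hc hx hw hcard
        have : IsConj x w := isConj_iff.2 ⟨⟨n, hn⟩, Subtype.ext hnx⟩
        simp [ha_def, resFun, classInd_of_isConj hc, classInd_of_isConj this]
      · have : ¬ IsConj x w := fun h => hc ((Subgroup.normalizer (P : Set G)).subtype.map_isConj h)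
        simp [ha_def, resFun, classInd_of_not_isConj hc, classInd_of_not_isConj this]
    rw [h0]
    exact memLocalIdeal_zero
  · exact Or.inr (centralChar_mem_ideal_of_normal hM (P.subgroupOf (Subgroup.normalizer (P : Set G)))
      (hP.of_equiv (Subgroup.subgroupOfEquivOfLe hPN).symm) ξ
      (mt (centralizer_subgroupOf_iff hPN w).1 hw))

/-- **Brauer's first main theorem**, first part. -/
theorem first_main_exists (hM : IsPModular p M) [Fintype (Subgroup.normalizer (P : Set G))]
    {b : Set (IrrCharacter (Subgroup.normalizer (P : Set G)))} (hb : IsPBlock M b)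
    (hD : IsDefectGroup p M b (P.subgroupOf (Subgroup.normalizer (P : Set G)))) :
    ∃ B : Set (IrrCharacter G), IsPBlock M B ∧ IsDefectGroup p M B P ∧
      IsInducedBlock M (Subgroup.normalizer (P : Set G)) b B := by
  classical
  haveI : Fact p.Prime := ⟨hM.1⟩
  set N := Subgroup.normalizer (P : Set G)
  have hPN : P ≤ N := Subgroup.le_normalizer
  have hP : IsPGroup p P :=
    (isPGroup_defectGroup hD).of_equiv (Subgroup.subgroupOfEquivOfLe hPN)
  obtain ⟨B, hind⟩ := exists_induced hM hP hPN (Subgroup.centralizer_le_normalizer _) le_rfl hb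
  refine ⟨B, hind.2.1, ?_, hind⟩
  obtain ⟨y, hy, hyD, hcard⟩ := (isDefectGroup_iff hM hb).1 hD
  have hyC : (y : G) ∈ Subgroup.centralizer (P : Set G) :=
    (centralizer_subgroupOf_iff hPN y).1 hyD
  rw [Nat.card_congr (Subgroup.subgroupOfEquivOfLe hPN).toEquiv] at hcard
  have hG : Nat.card P = p ^ classDefect p (y : G) := by
    refine classDefect_eq_of_normalizer hM.1 hyC ?_
    rw [hcard, blockDefect_eq hM hb hy]
    exact congrArg (p ^ ·) (classDefect_sub N y)
  obtain ⟨χ, hχ⟩ := exists_mem_block hind.2.1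
  obtain ⟨ξ, hξ⟩ := exists_mem_block hb
  have hcong : MemLocalIdeal M (centralChar (χ : G → ℂ) (y : G) - centralChar (ξ : N → ℂ) y) :=
    memLocalIdeal_sub_trans (memLocalIdeal_sub_comm (hind.2.2 ξ hξ χ hχ _))
      (induced_centralChar_normalizer hM hP ξ hyC hG)
  have hle := le_classDefect_of_centralChar hM hind.2.1 (h := (y : G))
    ⟨χ, hχ, fun h => hy.2.2 ξ hξ ((memLocalIdeal_iff_of_cong hcong).1 h)⟩
  obtain ⟨E, hE, hPE⟩ := defectGroup_le_induced hM hind hD
  rw [Subgroup.map_subgroupOf_eq_of_le hPN] at hPE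
  have heq : P = E := Subgroup.eq_of_le_of_card_ge hPE (by
    rw [hG, card_defectGroup hM hind.2.1 hE]
    exact Nat.pow_le_pow_right hM.1.pos hle)
  exact heq ▸ hE

/-- **Brauer's first main theorem**, second part. -/
theorem first_main_existsUnique (hM : IsPModular p M)
    [Fintype (Subgroup.normalizer (P : Set G))] {B : Set (IrrCharacter G)} (hB : IsPBlock M B)
    (hP : IsDefectGroup p M B P) :
    ∃! b : Set (IrrCharacter (Subgroup.normalizer (P : Set G))), IsPBlock M b ∧
      IsDefectGroup p M b (P.subgroupOf (Subgroup.normalizer (P : Set G))) ∧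
      IsInducedBlock M (Subgroup.normalizer (P : Set G)) b B := by
  classical
  haveI : Fact p.Prime := ⟨hM.1⟩
  set N := Subgroup.normalizer (P : Set G)
  have hPN : P ≤ N := Subgroup.le_normalizer
  have hPp := isPGroup_defectGroup hP
  obtain ⟨b, hind⟩ := exists_inducing (H := N) hM hPp hPN (Subgroup.centralizer_le_normalizer _)
    le_rfl hB hP (x := 1) (by rintro _ ⟨u, hu, rfl⟩; simpa using hu)
  refine ⟨b, ⟨hind.1, isDefectGroup_of_induced hM hPN le_rfl hP hind, hind⟩,
    fun b' ⟨hb', hD', hind'⟩ => ?_⟩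
  have hD := isDefectGroup_of_induced hM hPN le_rfl hP hind
  obtain ⟨ξ, hξ⟩ := exists_mem_block hind.1
  obtain ⟨ξ', hξ'⟩ := exists_mem_block hb'
  obtain ⟨χ, hχ⟩ := exists_mem_block hB
  have hd : blockDefect p b' = blockDefect p b :=
    Nat.pow_right_injective hM.1.two_le
      ((card_defectGroup hM hb' hD').symm.trans (card_defectGroup hM hind.1 hD))
  refine block_eq_of_common hb' hind.1 hξ' ((sameBlock_iff_mem hind.1 hξ).2 ?_)
  refine sameBlock_of_defect_classes hM (d := blockDefect p b) ξ ξ'
    (by rw [← eq_blockOf_of_mem hind.1 hξ]) (by rw [← eq_blockOf_of_mem hb' hξ', hd])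
    fun x _ hxd => ?_
  have hcard : Nat.card P = p ^ classDefect p x := by
    rw [hxd, ← card_defectGroup hM hind.1 hD, Nat.card_congr (Subgroup.subgroupOfEquivOfLe hPN).toEquiv]
  by_cases hxC : (x : G) ∈ Subgroup.centralizer (P : Set G)
  · have hG : Nat.card P = p ^ classDefect p (x : G) :=
      classDefect_eq_of_normalizer hM.1 hxC (by rw [hcard, classDefect_sub])
    exact memLocalIdeal_sub_trans
      (memLocalIdeal_sub_comm (induced_centralChar_normalizer hM hPp ξ hxC hG))
      (memLocalIdeal_sub_trans (hind.2.2 ξ hξ χ hχ _) (memLocalIdeal_sub_trans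
        (memLocalIdeal_sub_comm (hind'.2.2 ξ' hξ' χ hχ _))
        (induced_centralChar_normalizer hM hPp ξ' hxC hG)))
  · haveI : (P.subgroupOf N).Normal := (Subgroup.normal_subgroupOf_iff_le_normalizer hPN).2 le_rfl
    have hp' := hPp.of_equiv (Subgroup.subgroupOfEquivOfLe hPN).symm
    have hx' := mt (centralizer_subgroupOf_iff hPN x).1 hxC
    exact memLocalIdeal_sub (centralChar_mem_ideal_of_normal hM (P.subgroupOf N) hp' ξ hx')
      (centralChar_mem_ideal_of_normal hM (P.subgroupOf N) hp' ξ' hx')

end CfsgLib.Block
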