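import Cfsg.Agent.Blocks.Induced

/-!
# Transport of blocks along isomorphisms
-/

namespace CfsgLib.Block

open Cfsg Finset CfsgLib.Block.Chr CfsgLib.Char
open scoped ComplexConjugate

set_option linter.unusedSectionVars false
set_option linter.style.haveILetI false

universe u v

variable {G : Type u} [Group G] {H : Type v} [Group H]

/-- An irreducible character composed with an isomorphism. -/
def irrComp (e : H ≃* G) (χ : IrrCharacter G) : IrrCharacter H :=
  ⟨fun h => (χ : G → ℂ) (e h),
    CfsgLib.Char.IsIrrCharacter.comp_surjective χ.2 e.toMonoidHom e.surjective⟩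

theorem irrComp_coe (e : H ≃* G) (χ : IrrCharacter G) :
    (irrComp e χ : H → ℂ) = fun h => (χ : G → ℂ) (e h) := rfl

theorem irrComp_symm (e : H ≃* G) (χ : IrrCharacter G) : irrComp e.symm (irrComp e χ) = χ :=
  Subtype.ext (funext fun g => by simp [irrComp_coe])

theorem irrComp_symm' (e : H ≃* G) (χ : IrrCharacter H) : irrComp e (irrComp e.symm χ) = χ :=
  Subtype.ext (funext fun g => by simp [irrComp_coe])

theorem omega_irrComp [Fintype G] [Fintype H] (e : H ≃* G) (χ : IrrCharacter G) (a : G → ℂ) :
    omega (irrComp e χ : H → ℂ) (fun h => a (e h)) = omega (χ : G → ℂ) a := by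
  rw [omega, omega, irrComp_coe]
  simp only [map_one]
  congr 1
  exact Equiv.sum_comp e.toEquiv fun g => a g * (χ : G → ℂ) g

theorem centralChar_irrComp (e : H ≃* G) (χ : IrrCharacter G) (h : H) :
    centralChar (irrComp e χ : H → ℂ) h = centralChar (χ : G → ℂ) (e h) := by
  have hidx : (Subgroup.centralizer ({h} : Set H)).index =
      (Subgroup.centralizer ({e h} : Set G)).index := by
    have : Subgroup.centralizer ({e h} : Set G) =
        (Subgroup.centralizer ({h} : Set H)).map e.toMonoidHom := by
      ext c
      rw [Subgroup.mem_map_equiv, Subgroup.mem_centralizer_singleton_iff,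
        Subgroup.mem_centralizer_singleton_iff]
      constructor
      · intro h'
        have := congrArg e.symm h'
        simpa using this
      · intro h'
        have := congrArg e h'
        simpa using this
    rw [this]
    exact (Subgroup.index_map_equiv _ e).symm
  rw [centralChar, centralChar, hidx, irrComp_coe]
  simp

theorem sameBlock_irrComp {M : Ideal AlgInt} (e : H ≃* G) (χ ψ : IrrCharacter G) :
    SameBlock M (irrComp e χ : H → ℂ) (irrComp e ψ : H → ℂ) ↔
      SameBlock M (χ : G → ℂ) (ψ : G → ℂ) := by
  constructor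
  · intro h g
    have := h (e.symm g)
    rwa [centralChar_irrComp, centralChar_irrComp, e.apply_symm_apply] at this
  · intro h g
    rw [centralChar_irrComp, centralChar_irrComp]
    exact h _

theorem blockOf_irrComp {M : Ideal AlgInt} (e : H ≃* G) (χ : IrrCharacter G) :
    blockOf M (irrComp e χ : H → ℂ) = irrComp e '' blockOf M (χ : G → ℂ) := by
  ext ψ
  constructor
  · intro h
    refine ⟨irrComp e.symm ψ, ?_, irrComp_symm' e ψ⟩
    show SameBlock M _ _
    rw [← sameBlock_irrComp e, irrComp_symm']
    exact h
  · rintro ⟨φ, hφ, rfl⟩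
    exact (sameBlock_irrComp e χ φ).2 hφ

theorem isPBlock_image {M : Ideal AlgInt} (e : H ≃* G) {B : Set (IrrCharacter G)}
    (hB : IsPBlock M B) : IsPBlock M (irrComp e '' B) := by
  obtain ⟨χ, rfl⟩ := hB
  exact ⟨irrComp e χ, (blockOf_irrComp e χ).symm⟩

end CfsgLib.Block
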