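import Cfsg.Agent.Blocks.SecondMain
import Cfsg.Agent.Blocks.ThirdMain
import Cfsg.Agent.Solvable.Basics
import Cfsg.Prelude.Def_Local

/-!
# Values of principal block characters on a section

By the second and third main theorems `χ (x * y)`, for `χ` in the principal block, `x` a
`p`-element and `y` a `p`-regular element of `C(x)`, only involves the principal block of `C(x)`.
-/

namespace CfsgLib.Block

open Cfsg Finset CfsgLib.Block.Chr CfsgLib.Char
open scoped ComplexConjugate

set_option linter.unusedSectionVars false
set_option linter.style.haveILetI false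

universe u

variable {G : Type u} [Group G] [Fintype G] {M : Ideal AlgInt} [M.IsPrime] {p : ℕ}

theorem centralizer_induced (hM : IsPModular p M) {x : G} {k : ℕ} (hx : orderOf x = p ^ k)
    [Fintype (Subgroup.centralizer ({x} : Set G))]
    {b : Set (IrrCharacter (Subgroup.centralizer ({x} : Set G)))} (hb : IsPBlock M b) :
    InducedBlockDefined M (Subgroup.centralizer ({x} : Set G)) b := by
  have hQ : IsPGroup p (Subgroup.zpowers x) :=
    IsPGroup.of_card (n := k) (by rw [Nat.card_zpowers, hx])
  refine exists_induced hM hQ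
    (Subgroup.zpowers_le.2 (Subgroup.mem_centralizer_singleton_iff.2 rfl)) (fun w hw =>
      Subgroup.mem_centralizer_singleton_iff.2
        ((Subgroup.mem_centralizer_iff.1 hw x (Subgroup.mem_zpowers x)).symm))
    (le_trans ?_ (Subgroup.centralizer_le_normalizer _)) hb
  intro w hw
  rw [Subgroup.mem_centralizer_iff]
  intro u hu
  obtain ⟨i, rfl⟩ := hu
  exact ((show Commute x w from (Subgroup.mem_centralizer_singleton_iff.1 hw).symm).zpow_left i).eq

theorem isClassFunction_shift (χ : IrrCharacter G) (x : G) :
    IsClassFunction (Subgroup.centralizer ({x} : Set G))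
      (fun c : Subgroup.centralizer ({x} : Set G) => (χ : G → ℂ) (x * (c : G))) := by
  intro c v
  have hv : Commute x (v : G) := (Subgroup.mem_centralizer_singleton_iff.1 v.2).symm
  show (χ : G → ℂ) (x * ((v * c * v⁻¹ : Subgroup.centralizer ({x} : Set G)) : G)) =
    (χ : G → ℂ) (x * (c : G))
  rw [← isClassFunction_irr χ (x * (c : G)) (v : G)]
  refine congrArg (χ : G → ℂ) ?_
  push_cast
  calc x * ((v : G) * c * (v : G)⁻¹) = (x * (v : G)) * c * (v : G)⁻¹ := by group
    _ = (v : G) * (x * c) * (v : G)⁻¹ := by rw [hv.eq]; group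

/-- The expansion of a principal block character on a section. -/
theorem principal_section (hM : IsPModular p M) {x : G} {k : ℕ} (hx : orderOf x = p ^ k)
    [Fintype (Subgroup.centralizer ({x} : Set G))] {χ : IrrCharacter G}
    (hχ : χ ∈ principalBlock M G) (y : Subgroup.centralizer ({x} : Set G))
    (hy : ¬ p ∣ orderOf y) :
    (χ : G → ℂ) (x * (y : G)) = blockPart (principalBlock M (Subgroup.centralizer ({x} : Set G)))
      (fun c : Subgroup.centralizer ({x} : Set G) => (χ : G → ℂ) (x * (c : G))) y := by
  classical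
  haveI : Fact p.Prime := ⟨hM.1⟩
  letI := irrFintype (G := Subgroup.centralizer ({x} : Set G))
  haveI : Fintype (Set (IrrCharacter (Subgroup.centralizer ({x} : Set G)))) := Fintype.ofFinite _
  set θ : Subgroup.centralizer ({x} : Set G) → ℂ := fun c => (χ : G → ℂ) (x * (c : G)) with hθdef
  have hexp := classFun_expand (isClassFunction_shift χ x) y
  show θ y = _
  rw [blockPart_eq_sum_inner]
  rw [show θ y = _ from hexp, ← sum_filter_add_sum_filter_not univ
    (· ∈ principalBlock M (Subgroup.centralizer ({x} : Set G))), add_eq_left]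
  rw [← sum_fiberwise _ (fun ξ : IrrCharacter (Subgroup.centralizer ({x} : Set G)) =>
    blockOf M (ξ : Subgroup.centralizer ({x} : Set G) → ℂ))]
  refine sum_eq_zero fun b _ => ?_
  by_cases hb : ∃ ξ : IrrCharacter (Subgroup.centralizer ({x} : Set G)), b = blockOf M (ξ : Subgroup.centralizer ({x} : Set G) → ℂ) ∧
      ξ ∉ principalBlock M (Subgroup.centralizer ({x} : Set G))
  · obtain ⟨ξ, rfl, hξ⟩ := hb
    have hP := isPBlock_blockOf (M := M) ξ
    have hset : (univ.filter fun ζ : IrrCharacter (Subgroup.centralizer ({x} : Set G)) =>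
          ζ ∉ principalBlock M (Subgroup.centralizer ({x} : Set G))).filter
        (fun ζ : IrrCharacter (Subgroup.centralizer ({x} : Set G)) =>
          blockOf M (ζ : Subgroup.centralizer ({x} : Set G) → ℂ) =
          blockOf M (ξ : Subgroup.centralizer ({x} : Set G) → ℂ)) =
        univ.filter (· ∈ blockOf M (ξ : Subgroup.centralizer ({x} : Set G) → ℂ)) := by
      ext ζ
      simp only [mem_filter, mem_univ, true_and]
      refine ⟨fun h => h.2 ▸ mem_blockOf_self ζ, fun h => ⟨fun hp => hξ ?_,
        (eq_blockOf_of_mem hP h).symm⟩⟩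
      rw [block_eq_of_common isPBlock_principalBlock hP hp h]
      exact mem_blockOf_self ξ
    rw [hset]
    have h0 := blockPart_eq_zero_of_not_induced hM hx isPBlock_principalBlock hχ hP
      (fun hind => hξ ((third_main hM (centralizer_induced hM hx hP)).1 hind ▸ mem_blockOf_self ξ))
      y hy
    rw [blockPart_eq_sum_inner] at h0
    exact h0
  · push Not at hb
    refine sum_eq_zero fun ξ hξ => ?_
    exfalso
    simp only [mem_filter, mem_univ, true_and] at hξ
    exact hξ.1 (hb ξ hξ.2.symm)

/-- Principal block characters do not see the `p'`-core of the centralizer. -/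
theorem principal_apply_mul_core (hM : IsPModular p M) {x : G} {k : ℕ} (hx : orderOf x = p ^ k)
    {v : G} (hv : v ∈ centralizerPPrimeCore p x) {χ : IrrCharacter G}
    (hχ : χ ∈ principalBlock M G) : (χ : G → ℂ) (x * v) = (χ : G → ℂ) x := by
  classical
  haveI : Fintype (Subgroup.centralizer ({x} : Set G)) := Fintype.ofFinite _
  obtain ⟨w, hw, rfl⟩ := Subgroup.mem_map.1 hv
  set N := pPrimeCore p (Subgroup.centralizer ({x} : Set G))
  haveI : N.Normal := CfsgLib.Solvable.pPrimeCore_normal p
  have hN : ¬ p ∣ Nat.card N := hM.1.coprime_iff_not_dvd.1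
    (CfsgLib.Solvable.coprime_card_pPrimeCore (G := Subgroup.centralizer ({x} : Set G)) p).symm
  have hwreg : ¬ p ∣ orderOf w := fun h => hN (h.trans (Subgroup.orderOf_dvd_natCard N hw))
  show (χ : G → ℂ) (x * (w : G)) = _
  rw [principal_section hM hx hχ w hwreg]
  conv_rhs => rw [← mul_one x, ← OneMemClass.coe_one (Subgroup.centralizer ({x} : Set G)),
    principal_section hM hx hχ 1 (by rw [orderOf_one]; exact hM.1.not_dvd_one)]
  letI := irrFintype (G := Subgroup.centralizer ({x} : Set G))
  rw [blockPart_eq_sum_inner, blockPart_eq_sum_inner]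
  refine sum_congr rfl fun ξ hξ => ?_
  congr 1
  exact blockOf_subset_normal hM N hN (χ := oneIrr _) (fun _ _ => rfl) (mem_filter.1 hξ).2 w hw

end CfsgLib.Block
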