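import Cfsg.Agent.Blocks.LocalPrincipal

/-!
# Block orthogonality on a section

For a `p`-element `x` with centralizer `H` the column sums of `G` at `x * y`, `x * y'` agree with
those of `H` at `y`, `y'`; projecting to a block of `H` gives the local orthogonality relations.
-/

namespace CfsgLib.Block

open Cfsg Finset CfsgLib.Block.Chr CfsgLib.Char
open scoped ComplexConjugate

set_option linter.unusedSectionVars false
set_option linter.style.haveILetI false

universe u

variable {G : Type u} [Group G] [Fintype G] {p : ℕ}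

theorem isPPart_mul (hp : p.Prime) {x : G} {k : ℕ} (hx : orderOf x = p ^ k)
    (y : Subgroup.centralizer ({x} : Set G)) (hy : ¬ p ∣ orderOf y) :
    IsPPart p (x * (y : G)) x :=
  ⟨y, rfl, (Subgroup.mem_centralizer_singleton_iff.1 y.2).symm, ⟨k, hx⟩,
    by rwa [Subgroup.orderOf_coe]⟩

theorem fix_of_conj_section (hp : p.Prime) {x : G} {k : ℕ} (hx : orderOf x = p ^ k)
    {y y' : Subgroup.centralizer ({x} : Set G)} (hy : ¬ p ∣ orderOf y) (hy' : ¬ p ∣ orderOf y')
    {c : G} (hc : c * (x * (y : G)) * c⁻¹ = x * (y' : G)) :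
    c ∈ Subgroup.centralizer ({x} : Set G) ∧ c * (y : G) * c⁻¹ = y' := by
  classical
  have hcomm : Commute x (y : G) := (Subgroup.mem_centralizer_singleton_iff.1 y.2).symm
  have hg : c * x * c⁻¹ * (c * (y : G) * c⁻¹) = x * (y' : G) := by rw [← hc]; group
  have hxc : x = c * x * c⁻¹ := pPart_unique hp (isPPart_mul hp hx y' hy') hg
    (hcomm.map (MulAut.conj c)) (n := k)
    (by rw [conj_pow, ← hx, pow_orderOf_eq_one]; simp) (m := orderOf y) hy
    (by rw [conj_pow, ← Subgroup.orderOf_coe, pow_orderOf_eq_one]; simp)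
  refine ⟨?_, ?_⟩
  · rw [Subgroup.mem_centralizer_singleton_iff]
    calc c * x = c * x * c⁻¹ * c := by group
      _ = x * c := by rw [← hxc]
  · rw [← hxc] at hg
    exact mul_left_cancel hg

theorem isConj_section_iff (hp : p.Prime) {x : G} {k : ℕ} (hx : orderOf x = p ^ k)
    {y y' : Subgroup.centralizer ({x} : Set G)} (hy : ¬ p ∣ orderOf y) (hy' : ¬ p ∣ orderOf y') :
    IsConj (x * (y : G)) (x * (y' : G)) ↔ IsConj y y' := by
  constructor
  · intro h
    obtain ⟨c, hc⟩ := isConj_iff.1 h
    obtain ⟨h1, h2⟩ := fix_of_conj_section hp hx hy hy' hc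
    exact isConj_iff.2 ⟨⟨c, h1⟩, Subtype.ext h2⟩
  · intro h
    obtain ⟨c, hc⟩ := isConj_iff.1 h
    refine isConj_iff.2 ⟨c, ?_⟩
    have hcx : Commute x (c : G) := (Subgroup.mem_centralizer_singleton_iff.1 c.2).symm
    rw [← hc]
    push_cast
    calc (c : G) * (x * y) * (c : G)⁻¹ = ((c : G) * x) * y * (c : G)⁻¹ := by group
      _ = x * c * y * (c : G)⁻¹ := by rw [← hcx.eq]
      _ = x * (c * y * (c : G)⁻¹) := by group

theorem card_centralizer_section (hp : p.Prime) {x : G} {k : ℕ} (hx : orderOf x = p ^ k)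
    (y : Subgroup.centralizer ({x} : Set G)) (hy : ¬ p ∣ orderOf y) :
    Nat.card (Subgroup.centralizer ({x * (y : G)} : Set G)) =
      Nat.card (Subgroup.centralizer ({y} : Set (Subgroup.centralizer ({x} : Set G)))) := by
  have h : Subgroup.centralizer ({x * (y : G)} : Set G) =
      (Subgroup.centralizer ({y} : Set (Subgroup.centralizer ({x} : Set G)))).map
        (Subgroup.centralizer ({x} : Set G)).subtype := by
    ext c
    rw [Subgroup.mem_centralizer_singleton_iff, Subgroup.mem_map]
    constructor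
    · intro hc
      obtain ⟨h1, h2⟩ := fix_of_conj_section hp hx hy hy (c := c)
        (by rw [hc, mul_inv_cancel_right])
      refine ⟨⟨c, h1⟩, Subgroup.mem_centralizer_singleton_iff.2 (Subtype.ext ?_), rfl⟩
      show c * (y : G) = (y : G) * c
      exact mul_inv_eq_iff_eq_mul.1 h2
    · rintro ⟨d, hd, rfl⟩
      have h1 : (d : G) * y = (y : G) * d :=
        congrArg Subtype.val (Subgroup.mem_centralizer_singleton_iff.1 hd)
      have h2 : (d : G) * x = x * d := Subgroup.mem_centralizer_singleton_iff.1 d.2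
      exact (Commute.mul_right h2 h1).eq
  rw [h, ← Nat.card_congr ((Subgroup.centralizer
    ({y} : Set (Subgroup.centralizer ({x} : Set G)))).equivMapOfInjective _
      (Subgroup.subtype_injective _)).toEquiv]

theorem sum_section (hp : p.Prime) {x : G} {k : ℕ} (hx : orderOf x = p ^ k)
    [Fintype (Subgroup.centralizer ({x} : Set G))] [Fintype (IrrCharacter G)]
    [Fintype (IrrCharacter (Subgroup.centralizer ({x} : Set G)))]
    (y y' : Subgroup.centralizer ({x} : Set G)) (hy : ¬ p ∣ orderOf y) (hy' : ¬ p ∣ orderOf y') :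
    ∑ ζ : IrrCharacter G, (ζ : G → ℂ) (x * (y : G)) * conj ((ζ : G → ℂ) (x * (y' : G))) =
      ∑ φ : IrrCharacter (Subgroup.centralizer ({x} : Set G)),
        (φ : _ → ℂ) y * conj ((φ : _ → ℂ) y') := by
  classical
  rw [column_orth, column_orth, card_centralizer_section hp hx y hy]
  simp only [isConj_section_iff hp hx hy hy']

theorem blockPart_congr_regular {M : Ideal AlgInt} [M.IsPrime] (hM : IsPModular p M)
    {b : Set (IrrCharacter G)} (hb : IsPBlock M b) {θ θ' : G → ℂ}
    (h : ∀ c, ¬ p ∣ orderOf c → θ c = θ' c) {y : G} (hy : ¬ p ∣ orderOf y) :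
    blockPart b θ y = blockPart b θ' y := by
  have e : regPart p θ = regPart p θ' := by
    funext c
    by_cases hc : p ∣ orderOf c
    · rw [regPart_of_dvd hc, regPart_of_dvd hc]
    · rw [regPart_of_not_dvd hc, regPart_of_not_dvd hc, h c hc]
  rw [← regPart_of_not_dvd (f := blockPart b θ) hy, ← blockPart_regPart hM hb, e,
    blockPart_regPart hM hb, regPart_of_not_dvd hy]

theorem blockPart_sum_mul {ι : Type*} (s : Finset ι) (c : ι → ℂ) (F : ι → G → ℂ)
    (b : Set (IrrCharacter G)) (y : G) :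
    blockPart b (fun z => ∑ i ∈ s, c i * F i z) y = ∑ i ∈ s, c i * blockPart b (F i) y := by
  classical
  letI := irrFintype (G := G)
  simp only [blockPart_eq_sum, sum_mul, mul_sum]
  rw [sum_comm_cycle]
  refine sum_congr rfl fun i _ => ?_
  exact sum_congr rfl fun z _ => sum_congr rfl fun χ _ => by ring

/-- The local kernel of a block of the centralizer in terms of the characters of the group. -/
theorem blockPart_section_kernel {M : Ideal AlgInt} [M.IsPrime] (hM : IsPModular p M) {x : G}
    {k : ℕ} (hx : orderOf x = p ^ k) [Fintype (Subgroup.centralizer ({x} : Set G))]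
    [Fintype (IrrCharacter G)] [Fintype (IrrCharacter (Subgroup.centralizer ({x} : Set G)))]
    {b : Set (IrrCharacter (Subgroup.centralizer ({x} : Set G)))} [DecidablePred (· ∈ b)]
    (hb : IsPBlock M b) (y y' : Subgroup.centralizer ({x} : Set G)) (hy : ¬ p ∣ orderOf y)
    (hy' : ¬ p ∣ orderOf y') :
    ∑ φ ∈ univ.filter (· ∈ b), (φ : _ → ℂ) y * conj ((φ : _ → ℂ) y') =
      ∑ ζ : IrrCharacter G, blockPart b
        (fun c : Subgroup.centralizer ({x} : Set G) => (ζ : G → ℂ) (x * (c : G))) y *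
          conj ((ζ : G → ℂ) (x * (y' : G))) := by
  have h := blockPart_congr_regular hM hb
    (θ := fun c => ∑ φ : IrrCharacter (Subgroup.centralizer ({x} : Set G)),
      conj ((φ : _ → ℂ) y') * (φ : _ → ℂ) c)
    (θ' := fun c : Subgroup.centralizer ({x} : Set G) => ∑ ζ : IrrCharacter G,
      conj ((ζ : G → ℂ) (x * (y' : G))) * (ζ : G → ℂ) (x * (c : G)))
    (fun c hc => by
      simp only [mul_comm (conj _)]
      exact (sum_section hM.1 hx c y' hc hy').symm) hy
  rw [blockPart_sum_mul, blockPart_sum_mul] at h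
  rw [sum_congr rfl fun ζ _ => mul_comm (blockPart b _ y) _, ← h, sum_filter]
  refine sum_congr rfl fun φ _ => ?_
  rw [blockPart_irr]
  split_ifs
  · exact mul_comm _ _
  · simp

theorem principal_section_kernel {M : Ideal AlgInt} [M.IsPrime] (hM : IsPModular p M) {x : G}
    {k : ℕ} (hx : orderOf x = p ^ k) [Fintype (Subgroup.centralizer ({x} : Set G))]
    [Fintype (IrrCharacter G)] [Fintype (IrrCharacter (Subgroup.centralizer ({x} : Set G)))]
    [DecidablePred (· ∈ principalBlock M G)]
    [DecidablePred (· ∈ principalBlock M (Subgroup.centralizer ({x} : Set G)))]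
    (y y' : Subgroup.centralizer ({x} : Set G)) (hy : ¬ p ∣ orderOf y) (hy' : ¬ p ∣ orderOf y') :
    ∑ ζ ∈ univ.filter (· ∈ principalBlock M G),
        (ζ : G → ℂ) (x * (y : G)) * conj ((ζ : G → ℂ) (x * (y' : G))) =
      ∑ φ ∈ univ.filter (· ∈ principalBlock M (Subgroup.centralizer ({x} : Set G))),
        (φ : _ → ℂ) y * conj ((φ : _ → ℂ) y') := by
  have hb := isPBlock_principalBlock (M := M) (G := Subgroup.centralizer ({x} : Set G))
  rw [blockPart_section_kernel hM hx hb y y' hy hy', sum_filter]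
  refine sum_congr rfl fun ζ _ => ?_
  split_ifs with hζ
  · rw [← principal_section hM hx hζ y hy]
  · rw [blockPart_eq_zero_of_not_induced hM hx (isPBlock_blockOf ζ) (mem_blockOf_self ζ) hb ?_ y hy,
      zero_mul]
    intro hind
    refine hζ ?_
    haveI : Fact p.Prime := ⟨hM.1⟩
    rw [induced_unique ((third_main hM (centralizer_induced hM hx hb)).2 rfl) hind]
    exact mem_blockOf_self ζ

theorem principal_complement_sum {M : Ideal AlgInt} [M.IsPrime] (hM : IsPModular p M)
    [Fintype (IrrCharacter G)] (N : Subgroup G) [N.Normal] (hN : ¬ p ∣ Nat.card N)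
    (hidx : ∃ k : ℕ, N.index = p ^ k) [DecidablePred (· ∈ principalBlock M G)] {y : G}
    (hy : ¬ p ∣ orderOf y) :
    ∑ χ ∈ univ.filter (· ∈ principalBlock M G), (χ : G → ℂ) y * conj ((χ : G → ℂ) y) =
      ((p ^ (Nat.card G).factorization p : ℕ) : ℂ) := by
  classical
  obtain ⟨k, hk⟩ := hidx
  have hyN : y ∈ N := by
    rw [← QuotientGroup.eq_one_iff (N := N), ← orderOf_eq_one_iff]
    have h1 : orderOf (y : G ⧸ N) ∣ p ^ k := by
      rw [← hk, Subgroup.index]; exact orderOf_dvd_natCard _
    exact Nat.eq_one_of_dvd_coprimes ((hM.1.coprime_iff_not_dvd.2 hy).pow_left k) h1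
      (orderOf_map_dvd (QuotientGroup.mk' N) y)
  have hpb := principalBlock_of_complement hM N hN ⟨k, hk⟩
  have e1 := blockCoeff_normal N (1 : G)
  rw [if_pos (one_mem N), ← hpb, blockCoeff_eq_sum] at e1
  have hp : (Nat.card G).factorization p = k := by
    rw [← N.index_mul_card, Nat.factorization_mul Subgroup.index_ne_zero_of_finite
      Nat.card_pos.ne', Finsupp.add_apply, hk, hM.1.factorization_pow, Finsupp.single_eq_same,
      Nat.factorization_eq_zero_of_not_dvd hN, add_zero]
  have hG : (Nat.card G : ℂ) ≠ 0 := Nat.cast_ne_zero.2 Nat.card_pos.ne'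
  have hN0 : (Nat.card N : ℂ) ≠ 0 := Nat.cast_ne_zero.2 Nat.card_pos.ne'
  have hs : ∑ χ ∈ univ.filter (· ∈ principalBlock M G), (χ : G → ℂ) y * conj ((χ : G → ℂ) y) =
      ∑ χ ∈ univ.filter (· ∈ principalBlock M G), (χ : G → ℂ) 1 * conj ((χ : G → ℂ) 1) := by
    refine sum_congr rfl fun χ hχ => ?_
    have hk' : ∀ n ∈ N, (χ : G → ℂ) n = (χ : G → ℂ) 1 := by
      have := (mem_filter.1 hχ).2
      rwa [hpb] at this
    rw [hk' y hyN]
  rw [hs, hp]
  have h2 : ((p ^ k : ℕ) : ℂ) * (Nat.card N : ℂ) = (Nat.card G : ℂ) := by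
    rw [← hk, ← Nat.cast_mul, N.index_mul_card]
  field_simp at e1
  refine mul_right_cancel₀ hN0 ?_
  rw [h2]
  linear_combination e1

end CfsgLib.Block
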