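import Cfsg.Agent.Blocks.LocalRing
import Mathlib.RingTheory.Polynomial.Cyclotomic.Basic
import Mathlib.FieldTheory.KummerExtension
import Mathlib.Analysis.Complex.Polynomial.Basic

/-!
# Local units congruent to one, and their roots of order prime to the prime
-/

set_option autoImplicit false
set_option linter.style.haveILetI false

namespace CfsgLib.Block

open Cfsg Finset

variable {M : Ideal AlgInt} [M.IsPrime] {p : ℕ}

/-- A local integer congruent to one. -/
def NearOne (M : Ideal AlgInt) (x : ℂ) : Prop := MemLocalRing M x ∧ MemLocalIdeal M (x - 1)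

theorem nearOne_one : NearOne M (1 : ℂ) :=
  ⟨memLocalRing_one, by rw [sub_self]; exact memLocalIdeal_zero⟩

theorem NearOne.not_mem {x : ℂ} (h : NearOne M x) : ¬ MemLocalIdeal M x := fun hx =>
  not_memLocalIdeal_one ((memLocalIdeal_iff_of_cong h.2).1 hx)

theorem NearOne.ne_zero {x : ℂ} (h : NearOne M x) : x ≠ 0 := ne_zero_of_not_memLocalIdeal h.not_mem

theorem NearOne.mul {x y : ℂ} (hx : NearOne M x) (hy : NearOne M y) : NearOne M (x * y) := by
  refine ⟨memLocalRing_mul hx.1 hy.1, memLocalIdeal_sub_trans (y := x) ?_ hx.2⟩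
  rw [← mul_sub_one]
  exact memLocalIdeal_mul_left hx.1 hy.2

theorem NearOne.inv {x : ℂ} (hx : NearOne M x) : NearOne M x⁻¹ := by
  refine ⟨memLocalRing_inv hx.1 hx.not_mem, ?_⟩
  have h := memLocalIdeal_mul_left (memLocalRing_inv hx.1 hx.not_mem) (memLocalIdeal_neg hx.2)
  rwa [neg_sub, mul_sub, mul_one, inv_mul_cancel₀ hx.ne_zero] at h

theorem NearOne.pow {x : ℂ} (hx : NearOne M x) (n : ℕ) : NearOne M (x ^ n) := by
  induction n with
  | zero => rw [pow_zero]; exact nearOne_one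
  | succ n ih => rw [pow_succ]; exact ih.mul hx

theorem nearOne_prod {ι : Type*} (s : Finset ι) {f : ι → ℂ} (h : ∀ i ∈ s, NearOne M (f i)) :
    NearOne M (∏ i ∈ s, f i) :=
  Finset.prod_induction f (NearOne M) (fun _ _ => NearOne.mul) nearOne_one h

/-- A quotient of congruent local units. -/
theorem nearOne_div {x y : ℂ} (hy : MemLocalRing M y) (hyu : ¬ MemLocalIdeal M y)
    (hx : MemLocalRing M x) (h : MemLocalIdeal M (x - y)) : NearOne M (x / y) := by
  have hi := memLocalRing_inv hy hyu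
  refine ⟨by rw [div_eq_mul_inv]; exact memLocalRing_mul hx hi, ?_⟩
  have h' := memLocalIdeal_mul_right h hi
  rwa [sub_mul, mul_inv_cancel₀ (ne_zero_of_not_memLocalIdeal hyu), ← div_eq_mul_inv] at h'

theorem NearOne.eq_one_of_pow (hM : IsPModular p M) {z : ℂ} (h : NearOne M z) {n : ℕ}
    (hn : ¬ p ∣ n) (hz : z ^ n = 1) : z = 1 := by
  have hs : MemLocalIdeal M ((∑ i ∈ range n, z ^ i) - (n : ℂ)) := by
    rw [show (n : ℂ) = ∑ i ∈ range n, (1 : ℂ) by simp, ← sum_sub_distrib]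
    exact memLocalIdeal_sum fun i _ => (h.pow i).2
  have hne : (∑ i ∈ range n, z ^ i) ≠ 0 := fun h0 => hn ((memLocalIdeal_natCast_iff hM).1
    ((memLocalIdeal_iff_of_cong hs).1 (by rw [h0]; exact memLocalIdeal_zero)))
  have he := geom_sum_mul z n
  rw [hz, sub_self] at he
  exact sub_eq_zero.1 ((mul_eq_zero.1 he).resolve_left hne)

theorem exists_nearOne_root {a : ℂ} (ha : NearOne M a) {n : ℕ} (hn : 0 < n) :
    ∃ z, NearOne M z ∧ z ^ n = a := by
  obtain ⟨r, hr⟩ := IsAlgClosed.exists_pow_nat_eq a hn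
  have hrmem : MemLocalRing M r := by
    obtain ⟨u, v, hv, huv⟩ := ha.1
    have hv0 : (v : ℂ) ≠ 0 := fun h0 => hv (by
      rw [show v = 0 from Subtype.ext h0]; exact M.zero_mem)
    have hi : IsIntegral ℤ (r * (v : ℂ)) := by
      refine IsIntegral.of_pow hn ?_
      have : (r * (v : ℂ)) ^ n = (u : ℂ) * (v : ℂ) ^ (n - 1) := by
        rw [mul_pow, hr, ← huv]
        obtain ⟨m, rfl⟩ : ∃ m, n = m + 1 := ⟨n - 1, by omega⟩
        rw [pow_succ, Nat.add_sub_cancel]
        field_simp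
      rw [this]
      exact u.2.mul (v.2.pow _)
    exact ⟨⟨_, hi⟩, v, hv, by show r * (v : ℂ) / (v : ℂ) = r; rw [mul_div_cancel_right₀ _ hv0]⟩
  have hζ := Complex.isPrimitiveRoot_exp n hn.ne'
  set ζ := Complex.exp (2 * Real.pi * Complex.I / n)
  have hζmem : MemLocalRing M ζ := memLocalRing_of_isIntegral
    (IsIntegral.of_pow hn (hζ.pow_eq_one.symm ▸ isIntegral_one))
  have hprod : 1 - a = ∏ i ∈ range n, (1 - ζ ^ i * r) := by
    have h := congrArg (Polynomial.eval (1 : ℂ)) (X_pow_sub_C_eq_prod hζ hn hr)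
    rw [Polynomial.eval_prod] at h
    simpa using h
  have hmem : ∀ i, MemLocalRing M (ζ ^ i * r) := fun i =>
    memLocalRing_mul ((localRing M).pow_mem hζmem i) hrmem
  obtain ⟨i, -, hi⟩ : ∃ i ∈ range n, MemLocalIdeal M (1 - ζ ^ i * r) := by
    by_contra hne
    push Not at hne
    have key : MemLocalRing M (∏ i ∈ range n, (1 - ζ ^ i * r)) ∧
        ¬ MemLocalIdeal M (∏ i ∈ range n, (1 - ζ ^ i * r)) :=
      Finset.prod_induction _ (fun w => MemLocalRing M w ∧ ¬ MemLocalIdeal M w)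
        (fun x y hx hy => ⟨memLocalRing_mul hx.1 hy.1, not_memLocalIdeal_mul hx.1 hx.2 hy.2⟩)
        ⟨memLocalRing_one, not_memLocalIdeal_one⟩
        (fun i hi => ⟨memLocalRing_sub memLocalRing_one (hmem i), hne i hi⟩)
    rw [← hprod] at key
    exact key.2 (memLocalIdeal_sub_comm ha.2)
  refine ⟨ζ ^ i * r, ⟨hmem i, memLocalIdeal_sub_comm hi⟩, ?_⟩
  rw [mul_pow, hr, ← pow_mul, mul_comm i n, pow_mul, hζ.pow_eq_one, one_pow, one_mul]

end CfsgLib.Block
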