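import Cfsg.Agent.Blocks.DadeExtension
import Cfsg.Agent.Blocks.UnitRoot
import Cfsg.Agent.Char.Central

/-!
# Extending the characters of the principal block over a quotient of order prime to `p`

`N` is normal of index prime to `p` and every coset contains an element centralizing a Sylow
`p`-subgroup of `N`.  The sums over the `N`-orbits of these elements give intertwiners, whose
products differ by scalars congruent to one; these are removed by extracting roots.
-/

set_option autoImplicit false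
set_option linter.style.haveILetI false
set_option linter.unusedSectionVars false

namespace CfsgLib.Block.Alperin

open Cfsg Finset CfsgLib.Block.Chr CfsgLib.Block CfsgLib.Block.Dade

universe u

variable {G : Type u} [Group G] [Fintype G] {M : Ideal AlgInt} [M.IsPrime] {p : ℕ}
  {N : Subgroup G} {n : ℕ}

/-- A representation of `N` extended by zero. -/
noncomputable def sE (σ : Representation ℂ N (Fin n → ℂ)) (g : G) : Module.End ℂ (Fin n → ℂ) := by
  classical exact if h : g ∈ N then σ ⟨g, h⟩ else 0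

variable {σ : Representation ℂ N (Fin n → ℂ)}

theorem sE_of_mem {g : G} (h : g ∈ N) : sE σ g = σ ⟨g, h⟩ := by
  classical
  exact dif_pos h

theorem sE_coe (a : N) : sE σ (a : G) = σ a := sE_of_mem a.2

theorem sE_one : sE σ (1 : G) = 1 := by rw [sE_of_mem N.one_mem]; exact map_one σ

theorem sE_mul {g h : G} (hg : g ∈ N) (hh : h ∈ N) : sE σ (g * h) = sE σ g * sE σ h := by
  rw [sE_of_mem hg, sE_of_mem hh, sE_of_mem (N.mul_mem hg hh), ← map_mul]
  rfl

theorem sE_mul_inv {g : G} (hg : g ∈ N) : sE σ g * sE σ g⁻¹ = 1 := by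
  rw [← sE_mul hg (N.inv_mem hg), mul_inv_cancel, sE_one]

variable [hN : N.Normal]

theorem orb_mul_inv_mem {c s : G} (hs : s ∈ orb N c) : s * c⁻¹ ∈ N := by
  obtain ⟨a, ha, rfl⟩ := mem_orb.1 hs
  rw [show a * c * a⁻¹ * c⁻¹ = a * (c * a⁻¹ * c⁻¹) by group]
  exact N.mul_mem ha (hN.conj_mem _ (N.inv_mem ha) c)

/-- The orbit sum of `c`, brought into `N`. -/
noncomputable def orbOp (σ : Representation ℂ N (Fin n → ℂ)) (c : G) : Module.End ℂ (Fin n → ℂ) :=
  ∑ s ∈ orb N c, sE σ (s * c⁻¹)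

theorem orbOp_inter (c : G) {m : G} (hm : m ∈ N) :
    orbOp σ c * sE σ (c * m * c⁻¹) = sE σ m * orbOp σ c := by
  rw [orbOp, Finset.sum_mul, Finset.mul_sum]
  refine Finset.sum_bij' (fun s _ => m⁻¹ * s * m) (fun s _ => m * s * m⁻¹)
    (fun s hs => by simpa using inv_orb c m⁻¹ (N.inv_mem hm) s hs)
    (fun s hs => inv_orb c m hm s hs) (fun s _ => by group) (fun s _ => by group) (fun s hs => ?_)
  have h1 := orb_mul_inv_mem hs
  have h2 : m⁻¹ * s * m * c⁻¹ ∈ N := by
    have := orb_mul_inv_mem (by simpa using inv_orb c m⁻¹ (N.inv_mem hm) s hs :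
      m⁻¹ * s * m ∈ orb N c)
    exact this
  rw [← sE_mul h1 (hN.conj_mem m hm c), ← sE_mul hm h2]
  congr 1
  group

theorem orbOp_one : orbOp σ (1 : G) = 1 := by
  have h : orb N (1 : G) = {1} := by
    ext x
    rw [mem_orb, mem_singleton]
    constructor
    · rintro ⟨a, -, rfl⟩; group
    · rintro rfl; exact ⟨1, N.one_mem, by group⟩
  rw [orbOp, h, sum_singleton, inv_one, mul_one, sE_one]

theorem card_orb_one : (orb N (1 : G)).card = 1 := by
  rw [show orb N (1 : G) = {1} from ?_, card_singleton]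
  ext x
  rw [mem_orb, mem_singleton]
  constructor
  · rintro ⟨a, -, rfl⟩; group
  · rintro rfl; exact ⟨1, N.one_mem, by group⟩

variable [Fintype N]

/-- The product of three orbit sums with product in `N` is a scalar congruent to the product of
the orbit lengths. -/
theorem exists_triple_scalar [hirr : σ.IsIrreducible] {θ : IrrCharacter N}
    (hθ : θ ∈ principalBlock M N) (hσ : σ.character = (θ : N → ℂ)) {c d e : G}
    (hcde : c * d * e ∈ N) :
    ∃ w : ℂ, MemLocalRing M w ∧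
      MemLocalIdeal M (w - (((orb N c).card * (orb N d).card * (orb N e).card : ℕ) : ℂ)) ∧
      orbOp σ e * orbOp σ d * orbOp σ c * sE σ (c * d * e) = w • 1 := by
  classical
  set S := orb N c
  set T := orb N d
  set U := orb N e
  have hN' : ∀ x ∈ S ×ˢ T ×ˢ U, x.1 * x.2.1 * x.2.2 ∈ N := by
    intro x hx
    simp only [Finset.mem_product] at hx
    rw [← QuotientGroup.eq_one_iff, QuotientGroup.mk_mul, QuotientGroup.mk_mul, orb_coset hx.1,
      orb_coset hx.2.1, orb_coset hx.2.2, ← QuotientGroup.mk_mul, ← QuotientGroup.mk_mul]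
    exact (QuotientGroup.eq_one_iff _).2 hcde
  let f : N → ℂ := fun a =>
    (((S ×ˢ T ×ˢ U).filter fun x : G × G × G => x.1 * x.2.1 * x.2.2 = (a : G)).card : ℂ)
  have hf : IsIntClass M f := by
    refine ⟨fun a b => ?_, fun a => natCast_mem_localRing _⟩
    simp only [f, Nat.cast_inj]
    refine Finset.card_bij' (fun x _ => ((b : G)⁻¹ * x.1 * b, (b : G)⁻¹ * x.2.1 * b,
        (b : G)⁻¹ * x.2.2 * b))
      (fun x _ => ((b : G) * x.1 * (b : G)⁻¹, (b : G) * x.2.1 * (b : G)⁻¹,
        (b : G) * x.2.2 * (b : G)⁻¹)) ?_ ?_ ?_ ?_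
    · intro x hx
      simp only [Finset.mem_filter, Finset.mem_product] at hx ⊢
      refine ⟨⟨by simpa using inv_orb c _ (inv_mem b.2) _ hx.1.1,
        by simpa using inv_orb d _ (inv_mem b.2) _ hx.1.2.1,
        by simpa using inv_orb e _ (inv_mem b.2) _ hx.1.2.2⟩, ?_⟩
      calc (b : G)⁻¹ * x.1 * b * ((b : G)⁻¹ * x.2.1 * b) * ((b : G)⁻¹ * x.2.2 * b)
          = (b : G)⁻¹ * (x.1 * x.2.1 * x.2.2) * b := by group
        _ = (a : G) := by rw [hx.2]; push_cast; group
    · intro x hx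
      simp only [Finset.mem_filter, Finset.mem_product] at hx ⊢
      refine ⟨⟨inv_orb c _ b.2 _ hx.1.1, inv_orb d _ b.2 _ hx.1.2.1, inv_orb e _ b.2 _ hx.1.2.2⟩,
        ?_⟩
      calc (b : G) * x.1 * (b : G)⁻¹ * ((b : G) * x.2.1 * (b : G)⁻¹) *
            ((b : G) * x.2.2 * (b : G)⁻¹)
          = (b : G) * (x.1 * x.2.1 * x.2.2) * (b : G)⁻¹ := by group
        _ = _ := by rw [hx.2]; push_cast; rfl
    · intro x _
      ext <;> group
    · intro x _
      ext <;> group
  have hsum : ∀ {A : Type} [AddCommGroup A] [Module ℂ A] (g : G → A),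
      ∑ a : N, f a • g a = ∑ x ∈ S ×ˢ T ×ˢ U, g (x.1 * x.2.1 * x.2.2) := by
    intro A _ _ g
    have hmap : ∀ x ∈ S ×ˢ T ×ˢ U, x.1 * x.2.1 * x.2.2 ∈
        (univ : Finset N).map ⟨Subtype.val, Subtype.val_injective⟩ := fun x hx =>
      Finset.mem_map.2 ⟨⟨_, hN' x hx⟩, Finset.mem_univ _, rfl⟩
    rw [← Finset.sum_fiberwise_of_maps_to hmap, Finset.sum_map]
    refine Finset.sum_congr rfl fun a _ => ?_
    simp only [f, Function.Embedding.coeFn_mk]
    rw [Finset.sum_congr rfl (fun x hx => by rw [(Finset.mem_filter.1 hx).2] :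
      ∀ x ∈ (S ×ˢ T ×ˢ U).filter (fun x : G × G × G => x.1 * x.2.1 * x.2.2 = (a : G)),
        g (x.1 * x.2.1 * x.2.2) = g a), Finset.sum_const, ← Nat.cast_smul_eq_nsmul ℂ]
  -- the sum acts as the central character
  have hscal : (∑ a : N, f a • σ a) = omega (θ : N → ℂ) f • (1 : Module.End ℂ (Fin n → ℂ)) := by
    have hcomm : ∀ b : N, σ b * (∑ a : N, f a • σ a) = (∑ a : N, f a • σ a) * σ b := by
      intro b
      rw [Finset.mul_sum, Finset.sum_mul]
      refine Fintype.sum_equiv (MulAut.conj b).toEquiv _ _ fun a => ?_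
      simp only [MulEquiv.toEquiv_eq_coe, MulEquiv.coe_toEquiv, MulAut.conj_apply, mul_smul_comm,
        smul_mul_assoc, ← map_mul]
      rw [hf.1 a b]
      congr 2
      group
    have h := CfsgLib.Char.eq_smul_one_of_commute σ (∑ a : N, f a • σ a) hcomm
    rw [h]
    congr 1
    rw [map_sum, omega, ← hσ, Representation.char_one]
    congr 1
    exact Finset.sum_congr rfl fun a _ => map_smul _ _ _
  have hA : (∑ a : N, f a • σ a) = ∑ s ∈ S, ∑ t ∈ T, ∑ u ∈ U, sE σ (s * t * u) := by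
    rw [← Finset.sum_congr rfl fun a _ => congrArg (f a • ·) (sE_coe (σ := σ) a),
      hsum (fun g => sE σ g), Finset.sum_product]
    exact Finset.sum_congr rfl fun s _ => Finset.sum_product _ _ _
  -- and factors through the three orbit sums
  have hfac : (∑ s ∈ S, ∑ t ∈ T, ∑ u ∈ U, sE σ (s * t * u)) =
      (∑ s ∈ S, sE σ (s * c⁻¹)) * (∑ t ∈ T, sE σ (c * (t * d⁻¹) * c⁻¹)) *
        (∑ u ∈ U, sE σ (c * d * (u * e⁻¹) * (c * d)⁻¹)) * sE σ (c * d * e) := by
    simp only [Finset.sum_mul, Finset.mul_sum]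
    rw [Finset.sum_comm (s := S)]
    conv_rhs => rw [Finset.sum_comm]
    refine Finset.sum_congr rfl fun t ht => ?_
    rw [Finset.sum_comm]
    refine Finset.sum_congr rfl fun u hu => Finset.sum_congr rfl fun s hs => ?_
    have h1 := orb_mul_inv_mem hs
    have h2 : c * (t * d⁻¹) * c⁻¹ ∈ N := hN.conj_mem _ (orb_mul_inv_mem ht) c
    have h3 : c * d * (u * e⁻¹) * (c * d)⁻¹ ∈ N := hN.conj_mem _ (orb_mul_inv_mem hu) _
    rw [← sE_mul h1 h2, ← sE_mul (N.mul_mem h1 h2) h3,
      ← sE_mul (N.mul_mem (N.mul_mem h1 h2) h3) hcde]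
    congr 1
    group
  have ht : orbOp σ c * (∑ t ∈ T, sE σ (c * (t * d⁻¹) * c⁻¹)) = orbOp σ d * orbOp σ c := by
    rw [Finset.mul_sum, show orbOp σ d = ∑ t ∈ T, sE σ (t * d⁻¹) from rfl, Finset.sum_mul]
    exact Finset.sum_congr rfl fun t ht => orbOp_inter c (orb_mul_inv_mem ht)
  have hu : orbOp σ d * orbOp σ c * (∑ u ∈ U, sE σ (c * d * (u * e⁻¹) * (c * d)⁻¹)) =
      orbOp σ e * orbOp σ d * orbOp σ c := by
    rw [Finset.mul_sum, show orbOp σ e = ∑ u ∈ U, sE σ (u * e⁻¹) from rfl, Finset.sum_mul,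
      Finset.sum_mul]
    refine Finset.sum_congr rfl fun u hu => ?_
    have h3 := orb_mul_inv_mem hu
    rw [show c * d * (u * e⁻¹) * (c * d)⁻¹ = c * (d * (u * e⁻¹) * d⁻¹) * c⁻¹ by group, mul_assoc,
      orbOp_inter c (hN.conj_mem _ h3 d), ← mul_assoc, orbOp_inter d h3]
  have hw := omega_cong (M := M)
    (sameBlock_of_mem isPBlock_principalBlock hθ oneIrr_mem_principalBlock) hf
  have h1 : omega (oneIrr N : N → ℂ) f = ((S.card * T.card * U.card : ℕ) : ℂ) := by
    rw [omega, oneIrr_coe, div_one]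
    have := hsum (fun _ => (1 : ℂ))
    simp only [smul_eq_mul] at this
    rw [this]
    simp [mul_assoc]
  rw [h1] at hw
  refine ⟨omega (θ : N → ℂ) f, omega_mem θ hf, hw, ?_⟩
  rw [← hscal, hA, hfac, show (∑ s ∈ S, sE σ (s * c⁻¹)) = orbOp σ c from rfl, ht, hu]

/-- The extension. -/
theorem exists_extension [Fact p.Prime] (hM : IsPModular p M) (hidx : ¬ p ∣ N.index)
    (P : Sylow p N)
    (hcov : ∀ g : G, ∃ a ∈ N, ∃ c : G,
      (∀ u : (P : Subgroup N), ((u : N) : G) * c = c * ((u : N) : G)) ∧ a * c = g)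
    {θ : IrrCharacter N} (hθ : θ ∈ principalBlock M N) :
    ∃ ψ : IrrCharacter G, ∀ a : N, (ψ : G → ℂ) a = (θ : N → ℂ) a := by
  classical
  obtain ⟨n, σ, hirr, hσ⟩ := θ.2
  haveI := hirr
  haveI hne : Nontrivial (Fin n → ℂ) :=
    Module.nontrivial_of_finrank_pos (R := ℂ) (CfsgLib.Char.finrank_pos_of_isIrreducible σ)
  let C : G → Prop := fun c => ∀ u : (P : Subgroup N), ((u : N) : G) * c = c * ((u : N) : G)
  have hC1 : C 1 := fun u => by rw [mul_one, one_mul]
  have hCinv : ∀ {c}, C c → C c⁻¹ := fun {c} hc u => (Commute.inv_right (hc u)).eq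
  have hS0 : ∀ {c}, C c → ¬ MemLocalIdeal M (((orb N c).card : ℕ) : ℂ) := fun {c} hc h =>
    not_dvd_card_orb P hc ((memLocalIdeal_natCast_iff hM).1 h)
  have hSne : ∀ {c}, C c → ((orb N c).card : ℂ) ≠ 0 := fun {c} hc =>
    ne_zero_of_not_memLocalIdeal (hS0 hc)
  -- partial inverses of the orbit sums
  have hpair : ∀ c d : G, C c → C d → c * d = 1 → ∃ w : ℂ, MemLocalRing M w ∧
      MemLocalIdeal M (w - (((orb N c).card * (orb N d).card : ℕ) : ℂ)) ∧
      orbOp σ d * orbOp σ c = w • 1 := by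
    intro c d hc hd hcd
    obtain ⟨w, hw1, hw2, hw3⟩ := exists_triple_scalar (σ := σ) (M := M) hθ hσ (c := c) (d := d)
      (e := 1) (by rw [mul_one, hcd]; exact N.one_mem)
    rw [orbOp_one, one_mul, mul_one, hcd, sE_one, mul_one] at hw3
    rw [card_orb_one, mul_one] at hw2
    exact ⟨w, hw1, hw2, hw3⟩
  have hK : ∀ c : G, C c → ∃ K : Module.End ℂ (Fin n → ℂ),
      orbOp σ c * K = ((orb N c).card : ℂ) • 1 ∧ K * orbOp σ c = ((orb N c).card : ℂ) • 1 := by
    intro c hc
    obtain ⟨w, hw1, hw2, hw3⟩ := hpair c c⁻¹ hc (hCinv hc) (mul_inv_cancel c)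
    obtain ⟨w', -, -, hw3'⟩ := hpair c⁻¹ c (hCinv hc) hc (inv_mul_cancel c)
    have hw0 : w ≠ 0 := by
      refine ne_zero_of_not_memLocalIdeal (M := M) fun h => ?_
      have h' := (memLocalIdeal_iff_of_cong hw2).1 h
      rw [Nat.cast_mul] at h'
      exact not_memLocalIdeal_mul (natCast_mem_localRing _) (hS0 hc) (hS0 (hCinv hc)) h'
    have hww : w' = w := by
      have h := mul_assoc (orbOp σ c) (orbOp σ c⁻¹) (orbOp σ c)
      rw [hw3, hw3', smul_mul_assoc, one_mul, mul_smul_comm, mul_one] at h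
      have hne0 : orbOp σ c ≠ 0 := fun h0 => by
        rw [h0, mul_zero] at hw3
        exact hw0 ((smul_eq_zero.1 hw3.symm).resolve_right one_ne_zero)
      exact smul_left_injective ℂ hne0 h
    refine ⟨(((orb N c).card : ℂ) / w) • orbOp σ c⁻¹, ?_, ?_⟩
    · rw [mul_smul_comm, hw3', hww, smul_smul, div_mul_cancel₀ _ hw0]
    · rw [smul_mul_assoc, hw3, smul_smul, div_mul_cancel₀ _ hw0]
  -- representatives of the cosets
  have hrep : ∀ q : G ⧸ N, ∃ c : G, C c ∧ (c : G ⧸ N) = q ∧ (q = 1 → c = 1) := by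
    intro q
    by_cases hq : q = 1
    · exact ⟨1, hC1, hq ▸ rfl, fun _ => rfl⟩
    · obtain ⟨g, rfl⟩ := QuotientGroup.mk_surjective q
      obtain ⟨a, ha, c, hc, rfl⟩ := hcov g
      exact ⟨c, hc, by rw [QuotientGroup.mk_mul, (QuotientGroup.eq_one_iff a).2 ha, one_mul],
        fun h => absurd h hq⟩
  choose r hrC hr hr1 using hrep
  choose K hKl hKr using hK
  let R : G → Module.End ℂ (Fin n → ℂ) := fun g =>
    sE σ (g * (r (g : G ⧸ N))⁻¹) * K (r (g : G ⧸ N)) (hrC _)
  have hgr : ∀ g : G, g * (r (g : G ⧸ N))⁻¹ ∈ N := fun g => by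
    rw [← QuotientGroup.eq_one_iff, QuotientGroup.mk_mul, QuotientGroup.mk_inv, hr, mul_inv_cancel]
  have hKinter : ∀ (c : G) (hc : C c) (m : G), m ∈ N →
      sE σ (c * m * c⁻¹) * K c hc = K c hc * sE σ m := by
    intro c hc m hm
    refine smul_right_injective _ (hSne hc) ?_
    show ((orb N c).card : ℂ) • (sE σ (c * m * c⁻¹) * K c hc) =
      ((orb N c).card : ℂ) • (K c hc * sE σ m)
    calc ((orb N c).card : ℂ) • (sE σ (c * m * c⁻¹) * K c hc)
        = K c hc * orbOp σ c * sE σ (c * m * c⁻¹) * K c hc := by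
          rw [hKr c hc, smul_mul_assoc, one_mul, smul_mul_assoc]
      _ = K c hc * sE σ m * (orbOp σ c * K c hc) := by
          rw [mul_assoc (K c hc) (orbOp σ c), orbOp_inter c hm]
          simp only [mul_assoc]
      _ = _ := by rw [hKl c hc, mul_smul_comm, mul_one]
  have hK1 : K 1 hC1 = 1 := by
    have := hKl 1 hC1
    rwa [orbOp_one, one_mul, card_orb_one, Nat.cast_one, one_smul] at this
  have hRN : ∀ m : G, m ∈ N → R m = sE σ m := by
    intro m hm
    have hq : r (m : G ⧸ N) = 1 := hr1 _ ((QuotientGroup.eq_one_iff m).2 hm)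
    show sE σ (m * (r (m : G ⧸ N))⁻¹) * K (r (m : G ⧸ N)) (hrC _) = sE σ m
    simp only [hq, inv_one, mul_one, hK1]
  have hRrep : ∀ q : G ⧸ N, R (r q) = K (r q) (hrC q) := by
    intro q
    show sE σ (r q * (r (r q : G ⧸ N))⁻¹) * K (r (r q : G ⧸ N)) (hrC _) = K (r q) (hrC q)
    simp only [hr q, mul_inv_cancel, sE_one, one_mul]
  have hRl : ∀ m g : G, m ∈ N → R (m * g) = sE σ m * R g := by
    intro m g hm
    have hq : ((m * g : G) : G ⧸ N) = (g : G ⧸ N) := by
      rw [QuotientGroup.mk_mul, (QuotientGroup.eq_one_iff m).2 hm, one_mul]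
    show sE σ (m * g * (r ((m * g : G) : G ⧸ N))⁻¹) * K (r ((m * g : G) : G ⧸ N)) (hrC _) =
      sE σ m * (sE σ (g * (r (g : G ⧸ N))⁻¹) * K (r (g : G ⧸ N)) (hrC _))
    simp only [hq]
    rw [mul_assoc m, sE_mul hm (hgr g), mul_assoc]
  have hRne : ∀ g : G, R g ≠ 0 := by
    intro g h0
    have h : (sE σ (g * (r (g : G ⧸ N))⁻¹)⁻¹ * R g) * orbOp σ (r (g : G ⧸ N)) =
        ((orb N (r (g : G ⧸ N))).card : ℂ) • 1 := by
      show sE σ _ * (sE σ _ * K _ (hrC _)) * _ = _
      rw [← mul_assoc, ← sE_mul (N.inv_mem (hgr g)) (hgr g), inv_mul_cancel, sE_one, one_mul,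
        hKr]
    rw [h0, mul_zero, zero_mul] at h
    exact hSne (hrC _) ((smul_eq_zero.1 h.symm).resolve_right one_ne_zero)
  -- the factor set
  have hfac : ∀ q s : G ⧸ N, ∃ α : ℂ, NearOne M α ∧ ∀ a b : G, (a : G ⧸ N) = q → (b : G ⧸ N) = s →
      R a * R b = α • R (a * b) := by
    intro q s
    set c := r q with hc_def
    set d := r s with hd_def
    set e' := r (q * s) with he'_def
    have hm : c * d * e'⁻¹ ∈ N := by
      rw [← QuotientGroup.eq_one_iff, QuotientGroup.mk_mul, QuotientGroup.mk_mul,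
        QuotientGroup.mk_inv, hr, hr, hr, mul_inv_cancel]
    obtain ⟨w, hw1, hw2, hw3⟩ := exists_triple_scalar (σ := σ) (M := M) hθ hσ hm
    obtain ⟨w₂, hw21, hw22, hw23⟩ := hpair e' e'⁻¹ (hrC _) (hCinv (hrC _)) (mul_inv_cancel _)
    set Sc := ((orb N c).card : ℂ) with hSc
    set Sd := ((orb N d).card : ℂ) with hSd
    set Se := ((orb N e').card : ℂ) with hSe
    set Si := ((orb N e'⁻¹).card : ℂ) with hSi
    simp only [Nat.cast_mul, ← hSc, ← hSd, ← hSe, ← hSi] at hw2 hw22
    have hwu : ¬ MemLocalIdeal M w := fun h => by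
      exact not_memLocalIdeal_mul (memLocalRing_mul (natCast_mem_localRing _)
        (natCast_mem_localRing _)) (not_memLocalIdeal_mul (natCast_mem_localRing _) (hS0 (hrC q))
          (hS0 (hrC s))) (hS0 (hCinv (hrC _))) ((memLocalIdeal_iff_of_cong hw2).1 h)
    have hw0 := ne_zero_of_not_memLocalIdeal hwu
    have hSe0 : Se ≠ 0 := hSne (hrC _)
    set α := Sc * Sd * w₂ / (w * Se) with hα
    have hSm : ∀ x : ℕ, MemLocalRing M (x : ℂ) := natCast_mem_localRing
    have hαn : NearOne M α := by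
      refine nearOne_div (memLocalRing_mul hw1 (hSm _))
        (not_memLocalIdeal_mul hw1 hwu (hS0 (hrC _)))
        (memLocalRing_mul (memLocalRing_mul (hSm _) (hSm _)) hw21) ?_
      have h1 := memLocalIdeal_mul_left (memLocalRing_mul (hSm (orb N c).card) (hSm (orb N d).card))
        hw22
      have h2 := memLocalIdeal_mul_right hw2 (hSm (orb N e').card)
      have h3 := memLocalIdeal_sub h1 h2
      rwa [show Sc * Sd * (w₂ - Se * Si) - (w - Sc * Sd * Si) * Se =
        Sc * Sd * w₂ - w * Se by ring] at h3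
    have hrepmul : R c * R d = α • R (c * d) := by
      rw [hRrep q, hRrep s, show c * d = c * d * e'⁻¹ * e' by group, hRl _ _ hm, hRrep (q * s)]
      have h4 : orbOp σ e'⁻¹ * orbOp σ d * orbOp σ c =
          w • sE σ (c * d * e'⁻¹)⁻¹ := by
        calc orbOp σ e'⁻¹ * orbOp σ d * orbOp σ c
            = orbOp σ e'⁻¹ * orbOp σ d * orbOp σ c * sE σ (c * d * e'⁻¹) *
                sE σ (c * d * e'⁻¹)⁻¹ := by
              rw [mul_assoc _ (sE σ (c * d * e'⁻¹)), sE_mul_inv hm, mul_one]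
          _ = _ := by rw [hw3, smul_mul_assoc, one_mul]
      have h5 : (Sc * Sd) • orbOp σ e'⁻¹ = w • (sE σ (c * d * e'⁻¹)⁻¹ * (K c (hrC q) * K d (hrC s))) := by
        rw [← smul_mul_assoc, ← h4]
        simp only [mul_assoc]
        rw [← mul_assoc (orbOp σ c), hKl c (hrC q), smul_mul_assoc, one_mul, mul_smul_comm,
          hKl d (hrC s), smul_smul, mul_smul_comm, mul_one]
      have h6 : Se • orbOp σ e'⁻¹ = w₂ • K e' (hrC _) := by
        calc Se • orbOp σ e'⁻¹ = orbOp σ e'⁻¹ * (orbOp σ e' * K e' (hrC _)) := by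
              rw [hKl e' (hrC _), mul_smul_comm, mul_one]
          _ = _ := by rw [← mul_assoc, hw23, smul_mul_assoc, one_mul]
      have h7 := congrArg (fun X => sE σ (c * d * e'⁻¹) * (Se • X)) h5
      simp only [smul_smul] at h7
      rw [mul_comm Se (Sc * Sd), ← smul_smul, h6] at h7
      simp only [mul_smul_comm, ← mul_assoc, sE_mul_inv hm, one_mul, smul_smul] at h7
      rw [mul_comm Se w] at h7
      rw [hα, div_eq_mul_inv, mul_comm, ← smul_smul, show (Sc * Sd * w₂) •
          (sE σ (c * d * e'⁻¹) * K (r (q * s)) (hrC _)) = (w * Se) • (K c (hrC q) * K d (hrC s))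
        from h7, smul_smul, inv_mul_cancel₀ (mul_ne_zero hw0 hSe0), one_smul]
    refine ⟨α, hαn, fun a b ha hb => ?_⟩
    have hma : a * c⁻¹ ∈ N := by rw [hc_def, ← ha]; exact hgr a
    have hmb : b * d⁻¹ ∈ N := by rw [hd_def, ← hb]; exact hgr b
    have hcm : c * (b * d⁻¹) * c⁻¹ ∈ N := hN.conj_mem _ hmb c
    have e1 : R a = sE σ (a * c⁻¹) * R c := by
      rw [← hRl _ _ hma, inv_mul_cancel_right]
    have e2 : R b = sE σ (b * d⁻¹) * R d := by
      rw [← hRl _ _ hmb, inv_mul_cancel_right]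
    calc R a * R b = sE σ (a * c⁻¹) * (K c (hrC q) * sE σ (b * d⁻¹)) * R d := by
          rw [e1, e2, hRrep q]; simp only [mul_assoc]; rfl
      _ = sE σ (a * c⁻¹) * sE σ (c * (b * d⁻¹) * c⁻¹) * (R c * R d) := by
          rw [← hKinter c (hrC q) _ hmb, hRrep q]; simp only [mul_assoc]; rfl
      _ = α • R (a * b) := by
          rw [hrepmul, mul_smul_comm, ← sE_mul hma hcm, ← hRl _ _ (N.mul_mem hma hcm)]
          congr 2
          group
  choose α hαn hα using hfac
  have hαeq : ∀ a b : G, R a * R b = α (a : G ⧸ N) (b : G ⧸ N) • R (a * b) :=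
    fun a b => hα _ _ a b rfl rfl
  have hcoc : ∀ q s t : G ⧸ N, α q s * α (q * s) t = α s t * α q (s * t) := by
    intro q s t
    obtain ⟨a, rfl⟩ := QuotientGroup.mk_surjective q
    obtain ⟨b, rfl⟩ := QuotientGroup.mk_surjective s
    obtain ⟨c, rfl⟩ := QuotientGroup.mk_surjective t
    refine smul_left_injective ℂ (hRne (a * b * c)) ?_
    show _ • R (a * b * c) = _ • R (a * b * c)
    have h := mul_assoc (R a) (R b) (R c)
    rw [hαeq a b, smul_mul_assoc, hαeq (a * b) c, smul_smul, hαeq b c, mul_smul_comm,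
      hαeq a (b * c), smul_smul, ← mul_assoc a b c] at h
    rw [← QuotientGroup.mk_mul, ← QuotientGroup.mk_mul]
    exact h
  haveI := Fintype.ofFinite (G ⧸ N)
  set k := Fintype.card (G ⧸ N) with hk
  have hkp : ¬ p ∣ k := by
    rwa [hk, ← Nat.card_eq_fintype_card]
  have hk0 : 0 < k := Fintype.card_pos
  set Pf : G ⧸ N → ℂ := fun q => ∏ t, α q t
  have hPf : ∀ q, NearOne M (Pf q) := fun q => nearOne_prod _ fun t _ => hαn q t
  have hpow : ∀ q s, α q s ^ k * Pf (q * s) = Pf q * Pf s := by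
    intro q s
    have h := Finset.prod_congr (s₁ := (univ : Finset (G ⧸ N))) rfl fun t _ => hcoc q s t
    rw [Finset.prod_mul_distrib, Finset.prod_mul_distrib, Finset.prod_const, card_univ, ← hk,
      show (∏ t, α q (s * t)) = Pf q from Equiv.prod_comp (Equiv.mulLeft s) (α q)] at h
    rw [h, mul_comm]
  choose μ hμn hμ using fun q => exists_nearOne_root (hPf q) hk0
  have hμeq : ∀ q s, α q s * μ (q * s) = μ q * μ s := by
    intro q s
    have hne := ((hμn q).mul (hμn s)).ne_zero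
    refine (div_eq_one_iff_eq hne).1 ?_
    refine NearOne.eq_one_of_pow hM (M := M) ?_ hkp ?_
    · rw [div_eq_mul_inv]
      exact ((hαn q s).mul (hμn _)).mul ((hμn q).mul (hμn s)).inv
    · rw [div_pow, mul_pow, mul_pow, hμ, hμ, hμ, hpow, div_self ((hPf q).mul (hPf s)).ne_zero]
  have hR1 : R 1 = 1 := by rw [hRN 1 N.one_mem, sE_one]
  have hμ1 : μ 1 = 1 := by
    have hα1 : α 1 1 = 1 := by
      have h := hαeq 1 1
      rw [mul_one, hR1, one_mul, QuotientGroup.mk_one] at h
      exact (smul_left_injective ℂ (one_ne_zero (α := Module.End ℂ (Fin n → ℂ)))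
        (h.symm.trans (one_smul ℂ _).symm))
    have h := hμeq 1 1
    rw [mul_one, hα1, one_mul] at h
    exact (mul_eq_left₀ (hμn 1).ne_zero).1 h.symm
  let ρ : Representation ℂ G (Fin n → ℂ) :=
    { toFun := fun g => (μ (g : G ⧸ N))⁻¹ • R g
      map_one' := by rw [QuotientGroup.mk_one, hμ1, hR1, inv_one, one_smul]
      map_mul' := fun a b => by
        rw [smul_mul_assoc, mul_smul_comm, hαeq, smul_smul, smul_smul]
        congr 1
        have h := hμeq (a : G ⧸ N) (b : G ⧸ N)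
        have := (hμn (a : G ⧸ N)).ne_zero
        have := (hμn (b : G ⧸ N)).ne_zero
        have := (hμn ((a : G ⧸ N) * (b : G ⧸ N))).ne_zero
        rw [QuotientGroup.mk_mul]
        field_simp
        linear_combination (-1 : ℂ) * h }
  have hρN : ∀ a : N, ρ (a : G) = σ a := by
    intro a
    show (μ ((a : G) : G ⧸ N))⁻¹ • R (a : G) = σ a
    rw [(QuotientGroup.eq_one_iff (a : G)).2 a.2, hμ1, inv_one, one_smul, hRN _ a.2, sE_coe]
  have hρirr : ρ.IsIrreducible := by
    refine CfsgLib.Char.isIrreducible_of_no_sub ρ fun S => ?_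
    let S' : Subrepresentation σ :=
      ⟨S.toSubmodule, fun a x hx => by
        have := S.apply_mem_toSubmodule (a : G) hx
        rwa [hρN] at this⟩
    rcases IsSimpleOrder.eq_bot_or_eq_top S' with h | h
    · exact Or.inl (Subrepresentation.toSubmodule_injective
        (congrArg Subrepresentation.toSubmodule h :))
    · exact Or.inr (Subrepresentation.toSubmodule_injective
        (congrArg Subrepresentation.toSubmodule h :))
  refine ⟨⟨ρ.character, n, ρ, hρirr, rfl⟩, fun a => ?_⟩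
  show ρ.character (a : G) = (θ : N → ℂ) a
  rw [← hσ]
  show LinearMap.trace ℂ (Fin n → ℂ) (ρ (a : G)) = LinearMap.trace ℂ (Fin n → ℂ) (σ a)
  rw [hρN]

end CfsgLib.Block.Alperin
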