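import Cfsg.Agent.Blocks.Principal
import Cfsg.Agent.Blocks.Congr
import Cfsg.Agent.Char.Generalized
import Cfsg.Agent.Char.GaloisTwist

/-!
# Integrality of the regular parts of characters

For a prime `q` the indicator of a `q`-section is a combination of products of characters with
coefficients in the local ring at a prime over `q`. This gives the integrality of the inner
products `p ^ (a - b) * [χ on p-regular elements, ψ]` without Brauer's induction theorem.
-/

namespace CfsgLib.Block

open Cfsg Finset CfsgLib.Block.Chr CfsgLib.Char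
open scoped ComplexConjugate

set_option linter.unusedSectionVars false
set_option linter.style.haveILetI false

universe u

variable {G : Type u} [Group G] [Fintype G] {M : Ideal AlgInt} {p q : ℕ}

section Prime

variable [M.IsPrime]

variable (M G) in
/-- Functions that preserve locally integral inner products with all characters. -/
noncomputable def localMultiplier : Subring (G → ℂ) where
  carrier := {f | ∀ h : G → ℂ,
    (∀ φ : G → ℂ, IsCharacter G φ → MemLocalRing M (classInner h φ)) →
      ∀ φ : G → ℂ, IsCharacter G φ → MemLocalRing M (classInner (f * h) φ)}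
  one_mem' := fun h hh φ hφ => by rw [one_mul]; exact hh φ hφ
  zero_mem' := fun h _ φ _ => by rw [zero_mul, classInner_zero_left]; exact memLocalRing_zero
  mul_mem' := fun hf hg h hh φ hφ => by
    rw [mul_assoc]; exact hf _ (hg h hh) φ hφ
  add_mem' := fun hf hg h hh φ hφ => by
    rw [add_mul, classInner_add_left]; exact memLocalRing_add (hf h hh φ hφ) (hg h hh φ hφ)
  neg_mem' := fun hf h hh φ hφ => by
    rw [neg_mul, classInner_neg_left]; exact memLocalRing_neg (hf h hh φ hφ)

theorem const_mem_multiplier {c : ℂ} (hc : MemLocalRing M c) :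
    (fun _ : G => c) ∈ localMultiplier G M := fun h hh φ hφ => by
  have : ((fun _ : G => c) * h) = c • h := by ext g; rfl
  rw [this, classInner_smul_left]
  exact memLocalRing_mul hc (hh φ hφ)

theorem char_mem_multiplier {θ : G → ℂ} (hθ : IsCharacter G θ) :
    θ ∈ localMultiplier G M := fun h hh φ hφ => by
  have : classInner (θ * h) φ = classInner h ((fun g => conj (θ g)) * φ) := by
    simp only [classInner, Pi.mul_apply, map_mul, Complex.conj_conj]
    congr 1
    exact sum_congr rfl fun g _ => by ring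
  rw [this]
  exact hh _ (IsCharacter.mul (IsCharacter.conj hθ) hφ)

/-- The indicator of the `q`-section of `s` is a multiplier at a prime over `q`. -/
theorem sectionInd_mem (hM : IsPModular q M) (s : G) (hs : ¬ q ∣ orderOf s) :
    ∃ f ∈ localMultiplier G M, ∀ g : G, (f g = 0 ∨ f g = 1) ∧
      (f g = 1 ↔ ∃ u : G, (∃ n : ℕ, u ^ q ^ n = 1) ∧ Commute s u ∧ IsConj (s * u) g) := by
  classical
  letI := irrFintype (G := G)
  haveI : Fact q.Prime := ⟨hM.1⟩
  let C := Subgroup.centralizer ({s} : Set G)
  obtain ⟨S⟩ : Nonempty (Sylow q C) := inferInstance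
  let P := (S : Subgroup C).map C.subtype
  haveI : Fintype ↥P := Fintype.ofFinite _
  have hP : IsPGroup q P := S.isPGroup'.map _
  have hPc : ∀ u : ↥P, Commute s (u : G) := fun u => by
    obtain ⟨v, -, hv⟩ := Subgroup.mem_map.1 u.2
    rw [← hv]
    exact (Subgroup.mem_centralizer_singleton_iff.1 v.2).symm
  have hPq : ∀ u : ↥P, ∃ n : ℕ, (u : G) ^ q ^ n = 1 := fun u => by
    obtain ⟨n, hn⟩ := hP u
    exact ⟨n, by simpa using congrArg (Subtype.val : ↥P → G) hn⟩
  let c : IrrCharacter G → ℂ := fun χ =>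
    (Fintype.card ↥P : ℂ)⁻¹ * ∑ u : ↥P, (χ : G → ℂ) (s * u)
  have hc : ∀ χ, MemLocalRing M (c χ) := fun χ => by
    obtain ⟨n, ρ, hρ⟩ := isCharacter_irr χ
    refine memLocalRing_of_isIntegral ?_
    simp only [c, ← hρ]
    exact HeightExt.isIntegral_average ρ P s fun d hd => (hPc ⟨d, hd⟩).symm
  let F : G → ℂ := ∑ χ : IrrCharacter G, (fun _ => c χ) * (fun g => conj ((χ : G → ℂ) g))
  have hF : F ∈ localMultiplier G M := sum_mem fun χ _ =>
    mul_mem (const_mem_multiplier (hc χ)) (char_mem_multiplier (IsCharacter.conj (isCharacter_irr χ)))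
  have hFval : ∀ g, F g = (Fintype.card ↥P : ℂ)⁻¹ * ∑ u : ↥P,
      (if IsConj (s * u) g then (Nat.card (Subgroup.centralizer ({s * (u : G)} : Set G)) : ℂ)
        else 0) := by
    intro g
    simp only [F, Finset.sum_apply, Pi.mul_apply, c, mul_assoc, ← mul_sum, sum_mul]
    rw [sum_comm]
    exact congrArg _ (sum_congr rfl fun u _ => column_orth _ _)
  -- values on the section
  have hcong : ∀ g u : G, (∃ n : ℕ, u ^ q ^ n = 1) → Commute s u → IsConj (s * u) g →
      MemLocalIdeal M (F g - F s) := by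
    intro g u ⟨n, hn⟩ hsu hg
    simp only [F, Finset.sum_apply, Pi.mul_apply, ← sum_sub_distrib, ← mul_sub]
    refine memLocalIdeal_sum fun χ _ => memLocalIdeal_mul_left (hc χ) ?_
    obtain ⟨x, hx⟩ := isConj_iff.1 hg
    have h := char_cong_pPart hM (IsCharacter.conj (isCharacter_irr χ)) hsu.symm hn hs
      (pow_orderOf_eq_one s)
    rw [← hx, isClassFunction_irr χ (s * u) x, hsu.eq]
    exact h
  have hFs : F s = ((Nat.card C / Fintype.card ↥P : ℕ) : ℂ) := by
    rw [hFval, sum_eq_single (1 : ↥P)]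
    · rw [if_pos (by simpa using IsConj.refl s), OneMemClass.coe_one, mul_one, Nat.cast_div,
        div_eq_inv_mul]
      · rw [← Nat.card_eq_fintype_card, Subgroup.card_map_of_injective C.subtype_injective]
        exact Subgroup.card_subgroup_dvd_card _
      · exact Nat.cast_ne_zero.2 Fintype.card_ne_zero
    · intro u _ hu
      refine if_neg fun hc => hu (Subtype.ext ?_)
      obtain ⟨x, hx⟩ := isConj_iff.1 hc
      have ho : orderOf (s * (u : G)) = orderOf s := by
        rw [← orderOf_injective (MulAut.conj x).toMonoidHom (MulAut.conj x).injective (s * (u : G))]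
        simp [hx]
      obtain ⟨n, hn⟩ := hPq u
      obtain ⟨k, -, hk⟩ := (Nat.dvd_prime_pow hM.1).1 (orderOf_dvd_of_pow_eq_one hn)
      have hcop : (orderOf s).Coprime (orderOf (u : G)) := by
        rw [hk]
        exact Nat.Coprime.pow_right _ ((hM.1.coprime_iff_not_dvd.2 hs).symm)
      rw [(hPc u).orderOf_mul_eq_mul_orderOf_of_coprime hcop] at ho
      rw [OneMemClass.coe_one, ← orderOf_eq_one_iff]
      exact Nat.eq_of_mul_eq_mul_left (orderOf_pos s) (by rw [mul_one]; exact ho)
    · simp
  have hFs' : ¬ MemLocalIdeal M (F s) := by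
    rw [hFs, memLocalIdeal_natCast_iff hM]
    have : Nat.card C / Fintype.card ↥P = (S : Subgroup C).index := by
      rw [← Nat.card_eq_fintype_card, Subgroup.card_map_of_injective C.subtype_injective,
        ← Subgroup.index_mul_card (S : Subgroup C), Nat.mul_div_cancel _ Nat.card_pos]
    rw [this]
    exact S.not_dvd_index
  have hunit : ∀ g u : G, (∃ n : ℕ, u ^ q ^ n = 1) → Commute s u → IsConj (s * u) g →
      ¬ MemLocalIdeal M (F g) := fun g u hu hsu hg h =>
    hFs' ((memLocalIdeal_iff_of_cong (hcong g u hu hsu hg)).1 h)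
  have hsupp : ∀ g, F g ≠ 0 →
      ∃ u : G, (∃ n : ℕ, u ^ q ^ n = 1) ∧ Commute s u ∧ IsConj (s * u) g := by
    intro g hg
    rw [hFval] at hg
    obtain ⟨u, -, hu⟩ := exists_ne_zero_of_sum_ne_zero (right_ne_zero_of_mul hg)
    exact ⟨u, hPq u, hPc u, by_contra fun h => hu (if_neg h)⟩
  have hFmem : ∀ g, MemLocalRing M (F g) := fun g => by
    simp only [F, Finset.sum_apply, Pi.mul_apply]
    exact memLocalRing_sum fun χ _ => memLocalRing_mul (hc χ) (memLocalRing_of_isIntegral
      (IsCharacter.isIntegral (IsCharacter.conj (isCharacter_irr χ)) g))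
  let V := (univ.filter fun g => F g ≠ 0).image F
  let f : G → ℂ := 1 - ∏ v ∈ V, (1 - (fun _ => v⁻¹) * F)
  refine ⟨f, sub_mem (one_mem _) (prod_mem fun v hv => sub_mem (one_mem _)
    (mul_mem (const_mem_multiplier ?_) hF)), fun g => ?_⟩
  · obtain ⟨g, hg, rfl⟩ := mem_image.1 hv
    obtain ⟨u, hu, hsu, hg'⟩ := hsupp g (mem_filter.1 hg).2
    exact memLocalRing_inv (hFmem g) (hunit g u hu hsu hg')
  · by_cases hg : F g = 0
    · have h0 : f g = 0 := by simp [f, hg, Finset.prod_apply]
      refine ⟨Or.inl h0, ?_⟩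
      rw [h0]
      refine ⟨fun h => absurd h zero_ne_one, fun ⟨u, hu, hsu, hg'⟩ => ?_⟩
      exact absurd (hg ▸ memLocalIdeal_zero) (hunit g u hu hsu hg')
    · have h1 : f g = 1 := by
        simp only [f, Pi.sub_apply, Pi.one_apply, Finset.prod_apply, Pi.mul_apply, sub_eq_self]
        exact prod_eq_zero (mem_image_of_mem F (mem_filter.2 ⟨mem_univ g, hg⟩))
          (by rw [inv_mul_cancel₀ hg, sub_self])
      exact ⟨Or.inr h1, fun _ => hsupp g hg, fun _ => h1⟩

/-- At a prime over `q ≠ p` the `p`-regular part of a character has locally integral inner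
products with all characters. -/
theorem classInner_regPart_mem (hM : IsPModular q M) (hp : p.Prime) (hpq : p ≠ q) {θ φ : G → ℂ}
    (hθ : IsCharacter G θ) (hφ : IsCharacter G φ) :
    MemLocalRing M (classInner (regPart p θ) φ) := by
  classical
  choose f hf hfv using fun (s : {s : G // ¬ q ∣ orderOf s}) => sectionInd_mem hM (s : G) s.2
  let W : Finset {s : G // ¬ q ∣ orderOf s} := univ.filter fun s => ¬ p ∣ orderOf (s : G)
  let I : G → ℂ := 1 - ∏ s ∈ W, (1 - f s)
  have hI : I ∈ localMultiplier G M :=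
    sub_mem (one_mem _) (prod_mem fun s _ => sub_mem (one_mem _) (hf s))
  have hpres : ∀ (s u : G), ¬ q ∣ orderOf s → (∃ n : ℕ, u ^ q ^ n = 1) → Commute s u →
      (p ∣ orderOf (s * u) ↔ p ∣ orderOf s) := by
    intro s u hs ⟨n, hn⟩ hsu
    obtain ⟨k, -, hk⟩ := (Nat.dvd_prime_pow hM.1).1 (orderOf_dvd_of_pow_eq_one hn)
    have hcop : (orderOf s).Coprime (orderOf u) := by
      rw [hk]
      exact Nat.Coprime.pow_right _ ((hM.1.coprime_iff_not_dvd.2 hs).symm)
    rw [hsu.orderOf_mul_eq_mul_orderOf_of_coprime hcop, hp.dvd_mul]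
    refine or_iff_left fun h => hpq ?_
    rw [hk] at h
    exact (Nat.prime_dvd_prime_iff_eq hp hM.1).1 (hp.dvd_of_dvd_pow h)
  have hval : ∀ g, I g = if p ∣ orderOf g then 0 else 1 := by
    intro g
    simp only [I, Pi.sub_apply, Pi.one_apply, Finset.prod_apply]
    by_cases hg : p ∣ orderOf g
    · rw [if_pos hg, sub_eq_zero]
      refine (prod_eq_one fun s hs => ?_).symm
      rcases (hfv s g).1 with h | h
      · rw [h, sub_zero]
      · exfalso
        obtain ⟨u, hu, hsu, hc⟩ := (hfv s g).2.1 h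
        obtain ⟨x, hx⟩ := isConj_iff.1 hc
        rw [← hx, show x * ((s : G) * u) * x⁻¹ = (MulAut.conj x).toMonoidHom ((s : G) * u) from rfl,
          orderOf_injective (MulAut.conj x).toMonoidHom (MulAut.conj x).injective,
          hpres _ _ s.2 hu hsu] at hg
        exact (mem_filter.1 hs).2 hg
    · rw [if_neg hg, sub_eq_self]
      obtain ⟨u, s, hus, hcom, hu, -, -, hs, -, -, -⟩ := exists_pPart hM.1 g
      have hsu : s * u = g := by rw [← hcom.eq, hus]
      refine prod_eq_zero (i := ⟨s, hs⟩) (mem_filter.2 ⟨mem_univ _, ?_⟩) ?_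
      · show ¬ p ∣ orderOf s
        rw [← hsu, hpres s u hs hu hcom.symm] at hg
        exact hg
      · rw [(hfv ⟨s, hs⟩ g).2.2 ⟨u, hu, hcom.symm, by rw [hsu]⟩, sub_self]
  have : regPart p θ = I * θ := by
    ext g
    rw [Pi.mul_apply, hval]
    by_cases hg : p ∣ orderOf g
    · rw [regPart_of_dvd hg, if_pos hg, zero_mul]
    · rw [regPart_of_not_dvd hg, if_neg hg, one_mul]
  rw [this]
  refine hI θ (fun ψ hψ => ?_) φ hφ
  obtain ⟨n, hn⟩ := IsCharacter.exists_classInner_eq_natCast' hθ hψ
  rw [hn]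
  exact natCast_mem_localRing n

end Prime

/-- Every prime ideal containing a positive integer contains one of its prime divisors. -/
theorem exists_prime_mem {M : Ideal AlgInt} [M.IsPrime] :
    ∀ n : ℕ, n ≠ 0 → (n : AlgInt) ∈ M → ∃ q : ℕ, q.Prime ∧ (q : AlgInt) ∈ M := by
  intro n
  induction n using Nat.recOnMul with
  | zero => exact fun h => absurd rfl h
  | one => intro _ h; exact absurd (by simpa using h) one_notMem
  | prime q hq => exact fun _ h => ⟨q, hq, h⟩
  | mul a b iha ihb =>
    intro h0 h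
    rw [Nat.cast_mul] at h
    rcases Ideal.IsPrime.mem_or_mem inferInstance h with h | h
    · exact iha (fun ha => h0 (by rw [ha, zero_mul])) h
    · exact ihb (fun hb => h0 (by rw [hb, mul_zero])) h

/-- A number which becomes integral on multiplication by `n` is integral when it is locally
integral at all primes. -/
theorem isIntegral_of_local {z : ℂ} {n : ℕ} (hn : n ≠ 0) (hz : IsIntegral ℤ ((n : ℂ) * z))
    (h : ∀ (q : ℕ) (M : Ideal AlgInt), IsPModular q M → MemLocalRing M z) : IsIntegral ℤ z := by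
  let I : Ideal AlgInt :=
    { carrier := {b | IsIntegral ℤ ((b : ℂ) * z)}
      zero_mem' := by
        show IsIntegral ℤ (((0 : AlgInt) : ℂ) * z)
        rw [ZeroMemClass.coe_zero, zero_mul]; exact isIntegral_zero
      add_mem' := fun {x y} hx hy => by
        show IsIntegral ℤ (((x + y : AlgInt) : ℂ) * z)
        rw [AddMemClass.coe_add, add_mul]; exact hx.add hy
      smul_mem' := fun c {x} hx => by
        show IsIntegral ℤ (((c • x : AlgInt) : ℂ) * z)
        rw [smul_eq_mul, MulMemClass.coe_mul, mul_assoc]; exact c.2.mul hx }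
  suffices I = ⊤ by
    have h1 : (1 : AlgInt) ∈ I := this ▸ trivial
    have h2 : IsIntegral ℤ (((1 : AlgInt) : ℂ) * z) := h1
    rwa [OneMemClass.coe_one, one_mul] at h2
  by_contra hI
  obtain ⟨M, hM, hle⟩ := Ideal.exists_le_maximal I hI
  haveI := hM.isPrime
  have hnM : (n : AlgInt) ∈ M := hle (by
    show IsIntegral ℤ (((n : AlgInt) : ℂ) * z)
    simpa using hz)
  obtain ⟨q, hq, hqM⟩ := exists_prime_mem n hn hnM
  obtain ⟨a, b, hb, hab⟩ := h q M ⟨hq, hM, hqM⟩
  refine hb (hle ?_)
  show IsIntegral ℤ ((b : ℂ) * z)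
  rw [← hab, mul_div_cancel₀ _ (coe_ne_zero_of_notMem hb)]
  exact a.2

/-- A field automorphism of `ℂ` acts on `n`-th roots of unity as a power coprime to `n`. -/
theorem exists_pow_of_ringEquiv (σ : ℂ ≃+* ℂ) {n : ℕ} (hn : n ≠ 0) :
    ∃ t : ℕ, t.Coprime n ∧ ∀ z : ℂ, z ^ n = 1 → σ z = z ^ t := by
  haveI : NeZero n := ⟨hn⟩
  have hζ := Complex.isPrimitiveRoot_exp n hn
  have h' := hζ.map_of_injective (f := σ.toRingHom) σ.injective
  obtain ⟨t, -, ht⟩ := hζ.eq_pow_of_pow_eq_one (h'.pow_eq_one)
  refine ⟨t, ?_, fun z hz => ?_⟩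
  · exact (hζ.pow_iff_coprime (Nat.pos_of_ne_zero hn) t).1 (ht ▸ h')
  · obtain ⟨i, -, rfl⟩ := hζ.eq_pow_of_pow_eq_one hz
    rw [map_pow, show σ _ = _ from ht.symm, ← pow_mul, ← pow_mul, Nat.mul_comm t i]

theorem isIntegral_natCast_complex (n : ℕ) : IsIntegral ℤ (n : ℂ) := by
  induction n with
  | zero => simpa using isIntegral_zero
  | succ k ih => push_cast; exact ih.add isIntegral_one

/-- The integrality of the regular part of an irreducible character, scaled by its defect. -/
theorem exists_int_regPart (hp : p.Prime) (χ ψ : IrrCharacter G) :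
    ∃ z : ℤ, ((p ^ ((Nat.card G).factorization p - (charDegree (χ : G → ℂ)).factorization p) : ℕ) : ℂ) *
      classInner (regPart p (χ : G → ℂ)) (ψ : G → ℂ) = (z : ℂ) := by
  classical
  set a := (Nat.card G).factorization p with ha
  set b := (charDegree (χ : G → ℂ)).factorization p with hb
  set K : ℕ := p ^ (a - b)
  have hG : Nat.card G ≠ 0 := Nat.card_pos.ne'
  have hGC : (Nat.card G : ℂ) ≠ 0 := Nat.cast_ne_zero.2 hG
  have hint : IsIntegral ℤ ((K : ℂ) * classInner (regPart p (χ : G → ℂ)) (ψ : G → ℂ)) := by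
    refine isIntegral_of_local hG ?_ fun q M hM => ?_
    · rw [classInner, show (Nat.card G : ℂ) * ((K : ℂ) * ((Nat.card G : ℂ)⁻¹ *
        ∑ g : G, regPart p (χ : G → ℂ) g * conj ((ψ : G → ℂ) g))) =
        (K : ℂ) * ∑ g : G, regPart p (χ : G → ℂ) g * conj ((ψ : G → ℂ) g) by field_simp]
      refine IsIntegral.mul (isIntegral_natCast_complex K) ?_
      refine IsIntegral.sum _ fun g _ => ?_
      by_cases hg : p ∣ orderOf g
      · rw [regPart_of_dvd hg, zero_mul]; exact isIntegral_zero
      · rw [regPart_of_not_dvd hg, conj_irr]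
        exact (IsCharacter.isIntegral (isCharacter_irr χ) g).mul
          (IsCharacter.isIntegral (isCharacter_irr ψ) g⁻¹)
    · haveI := hM.2.1.isPrime
      by_cases hpq : p = q
      · subst hpq
        let f : G → ℂ := regPart p fun g => conj ((ψ : G → ℂ) g)
        have hf : IsIntClass M f := by
          refine ⟨fun g x => ?_, fun g => ?_⟩
          · have ho : orderOf (x * g * x⁻¹) = orderOf g :=
              orderOf_injective (MulAut.conj x).toMonoidHom (MulAut.conj x).injective g
            simp only [f, regPart, ho, isClassFunction_irr ψ g x]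
          · simp only [f, regPart]
            split_ifs
            · exact memLocalRing_zero
            · rw [conj_irr]; exact irr_mem ψ _
        have hs : classInner (regPart p (χ : G → ℂ)) (ψ : G → ℂ) =
            (Nat.card G : ℂ)⁻¹ * ((χ : G → ℂ) 1 * omega (χ : G → ℂ) f) := by
          rw [classInner, omega, mul_div_cancel₀ _ (irr_one_ne_zero χ)]
          congr 1
          refine sum_congr rfl fun g _ => ?_
          by_cases hg : p ∣ orderOf g <;> simp [f, regPart, hg, mul_comm]
        rw [hs, (irr_one χ).1, ← mul_assoc, ← mul_assoc]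
        refine memLocalRing_mul ?_ (omega_mem χ hf)
        obtain ⟨hd1, hd2⟩ := irr_one χ
        have hba : b ≤ a := (Nat.factorization_le_iff_dvd hd2.ne' hG).2 (charDegree_dvd_card χ) p
        have e1 := Nat.ordProj_mul_ordCompl_eq_self (Nat.card G) p
        have e2 := Nat.ordProj_mul_ordCompl_eq_self (charDegree (χ : G → ℂ)) p
        rw [← ha] at e1; rw [← hb] at e2
        set g' := Nat.card G / p ^ a
        set d' := charDegree (χ : G → ℂ) / p ^ b
        have hpa : p ^ a = K * p ^ b := by rw [← pow_add, Nat.sub_add_cancel hba]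
        have hg' : ¬ p ∣ g' := Nat.not_dvd_ordCompl hp hG
        have : (K : ℂ) * (Nat.card G : ℂ)⁻¹ * (charDegree (χ : G → ℂ) : ℂ) =
            (g' : ℂ)⁻¹ * (d' : ℂ) := by
          rw [← e1, ← e2, hpa]
          have h1 : (p : ℂ) ≠ 0 := Nat.cast_ne_zero.2 hp.ne_zero
          have h2 : (g' : ℂ) ≠ 0 := Nat.cast_ne_zero.2 fun h => hg' (h ▸ dvd_zero p)
          have h3 : (K : ℂ) ≠ 0 := Nat.cast_ne_zero.2 (pow_ne_zero _ hp.ne_zero)
          push_cast
          field_simp
        rw [this]
        exact memLocalRing_mul (memLocalRing_natCast_inv hM hg') (natCast_mem_localRing d')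
      · exact memLocalRing_mul (natCast_mem_localRing K)
          (classInner_regPart_mem hM hp hpq (isCharacter_irr χ) (isCharacter_irr ψ))
  refine exists_int_of_fixed hint fun σ => ?_
  obtain ⟨t, ht, hσ⟩ := exists_pow_of_ringEquiv σ hG
  have hσg : ∀ (θ : IrrCharacter G) (g : G), σ ((θ : G → ℂ) g) = (θ : G → ℂ) (g ^ t) :=
    fun θ g => IsCharacter.map_ringEquiv_eq_pow (isCharacter_irr θ) σ fun z hz => hσ z (by
      obtain ⟨k, hk⟩ := orderOf_dvd_natCard g
      rw [hk, pow_mul, hz, one_pow])
  simp only [classInner, map_mul, map_inv₀, map_natCast, map_sum, conj_irr, hσg]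
  congr 2
  refine Fintype.sum_equiv (powCoprime (G := G) (n := t) ht.symm) _ _ fun g => ?_
  have ho : orderOf (g ^ t) = orderOf g :=
    Nat.Coprime.orderOf_pow ((ht.coprime_dvd_right (orderOf_dvd_natCard g)).symm)
  show σ (regPart p (χ : G → ℂ) g) * (ψ : G → ℂ) (g⁻¹ ^ t) =
    regPart p (χ : G → ℂ) (g ^ t) * (ψ : G → ℂ) (g ^ t)⁻¹
  rw [inv_pow]
  by_cases hg : p ∣ orderOf g
  · rw [regPart_of_dvd hg, regPart_of_dvd (ho.symm ▸ hg), map_zero]
  · rw [regPart_of_not_dvd hg, regPart_of_not_dvd (ho.symm ▸ hg), hσg]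

end CfsgLib.Block
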