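import Cfsg.Agent.Blocks.Induced
import Cfsg.Agent.Blocks.Integrality
import Cfsg.Agent.Char.Clifford

/-!
# Blocks of normal subgroups and covering
-/

namespace CfsgLib.Block

open Cfsg Finset CfsgLib.Block.Chr CfsgLib.Char
open scoped ComplexConjugate

set_option linter.unusedSectionVars false
set_option linter.style.haveILetI false

universe u

variable {G : Type u} [Group G] [Fintype G] {N : Subgroup G} [hN : N.Normal] [Fintype N]

/-- Conjugation of an irreducible character of a normal subgroup. -/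
def conjIrr (g : G) (θ : IrrCharacter N) : IrrCharacter N :=
  ⟨conjOn g (θ : N → ℂ), isIrrCharacter_conjOn θ.2 g⟩

theorem conjIrr_coe (g : G) (θ : IrrCharacter N) :
    (conjIrr g θ : N → ℂ) = conjOn g (θ : N → ℂ) := rfl

theorem sum_mul_conjOn {a : G → ℂ} (ha : IsClassFunction G a) (g : G) (θ : N → ℂ) :
    ∑ n : N, a n * conjOn g θ n = ∑ n : N, a n * θ n := by
  rw [← Equiv.sum_comp (MulAut.conjNormal g : MulAut N).toEquiv (fun n : N => a n * θ n)]
  refine sum_congr rfl fun n _ => ?_
  rw [conjOn_eq_comp]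
  simp only [MulEquiv.toEquiv_eq_coe, MulEquiv.coe_toEquiv, MulAut.conjNormal_apply]
  rw [ha (n : G) g]

theorem sum_eq_sum_subgroup (H : Subgroup G) [Fintype H] (f : G → ℂ) (hf : ∀ g, g ∉ H → f g = 0) :
    ∑ g : G, f g = ∑ h : H, f h := by
  classical
  rw [← sum_subset (subset_univ (univ.filter (· ∈ H)))
    fun g _ hg => hf g fun h => hg (mem_filter.2 ⟨mem_univ _, h⟩)]
  exact (sum_bij (fun (h : H) _ => (h : G)) (fun h _ => mem_filter.2 ⟨mem_univ _, h.2⟩)
    (fun h _ h' _ e => Subtype.ext e) (fun g hg => ⟨⟨g, (mem_filter.1 hg).2⟩, mem_univ _, rfl⟩)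
    (fun h _ => rfl)).symm

/-- Central characters of a character and of a constituent of its restriction agree on class
functions supported by the normal subgroup. -/
theorem omega_eq_of_constituent {χ : IrrCharacter G} {θ : IrrCharacter N}
    (h : classInner (fun n : N => (χ : G → ℂ) n) (θ : N → ℂ) ≠ 0) {a : G → ℂ}
    (ha : IsClassFunction G a) (hsupp : ∀ g, g ∉ N → a g = 0) :
    omega (χ : G → ℂ) a = omega (θ : N → ℂ) (resFun N a) := by
  classical
  set e := classInner (fun n : N => (χ : G → ℂ) n) (θ : N → ℂ) with he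
  have h1 : ∑ g : G, a g * (χ : G → ℂ) g = e * ((conjOrbit (G := G) (θ : N → ℂ)).card : ℂ) *
      ∑ n : N, a n * (θ : N → ℂ) n := by
    rw [sum_eq_sum_subgroup N _ fun g hg => by rw [hsupp g hg, zero_mul]]
    have hr := restrict_eq_smul_sum (N := N) χ.2 θ.2 h
    rw [sum_congr rfl fun (n : N) _ => show a (n : G) * (χ : G → ℂ) (n : G) =
      e * ∑ ψ ∈ conjOrbit (G := G) (θ : N → ℂ), a (n : G) * ψ n by
        rw [show (χ : G → ℂ) (n : G) = (fun n : N => (χ : G → ℂ) n) n from rfl, hr]
        simp only [Pi.smul_apply, Finset.sum_apply, smul_eq_mul, mul_sum]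
        exact sum_congr rfl fun ψ _ => by ring]
    rw [← mul_sum, sum_comm, mul_assoc]
    congr 1
    rw [sum_congr rfl fun ψ hψ => ?_, sum_const, nsmul_eq_mul]
    obtain ⟨g, rfl⟩ := mem_conjOrbit.1 hψ
    exact sum_mul_conjOn ha g _
  have hd := degree_eq_mul (N := N) χ.2 θ.2 h
  rw [omega, omega, h1, hd, card_conjOrbit]
  have hne : e * ((inertia (G := G) (θ : N → ℂ)).index : ℂ) ≠ 0 :=
    mul_ne_zero h (Nat.cast_ne_zero.2 Subgroup.index_ne_zero_of_finite)
  rw [mul_div_mul_left _ _ hne]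
  rfl

theorem centralChar_eq_of_constituent {χ : IrrCharacter G} {θ : IrrCharacter N}
    (h : classInner (fun n : N => (χ : G → ℂ) n) (θ : N → ℂ) ≠ 0) (n : N) :
    centralChar (χ : G → ℂ) (n : G) = inducedCentralChar N (θ : N → ℂ) (n : G) := by
  rw [inducedCentralChar_eq, ← omega_classInd]
  refine omega_eq_of_constituent h (isClassFunction_classInd _) fun g hg => classInd_of_not_isConj ?_
  intro hc
  obtain ⟨c, rfl⟩ := isConj_iff.1 hc
  exact hg (hN.conj_mem _ n.2 c)

theorem omega_res_eq_sum_classes (H : Subgroup G) [Fintype H] [Fintype (ConjClasses G)]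
    (ξ : H → ℂ) {a : G → ℂ} (ha : IsClassFunction G a) :
    omega ξ (resFun H a) = ∑ C : ConjClasses G, a C.out * inducedCentralChar H ξ C.out := by
  classical
  have hexp : ∀ x : G, a x = ∑ C : ConjClasses G, a C.out * classInd C.out x := by
    intro x
    rw [sum_eq_single (ConjClasses.mk x)]
    · have hc : IsConj (ConjClasses.mk x).out x :=
        ConjClasses.mk_eq_mk_iff_isConj.1 (Quotient.out_eq (ConjClasses.mk x))
      rw [classInd_of_isConj hc, mul_one]
      obtain ⟨c, hc⟩ := isConj_iff.1 hc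
      nth_rewrite 1 [← hc]
      exact ha _ _
    · intro C _ hC
      rw [classInd_of_not_isConj, mul_zero]
      intro hc
      refine hC ?_
      rw [← Quotient.out_eq C]
      exact ConjClasses.mk_eq_mk_iff_isConj.2 hc
    · simp
  simp only [inducedCentralChar_eq, omega, resFun, ← mul_div_assoc, mul_sum, ← sum_div]
  congr 1
  rw [sum_comm]
  refine sum_congr rfl fun x _ => ?_
  rw [hexp (x : G), sum_mul]
  exact sum_congr rfl fun C _ => by ring

/-- Conversely such agreement makes a constituent. -/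
theorem constituent_of_centralChar_eq {χ : IrrCharacter G} {θ : IrrCharacter N}
    (h : ∀ n : N, centralChar (χ : G → ℂ) (n : G) = inducedCentralChar N (θ : N → ℂ) (n : G)) :
    classInner (fun n : N => (χ : G → ℂ) n) (θ : N → ℂ) ≠ 0 := by
  classical
  intro h0
  set a : G → ℂ := fun g => if hg : g ∈ N then
    ∑ ψ ∈ conjOrbit (G := G) (θ : N → ℂ), conj (ψ ⟨g, hg⟩) else 0 with ha_def
  have ha : IsClassFunction G a := by
    intro g x
    by_cases hg : g ∈ N
    · simp only [ha_def, dif_pos hg, dif_pos (hN.conj_mem g hg x)]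
      refine sum_bij' (fun ψ _ => conjOn x ψ) (fun ψ _ => conjOn x⁻¹ ψ) (fun ψ hψ => ?_)
        (fun ψ hψ => ?_) (fun ψ _ => ?_) (fun ψ _ => ?_) (fun ψ _ => ?_)
      · obtain ⟨c, rfl⟩ := mem_conjOrbit.1 hψ
        exact mem_conjOrbit.2 ⟨c * x, conjOn_conjOn c x _⟩
      · obtain ⟨c, rfl⟩ := mem_conjOrbit.1 hψ
        exact mem_conjOrbit.2 ⟨c * x⁻¹, conjOn_conjOn c x⁻¹ _⟩
      · rw [conjOn_conjOn, mul_inv_cancel, conjOn_one]
      · rw [conjOn_conjOn, inv_mul_cancel, conjOn_one]
      · rfl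
    · have hg' : x * g * x⁻¹ ∉ N := fun hc => hg (by
        have := hN.conj_mem _ hc x⁻¹
        simpa [mul_assoc] using this)
      simp only [ha_def, dif_neg hg, dif_neg hg']
  have hsupp : ∀ g, g ∉ N → a g = 0 := fun g hg => dif_neg hg
  haveI : Fintype (ConjClasses G) := Fintype.ofFinite _
  have heq : omega (χ : G → ℂ) a = omega (θ : N → ℂ) (resFun N a) := by
    rw [omega_eq_sum_classes χ ha, omega_res_eq_sum_classes N _ ha]
    refine sum_congr rfl fun C _ => ?_
    by_cases hC : C.out ∈ N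
    · rw [h ⟨C.out, hC⟩]
    · rw [hsupp _ hC, zero_mul, zero_mul]
  have hleft : omega (χ : G → ℂ) a = 0 := by
    rw [omega, sum_eq_sum_subgroup N _ fun g hg => by rw [hsupp g hg, zero_mul], div_eq_zero_iff]
    refine Or.inl ?_
    simp only [ha_def, SetLike.coe_mem, dif_pos, sum_mul]
    rw [sum_comm]
    refine sum_eq_zero fun ψ hψ => ?_
    obtain ⟨g, rfl⟩ := mem_conjOrbit.1 hψ
    have hc := classInner_restrict_conjOn (N := N) (isClassFunction_irr χ) (θ : N → ℂ) g
    rw [h0] at hc
    rw [sum_congr rfl fun n _ => mul_comm _ _, sum_eq_card_mul_classInner, hc, mul_zero]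
  have hright : omega (θ : N → ℂ) (resFun N a) = (Nat.card N : ℂ) / (θ : N → ℂ) 1 := by
    rw [omega]
    congr 1
    simp only [resFun, ha_def, SetLike.coe_mem, dif_pos, sum_mul]
    rw [sum_comm, sum_eq_single (θ : N → ℂ)]
    · rw [sum_congr rfl fun n _ => mul_comm _ _, sum_eq_card_mul_classInner,
        IsIrrCharacter.classInner_self θ.2, mul_one]
    · intro ψ hψ hne
      obtain ⟨g, rfl⟩ := mem_conjOrbit.1 hψ
      rw [sum_congr rfl fun n _ => mul_comm _ _, sum_eq_card_mul_classInner,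
        IsIrrCharacter.classInner_of_ne θ.2 (isIrrCharacter_conjOn θ.2 g) (Ne.symm hne), mul_zero]
    · exact fun h => absurd (self_mem_conjOrbit _) h
  rw [hleft, hright] at heq
  exact div_ne_zero (Nat.cast_ne_zero.2 Nat.card_pos.ne') (irr_one_ne_zero θ) heq.symm

variable {M : Ideal AlgInt} [M.IsPrime] {p : ℕ}

theorem sameBlock_conjIrr (g : G) {θ θ' : IrrCharacter N}
    (h : SameBlock M (θ : N → ℂ) (θ' : N → ℂ)) :
    SameBlock M (conjIrr g θ : N → ℂ) (conjIrr g θ' : N → ℂ) := by
  intro n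
  set φ := (MulAut.conjNormal g : MulAut N)
  have hidx : (Subgroup.centralizer ({n} : Set N)).index =
      (Subgroup.centralizer ({φ n} : Set N)).index := by
    have : Subgroup.centralizer ({φ n} : Set N) =
        (Subgroup.centralizer ({n} : Set N)).map φ.toMonoidHom := by
      ext c
      rw [Subgroup.mem_map_equiv, Subgroup.mem_centralizer_singleton_iff,
        Subgroup.mem_centralizer_singleton_iff]
      constructor
      · intro h
        have := congrArg φ.symm h
        simpa using this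
      · intro h
        have := congrArg φ h
        simpa using this
    rw [this]; exact (Subgroup.index_map_equiv _ φ).symm
  have e : ∀ ξ : IrrCharacter N, centralChar (conjIrr g ξ : N → ℂ) n =
      centralChar (ξ : N → ℂ) (φ n) := by
    intro ξ
    rw [centralChar, centralChar, hidx, conjIrr_coe, conjOn_eq_comp]
    simp only [φ, map_one]
  rw [e, e]
  exact h _

theorem isIntClass_blockCoeff_union {U : Set (IrrCharacter N)}
    (hU : ∀ θ ∈ U, blockOf M (θ : N → ℂ) ⊆ U) : IsIntClass M (blockCoeff U) := by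
  classical
  letI := irrFintype (G := N)
  haveI : Fintype (Set (IrrCharacter N)) := Fintype.ofFinite _
  set 𝔅 := (univ.filter (· ∈ U)).image fun χ : IrrCharacter N => blockOf M (χ : N → ℂ)
  have hblock : ∀ B ∈ 𝔅, IsPBlock M B := fun B hB => by
    obtain ⟨χ, -, rfl⟩ := mem_image.1 hB
    exact isPBlock_blockOf χ
  refine blockCoeff_mem_of_indicator (v := ∑ B ∈ 𝔅, fun χ : IrrCharacter N =>
    omega (χ : N → ℂ) (blockCoeff B))
    (Subring.sum_mem _ fun B hB => mem_omegaRing.2 ⟨_, isIntClass_blockCoeff (hblock B hB),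
      fun _ => rfl⟩) (fun χ hχ => ?_) fun χ hχ => ?_
  · rw [Finset.sum_apply, sum_eq_single (blockOf M (χ : N → ℂ))]
    · rw [omega_blockCoeff, if_pos (mem_blockOf_self χ)]
    · intro B hB hne
      rw [omega_blockCoeff, if_neg fun h => hne (eq_blockOf_of_mem (hblock B hB) h)]
    · exact fun h => absurd (mem_image_of_mem _ (mem_filter.2 ⟨mem_univ _, hχ⟩)) h
  · rw [Finset.sum_apply]
    refine sum_eq_zero fun B hB => ?_
    obtain ⟨φ, hφ, rfl⟩ := mem_image.1 hB
    rw [omega_blockCoeff, if_neg fun h => hχ (hU φ (mem_filter.1 hφ).2 h)]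

/-- The characters of `N` lying in a conjugate of the block `b`. -/
def orbitUnion (b : Set (IrrCharacter N)) : Set (IrrCharacter N) :=
  {φ | ∃ g : G, ∃ θ ∈ b, φ = conjIrr g θ}

theorem orbitUnion_closed {b : Set (IrrCharacter N)} (hb : IsPBlock M b) :
    ∀ φ ∈ orbitUnion (G := G) b, blockOf M (φ : N → ℂ) ⊆ orbitUnion (G := G) b := by
  rintro _ ⟨g, θ, hθ, rfl⟩ ψ hψ
  refine ⟨g, conjIrr g⁻¹ ψ, ?_, ?_⟩
  · have h := sameBlock_conjIrr (M := M) g⁻¹ (show SameBlock M _ (ψ : N → ℂ) from hψ)
    rw [show conjIrr g⁻¹ (conjIrr g θ) = θ from Subtype.ext (by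
      simp only [conjIrr_coe]; rw [conjOn_conjOn, mul_inv_cancel, conjOn_one])] at h
    exact (sameBlock_iff_mem hb hθ).2 h
  · refine Subtype.ext ?_
    simp only [conjIrr_coe]
    rw [conjOn_conjOn, inv_mul_cancel, conjOn_one]

open Classical in
/-- The idempotent of the orbit of a block, as a class function on `G`. -/
noncomputable def coverFun (b : Set (IrrCharacter N)) : G → ℂ :=
  fun g => if hg : g ∈ N then blockCoeff (orbitUnion (G := G) b) ⟨g, hg⟩ else 0

theorem resFun_coverFun (b : Set (IrrCharacter N)) :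
    resFun N (coverFun b) = blockCoeff (orbitUnion (G := G) b) := by
  funext n
  exact dif_pos n.2

theorem coverFun_not_mem (b : Set (IrrCharacter N)) {g : G} (hg : g ∉ N) : coverFun b g = 0 :=
  dif_neg hg

theorem isIntClass_coverFun {b : Set (IrrCharacter N)} (hb : IsPBlock M b) :
    IsIntClass M (coverFun b) := by
  classical
  letI := irrFintype (G := N)
  have hI := isIntClass_blockCoeff_union (M := M) (orbitUnion_closed hb)
  refine ⟨fun g x => ?_, fun g => ?_⟩
  · by_cases hg : g ∈ N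
    · rw [coverFun, coverFun, dif_pos hg, dif_pos (hN.conj_mem g hg x), blockCoeff_eq_sum,
        blockCoeff_eq_sum]
      congr 1
      refine sum_bij' (fun φ _ => conjIrr x φ) (fun φ _ => conjIrr x⁻¹ φ) (fun φ hφ => ?_)
        (fun φ hφ => ?_) (fun φ _ => ?_) (fun φ _ => ?_) (fun φ _ => ?_)
      · obtain ⟨c, θ, hθ, rfl⟩ := (mem_filter.1 hφ).2
        exact mem_filter.2 ⟨mem_univ _, c * x, θ, hθ, Subtype.ext (conjOn_conjOn c x _)⟩
      · obtain ⟨c, θ, hθ, rfl⟩ := (mem_filter.1 hφ).2
        exact mem_filter.2 ⟨mem_univ _, c * x⁻¹, θ, hθ, Subtype.ext (conjOn_conjOn c x⁻¹ _)⟩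
      · refine Subtype.ext ?_
        simp only [conjIrr_coe]; rw [conjOn_conjOn, mul_inv_cancel, conjOn_one]
      · refine Subtype.ext ?_
        simp only [conjIrr_coe]; rw [conjOn_conjOn, inv_mul_cancel, conjOn_one]
      · rw [conjIrr_coe, conjOn_apply_one, conjOn_apply]
    · have hg' : x * g * x⁻¹ ∉ N := fun hc => hg (by
        have := hN.conj_mem _ hc x⁻¹
        simpa [mul_assoc] using this)
      rw [coverFun, coverFun, dif_neg hg, dif_neg hg']
  · by_cases hg : g ∈ N
    · rw [coverFun, dif_pos hg]; exact hI.2 _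
    · rw [coverFun, dif_neg hg]; exact memLocalRing_zero

theorem omega_coverFun {χ : IrrCharacter G} {θ : IrrCharacter N}
    (h : classInner (fun n : N => (χ : G → ℂ) n) (θ : N → ℂ) ≠ 0) {b : Set (IrrCharacter N)}
    (hb : IsPBlock M b) [Decidable (θ ∈ orbitUnion (G := G) b)] :
    omega (χ : G → ℂ) (coverFun b) = if θ ∈ orbitUnion (G := G) b then 1 else 0 := by
  rw [omega_eq_of_constituent h (isIntClass_coverFun hb).1 fun g hg => coverFun_not_mem b hg,
    resFun_coverFun, omega_blockCoeff]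

theorem self_mem_orbitUnion {b : Set (IrrCharacter N)} {θ : IrrCharacter N} (hθ : θ ∈ b) :
    θ ∈ orbitUnion (G := G) b :=
  ⟨1, θ, hθ, Subtype.ext (conjOn_one _).symm⟩

/-- All constituents over a block covering `b` lie in conjugates of `b`. -/
theorem mem_orbitUnion_of_covering {B : Set (IrrCharacter G)} (hB : IsPBlock M B)
    {b : Set (IrrCharacter N)} (hb : IsPBlock M b) {χ χ' : IrrCharacter G} (hχ : χ ∈ B)
    (hχ' : χ' ∈ B) {θ ψ : IrrCharacter N} (hθ : θ ∈ b)
    (h : classInner (fun n : N => (χ : G → ℂ) n) (θ : N → ℂ) ≠ 0)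
    (h' : classInner (fun n : N => (χ' : G → ℂ) n) (ψ : N → ℂ) ≠ 0) :
    ψ ∈ orbitUnion (G := G) b := by
  classical
  by_contra hψ
  have hc := omega_cong (sameBlock_of_mem hB hχ hχ') (isIntClass_coverFun (G := G) hb)
  rw [omega_coverFun h hb, omega_coverFun h' hb, if_pos (self_mem_orbitUnion hθ), if_neg hψ,
    sub_zero] at hc
  exact not_memLocalIdeal_one hc

theorem covering_cong {B : Set (IrrCharacter G)} (hB : IsPBlock M B) {b : Set (IrrCharacter N)}
    (hb : IsPBlock M b) {χ₀ : IrrCharacter G} (hχ₀ : χ₀ ∈ B) {θ₀ : IrrCharacter N} (hθ₀ : θ₀ ∈ b)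
    (h : classInner (fun n : N => (χ₀ : G → ℂ) n) (θ₀ : N → ℂ) ≠ 0) {χ : IrrCharacter G}
    (hχ : χ ∈ B) {θ : IrrCharacter N} (hθ : θ ∈ b) (n : N) :
    MemLocalIdeal M (centralChar (χ : G → ℂ) (n : G) -
      inducedCentralChar N (θ : N → ℂ) (n : G)) := by
  refine memLocalIdeal_sub_trans (sameBlock_of_mem hB hχ hχ₀ (n : G)) ?_
  rw [centralChar_eq_of_constituent h, inducedCentralChar_eq, inducedCentralChar_eq]
  exact omega_cong (sameBlock_of_mem hb hθ₀ hθ)
    (isIntClass_resFun N (isIntClass_classInd _))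

theorem exists_constituent_of_cong {b : Set (IrrCharacter N)} (hb : IsPBlock M b)
    {χ : IrrCharacter G} {θ : IrrCharacter N} (hθ : θ ∈ b)
    (h : ∀ n : N, MemLocalIdeal M (centralChar (χ : G → ℂ) (n : G) -
      inducedCentralChar N (θ : N → ℂ) (n : G))) :
    ∃ θ' ∈ b, classInner (fun n : N => (χ : G → ℂ) n) (θ' : N → ℂ) ≠ 0 := by
  classical
  obtain ⟨ψ, hψ, hψc⟩ := exists_constituent_restrict (N := N) χ.2
  have hI := isIntClass_coverFun (G := G) hb
  haveI : Fintype (ConjClasses G) := Fintype.ofFinite _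
  have hc : MemLocalIdeal M (omega (χ : G → ℂ) (coverFun b) -
      omega (θ : N → ℂ) (resFun N (coverFun b))) := by
    rw [omega_eq_sum_classes χ hI.1, omega_res_eq_sum_classes N _ hI.1, ← sum_sub_distrib]
    refine memLocalIdeal_sum fun C _ => ?_
    rw [← mul_sub]
    by_cases hC : C.out ∈ N
    · exact memLocalIdeal_mul_left (hI.2 _) (h ⟨_, hC⟩)
    · rw [coverFun_not_mem b hC, zero_mul]; exact memLocalIdeal_zero
  rw [omega_coverFun (θ := ⟨ψ, hψ⟩) hψc hb, resFun_coverFun, omega_blockCoeff,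
    if_pos (self_mem_orbitUnion hθ)] at hc
  by_cases hmem : (⟨ψ, hψ⟩ : IrrCharacter N) ∈ orbitUnion (G := G) b
  · obtain ⟨g, θ', hθ', he⟩ := hmem
    refine ⟨θ', hθ', ?_⟩
    have := classInner_restrict_conjOn (N := N) (isClassFunction_irr χ) (θ' : N → ℂ) g
    rw [← conjIrr_coe, ← he] at this
    rwa [← this]
  · rw [if_neg hmem, zero_sub] at hc
    exact absurd (by simpa using memLocalIdeal_neg hc) (not_memLocalIdeal_one (M := M))

theorem blockOf_eq_singleton (hM : IsPModular p M) (hcop : ¬ p ∣ Nat.card N)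
    (θ : IrrCharacter N) : blockOf M (θ : N → ℂ) = {θ} := by
  classical
  letI := irrFintype (G := N)
  refine Set.eq_singleton_iff_unique_mem.2 ⟨mem_blockOf_self θ, fun φ hφ => ?_⟩
  refine blockOf_subset_of_integral (A := {θ}) (fun g => ?_) (Set.mem_singleton θ) hφ
  rw [blockCoeff_eq_sum]
  refine memLocalRing_mul (memLocalRing_natCast_inv hM hcop)
    (memLocalRing_sum fun χ _ => memLocalRing_mul (irr_mem χ 1) ?_)
  rw [conj_irr]
  exact irr_mem χ _

end CfsgLib.Block
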