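import Cfsg.Agent.Blocks.Principal
import Cfsg.Agent.Char.Central
import Cfsg.Agent.Char.Equivalence
import Cfsg.Agent.GlaubermanCorr.Cyclic
import Mathlib.RingTheory.RootsOfUnity.PrimitiveRoots
import Mathlib.RingTheory.Polynomial.Cyclotomic.Roots

/-!
# Extensions of characters of the principal block when `G = N C(P)`

If `G = N * C(P)` for a Sylow `p`-subgroup `P` of the normal subgroup `N` and `θ` is an extendible
character in the principal block of `N`, then some extension is congruent to the trivial character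
on all sums of `N`-invariant sets, hence lies in the principal block of every `J ≥ N`.
-/

set_option autoImplicit false
set_option linter.style.haveILetI false

namespace CfsgLib.Block.Dade

open Cfsg Finset CfsgLib.Block.Chr CfsgLib.Block

universe u

variable {G : Type u} [Group G] [Fintype G] {M : Ideal AlgInt} [M.IsPrime] {p : ℕ}
  {N : Subgroup G} {n : ℕ}

/-- A set invariant under conjugation by the subgroup. -/
def Inv (N : Subgroup G) (S : Finset G) : Prop := ∀ a ∈ N, ∀ s ∈ S, a * s * a⁻¹ ∈ S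

/-- The scalar of a sum over a set. -/
noncomputable def phi (ρ : Representation ℂ G (Fin n → ℂ)) (S : Finset G) : ℂ :=
  (∑ s ∈ S, ρ.character s) / ρ.character 1

/-- The restriction of a representation to a subgroup. -/
@[reducible] def resN (ρ : Representation ℂ G (Fin n → ℂ)) (N : Subgroup G) :
    Representation ℂ N (Fin n → ℂ) := ρ.comp N.subtype

variable {ρ : Representation ℂ G (Fin n → ℂ)}

theorem sum_eq_phi_smul (hirr : Representation.IsIrreducible (resN ρ N))
    {S : Finset G} (hS : Inv N S) : ∑ s ∈ S, ρ s = phi ρ S • 1 := by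
  haveI := hirr
  have h := CfsgLib.Char.eq_smul_one_of_commute
    (resN ρ N) (∑ s ∈ S, ρ s) fun a => by
    show ρ (a : G) * _ = _ * ρ (a : G)
    rw [Finset.mul_sum, Finset.sum_mul]
    refine Finset.sum_bij' (fun s _ => (a : G) * s * (a : G)⁻¹) (fun s _ => (a : G)⁻¹ * s * a)
      (fun s hs => hS a a.2 s hs) (fun s hs => by
        simpa using hS (a : G)⁻¹ (inv_mem a.2) s hs)
      (fun s _ => by group) (fun s _ => by group) (fun s _ => ?_)
    rw [← map_mul, ← map_mul]
    congr 1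
    group
  rw [h]
  congr 1
  simp [phi, map_sum, Representation.character]

theorem isIntegral_phi (hirr : Representation.IsIrreducible (resN ρ N))
    {S : Finset G} (hS : Inv N S) : IsIntegral ℤ (phi ρ S) := by
  have h1 : IsIntegral ℤ (∑ s ∈ S, MonoidAlgebra.single s (1 : ℤ)) := IsIntegral.of_finite ℤ _
  have h2 := h1.map (MonoidAlgebra.lift ℤ (Module.End ℂ (Fin n → ℂ)) G ρ)
  rw [map_sum] at h2
  simp only [MonoidAlgebra.lift_single, one_smul] at h2
  rw [sum_eq_phi_smul hirr hS, ← Algebra.algebraMap_eq_smul_one] at h2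
  have hn : n ≠ 0 := by
    rintro rfl
    haveI := hirr
    exact absurd (CfsgLib.Char.finrank_pos_of_isIrreducible
      (resN ρ N)) (by simp)
  haveI : Nonempty (Fin n) := ⟨⟨0, Nat.pos_of_ne_zero hn⟩⟩
  exact (isIntegral_algebraMap_iff (FaithfulSMul.algebraMap_injective ℂ _)).1 h2

theorem phi_mem (hirr : Representation.IsIrreducible (resN ρ N))
    {S : Finset G} (hS : Inv N S) : MemLocalRing M (phi ρ S) :=
  memLocalRing_of_isIntegral (isIntegral_phi hirr hS)

/-- The product of three scalars of invariant sets whose products lie in `N`. -/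
theorem phi_mul_cong (hirr : Representation.IsIrreducible (resN ρ N))
    [Fintype N] {θ : IrrCharacter N} (hθ : θ ∈ principalBlock M N)
    (hρθ : ∀ a : N, ρ.character (a : G) = (θ : N → ℂ) a)
    {S T U : Finset G} (hS : Inv N S) (hT : Inv N T) (hU : Inv N U)
    (hN : ∀ s ∈ S, ∀ t ∈ T, ∀ v ∈ U, s * t * v ∈ N) :
    MemLocalIdeal M (phi ρ S * phi ρ T * phi ρ U - ((S.card * T.card * U.card : ℕ) : ℂ)) := by
  classical
  let f : N → ℂ := fun a =>
    (((S ×ˢ T ×ˢ U).filter fun x : G × G × G => x.1 * x.2.1 * x.2.2 = (a : G)).card : ℂ)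
  have hf : IsIntClass M f := by
    refine ⟨fun a b => ?_, fun a => natCast_mem_localRing _⟩
    simp only [f, Nat.cast_inj]
    refine Finset.card_bij' (fun x _ => ((b : G)⁻¹ * x.1 * b, (b : G)⁻¹ * x.2.1 * b,
        (b : G)⁻¹ * x.2.2 * b))
      (fun x _ => ((b : G) * x.1 * (b : G)⁻¹, (b : G) * x.2.1 * (b : G)⁻¹,
        (b : G) * x.2.2 * (b : G)⁻¹)) ?_ ?_ ?_ ?_
    · intro x hx
      simp only [Finset.mem_filter, Finset.mem_product] at hx ⊢
      refine ⟨⟨by simpa using hS _ (inv_mem b.2) _ hx.1.1, by simpa using hT _ (inv_mem b.2) _ hx.1.2.1,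
        by simpa using hU _ (inv_mem b.2) _ hx.1.2.2⟩, ?_⟩
      calc (b : G)⁻¹ * x.1 * b * ((b : G)⁻¹ * x.2.1 * b) * ((b : G)⁻¹ * x.2.2 * b)
          = (b : G)⁻¹ * (x.1 * x.2.1 * x.2.2) * b := by group
        _ = (a : G) := by rw [hx.2]; push_cast; group
    · intro x hx
      simp only [Finset.mem_filter, Finset.mem_product] at hx ⊢
      refine ⟨⟨hS _ b.2 _ hx.1.1, hT _ b.2 _ hx.1.2.1, hU _ b.2 _ hx.1.2.2⟩, ?_⟩
      calc (b : G) * x.1 * (b : G)⁻¹ * ((b : G) * x.2.1 * (b : G)⁻¹) *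
            ((b : G) * x.2.2 * (b : G)⁻¹)
          = (b : G) * (x.1 * x.2.1 * x.2.2) * (b : G)⁻¹ := by group
        _ = _ := by rw [hx.2]; push_cast; rfl
    · intro x _
      ext <;> group
    · intro x _
      ext <;> group
  have hone : CfsgLib.Block.oneIrr N ∈ principalBlock M N := oneIrr_mem_principalBlock
  have hc := omega_cong (M := M) (sameBlock_of_mem isPBlock_principalBlock hθ hone) hf
  have hsum : ∀ g : G → ℂ, ∑ a : N, f a * g a =
      ∑ x ∈ S ×ˢ T ×ˢ U, g (x.1 * x.2.1 * x.2.2) := by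
    intro g
    have hmap : ∀ x ∈ S ×ˢ T ×ˢ U, x.1 * x.2.1 * x.2.2 ∈
        (univ : Finset N).map ⟨Subtype.val, Subtype.val_injective⟩ := fun x hx => by
      simp only [Finset.mem_product] at hx
      exact Finset.mem_map.2 ⟨⟨_, hN _ hx.1 _ hx.2.1 _ hx.2.2⟩, Finset.mem_univ _, rfl⟩
    rw [← Finset.sum_fiberwise_of_maps_to hmap, Finset.sum_map]
    refine Finset.sum_congr rfl fun a _ => ?_
    simp only [f, Function.Embedding.coeFn_mk]
    rw [Finset.sum_congr rfl (fun x hx => by rw [(Finset.mem_filter.1 hx).2] :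
      ∀ x ∈ (S ×ˢ T ×ˢ U).filter (fun x : G × G × G => x.1 * x.2.1 * x.2.2 = (a : G)),
        g (x.1 * x.2.1 * x.2.2) = g a), Finset.sum_const, nsmul_eq_mul]
  have h1 : omega (θ : N → ℂ) f = phi ρ S * phi ρ T * phi ρ U := by
    have e1 : omega (θ : N → ℂ) f =
        (∑ x ∈ S ×ˢ T ×ˢ U, ρ.character (x.1 * x.2.1 * x.2.2)) / ρ.character 1 := by
      rw [omega, ← hρθ 1, ← hsum]
      simp only [OneMemClass.coe_one, hρθ]
    have e2 : ∑ x ∈ S ×ˢ T ×ˢ U, ρ (x.1 * x.2.1 * x.2.2) =
        (phi ρ S * phi ρ T * phi ρ U) • (1 : Module.End ℂ (Fin n → ℂ)) := by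
      rw [Finset.sum_product]
      simp only [Finset.sum_product, map_mul, ← Finset.mul_sum, mul_assoc,
        ← Finset.sum_mul]
      rw [sum_eq_phi_smul hirr hS, sum_eq_phi_smul hirr hT, sum_eq_phi_smul hirr hU]
      simp only [smul_mul_assoc, one_mul, smul_smul, mul_assoc]
    have hne : ρ.character 1 ≠ 0 := by
      rw [show ρ.character 1 = ρ.character ((1 : N) : G) from rfl, hρθ]
      exact irr_one_ne_zero θ
    rw [e1, eq_comm, eq_div_iff hne]
    have e3 := congrArg (LinearMap.trace ℂ (Fin n → ℂ)) e2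
    rw [map_sum, map_smul, smul_eq_mul] at e3
    rw [show ρ.character 1 = LinearMap.trace ℂ (Fin n → ℂ) 1 by
      show LinearMap.trace ℂ (Fin n → ℂ) (ρ 1) = _; rw [map_one]]
    exact e3.symm
  have h2 : omega (CfsgLib.Block.oneIrr N : N → ℂ) f = ((S.card * T.card * U.card : ℕ) : ℂ) := by
    rw [omega, CfsgLib.Block.oneIrr_coe, hsum (fun _ => (1 : ℂ))]
    simp [mul_assoc]
  rw [h1, h2] at hc
  exact hc

/-- The orbit of an element under conjugation by a subgroup. -/
noncomputable def orb (N : Subgroup G) (c : G) : Finset G := by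
  classical
  exact univ.filter fun x => ∃ a ∈ N, a * c * a⁻¹ = x

theorem mem_orb {c x : G} : x ∈ orb N c ↔ ∃ a ∈ N, a * c * a⁻¹ = x := by
  classical
  simp [orb]

theorem inv_orb (c : G) : Inv N (orb N c) := by
  intro a ha s hs
  obtain ⟨b, hb, rfl⟩ := mem_orb.1 hs
  exact mem_orb.2 ⟨a * b, mul_mem ha hb, by group⟩

theorem not_dvd_card_orb [Fact p.Prime] (P : Sylow p N) {c : G}
    (hc : ∀ u : (P : Subgroup N), ((u : N) : G) * c = c * ((u : N) : G)) :
    ¬ p ∣ (orb N c).card := by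
  classical
  let f : N ⧸ (Subgroup.centralizer ({c} : Set G)).subgroupOf N → {x : G // x ∈ orb N c} :=
    Quotient.lift (fun a : N => ⟨(a : G) * c * (a : G)⁻¹, mem_orb.2 ⟨a, a.2, rfl⟩⟩) (by
      intro a b hab
      have hmem : (a : G)⁻¹ * b ∈ Subgroup.centralizer ({c} : Set G) := by
        simpa [Subgroup.mem_subgroupOf] using QuotientGroup.leftRel_apply.1 hab
      have hcc := Subgroup.mem_centralizer_singleton_iff.1 hmem
      apply Subtype.ext
      show (a : G) * c * (a : G)⁻¹ = (b : G) * c * (b : G)⁻¹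
      calc (a : G) * c * (a : G)⁻¹ = (a : G) * (c * ((a : G)⁻¹ * b)) * (b : G)⁻¹ := by group
        _ = (a : G) * ((a : G)⁻¹ * b * c) * (b : G)⁻¹ := by rw [hcc]
        _ = _ := by group)
  have hbij : Function.Bijective f := by
    refine ⟨?_, ?_⟩
    · rintro ⟨a⟩ ⟨b⟩ h
      refine Quotient.sound (QuotientGroup.leftRel_apply.2 ?_)
      have h' : (a : G) * c * (a : G)⁻¹ = (b : G) * c * (b : G)⁻¹ := congrArg Subtype.val h
      rw [Subgroup.mem_subgroupOf, Subgroup.mem_centralizer_singleton_iff]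
      push_cast
      calc (a : G)⁻¹ * b * c = (a : G)⁻¹ * ((b : G) * c * (b : G)⁻¹) * b := by group
        _ = (a : G)⁻¹ * ((a : G) * c * (a : G)⁻¹) * b := by rw [h']
        _ = _ := by group
    · rintro ⟨x, hx⟩
      obtain ⟨a, ha, rfl⟩ := mem_orb.1 hx
      exact ⟨QuotientGroup.mk ⟨a, ha⟩, rfl⟩
  have hle : (P : Subgroup N) ≤ (Subgroup.centralizer ({c} : Set G)).subgroupOf N := fun u hu => by
    rw [Subgroup.mem_subgroupOf, Subgroup.mem_centralizer_singleton_iff]
    exact hc ⟨u, hu⟩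
  have hcard : (orb N c).card = ((Subgroup.centralizer ({c} : Set G)).subgroupOf N).index := by
    rw [Subgroup.index_eq_card, Nat.card_congr (Equiv.ofBijective f hbij),
      Nat.card_eq_fintype_card, Fintype.card_coe]
  rw [hcard]
  exact fun h => P.not_dvd_index (h.trans (Subgroup.index_dvd_of_le hle))

theorem phi_orb {ρ : Representation ℂ G (Fin n → ℂ)} (c : G) :
    phi ρ (orb N c) = ((orb N c).card : ℂ) * (ρ.character c / ρ.character 1) := by
  have h : ∀ x ∈ orb N c, ρ.character x = ρ.character c := fun x hx => by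
    obtain ⟨a, -, rfl⟩ := mem_orb.1 hx
    exact ρ.char_conj c a
  rw [phi, Finset.sum_congr rfl h, Finset.sum_const, nsmul_eq_mul, mul_div_assoc]

theorem orb_coset [N.Normal] {c x : G} (h : x ∈ orb N c) :
    (x : G ⧸ N) = (c : G ⧸ N) := by
  obtain ⟨a, ha, rfl⟩ := mem_orb.1 h
  rw [QuotientGroup.mk_mul, QuotientGroup.mk_mul, QuotientGroup.mk_inv,
    (QuotientGroup.eq_one_iff a).2 ha]
  simp

theorem exists_lift [Fact p.Prime] (hM : IsPModular p M) {A : Type*} [Group A] [Finite A]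
    (μ : A →* (Residue M)ˣ) :
    ∃ lam : A →* ℂˣ, ∀ a, ∃ h : MemLocalRing M (lam a : ℂ),
      res M ⟨(lam a : ℂ), h⟩ = (μ a : Residue M) := by
  classical
  haveI := charP_residue hM
  have hp : p.Prime := Fact.out
  set d := Nat.card A
  have hd : d ≠ 0 := Nat.card_pos.ne'
  set e := d / p ^ d.factorization p with he
  have he0 : e ≠ 0 := (Nat.ordCompl_pos p hd).ne'
  haveI : NeZero e := ⟨he0⟩
  have hep : ¬ p ∣ e := Nat.not_dvd_ordCompl hp hd
  have hpow : ∀ a, (μ a : Residue M) ^ e = 1 := by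
    intro a
    have h1 : (μ a : Residue M) ^ (p ^ d.factorization p * e) = 1 := by
      rw [Nat.ordProj_mul_ordCompl_eq_self, ← Units.val_pow_eq_pow_val, ← map_pow, pow_card_eq_one',
        map_one, Units.val_one]
    rw [mul_comm, pow_mul] at h1
    haveI := ExpChar.prime (R := Residue M) hp
    exact (ExpChar.pow_prime_pow_mul_eq_one_iff p (d.factorization p) 1
      ((μ a : Residue M) ^ e)).1 (by simpa using h1) |> fun h => by simpa using h
  haveI : NeZero (e : Residue M) := ⟨by rw [Ne, CharP.cast_eq_zero_iff (Residue M) p]; exact hep⟩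
  obtain ⟨ζ, hζ⟩ := exists_primitiveRoot (M := M) e he0
  have hζk : IsPrimitiveRoot (res M ζ) e := by
    rw [← Polynomial.isRoot_cyclotomic_iff, Polynomial.IsRoot.def]
    have h0 : Polynomial.IsRoot (Polynomial.cyclotomic e (localRing M)) ζ :=
      hζ.isRoot_cyclotomic (Nat.pos_of_ne_zero he0)
    have := h0.map (f := res M)
    rwa [Polynomial.map_cyclotomic, Polynomial.IsRoot.def] at this
  have hex : ∀ a, ∃ i < e, res M ζ ^ i = (μ a : Residue M) := fun a =>
    hζk.eq_pow_of_pow_eq_one (hpow a)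
  choose i hi hμ using hex
  have hζu : IsUnit ((ζ : ℂ)) := by
    refine IsUnit.of_pow_eq_one ?_ he0
    exact congrArg (fun z : localRing M => (z : ℂ)) hζ.pow_eq_one
  have hval : ∀ k, ((hζu.unit ^ k : ℂˣ) : ℂ) = ((ζ ^ k : localRing M) : ℂ) := fun k => by simp
  have hinj : ∀ k l, res M (ζ ^ k) = res M (ζ ^ l) → (ζ ^ k : localRing M) = ζ ^ l := by
    intro k l h
    rw [map_pow, map_pow] at h
    rw [← pow_mod_orderOf ζ k, ← pow_mod_orderOf ζ l, ← hζ.eq_orderOf]
    rw [← pow_mod_orderOf (res M ζ) k, ← pow_mod_orderOf (res M ζ) l, ← hζk.eq_orderOf] at h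
    rw [hζk.pow_inj (Nat.mod_lt _ (Nat.pos_of_ne_zero he0))
      (Nat.mod_lt _ (Nat.pos_of_ne_zero he0)) h]
  refine ⟨MonoidHom.mk' (fun a => hζu.unit ^ i a) fun a b => ?_, fun a => ⟨?_, ?_⟩⟩
  · apply Units.ext
    rw [← pow_add, hval, hval, hinj (i (a * b)) (i a + i b) ?_]
    rw [map_pow, map_pow, pow_add, hμ, hμ, hμ, map_mul, Units.val_mul]
  · show MemLocalRing M ((hζu.unit ^ i a : ℂˣ) : ℂ)
    rw [hval]
    exact (ζ ^ i a).2
  · rw [← hμ a, ← map_pow]
    exact congrArg (res M) (Subtype.ext (hval _))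

/-- The normalised extension. -/
theorem exists_normalized [Fact p.Prime] (hM : IsPModular p M) [Fintype N] [N.Normal] (P : Sylow p N)
    (hcov : ∀ g : G, ∃ a ∈ N, ∃ c : G,
      (∀ u : (P : Subgroup N), ((u : N) : G) * c = c * ((u : N) : G)) ∧ a * c = g)
    {θ : IrrCharacter N} (hθ : θ ∈ principalBlock M N) (ψ : IrrCharacter G)
    (hψ : ∀ a : N, (ψ : G → ℂ) a = (θ : N → ℂ) a) :
    ∃ (n : ℕ) (ρ : Representation ℂ G (Fin n → ℂ)), Representation.IsIrreducible (resN ρ N) ∧
      (∀ a : N, ρ.character (a : G) = (θ : N → ℂ) a) ∧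
      ∀ S : Finset G, Inv N S → MemLocalIdeal M (phi ρ S - (S.card : ℂ)) := by
  classical
  haveI := charP_residue hM
  obtain ⟨n, ρ, -, hρ⟩ := ψ.2
  have hρθ : ∀ a : N, ρ.character (a : G) = (θ : N → ℂ) a := fun a => by rw [hρ, hψ]
  have hirr : Representation.IsIrreducible (resN ρ N) := by
    rw [CfsgLib.Char.isIrreducible_iff_isIrrCharacter]
    rw [show (resN ρ N).character = (θ : N → ℂ) from funext hρθ]
    exact θ.2
  have hd0 : ρ.character 1 ≠ 0 := by
    rw [show ρ.character 1 = ρ.character ((1 : N) : G) from rfl, hρθ]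
    exact irr_one_ne_zero θ
  have hone : Inv N ({1} : Finset G) := fun a _ s hs => by
    rw [Finset.mem_singleton] at hs ⊢; rw [hs]; group
  have hphi1 : phi ρ {1} = 1 := by rw [phi, Finset.sum_singleton, div_self hd0]
  let C : Subgroup G := Subgroup.centralizer (((P : Subgroup N).map N.subtype : Subgroup G) : Set G)
  have hC : ∀ c, c ∈ C ↔ ∀ u : (P : Subgroup N), ((u : N) : G) * c = c * ((u : N) : G) := fun c => by
    show c ∈ Subgroup.centralizer _ ↔ _
    rw [Subgroup.mem_centralizer_iff]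
    exact ⟨fun h u => h _ ⟨u.1, u.2, rfl⟩, fun h y hy => by
      obtain ⟨u, hu, rfl⟩ := hy
      exact h ⟨u, hu⟩⟩
  -- the normalised values on `C`
  have hmem : ∀ c ∈ C, MemLocalRing M (ρ.character c / ρ.character 1) := fun c hc => by
    have h := not_dvd_card_orb P ((hC c).1 hc)
    have h1 := memLocalRing_mul (memLocalRing_natCast_inv hM h) (phi_mem (M := M) hirr (inv_orb c))
    rwa [phi_orb, inv_mul_cancel_left₀ (Nat.cast_ne_zero.2 fun h0 => h (by rw [h0]; exact dvd_zero p))]
      at h1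
  let m : C → Residue M := fun c => res M ⟨_, hmem c c.2⟩
  have hres : ∀ (c : C) (h : MemLocalRing M (phi ρ (orb N (c : G)))),
      res M ⟨phi ρ (orb N (c : G)), h⟩ = ((orb N (c : G)).card : Residue M) * m c := fun c h => by
    rw [← map_natCast (res M), ← map_mul]
    exact congrArg (res M) (Subtype.ext (phi_orb (c : G)))
  have hkey : ∀ c d e : C, ((c * d * e : C) : G) ∈ N → m c * m d * m e = 1 := by
    intro c d e hN
    have h := phi_mul_cong hirr hθ hρθ (inv_orb (c : G)) (inv_orb (d : G)) (inv_orb (e : G))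
      fun s hs t ht v hv => by
        rw [← QuotientGroup.eq_one_iff, QuotientGroup.mk_mul, QuotientGroup.mk_mul, orb_coset hs,
          orb_coset ht, orb_coset hv, ← QuotientGroup.mk_mul, ← QuotientGroup.mk_mul]
        exact (QuotientGroup.eq_one_iff _).2 hN
    have hm1 := phi_mem (M := M) hirr (inv_orb (N := N) (c : G))
    have hm2 := phi_mem (M := M) hirr (inv_orb (N := N) (d : G))
    have hm3 := phi_mem (M := M) hirr (inv_orb (N := N) (e : G))
    have h' : res M (⟨_, hm1⟩ * ⟨_, hm2⟩ * ⟨_, hm3⟩) =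
        res M (((orb N (c : G)).card * (orb N (d : G)).card * (orb N (e : G)).card : ℕ) : localRing M) := by
      rw [res_eq_iff]
      push_cast at h ⊢
      exact h
    rw [map_mul, map_mul, map_natCast, hres, hres, hres, Nat.cast_mul, Nat.cast_mul] at h'
    have hnz : ∀ x : C, ((orb N (x : G)).card : Residue M) ≠ 0 := fun x => by
      rw [Ne, CharP.cast_eq_zero_iff (Residue M) p]; exact not_dvd_card_orb P ((hC x).1 x.2)
    refine mul_left_cancel₀ (mul_ne_zero (mul_ne_zero (hnz c) (hnz d)) (hnz e)) ?_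
    linear_combination h'
  have hm1 : m 1 = 1 := by
    show res M _ = 1
    rw [← map_one (res M)]
    exact congrArg (res M) (Subtype.ext (div_self hd0))
  have hminv : ∀ c : C, m c * m c⁻¹ = 1 := fun c => by
    have := hkey c c⁻¹ 1 (by simp)
    rwa [hm1, mul_one] at this
  let mu : C →* (Residue M)ˣ := MonoidHom.mk'
    (fun c => ⟨m c, m c⁻¹, hminv c, by rw [mul_comm]; exact hminv c⟩) fun c d => by
      apply Units.ext
      show m (c * d) = m c * m d
      have h1 := hkey c d (c * d)⁻¹ (by simp)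
      linear_combination (-(m (c * d))) * h1 + (m c * m d) * hminv (c * d)
  let π : C →* G ⧸ N := (QuotientGroup.mk' N).comp C.subtype
  have hπ : Function.Surjective π := fun q => by
    obtain ⟨g, rfl⟩ := QuotientGroup.mk'_surjective N q
    obtain ⟨a, ha, c, hc, rfl⟩ := hcov g
    exact ⟨⟨c, (hC c).2 hc⟩, by simp [π, (QuotientGroup.eq_one_iff a).2 ha]⟩
  have hker : π.ker ≤ mu.ker := fun c hc => by
    have hcN : (c : G) ∈ N := (QuotientGroup.eq_one_iff _).1 hc
    apply Units.ext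
    show m c = 1
    have := hkey c 1 1 (by simpa using hcN)
    rwa [hm1, mul_one, mul_one] at this
  obtain ⟨lam, hlam⟩ := exists_lift hM (π.liftOfSurjective hπ ⟨mu, hker⟩)
  obtain ⟨ρ', hρ', -⟩ := CfsgLib.GlaubermanCorr.twistLin_aux (lam⁻¹.comp (QuotientGroup.mk' N)) ρ
  have hρ'g : ∀ g : G, ρ'.character g = (((lam (g : G ⧸ N))⁻¹ : ℂˣ) : ℂ) * ρ.character g :=
    fun g => by rw [hρ']; rfl
  have hρ'θ : ∀ a : N, ρ'.character (a : G) = (θ : N → ℂ) a := fun a => by
    rw [hρ'g, (QuotientGroup.eq_one_iff (a : G)).2 a.2, map_one, inv_one, Units.val_one, one_mul,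
      hρθ]
  have hirr' : Representation.IsIrreducible (resN ρ' N) := by
    rw [CfsgLib.Char.isIrreducible_iff_isIrrCharacter]
    rw [show (resN ρ' N).character = (θ : N → ℂ) from funext hρ'θ]
    exact θ.2
  refine ⟨n, ρ', hirr', hρ'θ, ?_⟩
  -- the congruence on the orbits of `C`
  have horb : ∀ c ∈ C, MemLocalIdeal M (phi ρ' (orb N c) - ((orb N c).card : ℂ)) := by
    intro c hc
    obtain ⟨hl, hl'⟩ := hlam (c : G ⧸ N)
    have hl2 : res M ⟨(lam (c : G ⧸ N) : ℂ), hl⟩ = m ⟨c, hc⟩ := by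
      rw [hl']
      exact congrArg Units.val (π.liftOfRightInverse_comp_apply _ _ ⟨mu, hker⟩ ⟨c, hc⟩)
    have hne : res M ⟨(lam (c : G ⧸ N) : ℂ), hl⟩ ≠ 0 := by
      rw [hl']; exact Units.ne_zero _
    have hnl : ¬ MemLocalIdeal M (lam (c : G ⧸ N) : ℂ) := fun h => hne (res_eq_zero_iff.2 h)
    have hli : MemLocalRing M (lam (c : G ⧸ N) : ℂ)⁻¹ := memLocalRing_inv hl hnl
    have h1 : MemLocalIdeal M (ρ.character c / ρ.character 1 - (lam (c : G ⧸ N) : ℂ)) := by
      have : res M ⟨_, hmem c hc⟩ = res M ⟨_, hl⟩ := hl2.symm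
      exact res_eq_iff.1 this
    have h2 := memLocalIdeal_mul_left
      (memLocalRing_mul (natCast_mem_localRing (orb N c).card) hli) h1
    have e1 : ρ'.character 1 = ρ.character 1 := by
      rw [show ρ'.character 1 = ρ'.character ((1 : N) : G) from rfl, hρ'θ, ← hρθ]; rfl
    rw [phi_orb, hρ'g, e1, Units.val_inv_eq_inv_val]
    have hl0 : (lam (c : G ⧸ N) : ℂ) ≠ 0 := Units.ne_zero _
    convert h2 using 1
    field_simp
  intro S hS
  rw [phi, ← Finset.sum_fiberwise S (fun s : G => (s : G ⧸ N)), Finset.sum_div,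
    Finset.card_eq_sum_card_fiberwise (s := S) (t := Finset.univ)
      (f := fun s : G => (s : G ⧸ N)) (fun x _ => Finset.mem_univ _), Nat.cast_sum,
    ← Finset.sum_sub_distrib]
  refine memLocalIdeal_sum fun q _ => ?_
  set Sq := S.filter (fun s : G => (s : G ⧸ N) = q) with hSq
  have hSqi : Inv N Sq := fun a ha s hs => by
    rw [hSq, Finset.mem_filter] at hs ⊢
    refine ⟨hS a ha s hs.1, ?_⟩
    rw [QuotientGroup.mk_mul, QuotientGroup.mk_mul, QuotientGroup.mk_inv,
      (QuotientGroup.eq_one_iff a).2 ha, hs.2]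
    simp
  obtain ⟨⟨c, hc⟩, hcq⟩ := hπ q⁻¹
  have hcq' : (c : G ⧸ N) = q⁻¹ := hcq
  have hd' : ρ'.character 1 ≠ 0 := by
    rw [show ρ'.character 1 = ρ'.character ((1 : N) : G) from rfl, hρ'θ]
    exact irr_one_ne_zero θ
  have h := phi_mul_cong hirr' hθ hρ'θ hSqi (inv_orb c) hone fun s hs t ht v hv => by
    rw [← QuotientGroup.eq_one_iff, QuotientGroup.mk_mul, QuotientGroup.mk_mul,
      (Finset.mem_filter.1 hs).2, orb_coset ht, hcq', mul_inv_cancel, Finset.mem_singleton.1 hv]
    simp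
  rw [show phi ρ' {1} = 1 by rw [phi, Finset.sum_singleton, div_self hd'], mul_one,
    Finset.card_singleton, mul_one, Nat.cast_mul] at h
  have h3 := memLocalIdeal_sub h
    (memLocalIdeal_mul_left (phi_mem (M := M) hirr' hSqi) (horb c hc))
  have h4 := memLocalIdeal_mul_left
    (memLocalRing_natCast_inv hM (not_dvd_card_orb P ((hC c).1 hc))) h3
  show MemLocalIdeal M (phi ρ' Sq - (Sq.card : ℂ))
  have hn0 : ((orb N c).card : ℂ) ≠ 0 := Nat.cast_ne_zero.2 fun h0 =>
    not_dvd_card_orb P ((hC c).1 hc) (by rw [h0]; exact dvd_zero p)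
  convert h4 using 1
  field_simp
  ring

end CfsgLib.Block.Dade
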