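import Cfsg.Agent.Blocks.AlperinExtend
import Cfsg.Agent.Blocks.Cover
import Cfsg.Agent.Char.DegreeRatio
import Cfsg.Agent.Char.Kernel
import Cfsg.Agent.S4937

/-!
# Restriction of the principal block to a normal subgroup of index prime to `p` covered by the
centralizer of a Sylow subgroup (Alperin)
-/

set_option autoImplicit false
set_option linter.style.haveILetI false
set_option linter.unusedSectionVars false

namespace CfsgLib.Block.Alperin

open Cfsg Finset CfsgLib.Block.Chr CfsgLib.Char CfsgLib.Block CfsgLib.Block.Dade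
open scoped ComplexConjugate

universe u

variable {G : Type u} [Group G] [Fintype G] {M : Ideal AlgInt} [M.IsPrime] {p : ℕ}

/-- A class function acting by a scalar on `F` acts by it on every constituent of `F`. -/
theorem omega_eq_of_eigen {a : G → ℂ} (ha : IsClassFunction G a) {F : G → ℂ} {L : ℂ}
    (hF : ∀ x, ∑ g, a g * F (g * x) = L * F x) {χ : IrrCharacter G}
    (h : classInner F (χ : G → ℂ) ≠ 0) : omega (χ : G → ℂ) a = L := by
  have hm := class_mul χ ha (fun k => F k⁻¹)
  have hb : ∑ k : G, F k⁻¹ * (χ : G → ℂ) k = (Nat.card G : ℂ) * classInner F (χ : G → ℂ) := by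
    rw [← sum_eq_card_mul_classInner]
    refine Fintype.sum_equiv (Equiv.inv G) _ _ fun k => ?_
    rw [Equiv.inv_apply, conj_irr, inv_inv]
  have hl : ∑ g : G, ∑ k : G, a g * F k⁻¹ * (χ : G → ℂ) (g * k) =
      L * ((Nat.card G : ℂ) * classInner F (χ : G → ℂ)) := by
    rw [← hb]
    calc ∑ g : G, ∑ k : G, a g * F k⁻¹ * (χ : G → ℂ) (g * k)
        = ∑ g : G, ∑ x : G, a g * F (g * x⁻¹) * (χ : G → ℂ) x := by
          refine sum_congr rfl fun g _ => ?_
          refine Fintype.sum_equiv (Equiv.mulRight g) _ _ fun k => ?_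
          rw [Equiv.coe_mulRight]
          have hc : (χ : G → ℂ) (g * k) = (χ : G → ℂ) (k * g) := by
            have := isClassFunction_irr χ (k * g) g
            simpa [mul_assoc] using this
          simp only [hc, mul_inv_rev, mul_inv_cancel_left]
      _ = ∑ x : G, (∑ g : G, a g * F (g * x⁻¹)) * (χ : G → ℂ) x := by
          rw [sum_comm]; simp only [sum_mul]
      _ = _ := by
          rw [mul_sum]; exact sum_congr rfl fun x _ => by rw [hF, mul_assoc]
  rw [hl, hb] at hm
  rw [omega, div_eq_iff (irr_one_ne_zero χ)]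
  refine (mul_right_cancel₀ (mul_ne_zero (Nat.cast_ne_zero.2 (Nat.card_pos (α := G)).ne') h) ?_).symm
  rw [← hm]
  ring

variable {N : Subgroup G} [hN : N.Normal] [Fintype N]

theorem invariant_of_over_one (β : IrrCharacter G)
    (h : classInner (fun n : N => (β : G → ℂ) n) (fun _ => 1) ≠ 0) (x : G) {m : G} (hm : m ∈ N) :
    (β : G → ℂ) (x * m) = (β : G → ℂ) x := by
  classical
  obtain ⟨k, ρ, -, hρ⟩ := β.2
  have horb : conjOrbit (G := G) (fun _ : N => (1 : ℂ)) = {fun _ => 1} :=
    eq_singleton_iff_unique_mem.2 ⟨self_mem_conjOrbit _, fun f hf => by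
      obtain ⟨g, rfl⟩ := mem_conjOrbit.1 hf; rfl⟩
  have hr := restrict_eq_smul_sum β.2 (CfsgLib.Block.oneIrr N).2 (by rwa [oneIrr_coe])
  rw [oneIrr_coe, horb, sum_singleton] at hr
  have h1 := congrFun hr ⟨m, hm⟩
  have h2 := congrFun hr 1
  simp only [Pi.smul_apply, OneMemClass.coe_one] at h1 h2
  have hβm : ρ.character m = (Module.finrank ℂ (Fin k → ℂ) : ℂ) := by
    rw [← ρ.char_one, hρ]; exact h1.trans h2.symm
  rw [← hρ]
  show LinearMap.trace ℂ _ (ρ (x * m)) = LinearMap.trace ℂ _ (ρ x)
  rw [map_mul, apply_eq_one_of_character_eq ρ hβm, mul_one]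

/-- The centralizer of a Sylow subgroup consists of elements with classes of length prime to `p`. -/
theorem not_dvd_class [Fact p.Prime] (hidx : ¬ p ∣ N.index) (P : Sylow p N) {c : G}
    (hc : ∀ u : (P : Subgroup N), ((u : N) : G) * c = c * ((u : N) : G)) :
    ¬ p ∣ (Subgroup.centralizer ({c} : Set G)).index := by
  intro h
  have hle : (P : Subgroup N).map N.subtype ≤ Subgroup.centralizer ({c} : Set G) := by
    rintro _ ⟨u, hu, rfl⟩
    exact Subgroup.mem_centralizer_singleton_iff.2 (hc ⟨u, hu⟩)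
  have h1 := h.trans (Subgroup.index_dvd_of_le hle)
  rw [Subgroup.index_map_subtype] at h1
  exact ((Fact.out : p.Prime).dvd_mul.1 h1).elim P.not_dvd_index hidx

/-- A member of the principal block lying over `θ` is the given extension of `θ`. -/
theorem eq_extension [Fact p.Prime] (hM : IsPModular p M) (hidx : ¬ p ∣ N.index) (P : Sylow p N)
    (hcov : ∀ g : G, ∃ a ∈ N, ∃ c : G,
      (∀ u : (P : Subgroup N), ((u : N) : G) * c = c * ((u : N) : G)) ∧ a * c = g)
    {θ : IrrCharacter N} {ψ χ : IrrCharacter G} (hψ : ψ ∈ principalBlock M G)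
    (hψθ : ∀ a : N, (ψ : G → ℂ) a = (θ : N → ℂ) a) (hχ : χ ∈ principalBlock M G)
    (hover : classInner (fun a : N => (χ : G → ℂ) a) (θ : N → ℂ) ≠ 0) : χ = ψ := by
  classical
  letI := irrFintype (G := G)
  haveI := Fintype.ofFinite (G ⧸ N)
  have hind : indFun N (θ : N → ℂ) = indFun N (fun _ => (1 : ℂ)) * (ψ : G → ℂ) := by
    rw [← indFun_mul_restrict _ (isClassFunction_irr ψ)]
    congr 1
    funext a
    rw [Pi.mul_apply, one_mul, hψθ]
  have hne : classInner (indFun N (θ : N → ℂ)) (χ : G → ℂ) ≠ 0 := by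
    rw [classInner_indFun _ (isClassFunction_irr χ), ← CfsgLib.Char.classInner_conj]
    exact fun h0 => hover ((map_eq_zero (starRingEnd ℂ)).1 h0)
  have hexp : indFun N (θ : N → ℂ) = ∑ β : IrrCharacter G,
      classInner (indFun N (fun _ : N => (1 : ℂ))) (β : G → ℂ) • ((β : G → ℂ) * (ψ : G → ℂ)) := by
    rw [hind]
    funext g
    rw [Pi.mul_apply, classFun_expand (isClassFunction_indFun N _) g, sum_mul,
      Finset.sum_apply]
    exact sum_congr rfl fun β _ => by simp [mul_assoc]
  rw [hexp, classInner_sum_left] at hne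
  obtain ⟨β, -, hβ⟩ := exists_ne_zero_of_sum_ne_zero hne
  rw [classInner_smul_left] at hβ
  obtain ⟨hβ1, hβ2⟩ := mul_ne_zero_iff.1 hβ
  rw [classInner_indFun _ (isClassFunction_irr β), ← CfsgLib.Char.classInner_conj] at hβ1
  have hβN : classInner (fun a : N => (β : G → ℂ) a) (fun _ => 1) ≠ 0 := fun h0 =>
    hβ1 (by rw [h0, map_zero])
  have hinv := invariant_of_over_one β hβN
  by_cases hβ0 : β = CfsgLib.Block.oneIrr G
  · subst hβ0
    rw [oneIrr_coe, show ((fun _ : G => (1 : ℂ)) * (ψ : G → ℂ)) = (ψ : G → ℂ) from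
      funext fun g => one_mul _, classInner_irr] at hβ2
    by_contra hne'
    exact hβ2 (if_neg (Ne.symm hne'))
  exfalso
  obtain ⟨kψ, ρ, -, hρ⟩ := ψ.2
  have hirrN : Representation.IsIrreducible (Dade.resN ρ N) := by
    rw [CfsgLib.Char.isIrreducible_iff_isIrrCharacter]
    rw [show (Dade.resN ρ N).character = (θ : N → ℂ) from funext fun a => by
      show ρ.character (a : G) = _
      rw [hρ, hψθ]]
    exact θ.2
  obtain ⟨d, hd, hdeg⟩ := exists_degree_ratio β.2 (CfsgLib.Block.oneIrr N).2 (by rwa [oneIrr_coe])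
  rw [oneIrr_coe, mul_one] at hdeg
  have hdp : ¬ p ∣ d := fun h => hidx (h.trans hd)
  have hone : oneIrr G ∈ principalBlock M G := oneIrr_mem_principalBlock
  -- on the centralizer of `P` the values are congruent to the degree
  have key : ∀ c : G, (∀ u : (P : Subgroup N), ((u : N) : G) * c = c * ((u : N) : G)) →
      MemLocalIdeal M ((β : G → ℂ) c - (β : G → ℂ) 1) := by
    intro c hc
    set K := ((Subgroup.centralizer ({c} : Set G)).index : ℂ) with hKdef
    have hKu : ¬ MemLocalIdeal M K := fun h =>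
      not_dvd_class hidx P hc ((memLocalIdeal_natCast_iff hM).1 h)
    have hKr : MemLocalRing M K := natCast_mem_localRing _
    have hB : ∀ ξ ∈ principalBlock M G, MemLocalIdeal M (centralChar (ξ : G → ℂ) c - K) := by
      intro ξ hξ
      have h := sameBlock_of_mem isPBlock_principalBlock hξ hone c
      rwa [centralChar, centralChar, oneIrr_coe, mul_one, div_one, ← hKdef] at h
    set r := (ψ : G → ℂ) c / (ψ : G → ℂ) 1 with hr
    have hcψ : centralChar (ψ : G → ℂ) c = K * r := by rw [centralChar, mul_div_assoc]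
    have hr1 : NearOne M r := by
      have h : NearOne M (centralChar (ψ : G → ℂ) c / K) :=
        nearOne_div hKr hKu (centralChar_mem ψ c) (hB ψ hψ)
      rwa [hcψ, mul_div_cancel_left₀ _ (ne_zero_of_not_memLocalIdeal hKu)] at h
    have heig : ∀ x : G, ∑ g, classInd c g * (((β : G → ℂ) * (ψ : G → ℂ)) (g * x)) =
        r * omega (β : G → ℂ) (classInd c) * ((β : G → ℂ) * (ψ : G → ℂ)) x := by
      intro x
      set Kset := univ.filter fun g : G => IsConj c g
      have hcl : ∀ F : G → ℂ, ∑ g, classInd c g * F g = ∑ g ∈ Kset, F g := fun F => by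
        rw [sum_filter]
        refine sum_congr rfl fun g _ => ?_
        by_cases hg : IsConj c g
        · rw [classInd_of_isConj hg, one_mul, if_pos hg]
        · rw [classInd_of_not_isConj hg, zero_mul, if_neg hg]
      have hβe : ∑ g, classInd c g * (β : G → ℂ) (g * x) =
          omega (β : G → ℂ) (classInd c) * (β : G → ℂ) x := by
        have h := class_mul β (isClassFunction_classInd c) (fun k => if k = x then 1 else 0)
        simp only [mul_ite, mul_one, mul_zero, ite_mul, zero_mul, sum_ite_eq', mem_univ, if_true,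
          one_mul] at h
        rw [omega, div_mul_eq_mul_div, ← h, mul_div_cancel_right₀ _ (irr_one_ne_zero β)]
      have hterm : ∀ q : G ⧸ N,
          ∑ g ∈ Kset.filter (fun g : G => (g : G ⧸ N) = q),
              (β : G → ℂ) (g * x) * (ψ : G → ℂ) (g * x) =
            ∑ g ∈ Kset.filter (fun g : G => (g : G ⧸ N) = q),
              r * (ψ : G → ℂ) x * (β : G → ℂ) (g * x) := by
        intro q
        set S := Kset.filter fun g : G => (g : G ⧸ N) = q
        have hβq : ∀ g ∈ S, (β : G → ℂ) (g * x) = (β : G → ℂ) (q.out * x) := by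
          intro g hg
          have hm : x⁻¹ * (q.out⁻¹ * g) * x ∈ N := by
            have h1 : q.out⁻¹ * g ∈ N := by
              rw [← QuotientGroup.eq, QuotientGroup.out_eq', (mem_filter.1 hg).2]
            simpa using hN.conj_mem _ h1 x⁻¹
          rw [← hinv (q.out * x) hm]
          group
        have hS : Dade.Inv N S := fun a ha s hs => by
          obtain ⟨hs1, hs2⟩ := mem_filter.1 hs
          refine mem_filter.2 ⟨mem_filter.2 ⟨mem_univ _,
            (mem_filter.1 hs1).2.trans (isConj_iff.2 ⟨a, rfl⟩)⟩, ?_⟩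
          rw [QuotientGroup.mk_mul, QuotientGroup.mk_mul, QuotientGroup.mk_inv,
            (QuotientGroup.eq_one_iff a).2 ha, inv_one, one_mul, mul_one, hs2]
        have hval : ∀ s ∈ S, (ψ : G → ℂ) s = (ψ : G → ℂ) c := fun s hs => by
          obtain ⟨j, rfl⟩ := isConj_iff.1 (mem_filter.1 (mem_filter.1 hs).1).2
          exact isClassFunction_irr ψ c j
        have hphi : phi ρ S = (S.card : ℂ) * r := by
          rw [phi, hρ, sum_congr rfl hval, sum_const, nsmul_eq_mul, mul_div_assoc]
        have hsumψ : ∑ g ∈ S, (ψ : G → ℂ) (g * x) = (S.card : ℂ) * r * (ψ : G → ℂ) x := by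
          have h := congrArg (fun A => LinearMap.trace ℂ (Fin kψ → ℂ) (A * ρ x))
            (sum_eq_phi_smul hirrN hS)
          simp only [sum_mul, ← map_mul, map_sum, smul_mul_assoc, one_mul, map_smul, smul_eq_mul,
            hphi] at h
          rw [← hρ]
          exact h
        rw [sum_congr rfl fun g hg => show (β : G → ℂ) (g * x) * (ψ : G → ℂ) (g * x) =
          (β : G → ℂ) (q.out * x) * (ψ : G → ℂ) (g * x) by rw [hβq g hg], ← mul_sum, hsumψ,
          sum_congr rfl fun g hg => show r * (ψ : G → ℂ) x * (β : G → ℂ) (g * x) =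
          r * (ψ : G → ℂ) x * (β : G → ℂ) (q.out * x) by rw [hβq g hg], sum_const, nsmul_eq_mul]
        ring
      simp only [Pi.mul_apply]
      rw [hcl (fun g => (β : G → ℂ) (g * x) * (ψ : G → ℂ) (g * x)),
        ← sum_fiberwise Kset (fun g : G => (g : G ⧸ N)), sum_congr rfl fun q _ => hterm q,
        sum_fiberwise Kset (fun g : G => (g : G ⧸ N)), ← mul_sum,
        ← hcl (fun g => (β : G → ℂ) (g * x)), hβe]
      ring
    have hω := omega_eq_of_eigen (isClassFunction_classInd c) heig hβ2
    rw [omega_classInd, omega_classInd] at hω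
    have h1 := hB χ hχ
    rw [hω] at h1
    have h2 : MemLocalIdeal M (centralChar (β : G → ℂ) c - K) := by
      have h3 := memLocalIdeal_sub h1 (memLocalIdeal_mul_right hr1.2 (centralChar_mem β c))
      rwa [show r * centralChar (β : G → ℂ) c - K - (r - 1) * centralChar (β : G → ℂ) c =
        centralChar (β : G → ℂ) c - K by ring] at h3
    rw [centralChar, ← hKdef, mul_div_assoc,
      show K * ((β : G → ℂ) c / (β : G → ℂ) 1) - K =
        (K / (β : G → ℂ) 1) * ((β : G → ℂ) c - (β : G → ℂ) 1) by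
        have := irr_one_ne_zero β; field_simp] at h2
    by_contra hne'
    have hd1 : MemLocalRing M ((β : G → ℂ) 1)⁻¹ := by
      rw [hdeg]; exact memLocalRing_natCast_inv hM hdp
    refine not_memLocalIdeal_mul (memLocalRing_mul hKr hd1) (fun h => hKu ?_) hne'
      (by rwa [← div_eq_mul_inv])
    have h4 := memLocalIdeal_mul_right h (irr_mem β 1)
    rwa [mul_assoc, inv_mul_cancel₀ (irr_one_ne_zero β), mul_one] at h4
  -- hence the sum over the quotient is not zero
  have hall : ∀ g : G, MemLocalIdeal M ((β : G → ℂ) g - (β : G → ℂ) 1) := by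
    intro g
    obtain ⟨a, ha, c, hc, rfl⟩ := hcov g
    rw [show a * c = c * (c⁻¹ * a * c) by group,
      hinv c (by simpa using hN.conj_mem a ha c⁻¹)]
    exact key c hc
  have horth : classInner (β : G → ℂ) (oneIrr G : G → ℂ) = 0 := by
    rw [classInner_irr, if_neg hβ0]
  have hzero : ∑ g : G, (β : G → ℂ) g = 0 := by
    have h := sum_eq_card_mul_classInner (β : G → ℂ) (oneIrr G : G → ℂ)
    rw [horth, mul_zero] at h
    simpa [oneIrr_coe] using h
  have hsplit : ∑ g : G, (β : G → ℂ) g = (Nat.card N : ℂ) * ∑ q : G ⧸ N, (β : G → ℂ) q.out := by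
    rw [← sum_fiberwise univ (fun x : G => (x : G ⧸ N)), mul_sum]
    refine sum_congr rfl fun q _ => ?_
    rw [Nat.card_eq_fintype_card, ← card_univ, ← nsmul_eq_mul, ← sum_const]
    refine (sum_bij (fun (t : N) _ => q.out * (t : G)) (fun t _ => ?_) (fun t _ t' _ h =>
      Subtype.ext (mul_left_cancel h)) (fun x hx => ?_) fun t _ => (hinv _ t.2).symm).symm
    · rw [mem_filter]
      exact ⟨mem_univ _, by rw [QuotientGroup.mk_mul_of_mem q.out t.2, QuotientGroup.out_eq']⟩
    · have hq : (q.out : G ⧸ N) = (x : G ⧸ N) := by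
        rw [QuotientGroup.out_eq', (mem_filter.1 hx).2]
      exact ⟨⟨q.out⁻¹ * x, QuotientGroup.eq.1 hq⟩, mem_univ _, by simp⟩
  rw [hzero, eq_comm, mul_eq_zero] at hsplit
  have hq0 := hsplit.resolve_left (Nat.cast_ne_zero.2 Nat.card_pos.ne')
  have hsum : MemLocalIdeal M ((∑ q : G ⧸ N, (β : G → ℂ) q.out) -
      ((N.index * d : ℕ) : ℂ)) := by
    rw [show ((N.index * d : ℕ) : ℂ) = ∑ _q : G ⧸ N, (β : G → ℂ) 1 by
      rw [sum_const, nsmul_eq_mul, hdeg, Subgroup.index, Nat.card_eq_fintype_card, card_univ]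
      push_cast; rfl, ← sum_sub_distrib]
    exact memLocalIdeal_sum fun q _ => hall _
  rw [hq0, zero_sub] at hsum
  have hsum' := memLocalIdeal_neg hsum
  rw [neg_neg, memLocalIdeal_natCast_iff hM] at hsum'
  exact ((Fact.out : p.Prime).dvd_mul.1 hsum').elim hidx hdp

end CfsgLib.Block.Alperin

namespace CfsgLib.Block.Alperin

open Cfsg CfsgLib.Block CfsgLib.Block.Chr CfsgLib.Char

universe u

variable {G : Type u} [Group G] [Fintype G] {M : Ideal AlgInt} [M.IsPrime] {p : ℕ}
  {N : Subgroup G} [hN : N.Normal] [Fintype N]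

omit [M.IsPrime] in
theorem one_over_one : classInner (fun a : N => (oneIrr G : G → ℂ) a) (oneIrr N : N → ℂ) ≠ 0 := by
  rw [show (fun a : N => (oneIrr G : G → ℂ) a) = (oneIrr N : N → ℂ) from rfl,
    IsIrrCharacter.classInner_self (oneIrr N).2]
  exact one_ne_zero

/-- Constituents of restrictions of the principal block lie in the principal block. -/
theorem exists_principal_constituent {χ : IrrCharacter G} (hχ : χ ∈ principalBlock M G) :
    ∃ θ ∈ principalBlock M N, classInner (fun a : N => (χ : G → ℂ) a) (θ : N → ℂ) ≠ 0 := by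
  obtain ⟨φ, hφ, hc⟩ := exists_constituent_restrict (N := N) χ.2
  obtain ⟨g, η, hη, he⟩ := mem_orbitUnion_of_covering (isPBlock_principalBlock (M := M))
    (isPBlock_principalBlock (M := M)) oneIrr_mem_principalBlock hχ oneIrr_mem_principalBlock
    one_over_one (ψ := ⟨φ, hφ⟩) hc
  refine ⟨⟨φ, hφ⟩, ?_, hc⟩
  rw [he]
  refine (sameBlock_iff_mem isPBlock_principalBlock oneIrr_mem_principalBlock).2 ?_
  have h := sameBlock_conjIrr (M := M) g
    (sameBlock_of_mem isPBlock_principalBlock oneIrr_mem_principalBlock hη)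
  rwa [show conjIrr g (oneIrr N) = oneIrr N from Subtype.ext rfl] at h

theorem exists_principal_extension [Fact p.Prime] (hM : IsPModular p M) (hidx : ¬ p ∣ N.index)
    (P : Sylow p N)
    (hsup : N ⊔ Subgroup.centralizer (((P : Subgroup N).map N.subtype : Subgroup G) : Set G) = ⊤)
    {θ : IrrCharacter N} (hθ : θ ∈ principalBlock M N) :
    ∃ ψ ∈ principalBlock M G, ∀ a : N, (ψ : G → ℂ) a = (θ : N → ℂ) a := by
  have hcov : ∀ g : G, ∃ a ∈ N, ∃ c : G,
      (∀ u : (P : Subgroup N), ((u : N) : G) * c = c * ((u : N) : G)) ∧ a * c = g := fun g => by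
    obtain ⟨a, ha, c, hc, h⟩ := Subgroup.mem_sup_of_normal_left.1
      (hsup ▸ Subgroup.mem_top g : g ∈ N ⊔ _)
    exact ⟨a, ha, c, fun u => Subgroup.mem_centralizer_iff.1 hc _ ⟨u.1, u.2, rfl⟩, h⟩
  obtain ⟨χ, hχ, hres, -⟩ := Cfsg.Agent.S4937.result p M hM N P hsup θ hθ
    (exists_extension hM hidx P hcov hθ)
  exact ⟨χ, hχ, hres⟩

end CfsgLib.Block.Alperin
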