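import Cfsg.Prelude.Def_Blocks
import Cfsg.Agent.Char.Orthogonality
import Cfsg.Agent.Char.Kernel
import Mathlib.LinearAlgebra.Eigenspace.Charpoly
import Mathlib.RingTheory.Ideal.Quotient.Basic
import Mathlib.Algebra.MonoidAlgebra.Basic
import Mathlib.RingTheory.IntegralClosure.IsIntegral.Basic
import Mathlib.GroupTheory.GroupAction.ConjAct

/-!
# Additions to basic character theory used by the block library

Indexing by the subtype of irreducible characters, Schur's scalar for class sums, integrality of
central characters and of traces of endomorphisms with `T ^ (m + 1) = T`.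
-/

namespace CfsgLib.Block.Chr

open Cfsg Finset Module CfsgLib.Char
open scoped ComplexConjugate

set_option linter.unusedSectionVars false
set_option linter.style.haveILetI false

universe u

variable {G : Type u} [Group G]

/-- A fintype structure on the irreducible characters. -/
@[reducible]
noncomputable def irrFintype [Finite G] : Fintype (IrrCharacter G) := Fintype.ofFinite _

theorem isCharacter_irr (χ : IrrCharacter G) : IsCharacter G (χ : G → ℂ) :=
  IsIrrCharacter.isCharacter χ.2

theorem isClassFunction_irr (χ : IrrCharacter G) : IsClassFunction G (χ : G → ℂ) :=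
  IsIrrCharacter.isClassFunction χ.2

theorem classFun_mul_comm {θ : G → ℂ} (hθ : IsClassFunction G θ) (g h : G) :
    θ (g * h) = θ (h * g) :=
  IsClassFunction.apply_eq_of_isConj hθ (isConj_iff.2 ⟨h, by group⟩)

theorem irr_one (χ : IrrCharacter G) :
    (χ : G → ℂ) 1 = (charDegree (χ : G → ℂ) : ℂ) ∧ 0 < charDegree (χ : G → ℂ) := by
  obtain ⟨n, hn, h⟩ := IsIrrCharacter.exists_degree χ.2
  have h2 : charDegree (χ : G → ℂ) = n := by
    rw [charDegree, h, Complex.natCast_re, Nat.floor_natCast]
  exact ⟨by rw [h, h2], h2.symm ▸ hn⟩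

theorem irr_one_ne_zero (χ : IrrCharacter G) : (χ : G → ℂ) 1 ≠ 0 :=
  IsIrrCharacter.apply_one_ne_zero χ.2

theorem conj_irr [Finite G] (χ : IrrCharacter G) (g : G) :
    conj ((χ : G → ℂ) g) = (χ : G → ℂ) g⁻¹ :=
  (IsIrrCharacter.apply_inv χ.2 g).symm

theorem trace_isIntegral {V : Type*} [AddCommGroup V] [Module ℂ V] [FiniteDimensional ℂ V]
    (T : Module.End ℂ V) {m : ℕ} (hm : 0 < m) (hT : T ^ (m + 1) = T) :
    IsIntegral ℤ (LinearMap.trace ℂ V T) := by
  rw [Module.End.trace_eq_sum_roots_charpoly_of_splits (IsAlgClosed.splits _)]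
  refine IsIntegral.multiset_sum fun z hz => ?_
  obtain ⟨v, hv⟩ := ((Module.End.hasEigenvalue_iff_isRoot_charpoly T z).2
    (Polynomial.isRoot_of_mem_roots hz)).exists_hasEigenvector
  have h1 := hv.pow_apply (m + 1)
  rw [hT, hv.apply_eq_smul] at h1
  have h2 : z = z ^ (m + 1) := smul_left_injective ℂ hv.2 h1
  rcases eq_or_ne z 0 with rfl | hz0
  · exact isIntegral_zero
  · have h3 : z ^ m = 1 := by
      have : z ^ m * z = 1 * z := by rw [← pow_succ, ← h2, one_mul]
      exact mul_right_cancel₀ hz0 this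
    exact IsIntegral.of_pow hm (h3 ▸ isIntegral_one)

theorem char_one_eq {n : ℕ} (ρ : Representation ℂ G (Fin n → ℂ)) : ρ.character 1 = (n : ℂ) := by
  rw [Representation.char_one, Module.finrank_fin_fun]

variable [Fintype G]

theorem classInner_irr (χ ψ : IrrCharacter G) [Decidable (χ = ψ)] :
    classInner (χ : G → ℂ) (ψ : G → ℂ) = if χ = ψ then 1 else 0 := by
  classical
  rw [IsIrrCharacter.classInner_eq χ.2 ψ.2]
  simp [Subtype.ext_iff]

/-- The sum over the subtype equals the sum over the finite set of functions. -/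
theorem sum_irr_eq [Fintype (IrrCharacter G)] {A : Type*} [AddCommMonoid A] (f : (G → ℂ) → A) :
    ∑ χ : IrrCharacter G, f χ = ∑ χ ∈ irrFinset G, f χ :=
  (Finset.sum_subtype (irrFinset G) (fun χ => mem_irrFinset) f).symm

theorem column_orth [Fintype (IrrCharacter G)] (g h : G) [Decidable (IsConj g h)] :
    ∑ χ : IrrCharacter G, (χ : G → ℂ) g * conj ((χ : G → ℂ) h) =
      if IsConj g h then (Nat.card (Subgroup.centralizer ({g} : Set G)) : ℂ) else 0 := by
  rw [← sum_irr_mul_conj g h]
  exact sum_irr_eq (fun χ => χ g * conj (χ h))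

theorem classFun_expand [Fintype (IrrCharacter G)] {θ : G → ℂ} (hθ : IsClassFunction G θ) (g : G) :
    θ g = ∑ χ : IrrCharacter G, classInner θ (χ : G → ℂ) * (χ : G → ℂ) g := by
  conv_lhs => rw [eq_sum_irr hθ]
  rw [Finset.sum_apply, sum_irr_eq (fun χ => classInner θ χ * χ g)]
  rfl

/-- The scalar by which a class function acts in an irreducible representation. -/
theorem rep_sum_eq_smul {n : ℕ} (σ : Representation ℂ G (Fin n → ℂ)) (hirr : σ.IsIrreducible)
    {a : G → ℂ} (ha : IsClassFunction G a) :
    ∑ g : G, a g • σ g = ((∑ g : G, a g * σ.character g) / σ.character 1) • 1 := by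
  have hcomm : ∀ x : G, (∑ g : G, a g • σ g) * σ x = σ x * ∑ g : G, a g • σ g := by
    intro x
    rw [sum_mul, mul_sum]
    refine Fintype.sum_equiv (MulAut.conj x⁻¹).toEquiv _ _ fun g => ?_
    simp only [smul_mul_assoc, mul_smul_comm, ← map_mul]
    show a g • σ (g * x) = a (x⁻¹ * g * x⁻¹⁻¹) • σ (x * (x⁻¹ * g * x⁻¹⁻¹))
    rw [ha g x⁻¹]
    congr 2
    group
  haveI := hirr
  obtain ⟨c, hc⟩ :=
    (Representation.IsIrreducible.algebraMap_intertwiningMap_bijective_of_isAlgClosed (ρ := σ)).2
      { toLinearMap := ∑ g : G, a g • σ g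
        isIntertwining' := fun x => by
          first
            | exact hcomm x
            | (intro v; exact LinearMap.congr_fun (hcomm x) v) }
  have hc' : ∑ g : G, a g • σ g = c • 1 :=
    (congrArg Representation.IntertwiningMap.toLinearMap hc).symm
  have htr := congrArg (LinearMap.trace ℂ (Fin n → ℂ)) hc'
  rw [map_sum, map_smul, LinearMap.trace_one, Module.finrank_fin_fun, smul_eq_mul] at htr
  simp only [map_smul, smul_eq_mul] at htr
  have hn : (n : ℂ) ≠ 0 := by
    have := irr_one_ne_zero ⟨σ.character, _, σ, hirr, rfl⟩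
    change σ.character 1 ≠ 0 at this
    rwa [char_one_eq] at this
  rw [hc', char_one_eq]
  simp only [Representation.character]
  rw [htr, mul_div_cancel_right₀ c hn]

/-- Multiplicativity of the central character on class functions. -/
theorem class_mul (χ : IrrCharacter G) {a : G → ℂ} (ha : IsClassFunction G a) (b : G → ℂ) :
    (∑ g : G, ∑ k : G, a g * b k * (χ : G → ℂ) (g * k)) * (χ : G → ℂ) 1 =
      (∑ g : G, a g * (χ : G → ℂ) g) * (∑ k : G, b k * (χ : G → ℂ) k) := by
  obtain ⟨n, σ, hirr, h⟩ := χ.2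
  rw [← h]
  have h1 : ∑ g : G, ∑ k : G, a g * b k * σ.character (g * k) =
      LinearMap.trace ℂ _ ((∑ g : G, a g • σ g) * ∑ k : G, b k • σ k) := by
    simp only [sum_mul, mul_sum, map_sum, smul_mul_assoc, mul_smul_comm, map_smul, smul_eq_mul,
      ← map_mul, Representation.character]
    rw [sum_comm]
    exact sum_congr rfl fun g _ => sum_congr rfl fun k _ => by ring
  rw [h1, rep_sum_eq_smul σ hirr ha, smul_one_mul, map_smul, smul_eq_mul, map_sum]
  simp only [map_smul, smul_eq_mul]
  have hn : σ.character 1 ≠ 0 := h ▸ irr_one_ne_zero χ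
  rw [show (∑ k : G, b k * LinearMap.trace ℂ _ (σ k)) = ∑ k : G, b k * σ.character k from rfl]
  field_simp

theorem card_class (g : G) [DecidablePred (IsConj g)] :
    (univ.filter (IsConj g)).card = (Subgroup.centralizer ({g} : Set G)).index := by
  rw [← card_conj_class g, Nat.card_eq_fintype_card, Fintype.card_subtype]

theorem sum_class_eq {θ : G → ℂ} (hθ : IsClassFunction G θ) (g : G)
    [DecidablePred (IsConj g)] :
    ∑ x ∈ univ.filter (IsConj g), θ x =
      ((Subgroup.centralizer ({g} : Set G)).index : ℂ) * θ g := by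
  rw [sum_congr rfl fun x hx => (IsClassFunction.apply_eq_of_isConj hθ (mem_filter.1 hx).2).symm,
    sum_const, card_class, nsmul_eq_mul]

/-- Central character values are algebraic integers. -/
theorem centralChar_isIntegral (χ : IrrCharacter G) (g : G) :
    IsIntegral ℤ (centralChar (χ : G → ℂ) g) := by
  classical
  obtain ⟨n, σ, hirr, h⟩ := χ.2
  let a : G → ℂ := fun x => if IsConj g x then 1 else 0
  have ha : IsClassFunction G a := fun x y => by
    have hxy : IsConj x (y * x * y⁻¹) := isConj_iff.2 ⟨y, rfl⟩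
    have hiff : IsConj g (y * x * y⁻¹) ↔ IsConj g x :=
      ⟨fun h => h.trans hxy.symm, fun h => h.trans hxy⟩
    by_cases hg : IsConj g x
    · simp only [a, if_pos hg, if_pos (hiff.2 hg)]
    · simp only [a, if_neg hg, if_neg (mt hiff.1 hg)]
  have hs := rep_sum_eq_smul σ hirr ha
  have hsum : ∑ x : G, a x * σ.character x = ∑ x ∈ univ.filter (IsConj g), σ.character x := by
    simp only [a, ite_mul, one_mul, zero_mul, sum_filter]
  rw [hsum, h, sum_class_eq (isClassFunction_irr χ) g] at hs
  let f : MonoidAlgebra ℤ G →ₐ[ℤ] Module.End ℂ (Fin n → ℂ) := MonoidAlgebra.lift ℤ _ G σ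
  let z : MonoidAlgebra ℤ G := ∑ x : G, if IsConj g x then MonoidAlgebra.single x 1 else 0
  have hfz : f z = algebraMap ℂ _ (centralChar (χ : G → ℂ) g) := by
    rw [Algebra.algebraMap_eq_smul_one, centralChar, ← hs]
    simp only [f, z, a, map_sum]
    refine sum_congr rfl fun x _ => ?_
    by_cases hx : IsConj g x
    · simp only [if_pos hx, one_smul, MonoidAlgebra.lift_single]
    · simp only [if_neg hx, zero_smul, map_zero]
  haveI : Module.Finite ℤ (MonoidAlgebra ℤ G) := inferInstance
  have hz : IsIntegral ℤ (f z) := (Algebra.IsIntegral.isIntegral z).map f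
  rw [hfz] at hz
  have hn : 0 < n := by
    have := irr_one_ne_zero χ
    rw [← h, char_one_eq] at this
    exact Nat.pos_of_ne_zero (by exact_mod_cast this)
  haveI : Nonempty (Fin n) := ⟨⟨0, hn⟩⟩
  exact (isIntegral_algebraMap_iff (algebraMap ℂ (Module.End ℂ (Fin n → ℂ))).injective).1 hz

end CfsgLib.Block.Chr
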