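import Cfsg.Agent.Blocks.LocalRing
import Cfsg.Agent.Blocks.CharExtra

/-!
# Blocks: central characters of class functions and block idempotents

`omega χ a` is the value of the central character of `χ` at the element of the centre of the group
algebra whose coefficients are the class function `a`.  Osima's theorem: the idempotent of a block
has coefficients in the local ring.
-/

namespace CfsgLib.Block

open Cfsg Finset CfsgLib.Block.Chr CfsgLib.Char
open scoped ComplexConjugate

set_option linter.unusedSectionVars false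
set_option linter.style.haveILetI false

universe u

variable {G : Type u} [Group G] {M : Ideal AlgInt}

/-- Convolution of functions on a group. -/
noncomputable def conv [Fintype G] (a b : G → ℂ) : G → ℂ := fun x => ∑ g : G, a g * b (g⁻¹ * x)

/-- The central character of `χ` at the class function `a`. -/
noncomputable def omega [Fintype G] (χ a : G → ℂ) : ℂ := (∑ g : G, a g * χ g) / χ 1

/-- The indicator of the conjugacy class of `g`. -/
noncomputable def classInd (g : G) : G → ℂ :=
  fun x => by classical exact if IsConj g x then 1 else 0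

/-- The indicator of the identity. -/
noncomputable def deltaOne : G → ℂ := fun x => by classical exact if x = 1 then 1 else 0

variable (M) in
/-- Class functions with values in the local ring. -/
def IsIntClass (a : G → ℂ) : Prop := IsClassFunction G a ∧ ∀ g, MemLocalRing M (a g)

theorem classInd_of_isConj {g x : G} (h : IsConj g x) : classInd g x = 1 := by
  classical exact if_pos h

theorem classInd_of_not_isConj {g x : G} (h : ¬ IsConj g x) : classInd g x = 0 := by
  classical exact if_neg h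

theorem deltaOne_one : (deltaOne : G → ℂ) 1 = 1 := by classical exact if_pos rfl

theorem deltaOne_of_ne {x : G} (h : x ≠ 1) : (deltaOne : G → ℂ) x = 0 := by
  classical exact if_neg h

theorem isClassFunction_classInd (g : G) : IsClassFunction G (classInd g) := fun x y => by
  have hxy : IsConj x (y * x * y⁻¹) := isConj_iff.2 ⟨y, rfl⟩
  have hiff : IsConj g (y * x * y⁻¹) ↔ IsConj g x :=
    ⟨fun h => h.trans hxy.symm, fun h => h.trans hxy⟩
  by_cases hg : IsConj g x
  · rw [classInd_of_isConj hg, classInd_of_isConj (hiff.2 hg)]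
  · rw [classInd_of_not_isConj hg, classInd_of_not_isConj (mt hiff.1 hg)]

theorem isClassFunction_deltaOne : IsClassFunction G (deltaOne : G → ℂ) := fun x y => by
  by_cases h : x = 1
  · simp [h, deltaOne_one]
  · rw [deltaOne_of_ne h, deltaOne_of_ne (fun hc => h (conj_eq_one_iff.1 hc))]

section Prime

variable [M.IsPrime]

theorem isIntClass_classInd (g : G) : IsIntClass M (classInd g) :=
  ⟨isClassFunction_classInd g, fun x => by
    by_cases h : IsConj g x
    · rw [classInd_of_isConj h]; exact memLocalRing_one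
    · rw [classInd_of_not_isConj h]; exact memLocalRing_zero⟩

theorem isIntClass_deltaOne : IsIntClass M (deltaOne : G → ℂ) :=
  ⟨isClassFunction_deltaOne, fun x => by
    by_cases h : x = 1
    · rw [h, deltaOne_one]; exact memLocalRing_one
    · rw [deltaOne_of_ne h]; exact memLocalRing_zero⟩

end Prime

variable [Fintype G]

/-- Sum of a class function over the group, class by class. -/
theorem sum_eq_sum_classes [Fintype (ConjClasses G)] (f : G → ℂ) (hf : IsClassFunction G f) :
    ∑ g : G, f g =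
      ∑ C : ConjClasses G, ((Subgroup.centralizer ({C.out} : Set G)).index : ℂ) * f C.out := by
  classical
  rw [← sum_fiberwise univ ConjClasses.mk f]
  refine sum_congr rfl fun C _ => ?_
  rw [← sum_class_eq hf C.out]
  refine sum_congr ?_ fun _ _ => rfl
  ext x
  simp only [mem_filter, mem_univ, true_and]
  constructor
  · intro h
    exact ConjClasses.mk_eq_mk_iff_isConj.1 ((Quotient.out_eq C).trans h.symm)
  · intro h
    exact (ConjClasses.mk_eq_mk_iff_isConj.2 h).symm.trans (Quotient.out_eq C)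

theorem omega_eq_sum_classes [Fintype (ConjClasses G)] (χ : IrrCharacter G) {a : G → ℂ}
    (ha : IsClassFunction G a) :
    omega (χ : G → ℂ) a = ∑ C : ConjClasses G, a C.out * centralChar (χ : G → ℂ) C.out := by
  rw [omega, sum_eq_sum_classes (fun g => a g * (χ : G → ℂ) g)
    (fun g x => by simp only [ha g x, isClassFunction_irr χ g x]), sum_div]
  exact sum_congr rfl fun C _ => by rw [centralChar]; ring

theorem omega_classInd (χ : IrrCharacter G) (g : G) :
    omega (χ : G → ℂ) (classInd g) = centralChar (χ : G → ℂ) g := by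
  classical
  rw [omega, centralChar, ← sum_class_eq (isClassFunction_irr χ) g, sum_filter]
  congr 1
  refine sum_congr rfl fun x _ => ?_
  by_cases h : IsConj g x
  · rw [classInd_of_isConj h, if_pos h, one_mul]
  · rw [classInd_of_not_isConj h, if_neg h, zero_mul]

theorem omega_deltaOne (χ : IrrCharacter G) : omega (χ : G → ℂ) deltaOne = 1 := by
  classical
  rw [omega, sum_eq_single (1 : G)]
  · rw [deltaOne_one, one_mul, div_self (irr_one_ne_zero χ)]
  · intro x _ hx; rw [deltaOne_of_ne hx, zero_mul]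
  · simp

theorem omega_add (χ a b : G → ℂ) : omega χ (a + b) = omega χ a + omega χ b := by
  simp [omega, add_mul, sum_add_distrib, add_div]

theorem omega_smul (χ : G → ℂ) (c : ℂ) (a : G → ℂ) : omega χ (c • a) = c * omega χ a := by
  simp only [omega, Pi.smul_apply, smul_eq_mul, mul_assoc, ← mul_sum, mul_div_assoc]

theorem isClassFunction_conv {a b : G → ℂ} (ha : IsClassFunction G a) (hb : IsClassFunction G b) :
    IsClassFunction G (conv a b) := by
  intro x y
  refine Fintype.sum_equiv (MulAut.conj y⁻¹).toEquiv _ _ fun g => ?_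
  show a g * b (g⁻¹ * (y * x * y⁻¹)) = a (y⁻¹ * g * y⁻¹⁻¹) * b ((y⁻¹ * g * y⁻¹⁻¹)⁻¹ * x)
  rw [ha g y⁻¹, ← hb ((y⁻¹ * g * y⁻¹⁻¹)⁻¹ * x) y]
  congr 2
  group

theorem omega_conv (χ : IrrCharacter G) {a : G → ℂ} (ha : IsClassFunction G a) (b : G → ℂ) :
    omega (χ : G → ℂ) (conv a b) = omega (χ : G → ℂ) a * omega (χ : G → ℂ) b := by
  have h1 : ∑ x : G, conv a b x * (χ : G → ℂ) x =
      ∑ g : G, ∑ k : G, a g * b k * (χ : G → ℂ) (g * k) := by
    simp only [conv, sum_mul]
    rw [sum_comm]
    refine sum_congr rfl fun g _ => ?_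
    rw [← Equiv.sum_comp (Equiv.mulLeft g)]
    simp
  have h2 := class_mul χ ha b
  have h0 := irr_one_ne_zero χ
  rw [omega, omega, omega, h1]
  field_simp
  linear_combination h2

theorem isIntClass_conv [M.IsPrime] {a b : G → ℂ} (ha : IsIntClass M a) (hb : IsIntClass M b) :
    IsIntClass M (conv a b) :=
  ⟨isClassFunction_conv ha.1 hb.1, fun _ =>
    memLocalRing_sum fun g _ => memLocalRing_mul (ha.2 g) (hb.2 _)⟩

theorem centralChar_mem [M.IsPrime] (χ : IrrCharacter G) (g : G) :
    MemLocalRing M (centralChar (χ : G → ℂ) g) :=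
  memLocalRing_of_isIntegral (centralChar_isIntegral χ g)

theorem irr_mem [M.IsPrime] (χ : IrrCharacter G) (g : G) : MemLocalRing M ((χ : G → ℂ) g) :=
  memLocalRing_of_isIntegral (IsCharacter.isIntegral (isCharacter_irr χ) g)

theorem omega_mem [M.IsPrime] (χ : IrrCharacter G) {a : G → ℂ} (ha : IsIntClass M a) :
    MemLocalRing M (omega (χ : G → ℂ) a) := by
  classical
  rw [omega_eq_sum_classes χ ha.1]
  exact memLocalRing_sum fun C _ => memLocalRing_mul (ha.2 _) (centralChar_mem χ _)

theorem omega_cong [M.IsPrime] {χ ψ : IrrCharacter G}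
    (h : SameBlock M (χ : G → ℂ) (ψ : G → ℂ)) {a : G → ℂ} (ha : IsIntClass M a) :
    MemLocalIdeal M (omega (χ : G → ℂ) a - omega (ψ : G → ℂ) a) := by
  classical
  rw [omega_eq_sum_classes χ ha.1, omega_eq_sum_classes ψ ha.1, ← sum_sub_distrib]
  exact memLocalIdeal_sum fun C _ => by
    rw [← mul_sub]; exact memLocalIdeal_mul_left (ha.2 _) (h _)

/-- Recovery of a class function from its central character values. -/
theorem eq_sum_omega [Fintype (IrrCharacter G)] {a : G → ℂ} (ha : IsClassFunction G a) (g : G) :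
    a g = (Nat.card G : ℂ)⁻¹ *
      ∑ χ : IrrCharacter G, (χ : G → ℂ) 1 * omega (χ : G → ℂ) a * conj ((χ : G → ℂ) g) := by
  have hb : IsClassFunction G (fun x => conj (a x)) := fun x y => by simp only [ha x y]
  have h := congrArg conj (classFun_expand hb g)
  rw [Complex.conj_conj, map_sum] at h
  rw [h, mul_sum]
  refine sum_congr rfl fun χ _ => ?_
  have h0 := irr_one_ne_zero χ
  simp only [map_mul, classInner, map_inv₀, map_natCast, map_sum, Complex.conj_conj]
  rw [omega]
  field_simp

/-! ### Blocks -/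

section Blocks

variable [M.IsPrime]

theorem sameBlock_refl (χ : G → ℂ) : SameBlock M χ χ := fun g => by
  rw [sub_self]; exact memLocalIdeal_zero

theorem sameBlock_symm {χ ψ : G → ℂ} (h : SameBlock M χ ψ) : SameBlock M ψ χ := fun g =>
  memLocalIdeal_sub_comm (h g)

theorem sameBlock_trans {χ ψ φ : G → ℂ} (h : SameBlock M χ ψ) (h' : SameBlock M ψ φ) :
    SameBlock M χ φ := fun g => memLocalIdeal_sub_trans (h g) (h' g)

theorem mem_blockOf_self (χ : IrrCharacter G) : χ ∈ blockOf M (χ : G → ℂ) := sameBlock_refl _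

theorem sameBlock_of_mem {B : Set (IrrCharacter G)} (hB : IsPBlock M B) {χ ψ : IrrCharacter G}
    (hχ : χ ∈ B) (hψ : ψ ∈ B) : SameBlock M (χ : G → ℂ) (ψ : G → ℂ) := by
  obtain ⟨φ, rfl⟩ := hB
  exact sameBlock_trans (sameBlock_symm hχ) hψ

theorem eq_blockOf_of_mem {B : Set (IrrCharacter G)} (hB : IsPBlock M B) {χ : IrrCharacter G}
    (hχ : χ ∈ B) : B = blockOf M (χ : G → ℂ) := by
  obtain ⟨φ, rfl⟩ := hB
  ext ψ
  exact ⟨fun h => sameBlock_trans (sameBlock_symm hχ) h, fun h => sameBlock_trans hχ h⟩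

theorem exists_mem_block {B : Set (IrrCharacter G)} (hB : IsPBlock M B) : ∃ χ, χ ∈ B := by
  obtain ⟨φ, rfl⟩ := hB
  exact ⟨φ, mem_blockOf_self φ⟩

theorem isPBlock_blockOf (χ : IrrCharacter G) : IsPBlock M (blockOf M (χ : G → ℂ)) := ⟨χ, rfl⟩

theorem sameBlock_iff_mem {B : Set (IrrCharacter G)} (hB : IsPBlock M B) {χ : IrrCharacter G}
    (hχ : χ ∈ B) {ψ : IrrCharacter G} : ψ ∈ B ↔ SameBlock M (χ : G → ℂ) (ψ : G → ℂ) := by
  rw [eq_blockOf_of_mem hB hχ]; rfl

theorem block_eq_of_common {B B' : Set (IrrCharacter G)} (hB : IsPBlock M B) (hB' : IsPBlock M B')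
    {χ : IrrCharacter G} (h : χ ∈ B) (h' : χ ∈ B') : B = B' :=
  (eq_blockOf_of_mem hB h).trans (eq_blockOf_of_mem hB' h').symm

end Blocks

/-- Functions on irreducible characters realised by integral class functions. -/
noncomputable def omegaRing (M : Ideal AlgInt) [M.IsPrime] (G : Type u) [Group G] [Fintype G] :
    Subring (IrrCharacter G → ℂ) where
  carrier := {v | ∃ a : G → ℂ, IsIntClass M a ∧ ∀ χ : IrrCharacter G, omega (χ : G → ℂ) a = v χ}
  zero_mem' := ⟨0, ⟨fun _ _ => rfl, fun _ => memLocalRing_zero⟩, fun χ => by simp [omega]⟩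
  one_mem' := ⟨deltaOne, isIntClass_deltaOne, omega_deltaOne⟩
  add_mem' := by
    rintro v w ⟨a, ha, hv⟩ ⟨b, hb, hw⟩
    exact ⟨a + b, ⟨fun g x => by simp [ha.1 g x, hb.1 g x],
      fun g => memLocalRing_add (ha.2 g) (hb.2 g)⟩, fun χ => by rw [omega_add, hv, hw]; rfl⟩
  mul_mem' := by
    rintro v w ⟨a, ha, hv⟩ ⟨b, hb, hw⟩
    exact ⟨conv a b, isIntClass_conv ha hb, fun χ => by rw [omega_conv χ ha.1, hv, hw]; rfl⟩
  neg_mem' := by
    rintro v ⟨a, ha, hv⟩
    refine ⟨(-1 : ℂ) • a, ⟨fun g x => by simp [ha.1 g x], fun g => ?_⟩, fun χ => by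
      rw [omega_smul, hv, neg_one_mul]; rfl⟩
    simpa using memLocalRing_neg (ha.2 g)

theorem mem_omegaRing [M.IsPrime] {v : IrrCharacter G → ℂ} :
    v ∈ omegaRing M G ↔
      ∃ a : G → ℂ, IsIntClass M a ∧ ∀ χ : IrrCharacter G, omega (χ : G → ℂ) a = v χ := Iff.rfl

theorem const_mem_omegaRing [M.IsPrime] {c : ℂ} (hc : MemLocalRing M c) :
    (fun _ => c) ∈ omegaRing M G :=
  ⟨c • deltaOne, ⟨fun g x => by simp [isClassFunction_deltaOne g x],
    fun g => memLocalRing_mul hc (isIntClass_deltaOne.2 g)⟩, fun χ => by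
      rw [omega_smul, omega_deltaOne, mul_one]⟩

theorem centralChar_mem_omegaRing [M.IsPrime] (g : G) :
    (fun χ : IrrCharacter G => centralChar (χ : G → ℂ) g) ∈ omegaRing M G :=
  ⟨classInd g, isIntClass_classInd g, fun χ => omega_classInd χ g⟩

theorem blockCoeff_eq_sum [Fintype (IrrCharacter G)] (A : Set (IrrCharacter G))
    [DecidablePred (· ∈ A)] (g : G) :
    blockCoeff A g =
      (Nat.card G : ℂ)⁻¹ * ∑ χ ∈ univ.filter (· ∈ A), (χ : G → ℂ) 1 * conj ((χ : G → ℂ) g) := by
  rw [blockCoeff, finsum_mem_eq_sum_of_inter_support_eq]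
  ext; simp

theorem isClassFunction_blockCoeff (A : Set (IrrCharacter G)) :
    IsClassFunction G (blockCoeff A) := by
  classical
  letI := irrFintype (G := G)
  intro g x
  rw [blockCoeff_eq_sum, blockCoeff_eq_sum]
  simp only [isClassFunction_irr _ g x]

theorem omega_blockCoeff (A : Set (IrrCharacter G)) (ψ : IrrCharacter G) [Decidable (ψ ∈ A)] :
    omega (ψ : G → ℂ) (blockCoeff A) = if ψ ∈ A then 1 else 0 := by
  classical
  letI := irrFintype (G := G)
  have h : ∑ g : G, blockCoeff A g * (ψ : G → ℂ) g =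
      ∑ χ ∈ univ.filter (· ∈ A), (χ : G → ℂ) 1 * classInner (ψ : G → ℂ) (χ : G → ℂ) := by
    simp only [blockCoeff_eq_sum, classInner, mul_sum, sum_mul]
    rw [sum_comm]
    exact sum_congr rfl fun χ _ => sum_congr rfl fun g _ => by ring
  rw [omega, h]
  simp only [classInner_irr, mul_ite, mul_one, mul_zero, sum_ite_eq, mem_filter, mem_univ, true_and]
  split_ifs with hA
  · exact div_self (irr_one_ne_zero ψ)
  · exact zero_div _

/-- Membership of the indicator of a set in `omegaRing` is integrality of its idempotent. -/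
theorem blockCoeff_mem_of_indicator [M.IsPrime] {A : Set (IrrCharacter G)}
    {v : IrrCharacter G → ℂ} (hv : v ∈ omegaRing M G) (h1 : ∀ χ ∈ A, v χ = 1)
    (h0 : ∀ χ ∉ A, v χ = 0) : IsIntClass M (blockCoeff A) := by
  classical
  letI := irrFintype (G := G)
  obtain ⟨a, ha, hv⟩ := hv
  have : blockCoeff A = a := by
    funext g
    rw [eq_sum_omega ha.1 g, blockCoeff_eq_sum, sum_filter]
    congr 1
    refine sum_congr rfl fun χ _ => ?_
    rw [hv χ]
    by_cases hχ : χ ∈ A
    · simp [hχ, h1 χ hχ]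
    · simp [hχ, h0 χ hχ]
  rw [this]; exact ha

/-- **Osima's theorem**: block idempotents are integral at `M`. -/
theorem isIntClass_blockCoeff [M.IsPrime] {B : Set (IrrCharacter G)} (hB : IsPBlock M B) :
    IsIntClass M (blockCoeff B) := by
  classical
  letI := irrFintype (G := G)
  obtain ⟨χ₀, hχ₀⟩ := exists_mem_block hB
  have hsep : ∀ ψ : IrrCharacter G, ψ ∉ B → ∃ g : G,
      ¬ MemLocalIdeal M (centralChar (χ₀ : G → ℂ) g - centralChar (ψ : G → ℂ) g) := by
    intro ψ hψ
    by_contra h
    push Not at h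
    exact hψ ((sameBlock_iff_mem hB hχ₀).2 h)
  choose! f hf using hsep
  set z : IrrCharacter G → ℂ := ∏ ψ ∈ univ.filter (· ∉ B),
    ((fun χ : IrrCharacter G => centralChar (χ : G → ℂ) (f ψ)) -
      fun _ : IrrCharacter G => centralChar (ψ : G → ℂ) (f ψ)) with hz
  have hzmem : z ∈ omegaRing M G := (omegaRing M G).prod_mem fun ψ _ =>
    (omegaRing M G).sub_mem (centralChar_mem_omegaRing _) (const_mem_omegaRing (centralChar_mem _ _))
  have hzout : ∀ ψ ∉ B, z ψ = 0 := by
    intro ψ hψ
    rw [hz, prod_apply]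
    exact prod_eq_zero (mem_filter.2 ⟨mem_univ ψ, hψ⟩) (sub_self _)
  have hzin : ∀ χ ∈ B, MemLocalRing M (z χ) ∧ ¬ MemLocalIdeal M (z χ) := by
    intro χ hχ
    rw [hz, prod_apply]
    refine prod_induction _ (fun w => MemLocalRing M w ∧ ¬ MemLocalIdeal M w) ?_
      ⟨memLocalRing_one, not_memLocalIdeal_one⟩ ?_
    · exact fun a b ha hb => ⟨memLocalRing_mul ha.1 hb.1, not_memLocalIdeal_mul ha.1 ha.2 hb.2⟩
    · intro ψ hψ
      refine ⟨memLocalRing_sub (centralChar_mem _ _) (centralChar_mem _ _), fun h => ?_⟩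
      exact hf ψ (mem_filter.1 hψ).2
        (memLocalIdeal_sub_trans (sameBlock_of_mem hB hχ₀ hχ (f ψ)) h)
  set v : IrrCharacter G → ℂ :=
    1 - ∏ χ ∈ univ.filter (· ∈ B), (1 - (fun _ : IrrCharacter G => (z χ)⁻¹) * z) with hv
  have hvmem : v ∈ omegaRing M G := by
    refine (omegaRing M G).sub_mem (omegaRing M G).one_mem ((omegaRing M G).prod_mem fun χ hχ => ?_)
    have hh := hzin χ (mem_filter.1 hχ).2
    exact (omegaRing M G).sub_mem (omegaRing M G).one_mem
      ((omegaRing M G).mul_mem (const_mem_omegaRing (memLocalRing_inv hh.1 hh.2)) hzmem)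
  refine blockCoeff_mem_of_indicator hvmem ?_ ?_
  · intro χ hχ
    simp only [hv, Pi.sub_apply, Pi.one_apply, prod_apply]
    rw [prod_eq_zero (mem_filter.2 ⟨mem_univ χ, hχ⟩), sub_zero]
    simp [ne_zero_of_not_memLocalIdeal (hzin χ hχ).2]
  · intro ψ hψ
    simp [hv, prod_apply, hzout ψ hψ]

theorem blockCoeff_mem [M.IsPrime] {B : Set (IrrCharacter G)} (hB : IsPBlock M B) (g : G) :
    MemLocalRing M (blockCoeff B g) :=
  (isIntClass_blockCoeff hB).2 g

/-- A set of characters with integral idempotent is a union of blocks. -/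
theorem blockOf_subset_of_integral [M.IsPrime] {A : Set (IrrCharacter G)}
    (hA : ∀ g : G, MemLocalRing M (blockCoeff A g)) {χ : IrrCharacter G} (hχ : χ ∈ A) :
    blockOf M (χ : G → ℂ) ⊆ A := by
  classical
  intro ψ hψ
  by_contra hψA
  have h := omega_cong (hψ : SameBlock M (χ : G → ℂ) (ψ : G → ℂ))
    ⟨isClassFunction_blockCoeff A, hA⟩
  rw [omega_blockCoeff, omega_blockCoeff, if_pos hχ, if_neg hψA, sub_zero] at h
  exact not_memLocalIdeal_one h

/-- Every block has a defect class. -/
theorem exists_isDefectClass [M.IsPrime] {B : Set (IrrCharacter G)} (hB : IsPBlock M B) :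
    ∃ g : G, IsDefectClass M B g := by
  classical
  obtain ⟨χ, hχ⟩ := exists_mem_block hB
  have h1 : ¬ MemLocalIdeal M (omega (χ : G → ℂ) (blockCoeff B)) := by
    rw [omega_blockCoeff, if_pos hχ]; exact not_memLocalIdeal_one
  rw [omega_eq_sum_classes χ (isClassFunction_blockCoeff B)] at h1
  obtain ⟨C, hC⟩ := not_forall.1 fun h => h1 (memLocalIdeal_sum fun C _ => h C)
  refine ⟨C.out, blockCoeff_mem hB _,
    fun h => hC (memLocalIdeal_mul_right h (centralChar_mem χ _)), fun ψ hψ h => hC ?_⟩
  exact memLocalIdeal_mul_left (blockCoeff_mem hB _)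
    ((memLocalIdeal_iff_of_cong (sameBlock_of_mem hB hχ hψ C.out)).2 h)

end CfsgLib.Block
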