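import Cfsg.Agent.Blocks.MinMax
import Mathlib.LinearAlgebra.Matrix.Rank

/-!
# Blocks of a given defect and the classes of that defect
-/

namespace CfsgLib.Block

open Cfsg Finset CfsgLib.Block.Chr CfsgLib.Char
open scoped ComplexConjugate

set_option linter.unusedSectionVars false
set_option linter.style.haveILetI false

universe u

variable {G : Type u} [Group G] [Fintype G] {M : Ideal AlgInt} [M.IsPrime] {p : ℕ}
  {B B' : Set (IrrCharacter G)}

/-- The exponent of `p` in the order of the centralizer. -/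
noncomputable def classDefect (p : ℕ) (x : G) : ℕ :=
  (Nat.card (Subgroup.centralizer ({x} : Set G))).factorization p

theorem classDefect_le_of_coeff (hM : IsPModular p M) (hB : IsPBlock M B) {h : G}
    (hh : ¬ MemLocalIdeal M (blockCoeff B h)) : classDefect p h ≤ blockDefect p B := by
  haveI : Fact p.Prime := ⟨hM.1⟩
  obtain ⟨S⟩ : Nonempty (Sylow p (Subgroup.centralizer ({h} : Set G))) := inferInstance
  obtain ⟨D, hD, hle⟩ := exists_defectGroup_ge hM hB hh (S.isPGroup'.map _)
    (le_centralizer_singleton.1 (Subgroup.map_subtype_le _))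
  have h1 := Subgroup.card_dvd_of_le hle
  rw [Subgroup.card_map_of_injective (Subgroup.centralizer ({h} : Set G)).subtype_injective,
    S.card_eq_multiplicity, card_defectGroup hM hB hD] at h1
  exact (Nat.pow_dvd_pow_iff_le_right hM.1.one_lt).1 h1

/-- A unit central character conjugates a defect group into the centralizer. -/
theorem exists_defectGroup_le_centralizer (hM : IsPModular p M) (hB : IsPBlock M B) {h : G}
    (hh : ∃ χ ∈ B, ¬ MemLocalIdeal M (centralChar (χ : G → ℂ) h)) {D : Subgroup G}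
    (hD : IsDefectGroup p M B D) :
    ∃ x : G, D.map (MulAut.conj x).toMonoidHom ≤ Subgroup.centralizer ({h} : Set G) := by
  obtain ⟨g, hg, hgD, -⟩ := (isDefectGroup_iff hM hB).1 hD
  obtain ⟨k, hk, hkD⟩ :=
    exists_conj_mem_centralizer hM hB hh hg.2.1 (isPGroup_defectGroup hD) hgD
  obtain ⟨c, hc⟩ := isConj_iff.1 hk
  refine ⟨c⁻¹, ?_⟩
  rintro _ ⟨u, hu, rfl⟩
  rw [Subgroup.mem_centralizer_singleton_iff]
  have hcu := Subgroup.mem_centralizer_iff.1 hkD u hu
  rw [← hc] at hcu
  simp only [MulEquiv.toMonoidHom_eq_coe, MonoidHom.coe_coe, MulAut.conj_apply]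
  calc c⁻¹ * u * c⁻¹⁻¹ * h = c⁻¹ * (u * (c * h * c⁻¹)) * c := by group
    _ = c⁻¹ * (c * h * c⁻¹ * u) * c := by rw [hcu]
    _ = h * (c⁻¹ * u * c⁻¹⁻¹) := by group

theorem le_classDefect_of_centralChar (hM : IsPModular p M) (hB : IsPBlock M B) {h : G}
    (hh : ∃ χ ∈ B, ¬ MemLocalIdeal M (centralChar (χ : G → ℂ) h)) :
    blockDefect p B ≤ classDefect p h := by
  haveI : Fact p.Prime := ⟨hM.1⟩
  obtain ⟨D, hD⟩ := exists_defectGroup hB hM
  obtain ⟨x, hx⟩ := exists_defectGroup_le_centralizer hM hB hh hD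
  have h1 := Subgroup.card_dvd_of_le hx
  rw [Subgroup.card_map_of_injective (MulAut.conj x).injective, card_defectGroup hM hB hD] at h1
  exact (hM.1.pow_dvd_iff_le_factorization Nat.card_pos.ne').1 h1

/-- A term of the expansion of `ω_ψ(e_B)` only survives at regular classes of defect between the
two defects. -/
theorem term_cong_zero (hM : IsPModular p M) (hB : IsPBlock M B) (hB' : IsPBlock M B')
    {ψ : IrrCharacter G} (hψ : ψ ∈ B') {h : G}
    (hne : p ∣ orderOf h ∨ blockDefect p B < classDefect p h ∨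
      classDefect p h < blockDefect p B') :
    MemLocalIdeal M (blockCoeff B h * centralChar (ψ : G → ℂ) h) := by
  rcases hne with h1 | h1 | h1
  · rw [blockCoeff_eq_zero_of_singular hM hB h1, zero_mul]
    exact memLocalIdeal_zero
  · refine memLocalIdeal_mul_right (by_contra fun hc => ?_) (centralChar_mem ψ h)
    exact absurd (classDefect_le_of_coeff hM hB hc) (not_le.2 h1)
  · refine memLocalIdeal_mul_left (blockCoeff_mem hB h) (by_contra fun hc => ?_)
    exact absurd (le_classDefect_of_centralChar hM hB' ⟨ψ, hψ, hc⟩) (not_le.2 h1)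

/-- Characters in blocks of defect `d` are separated by the regular classes of defect `d`. -/
theorem sameBlock_of_defect_classes (hM : IsPModular p M) {d : ℕ} (χ ψ : IrrCharacter G)
    (hχ : blockDefect p (blockOf M (χ : G → ℂ)) = d)
    (hψ : blockDefect p (blockOf M (ψ : G → ℂ)) = d)
    (h : ∀ x : G, ¬ p ∣ orderOf x → classDefect p x = d →
      MemLocalIdeal M (centralChar (χ : G → ℂ) x - centralChar (ψ : G → ℂ) x)) :
    SameBlock M (χ : G → ℂ) (ψ : G → ℂ) := by
  classical
  have hB := isPBlock_blockOf (M := M) χ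
  have hB' := isPBlock_blockOf (M := M) ψ
  suffices ψ ∈ blockOf M (χ : G → ℂ) from this
  by_contra hne
  have ha := isIntClass_blockCoeff hB
  have h1 : omega (χ : G → ℂ) (blockCoeff (blockOf M (χ : G → ℂ))) -
      omega (ψ : G → ℂ) (blockCoeff (blockOf M (χ : G → ℂ))) = 1 := by
    rw [omega_blockCoeff, omega_blockCoeff, if_pos (mem_blockOf_self χ), if_neg hne, sub_zero]
  apply not_memLocalIdeal_one (M := M)
  rw [← h1, omega_eq_sum_classes χ ha.1, omega_eq_sum_classes ψ ha.1, ← sum_sub_distrib]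
  refine memLocalIdeal_sum fun C _ => ?_
  by_cases hC : ¬ p ∣ orderOf C.out ∧ classDefect p C.out = d
  · rw [← mul_sub]; exact memLocalIdeal_mul_left (ha.2 _) (h _ hC.1 hC.2)
  · have hcase : p ∣ orderOf C.out ∨ d < classDefect p C.out ∨ classDefect p C.out < d := by
      by_cases h1 : p ∣ orderOf C.out
      · exact Or.inl h1
      · exact Or.inr (lt_or_gt_of_ne fun hd => hC ⟨h1, hd.symm⟩)
    exact memLocalIdeal_sub
      (term_cong_zero hM hB hB (mem_blockOf_self χ) (by rw [hχ]; exact hcase))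
      (term_cong_zero hM hB hB' (mem_blockOf_self ψ) (by rw [hχ, hψ]; exact hcase))

/-- A family of blocks is no larger than a family of classes carrying all its defect classes. -/
theorem card_blocks_le [Fintype (ConjClasses G)]
    (𝔅 : Set (Set (IrrCharacter G))) (h𝔅 : ∀ B ∈ 𝔅, IsPBlock M B) (𝒦 : Set (ConjClasses G))
    (h : ∀ B ∈ 𝔅, ∀ B' ∈ 𝔅, ∀ ψ ∈ B', ∀ C ∉ 𝒦,
      MemLocalIdeal M (blockCoeff B C.out * centralChar (ψ : G → ℂ) C.out)) :
    Nat.card 𝔅 ≤ Nat.card 𝒦 := by
  classical
  letI := irrFintype (G := G)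
  haveI : Fintype 𝔅 := Fintype.ofFinite _
  choose f hf using fun B : 𝔅 => exists_mem_block (h𝔅 B.1 B.2)
  let A : Matrix 𝔅 𝒦 (Residue M) := fun B C =>
    res M ⟨blockCoeff B.1 C.1.out, blockCoeff_mem (h𝔅 B.1 B.2) _⟩
  let W : Matrix 𝒦 𝔅 (Residue M) := fun C B =>
    res M ⟨centralChar (f B : G → ℂ) C.1.out, centralChar_mem _ _⟩
  have hAW : A * W = 1 := by
    ext B B'
    have ha := isIntClass_blockCoeff (h𝔅 B.1 B.2)
    have hlhs : (A * W) B B' = res M ⟨∑ C : 𝒦, blockCoeff B.1 C.1.out *
        centralChar (f B' : G → ℂ) C.1.out, memLocalRing_sum fun C _ =>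
          memLocalRing_mul (ha.2 _) (centralChar_mem _ _)⟩ := by
      rw [Matrix.mul_apply]
      simp only [A, W, ← map_mul, ← map_sum]
      congr 1
      exact Subtype.ext (by simp)
    rw [hlhs, Matrix.one_apply]
    have hcong : MemLocalIdeal M ((∑ C : 𝒦, blockCoeff B.1 C.1.out *
        centralChar (f B' : G → ℂ) C.1.out) - omega (f B' : G → ℂ) (blockCoeff B.1)) := by
      rw [omega_eq_sum_classes (f B') ha.1, ← sum_filter_add_sum_filter_not univ (· ∈ 𝒦),
        sum_subtype (p := (· ∈ 𝒦)) _ (by simp)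
          (fun C => blockCoeff B.1 C.out * centralChar (f B' : G → ℂ) C.out),
        sub_add_eq_sub_sub, sub_self, zero_sub]
      exact memLocalIdeal_neg (memLocalIdeal_sum fun C hC =>
        h B.1 B.2 B'.1 B'.2 _ (hf B') C (mem_filter.1 hC).2)
    rw [omega_blockCoeff] at hcong
    by_cases hBB : B = B'
    · subst hBB
      rw [if_pos rfl, ← map_one (res M), res_eq_iff]
      rw [if_pos (hf B)] at hcong
      exact hcong
    · rw [if_neg hBB, res_eq_zero_iff]
      rw [if_neg fun hm => hBB (Subtype.ext (block_eq_of_common (h𝔅 B.1 B.2) (h𝔅 B'.1 B'.2) hm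
        (hf B'))), sub_zero] at hcong
      exact hcong
  have h1 := (Matrix.rank_mul_le_left A W).trans (Matrix.rank_le_card_width A)
  rw [hAW, Matrix.rank_one] at h1
  rwa [Nat.card_eq_fintype_card, Nat.card_eq_fintype_card]

end CfsgLib.Block
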