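import Cfsg.Agent.Blocks.Section
import Cfsg.Prelude.Def_BlockRank

/-!
# Brauer's count of the characters of a block by subsections
-/

namespace CfsgLib.Block

open Cfsg Finset CfsgLib.Block.Chr CfsgLib.Char
open scoped ComplexConjugate

set_option linter.unusedSectionVars false
set_option linter.style.haveILetI false

universe u

variable {G : Type u} [Group G] [Fintype G] {p : ℕ}

theorem pRegularPart_eq (f : G → ℂ) : pRegularPart p f = regPart p f := by
  funext g
  by_cases hg : p ∣ orderOf g
  · simp [pRegularPart, IsPRegular, regPart, hg]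
  · simp [pRegularPart, IsPRegular, regPart, hg]

theorem isClassFunction_regPart {f : G → ℂ} (hf : IsClassFunction G f) :
    IsClassFunction G (regPart p f) := by
  intro g x
  have ho : orderOf (x * g * x⁻¹) = orderOf g :=
    orderOf_injective (MulAut.conj x).toMonoidHom (MulAut.conj x).injective g
  simp only [regPart, ho, hf g x]

/-- The block part as a linear map. -/
noncomputable def blockPartLin (b : Set (IrrCharacter G)) : (G → ℂ) →ₗ[ℂ] (G → ℂ) where
  toFun θ := blockPart b θ
  map_add' θ θ' := by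
    classical
    letI := irrFintype (G := G)
    funext g
    simp only [Pi.add_apply, blockPart_eq_sum, add_mul, sum_add_distrib, mul_add]
  map_smul' c θ := by
    classical
    letI := irrFintype (G := G)
    funext g
    simp only [Pi.smul_apply, smul_eq_mul, blockPart_eq_sum, RingHom.id_apply, mul_sum]
    exact sum_congr rfl fun _ _ => sum_congr rfl fun _ _ => by ring

theorem blockPartLin_apply (b : Set (IrrCharacter G)) (θ : G → ℂ) :
    blockPartLin b θ = blockPart b θ := rfl

/-- The spans of the regular parts of the members of a family of blocks are independent. -/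
theorem finrank_span_union {M : Ideal AlgInt} [M.IsPrime] (hM : IsPModular p M)
    (𝔅 : Finset (Set (IrrCharacter G))) (h𝔅 : ∀ b ∈ 𝔅, IsPBlock M b) :
    Module.finrank ℂ ↥(Submodule.span ℂ
      ((fun φ : IrrCharacter G => regPart p (φ : G → ℂ)) '' {φ | ∃ b ∈ 𝔅, φ ∈ b})) =
      ∑ b ∈ 𝔅, blockRank p b := by
  classical
  set S : {b // b ∈ 𝔅} → Submodule ℂ (G → ℂ) := fun b =>
    Submodule.span ℂ ((fun φ : IrrCharacter G => pRegularPart p (φ : G → ℂ)) '' b.1) with hS
  let Φ : (Π b : {b // b ∈ 𝔅}, ↥(S b)) →ₗ[ℂ] (G → ℂ) :=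
    ∑ b : {b // b ∈ 𝔅}, (S b).subtype.comp (LinearMap.proj b)
  have hΦ : ∀ v, Φ v = ∑ b, (v b : G → ℂ) := fun v => by simp [Φ, LinearMap.sum_apply]
  have hproj : ∀ (b b' : {b // b ∈ 𝔅}) (w : G → ℂ), w ∈ S b' →
      blockPartLin b.1 w = if b = b' then w else 0 := by
    intro b b' w hw
    induction hw using Submodule.span_induction with
    | mem w hw =>
      obtain ⟨φ, hφ, rfl⟩ := hw
      rw [blockPartLin_apply]
      simp only [pRegularPart_eq]
      rw [blockPart_regPart hM (h𝔅 b.1 b.2), blockPart_irr]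
      by_cases hbb : b = b'
      · rw [if_pos hbb, if_pos (hbb ▸ hφ)]
      · rw [if_neg hbb, if_neg fun h => hbb (Subtype.ext
          (block_eq_of_common (h𝔅 b.1 b.2) (h𝔅 b'.1 b'.2) h hφ))]
        funext g
        simp [regPart]
    | zero => simp
    | add u w _ _ hu hw => rw [map_add, hu, hw]; split_ifs <;> simp
    | smul c w _ hw => rw [map_smul, hw]; split_ifs <;> simp
  have hinj : Function.Injective Φ := by
    intro v w h
    funext b
    refine Subtype.ext ?_
    have := congrArg (blockPartLin b.1) h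
    rw [hΦ, hΦ, map_sum, map_sum, sum_congr rfl fun b' _ => hproj b b' _ (v b').2,
      sum_congr rfl fun b' _ => hproj b b' _ (w b').2] at this
    simpa using this
  have hrange : LinearMap.range Φ = Submodule.span ℂ
      ((fun φ : IrrCharacter G => regPart p (φ : G → ℂ)) '' {φ | ∃ b ∈ 𝔅, φ ∈ b}) := by
    refine le_antisymm ?_ (Submodule.span_le.2 ?_)
    · rintro _ ⟨v, rfl⟩
      rw [hΦ]
      refine Submodule.sum_mem _ fun b _ => ?_
      refine (Submodule.span_mono ?_) (v b).2
      rintro _ ⟨φ, hφ, rfl⟩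
      exact ⟨φ, ⟨b.1, b.2, hφ⟩, (pRegularPart_eq _).symm⟩
    · rintro _ ⟨φ, ⟨b, hb, hφ⟩, rfl⟩
      refine ⟨Pi.single ⟨b, hb⟩ ⟨regPart p (φ : G → ℂ),
        Submodule.subset_span ⟨φ, hφ, pRegularPart_eq _⟩⟩, ?_⟩
      rw [hΦ, sum_eq_single ⟨b, hb⟩]
      · simp
      · intro b' _ hne; simp [hne]
      · simp
  rw [← hrange, LinearMap.finrank_range_of_inj hinj, Module.finrank_pi_fintype,
    ← sum_coe_sort 𝔅 (fun b => blockRank p b)]
  rfl

/-- The restrictions to the `p`-sections, as functions on the centralizers. -/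
noncomputable def secMap (p : ℕ) (X : Finset G) : (G → ℂ) →ₗ[ℂ]
    Π x : {x // x ∈ X}, (Subgroup.centralizer ({(x : G)} : Set G) → ℂ) where
  toFun := fun f x => regPart p fun c => f ((x : G) * (c : G))
  map_add' := fun f f' => by
    funext x c
    by_cases hc : p ∣ orderOf c <;> simp [regPart, hc]
  map_smul' := fun a f => by
    funext x c
    by_cases hc : p ∣ orderOf c <;> simp [regPart, hc]

/-- The span of the regular parts of the blocks of a centralizer inducing `B`. -/
noncomputable def secSpace (p : ℕ) (M : Ideal AlgInt) (B : Set (IrrCharacter G)) (x : G) :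
    Submodule ℂ (Subgroup.centralizer ({x} : Set G) → ℂ) :=
  Submodule.span ℂ ((fun φ : IrrCharacter (Subgroup.centralizer ({x} : Set G)) => regPart p φ.1) ''
    {φ | IsInducedBlock M (Subgroup.centralizer ({x} : Set G)) (blockOf M φ.1) B})

/-- The inclusion of the product of the spaces of the sections. -/
noncomputable def secIncl (p : ℕ) (M : Ideal AlgInt) (B : Set (IrrCharacter G)) (X : Finset G) :
    (Π x : {x // x ∈ X}, ↥(secSpace p M B (x : G))) →ₗ[ℂ]
      Π x : {x // x ∈ X}, (Subgroup.centralizer ({(x : G)} : Set G) → ℂ) :=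
  LinearMap.pi fun x => (secSpace p M B (x : G)).subtype.comp (LinearMap.proj x)

theorem secIncl_injective (M : Ideal AlgInt) (B : Set (IrrCharacter G)) (X : Finset G) :
    Function.Injective (secIncl p M B X) :=
  fun _ _ h => funext fun x => Subtype.ext (congrFun h x)

/-- The span of the members of a set of characters. -/
noncomputable def charSpan (B : Set (IrrCharacter G)) : Submodule ℂ (G → ℂ) :=
  Submodule.span ℂ (Set.range fun χ : {χ // χ ∈ B} => ((χ.1 : IrrCharacter G) : G → ℂ))

/-- The characters of a block correspond to the families of functions on the sections. -/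
theorem secMap_bijective {M : Ideal AlgInt} [M.IsPrime] (hM : IsPModular p M)
    {B : Set (IrrCharacter G)} (hB : IsPBlock M B) (X : Finset G)
    (hX : ∀ x ∈ X, ∃ k : ℕ, orderOf x = p ^ k)
    (hXrep : ∀ g : G, (∃ k : ℕ, orderOf g = p ^ k) → ∃! x, x ∈ X ∧ IsConj g x) :
    Function.Injective ((secMap p X).comp (charSpan B).subtype) ∧
      LinearMap.range ((secMap p X).comp (charSpan B).subtype) =
        LinearMap.range (secIncl p M B X) := by
  classical
  haveI : Fact p.Prime := ⟨hM.1⟩
  letI := irrFintype (G := G)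
  haveI hC : ∀ x : G, Fintype (Subgroup.centralizer ({x} : Set G)) := fun x => Fintype.ofFinite _
  letI hI : ∀ x : G, Fintype (IrrCharacter (Subgroup.centralizer ({x} : Set G))) :=
    fun x => irrFintype
  let U : ∀ x : G, Set (IrrCharacter (Subgroup.centralizer ({x} : Set G))) := fun x =>
    {φ | IsInducedBlock M (Subgroup.centralizer ({x} : Set G)) (blockOf M φ.1) B}
  let S := secSpace p M B
  let R := secMap p X
  -- vanishing on blocks which do not induce `B`
  have hzero : ∀ x : {x // x ∈ X}, ∀ {ζ : IrrCharacter G} {B' : Set (IrrCharacter G)},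
      IsPBlock M B' → ζ ∈ B' → ∀ (φ : IrrCharacter (Subgroup.centralizer ({(x : G)} : Set G))),
      ¬ IsInducedBlock M (Subgroup.centralizer ({(x : G)} : Set G)) (blockOf M φ.1) B' →
      ∀ c, ¬ p ∣ orderOf c → blockPart (blockOf M φ.1)
        (fun c => (ζ : G → ℂ) ((x : G) * (c : G))) c = 0 := by
    intro x ζ B' hB' hζ φ hnot c hc
    obtain ⟨k, hk⟩ := hX x x.2
    exact blockPart_eq_zero_of_not_induced hM hk hB' hζ (isPBlock_blockOf φ) hnot c hc
  let 𝔅 : ∀ x : G, Finset (Set (IrrCharacter (Subgroup.centralizer ({x} : Set G)))) := fun x =>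
    (univ : Finset (IrrCharacter (Subgroup.centralizer ({x} : Set G)))).image
      fun φ : IrrCharacter (Subgroup.centralizer ({x} : Set G)) => blockOf M φ.1
  have hdecomp : ∀ (x : G) {θ : Subgroup.centralizer ({x} : Set G) → ℂ},
      IsClassFunction _ θ → ∀ c, θ c = ∑ b ∈ 𝔅 x, blockPart b θ c := by
    intro x θ hθ c
    rw [classFun_expand hθ c]
    have : ∀ b ∈ 𝔅 x, blockPart b θ c = ∑ φ ∈ univ.filter
        (fun φ : IrrCharacter (Subgroup.centralizer ({x} : Set G)) => blockOf M φ.1 = b),
        classInner θ φ.1 * φ.1 c := by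
      intro b hb
      obtain ⟨φ₀, -, rfl⟩ := mem_image.1 hb
      rw [blockPart_eq_sum_inner]
      refine sum_congr (filter_congr fun φ _ => ?_) fun _ _ => rfl
      exact ⟨fun h => (eq_blockOf_of_mem (isPBlock_blockOf φ₀) h).symm,
        fun h => h ▸ mem_blockOf_self φ⟩
    rw [sum_congr rfl this]
    exact (sum_fiberwise_of_maps_to (fun φ _ => mem_image_of_mem _ (mem_univ φ)) _).symm
  have hmem : ∀ x : {x // x ∈ X}, ∀ χ ∈ B, R (χ : G → ℂ) x ∈ S x := by
    intro x χ hχ
    set θ : Subgroup.centralizer ({(x : G)} : Set G) → ℂ :=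
      fun c => (χ : G → ℂ) ((x : G) * (c : G))
    have hθ : IsClassFunction _ θ := isClassFunction_shift χ x
    have hR : R (χ : G → ℂ) x = ∑ b ∈ 𝔅 x, regPart p (blockPart b θ) := by
      funext c
      show regPart p θ c = _
      rw [Finset.sum_apply]
      by_cases hc : p ∣ orderOf c
      · rw [regPart_of_dvd hc, sum_eq_zero fun b _ => regPart_of_dvd hc]
      · rw [regPart_of_not_dvd hc, hdecomp x hθ c]
        exact sum_congr rfl fun b _ => (regPart_of_not_dvd hc).symm
    rw [hR]
    refine Submodule.sum_mem _ fun b hb => ?_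
    obtain ⟨φ, -, rfl⟩ := mem_image.1 hb
    by_cases hind : IsInducedBlock M _ (blockOf M φ.1) B
    · have e : regPart p (blockPart (blockOf M φ.1) θ) =
          ∑ ψ ∈ univ.filter (· ∈ blockOf M φ.1),
            classInner θ ψ.1 • regPart p ψ.1 := by
        funext c
        rw [Finset.sum_apply]
        by_cases hc : p ∣ orderOf c
        · simp [regPart, hc]
        · rw [regPart_of_not_dvd hc, blockPart_eq_sum_inner]
          exact sum_congr rfl fun ψ _ => by simp [regPart, hc]
      rw [e]
      refine Submodule.sum_mem _ fun ψ hψ => Submodule.smul_mem _ _ (Submodule.subset_span ?_)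
      refine ⟨ψ, ?_, rfl⟩
      show IsInducedBlock M _ (blockOf M ψ.1) B
      rwa [← eq_blockOf_of_mem (isPBlock_blockOf φ) (mem_filter.1 hψ).2]
    · have e : regPart p (blockPart (blockOf M φ.1) θ) = 0 := by
        funext c
        by_cases hc : p ∣ orderOf c
        · rw [regPart_of_dvd hc]; rfl
        · rw [regPart_of_not_dvd hc]; exact hzero x hB hχ φ hind c hc
      rw [e]
      exact Submodule.zero_mem _
  let V := charSpan B
  have hclass : ∀ f ∈ V, IsClassFunction G f := by
    intro f hf
    induction hf using Submodule.span_induction with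
    | mem f hf => obtain ⟨χ, rfl⟩ := hf; exact isClassFunction_irr χ.1
    | zero => exact fun g x => rfl
    | add f f' _ _ h h' => exact fun g x => by simp [h g x, h' g x]
    | smul c f _ h => exact fun g x => by simp [h g x]
  have hinj : Function.Injective (R.comp V.subtype) := by
    rw [← LinearMap.ker_eq_bot, eq_bot_iff]
    intro f hf
    rw [LinearMap.mem_ker] at hf
    rw [Submodule.mem_bot]
    refine Subtype.ext (funext fun g => ?_)
    obtain ⟨a, b, hab, hc, -, ⟨m, hm, hbm⟩, -, hbreg, ha, -, -⟩ := exists_pPart hM.1 g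
    obtain ⟨x, ⟨hx, hax⟩, -⟩ := hXrep a ha
    obtain ⟨c, hcx⟩ := isConj_iff.1 hax
    have hy : c * b * c⁻¹ ∈ Subgroup.centralizer ({x} : Set G) := by
      rw [Subgroup.mem_centralizer_singleton_iff, ← hcx]
      exact (hc.map (MulAut.conj c)).symm.eq
    have hreg : ¬ p ∣ orderOf (⟨c * b * c⁻¹, hy⟩ : Subgroup.centralizer ({x} : Set G)) := by
      rw [← Subgroup.orderOf_coe]
      rwa [show orderOf (c * b * c⁻¹) = orderOf b from
        orderOf_injective (MulAut.conj c).toMonoidHom (MulAut.conj c).injective b]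
    have h := congrFun (congrFun hf ⟨x, hx⟩) ⟨c * b * c⁻¹, hy⟩
    change regPart p (fun d : Subgroup.centralizer ({x} : Set G) => (f : G → ℂ) (x * (d : G)))
      ⟨c * b * c⁻¹, hy⟩ = 0 at h
    rw [regPart_of_not_dvd hreg] at h
    have e : x * (c * b * c⁻¹) = c * g * c⁻¹ := by rw [← hcx, ← hab]; group
    change (f : G → ℂ) (x * (c * b * c⁻¹)) = 0 at h
    rw [e, hclass _ f.2 g c] at h
    exact h
  -- every element of `S x` at the place `x` is attained
  have hsurj : ∀ x : {x // x ∈ X}, ∀ φ ∈ U x,
      Pi.single x (regPart p φ.1) ∈ LinearMap.range (R.comp V.subtype) := by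
    intro x φ hφ
    obtain ⟨k, hk⟩ := hX x x.2
    let F : G → ℂ := ∑ y' ∈ univ.filter (fun y' : (Subgroup.centralizer ({(x : G)} : Set G)) => ¬ p ∣ orderOf y'),
      ∑ ζ ∈ univ.filter (· ∈ B),
        ((φ : (Subgroup.centralizer ({(x : G)} : Set G)) → ℂ) y' * conj ((ζ : G → ℂ) ((x : G) * (y' : G)))) • (ζ : G → ℂ)
    have hFV : F ∈ V := Submodule.sum_mem _ fun y' _ => Submodule.sum_mem _ fun ζ hζ =>
      Submodule.smul_mem _ _ (Submodule.subset_span ⟨⟨ζ, (mem_filter.1 hζ).2⟩, rfl⟩)
    have hF : ∀ g, F g = ∑ y' ∈ univ.filter (fun y' : (Subgroup.centralizer ({(x : G)} : Set G)) => ¬ p ∣ orderOf y'),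
        (φ : (Subgroup.centralizer ({(x : G)} : Set G)) → ℂ) y' * ∑ ζ ∈ univ.filter (· ∈ B),
          (ζ : G → ℂ) g * conj ((ζ : G → ℂ) ((x : G) * (y' : G))) := by
      intro g
      simp only [F, Finset.sum_apply, Pi.smul_apply, smul_eq_mul, mul_sum]
      exact sum_congr rfl fun _ _ => sum_congr rfl fun _ _ => by ring
    have hlocal : ∀ y y' : (Subgroup.centralizer ({(x : G)} : Set G)), ¬ p ∣ orderOf y → ¬ p ∣ orderOf y' →
        ∑ ζ ∈ univ.filter (· ∈ B), (ζ : G → ℂ) ((x : G) * (y : G)) *
            conj ((ζ : G → ℂ) ((x : G) * (y' : G))) =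
          ∑ ψ ∈ univ.filter (· ∈ U x), (ψ : (Subgroup.centralizer ({(x : G)} : Set G)) → ℂ) y * conj ((ψ : (Subgroup.centralizer ({(x : G)} : Set G)) → ℂ) y') := by
      intro y y' hy hy'
      have hblk : ∀ b ∈ 𝔅 (x : G), IsPBlock M b := fun b hb => by
        obtain ⟨ψ, -, rfl⟩ := mem_image.1 hb
        exact isPBlock_blockOf ψ
      set 𝔅' := (𝔅 (x : G)).filter fun b => IsInducedBlock M (Subgroup.centralizer ({(x : G)} : Set G)) b B
      have hsplit : ∑ ψ ∈ univ.filter (· ∈ U x), (ψ : (Subgroup.centralizer ({(x : G)} : Set G)) → ℂ) y * conj ((ψ : (Subgroup.centralizer ({(x : G)} : Set G)) → ℂ) y') =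
          ∑ b ∈ 𝔅', ∑ ψ ∈ univ.filter (· ∈ b), (ψ : (Subgroup.centralizer ({(x : G)} : Set G)) → ℂ) y * conj ((ψ : (Subgroup.centralizer ({(x : G)} : Set G)) → ℂ) y') := by
        rw [← sum_fiberwise_of_maps_to (t := 𝔅') (g := fun ψ : IrrCharacter (Subgroup.centralizer ({(x : G)} : Set G)) => blockOf M (ψ : (Subgroup.centralizer ({(x : G)} : Set G)) → ℂ))
          (s := univ.filter (· ∈ U x)) (fun ψ hψ => mem_filter.2 ⟨mem_image_of_mem _ (mem_univ ψ), (mem_filter.1 hψ).2⟩)]
        refine sum_congr rfl fun b hb => sum_congr ?_ fun _ _ => rfl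
        ext ψ
        simp only [mem_filter, mem_univ, true_and]
        constructor
        · rintro ⟨-, rfl⟩; exact mem_blockOf_self ψ
        · intro hψ
          have e := eq_blockOf_of_mem (hblk b (mem_filter.1 hb).1) hψ
          exact ⟨by show IsInducedBlock M (Subgroup.centralizer ({(x : G)} : Set G)) _ B; rw [← e]; exact (mem_filter.1 hb).2, e.symm⟩
      rw [hsplit, sum_congr rfl fun b hb =>
        blockPart_section_kernel hM hk (hblk b (mem_filter.1 hb).1) y y' hy hy', sum_comm,
        sum_filter]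
      refine sum_congr rfl fun ζ _ => ?_
      rw [← sum_mul]
      split_ifs with hζ
      · congr 1
        rw [show (ζ : G → ℂ) ((x : G) * (y : G)) = ∑ b ∈ 𝔅 (x : G),
          blockPart b (fun c : (Subgroup.centralizer ({(x : G)} : Set G)) => (ζ : G → ℂ) ((x : G) * (c : G))) y from
          hdecomp x (isClassFunction_shift ζ x) y]
        refine (sum_subset (filter_subset _ _) fun b hb hnb => ?_).symm
        obtain ⟨ψ, -, rfl⟩ := mem_image.1 hb
        exact hzero x hB hζ ψ (fun h => hnb (mem_filter.2 ⟨hb, h⟩)) y hy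
      · rw [sum_eq_zero fun b hb => ?_, zero_mul]
        obtain ⟨hb1, hb2⟩ := mem_filter.1 hb
        obtain ⟨ψ, -, rfl⟩ := mem_image.1 hb1
        refine hzero x (isPBlock_blockOf ζ) (mem_blockOf_self ζ) ψ (fun h => hζ ?_) y hy
        rw [induced_unique hb2 h]
        exact mem_blockOf_self ζ
    refine ⟨(Nat.card (Subgroup.centralizer ({(x : G)} : Set G)) : ℂ)⁻¹ • ⟨F, hFV⟩, ?_⟩
    funext x' c
    show regPart p (fun d : Subgroup.centralizer ({(x' : G)} : Set G) =>
      ((Nat.card (Subgroup.centralizer ({(x : G)} : Set G)) : ℂ)⁻¹ • F) ((x' : G) * (d : G))) c = _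
    by_cases hxx : x' = x
    · obtain rfl : x = x' := hxx.symm
      rw [Pi.single_eq_same]
      by_cases hc : p ∣ orderOf c
      · rw [regPart_of_dvd hc, regPart_of_dvd hc]
      · rw [regPart_of_not_dvd hc, Pi.smul_apply, smul_eq_mul, hF,
          sum_congr rfl fun y' hy' => by rw [hlocal c y' hc (mem_filter.1 hy').2]]
        rw [classFun_expand (isClassFunction_regPart (p := p) (isClassFunction_irr φ)) c]
        simp only [mul_sum]
        rw [sum_comm, sum_filter]
        refine sum_congr rfl fun ψ _ => ?_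
        rw [classInner_regPart]
        split_ifs with hψ
        · rw [mul_sum, sum_mul]
          exact sum_congr rfl fun y' _ => by ring
        · rw [← classInner_regPart, classInner_regPart_eq_zero hM φ ψ fun h => hψ ?_, zero_mul]
          show IsInducedBlock M (Subgroup.centralizer ({(x : G)} : Set G)) (blockOf M (ψ : (Subgroup.centralizer ({(x : G)} : Set G)) → ℂ)) B
          rw [← eq_blockOf_of_mem (isPBlock_blockOf φ) (show ψ ∈ blockOf M (φ : (Subgroup.centralizer ({(x : G)} : Set G)) → ℂ) from h)]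
          exact hφ
    · rw [Pi.single_eq_of_ne hxx]
      by_cases hc : p ∣ orderOf c
      · rw [regPart_of_dvd hc]; rfl
      · rw [regPart_of_not_dvd hc, Pi.smul_apply, smul_eq_mul, hF]
        obtain ⟨k', hk'⟩ := hX x' x'.2
        rw [sum_eq_zero fun y' hy' => ?_, mul_zero]
        · rfl
        rw [block_orth hM (isIntClass_blockCoeff hB) (isPPart_mul hM.1 hk' c hc)
          (isPPart_mul hM.1 hk y' (mem_filter.1 hy').2) ?_, mul_zero]
        intro hconj
        exact hxx (Subtype.ext ((hXrep x' ⟨k', hk'⟩).unique ⟨x'.2, IsConj.refl _⟩ ⟨x.2, hconj⟩))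
  let ι := secIncl p M B X
  refine ⟨hinj, ?_⟩
  have hrange : LinearMap.range (R.comp V.subtype) = LinearMap.range ι := by
    refine le_antisymm ?_ ?_
    · rintro _ ⟨⟨f, hf⟩, rfl⟩
      have hfS : ∀ x : {x // x ∈ X}, R f x ∈ S x := by
        intro x
        have hle : V ≤ (S x).comap ((LinearMap.proj (φ := fun y : {x // x ∈ X} =>
            Subgroup.centralizer ({(y : G)} : Set G) → ℂ) x).comp R) := by
          refine Submodule.span_le.2 ?_
          rintro _ ⟨χ, rfl⟩
          exact hmem x χ.1 χ.2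
        exact hle hf
      exact ⟨fun x => ⟨R f x, hfS x⟩, rfl⟩
    · rintro _ ⟨v, rfl⟩
      have : ι v = ∑ x, Pi.single x ((v x : _ → ℂ)) := by
        funext x'
        simp [ι, secIncl]
      rw [this]
      refine Submodule.sum_mem _ fun x _ => ?_
      have hle : S x ≤ (LinearMap.range (R.comp V.subtype)).comap
          (LinearMap.single ℂ (fun y : {x // x ∈ X} =>
            Subgroup.centralizer ({(y : G)} : Set G) → ℂ) x) := by
        refine Submodule.span_le.2 ?_
        rintro _ ⟨φ, hφ, rfl⟩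
        exact hsurj x φ hφ
      exact hle (v x).2
  exact hrange

/-- **Brauer's count by subsections.** -/
theorem card_block_eq_sum {M : Ideal AlgInt} [M.IsPrime] (hM : IsPModular p M)
    {B : Set (IrrCharacter G)} (hB : IsPBlock M B) (X : Finset G)
    (hX : ∀ x ∈ X, ∃ k : ℕ, orderOf x = p ^ k)
    (hXrep : ∀ g : G, (∃ k : ℕ, orderOf g = p ^ k) → ∃! x, x ∈ X ∧ IsConj g x) :
    Nat.card B = ∑ x ∈ X, ∑ᶠ b ∈ {b : Set (IrrCharacter ↥(Subgroup.centralizer ({x} : Set G))) |
      IsInducedBlock M (Subgroup.centralizer ({x} : Set G)) b B}, blockRank p b := by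
  classical
  haveI : Fact p.Prime := ⟨hM.1⟩
  letI := irrFintype (G := G)
  haveI hC : ∀ x : G, Fintype (Subgroup.centralizer ({x} : Set G)) := fun x => Fintype.ofFinite _
  letI hI : ∀ x : G, Fintype (IrrCharacter (Subgroup.centralizer ({x} : Set G))) :=
    fun x => irrFintype
  let U : ∀ x : G, Set (IrrCharacter (Subgroup.centralizer ({x} : Set G))) := fun x =>
    {φ | IsInducedBlock M (Subgroup.centralizer ({x} : Set G)) (blockOf M φ.1) B}
  let S := secSpace p M B
  obtain ⟨hinj, hrange⟩ := secMap_bijective hM hB X hX hXrep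
  have hι := secIncl_injective (p := p) M B X
  have hV : Module.finrank ℂ ↥(charSpan B) = Nat.card B := by
    haveI : Fintype {χ // χ ∈ B} := Fintype.ofFinite _
    show Module.finrank ℂ ↥(Submodule.span ℂ _) = _
    exact (finrank_span_eq_card
      (CfsgLib.Char.linearIndependent_irr.comp _ Subtype.val_injective)).trans
      Nat.card_eq_fintype_card.symm
  have hdim : Nat.card B = ∑ x : {x // x ∈ X}, Module.finrank ℂ ↥(S x) := by
    rw [← hV, ← LinearMap.finrank_range_of_inj hinj, hrange, LinearMap.finrank_range_of_inj hι,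
      Module.finrank_pi_fintype]
  rw [hdim, ← sum_coe_sort X]
  refine sum_congr rfl fun x _ => ?_
  haveI : Fintype (Set (IrrCharacter ↥(Subgroup.centralizer ({(x : G)} : Set G)))) := Fintype.ofFinite _
  rw [finsum_mem_eq_sum_of_inter_support_eq (t := univ.filter fun b =>
    IsInducedBlock M (Subgroup.centralizer ({(x : G)} : Set G)) b B) _ (by ext; simp)]
  rw [← finrank_span_union hM _ fun b hb => (mem_filter.1 hb).2.1]
  have e : U x = {φ | ∃ b ∈ univ.filter (fun b => IsInducedBlock M
      (Subgroup.centralizer ({(x : G)} : Set G)) b B), φ ∈ b} := by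
    ext φ
    constructor
    · intro h
      exact ⟨_, mem_filter.2 ⟨mem_univ _, h⟩, mem_blockOf_self φ⟩
    · rintro ⟨b, hb, hφ⟩
      show IsInducedBlock M _ (blockOf M φ.1) B
      rw [← eq_blockOf_of_mem (mem_filter.1 hb).2.1 hφ]
      exact (mem_filter.1 hb).2
  exact congrArg (fun s => Module.finrank ℂ ↥(Submodule.span ℂ ((fun φ :
    IrrCharacter ↥(Subgroup.centralizer ({(x : G)} : Set G)) => regPart p φ.1) '' s))) e

end CfsgLib.Block
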