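import Cfsg.Agent.Blocks.BrauerChar
import Cfsg.Agent.Blocks.SectionCount
import Mathlib.RingTheory.SimpleModule.Basic

/-!
# The Brauer characters of the simple modules form a basis adapted to the blocks
-/

set_option autoImplicit false
set_option linter.style.haveILetI false
set_option linter.unusedSectionVars false

namespace CfsgLib.BrauerBasis

open Cfsg Finset CfsgLib.Block CfsgLib.Block.Chr CfsgLib.BrauerPairs CfsgLib.BlockStar
  CfsgLib.Cyclic Module
open scoped Classical

universe u

variable {M : Ideal AlgInt} [M.IsPrime] {p : ℕ} [Fact p.Prime] [CharP (Residue M) p]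
  {G : Type u} [Group G] [Fintype G]

local notation "𝕜" => Residue M
local notation "𝔸" => MonoidAlgebra (Residue M) G

/-- The Brauer characters of the simple modules. -/
def bset (p : ℕ) (M : Ideal AlgInt) [M.IsPrime] (G : Type u) [Group G] [Fintype G] :
    Set (G → ℂ) :=
  {f | ∃ m : Submodule (MonoidAlgebra (Residue M) G) (MonoidAlgebra (Residue M) G),
    IsCoatom m ∧ bchar p M (MonoidAlgebra (Residue M) G ⧸ m) = f}

/-- The Brauer characters of the simple modules of a block. -/
def bsetB (p : ℕ) (M : Ideal AlgInt) [M.IsPrime] {G : Type u} [Group G] [Fintype G]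
    (b : Set (IrrCharacter G)) : Set (G → ℂ) :=
  {f | ∃ m : Submodule (MonoidAlgebra (Residue M) G) (MonoidAlgebra (Residue M) G),
    IsCoatom m ∧ (∀ x : MonoidAlgebra (Residue M) G ⧸ m, idem M b • x = x) ∧
    bchar p M (MonoidAlgebra (Residue M) G ⧸ m) = f}

theorem bsetB_subset (b : Set (IrrCharacter G)) : bsetB p M b ⊆ bset p M G :=
  fun _ ⟨m, hm, _, hf⟩ => ⟨m, hm, hf⟩

theorem finiteDimensional_quot (m : Submodule 𝔸 𝔸) : FiniteDimensional 𝕜 (𝔸 ⧸ m) := by
  haveI : Module.Finite 𝕜 𝔸 := Module.Finite.of_basis (MonoidAlgebra.basis G 𝕜)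
  exact Module.Finite.of_surjective (m.mkQ.restrictScalars 𝕜) m.mkQ_surjective

/-- The traces of non-isomorphic simple modules on regular elements are independent. -/
theorem linearIndependent_trace {ι : Type*} [Fintype ι] (T : ι → Type*)
    [∀ j, AddCommGroup (T j)] [∀ j, Module 𝕜 (T j)]
    [∀ j, Module (MonoidAlgebra 𝕜 G) (T j)] [∀ j, IsScalarTower 𝕜 (MonoidAlgebra 𝕜 G) (T j)]
    [∀ j, FiniteDimensional 𝕜 (T j)] [∀ j, IsSimpleModule (MonoidAlgebra 𝕜 G) (T j)]
    (hne : ∀ i j, i ≠ j → IsEmpty (T i ≃ₗ[MonoidAlgebra 𝕜 G] T j)) :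
    LinearIndependent 𝕜 fun j (g : {g : G // ¬ p ∣ orderOf g}) =>
      LinearMap.trace 𝕜 (T j) (act 𝕜 (T j) (MonoidAlgebra.single g.1 (1 : 𝕜))) := by
  let τ : ι → MonoidAlgebra 𝕜 G →ₗ[𝕜] 𝕜 := fun j =>
    (LinearMap.trace 𝕜 (T j)).comp (act 𝕜 (T j)).toLinearMap
  have hpp : ∀ j {x s : G}, PElt p x s → τ j (MonoidAlgebra.single (x * s) 1) =
      τ j (MonoidAlgebra.single s 1) := fun j x s h => by
    obtain ⟨n, hn⟩ := h.pow
    exact trace_pPart h.comm hn
  rw [Fintype.linearIndependent_iff]
  intro c hc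
  have h0 : ∑ j, c j • τ j = 0 := by
    refine LinearMap.ext fun a => ?_
    rw [sum_single_smul a, map_sum, LinearMap.zero_apply]
    refine sum_eq_zero fun g _ => ?_
    obtain ⟨x, s, h, rfl⟩ := exists_pElt p g
    have h1 := congrFun hc ⟨s, h.reg⟩
    simp only [Finset.sum_apply, Pi.smul_apply, Pi.zero_apply] at h1
    simp only [map_smul, LinearMap.sum_apply, LinearMap.smul_apply]
    rw [Finset.sum_congr rfl fun j _ => by rw [hpp j h]]
    rw [show ∑ j, c j • τ j (MonoidAlgebra.single s 1) = 0 from h1, smul_zero]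
  intro j
  haveI := IsSimpleModule.nontrivial (MonoidAlgebra 𝕜 G) (T j)
  obtain ⟨v, hv⟩ := exists_ne (0 : T j)
  obtain ⟨ψ, hψ⟩ : ∃ ψ : Dual 𝕜 (T j), ψ v ≠ 0 := by
    by_contra hh
    push_neg at hh
    exact hv ((Module.forall_dual_apply_eq_zero_iff 𝕜 v).1 hh)
  obtain ⟨e, he⟩ := exists_smul_eq (S := T j) (k := 𝕜) (G := G) (ψ.smulRight v)
  obtain ⟨a, ha, ha'⟩ := exists_separating T hne j
  have h1 := LinearMap.congr_fun h0 (a * e)
  simp only [LinearMap.sum_apply, LinearMap.smul_apply, LinearMap.zero_apply] at h1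
  rw [sum_eq_single j] at h1
  · have h2 : τ j (a * e) = ψ v := by
      show LinearMap.trace 𝕜 (T j) (act 𝕜 (T j) (a * e)) = _
      rw [show act 𝕜 (T j) (a * e) = ψ.smulRight v from LinearMap.ext fun x => by
        rw [act_apply, mul_smul, ha, he], LinearMap.trace_smulRight]
    rw [h2, smul_eq_mul, mul_eq_zero] at h1
    exact h1.resolve_right hψ
  · intro l _ hl
    have h2 : τ l (a * e) = 0 := by
      show LinearMap.trace 𝕜 (T l) (act 𝕜 (T l) (a * e)) = _
      rw [show act 𝕜 (T l) (a * e) = 0 from LinearMap.ext fun x => by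
        rw [act_apply, mul_smul, ha' l hl, LinearMap.zero_apply], map_zero]
    rw [h2, smul_zero]
  · simp

/-- The Brauer characters of simple modules are linearly independent. -/
theorem linearIndepOn_bset (hM : IsPModular p M) : LinearIndepOn ℂ id (bset p M G) := by
  refine linearIndepOn_of_finite _ fun t ht htf => ?_
  haveI : Fintype t := htf.fintype
  choose m hm hf using fun f : t => ht f.2
  haveI : ∀ f, FiniteDimensional 𝕜 (𝔸 ⧸ m f) := fun f => finiteDimensional_quot (m f)
  haveI : ∀ f, IsSimpleModule 𝔸 (𝔸 ⧸ m f) := fun f => isSimpleModule_iff_isCoatom.2 (hm f)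
  have hne : ∀ f f', f ≠ f' → IsEmpty ((𝔸 ⧸ m f) ≃ₗ[𝔸] (𝔸 ⧸ m f')) := fun f f' hff =>
    ⟨fun T => hff (Subtype.ext (by rw [← hf f, ← hf f', bchar_congr T]))⟩
  let v : t → {g : G // ¬ p ∣ orderOf g} → localRing M := fun f g => bval M (𝔸 ⧸ m f) g.1
  have h1 : LinearIndependent 𝕜 fun f g => res M (v f g) := by
    rw [show (fun f (g : {g : G // ¬ p ∣ orderOf g}) => res M (v f g)) = fun f g =>
      LinearMap.trace 𝕜 (𝔸 ⧸ m f) (act 𝕜 (𝔸 ⧸ m f) (MonoidAlgebra.single g.1 (1 : 𝕜))) from
      funext fun f => funext fun g => res_bval hM g.2]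
    exact linearIndependent_trace (p := p) (fun f => 𝔸 ⧸ m f) hne
  have h2 := independent_of_red v h1
  refine LinearIndependent.of_comp (LinearMap.funLeft ℂ ℂ
    (Subtype.val : {g : G // ¬ p ∣ orderOf g} → G)) ?_
  convert h2 using 1
  funext f g
  show (f : G → ℂ) g.1 = _
  rw [← hf f, bchar, if_neg g.2]

/-- A simple module is determined by its Brauer character. -/
theorem nonempty_equiv_of_bchar_eq (hM : IsPModular p M) {m m' : Submodule 𝔸 𝔸} (hm : IsCoatom m)
    (hm' : IsCoatom m') (he : bchar (G := G) p M (𝔸 ⧸ m) = bchar p M (𝔸 ⧸ m')) :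
    Nonempty ((𝔸 ⧸ m) ≃ₗ[𝔸] (𝔸 ⧸ m')) := by
  by_contra hno
  let n : Bool → Submodule 𝔸 𝔸 := fun i => cond i m m'
  haveI : ∀ i, FiniteDimensional 𝕜 (𝔸 ⧸ n i) := fun i => finiteDimensional_quot _
  haveI : ∀ i, IsSimpleModule 𝔸 (𝔸 ⧸ n i) := fun i =>
    isSimpleModule_iff_isCoatom.2 (by cases i <;> assumption)
  have h := linearIndependent_trace (p := p) (G := G) (M := M) (fun i => 𝔸 ⧸ n i) fun i j hij => ?_
  · have h1 := h.injective (a₁ := true) (a₂ := false) (funext fun g => ?_)
    · exact Bool.noConfusion h1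
    · haveI := finiteDimensional_quot (M := M) m
      haveI := finiteDimensional_quot (M := M) m'
      show LinearMap.trace 𝕜 (𝔸 ⧸ m) (act 𝕜 (𝔸 ⧸ m) (MonoidAlgebra.single g.1 1)) =
        LinearMap.trace 𝕜 (𝔸 ⧸ m') (act 𝕜 (𝔸 ⧸ m') (MonoidAlgebra.single g.1 1))
      rw [← res_bval hM g.2, ← res_bval hM g.2]
      congr 1
      refine Subtype.ext ?_
      simpa only [bchar, if_neg g.2] using congrFun he g.1
  · cases i <;> cases j
    · exact absurd rfl hij
    · exact ⟨fun T => hno ⟨T.symm⟩⟩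
    · exact ⟨fun T => hno ⟨T⟩⟩
    · exact absurd rfl hij

/-- An additive property of the Brauer characters of simple modules passes to all modules. -/
theorem bchar_mem_of_simple (hM : IsPModular p M) (A : AddSubmonoid (G → ℂ)) (f : 𝔸)
    (hA : ∀ m : Submodule 𝔸 𝔸, IsCoatom m → (∀ x : 𝔸 ⧸ m, f • x = x) →
      bchar p M (𝔸 ⧸ m) ∈ A) :
    ∀ (d : ℕ) (X : Type u) [AddCommGroup X] [Module 𝕜 X] [Module 𝔸 X] [IsScalarTower 𝕜 𝔸 X]
      [FiniteDimensional 𝕜 X], finrank 𝕜 X = d → (∀ x : X, f • x = x) →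
      bchar (G := G) p M X ∈ A := by
  intro d
  induction d using Nat.strong_induction_on with
  | _ d ih =>
    intro X _ _ _ _ _ hd hX
    rcases subsingleton_or_nontrivial X with hs | hn
    · have : bchar (G := G) p M X = 0 := by
        funext s
        rw [bchar]
        split_ifs
        · rfl
        · rw [bval, sum_eq_zero fun j _ => ?_]
          · rfl
          · rw [Module.finrank_zero_of_subsingleton, Nat.cast_zero, mul_zero]
      rw [this]
      exact zero_mem A
    · obtain ⟨U, hU⟩ := exists_simple_submodule (k := 𝕜) (G := G) (S := X)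
      haveI := hU
      haveI : FiniteDimensional 𝕜 U := inferInstanceAs (FiniteDimensional 𝕜 (U.restrictScalars 𝕜))
      haveI : FiniteDimensional 𝕜 (X ⧸ U) :=
        Module.Finite.of_surjective (U.mkQ.restrictScalars 𝕜) U.mkQ_surjective
      haveI := IsSimpleModule.nontrivial 𝔸 U
      have hpos : 0 < finrank 𝕜 U := Module.finrank_pos
      have hadd := finrank_eq_add (k := 𝕜) U
      rw [← bchar_add hM U]
      refine add_mem ?_ (ih _ (by omega) (X ⧸ U) rfl ?_)
      · obtain ⟨m, hm, ⟨T⟩⟩ := isSimpleModule_iff_quot_maximal.1 hU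
        haveI : m.IsMaximal := hm
        rw [bchar_congr T]
        refine hA m Ideal.IsMaximal.out fun x => T.symm.injective ?_
        rw [T.symm.map_smul]
        exact Subtype.ext (hX _)
      · intro x
        obtain ⟨x, rfl⟩ := U.mkQ_surjective x
        rw [← U.mkQ.map_smul, hX]

/-- The Brauer character of a module of a block lies in the span of those of the simple ones. -/
theorem bchar_mem_span (hM : IsPModular p M) {b : Set (IrrCharacter G)} (d : ℕ) (X : Type u)
    [AddCommGroup X] [Module 𝕜 X] [Module 𝔸 X] [IsScalarTower 𝕜 𝔸 X] [FiniteDimensional 𝕜 X]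
    (hd : finrank 𝕜 X = d) (hX : ∀ x : X, idem M b • x = x) :
    bchar (G := G) p M X ∈ Submodule.span ℂ (bsetB p M b) :=
  bchar_mem_of_simple hM (Submodule.span ℂ (bsetB p M b)).toAddSubmonoid (idem M b)
    (fun m hm hfix => Submodule.subset_span ⟨m, hm, hfix, rfl⟩) d X hd hX

theorem idem_comm (b : Set (IrrCharacter G)) (a : 𝔸) : idem M b * a = a * idem M b :=
  (alg_commute le_rfl (suppIn_top a) (idem_mem b).2).symm

theorem commute_single_liftIdem {b : Set (IrrCharacter G)} (hb : IsPBlock M b) (g : G)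
    (r : localRing M) : Commute (MonoidAlgebra.single g r) (liftIdem hb) := by
  have h := (commute_liftIdem hb g).smul_left r
  rwa [MonoidAlgebra.smul_single, smul_eq_mul, mul_one] at h

/-- The lifted idempotent of a block times that of a linear character. -/
noncomputable def blockEps {b : Set (IrrCharacter G)} (hb : IsPBlock M b) (t : G) (l : ℕ) : LA M G :=
  liftIdem hb * eps M t l

theorem blockEps_idem (hM : IsPModular p M) {b : Set (IrrCharacter G)} (hb : IsPBlock M b) {t : G}
    (ht : ¬ p ∣ orderOf t) (l : ℕ) : blockEps hb t l * blockEps hb t l = blockEps hb t l := by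
  have hc : Commute (eps M t l) (liftIdem hb) := by
    rw [eps]
    refine Commute.smul_left (Commute.sum_left _ _ _ fun i _ => ?_) _
    rw [twist_pow]
    exact commute_single_liftIdem hb _ _
  rw [blockEps, mul_assoc, ← mul_assoc (eps M t l), hc.eq, mul_assoc (liftIdem hb) (eps M t l),
    eps_idem hM ht, ← mul_assoc, liftIdem_idem hb]

/-- The Brauer character of a projective left ideal. -/
theorem bchar_leftIdeal (hM : IsPModular p M) {c : LA M G} (hc : c * c = c) {s : G}
    (hs : ¬ p ∣ orderOf s) :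
    bchar p M (leftIdeal (redA c)) s = ∑ h : G, (c.coeff (h⁻¹ * s⁻¹ * h) : ℂ) := by
  have hz : ∀ u : G, ∑ j ∈ range (orderOf s), zeta (orderOf s) ^ j *
      ((eps M s j).coeff u : ℂ) = if s = u then 1 else 0 := fun u => by
    have h := congrArg (fun z : LA M G => ((z.coeff u : localRing M) : ℂ)) (sum_zeta_eps hM hs)
    simp only [MonoidAlgebra.coeff_sum, Finsupp.finsetSum_apply, MonoidAlgebra.coeff_smul,
      Finsupp.smul_apply, smul_eq_mul, MonoidAlgebra.coeff_single, Finsupp.single_apply,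
      apply_ite ((↑) : localRing M → ℂ)] at h
    push_cast at h
    simp only [coe_lc (memLocalRing_zeta_pow (orderOf_pos s) _)] at h
    exact h
  rw [bchar, if_neg hs, bval]
  push_cast
  simp only [coe_lc (memLocalRing_zeta_pow (orderOf_pos s) _), range_act_leftIdeal,
    finrank_mulLeft_mulRight (eps_idem hM hs _) hc, mul_sum]
  rw [sum_comm]
  refine sum_congr rfl fun h _ => ?_
  rw [sum_comm]
  simp only [← mul_assoc, ← sum_mul, hz]
  rw [Fintype.sum_eq_single s fun u hu => by rw [if_neg (Ne.symm hu), zero_mul], if_pos rfl,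
    one_mul]

/-- The regular parts of the members of a block lie in the span of the Brauer characters of its
simple modules. -/
theorem regPart_mem_span (hM : IsPModular p M) {b : Set (IrrCharacter G)} (hb : IsPBlock M b)
    {χ : IrrCharacter G} (hχ : χ ∈ b) :
    regPart p (χ : G → ℂ) ∈ Submodule.span ℂ (bsetB p M b) := by
  let F : G → G → ℂ := fun t => ∑ l ∈ range (orderOf t), zeta (orderOf t) ^ l •
    bchar (G := G) p M (leftIdeal (redA (blockEps hb t l)))
  let θ : G → G → ℂ := fun t z => ∑ h : G, if h⁻¹ * z * h = t then 1 else 0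
  let R : Finset G := univ.filter fun t => ¬ p ∣ orderOf t
  have hF : ∀ t ∈ R, F t ∈ Submodule.span ℂ (bsetB p M b) := fun t ht =>
    Submodule.sum_mem _ fun l _ => Submodule.smul_mem _ _ (by
      haveI : FiniteDimensional 𝕜 (leftIdeal (redA (blockEps hb t l))) := by
        haveI : Module.Finite 𝕜 𝔸 := Module.Finite.of_basis (MonoidAlgebra.basis G 𝕜)
        exact inferInstanceAs (FiniteDimensional 𝕜
          ((leftIdeal (redA (blockEps hb t l))).restrictScalars 𝕜))
      refine bchar_mem_span hM _ _ rfl fun x => Subtype.ext ?_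
      obtain ⟨a, ha⟩ := Submodule.mem_span_singleton.1 x.2
      show idem M b * (x : 𝔸) = x
      rw [← ha, smul_eq_mul, blockEps, map_mul, redA_liftIdem, ← mul_assoc, idem_comm b a,
        mul_assoc a, ← mul_assoc (idem M b), idem_idem hb])
  have hFv : ∀ t ∈ R, ∀ s, ¬ p ∣ orderOf s → F t s = blockPart b (θ t⁻¹) s := by
    intro t ht s hs
    have ht' : ¬ p ∣ orderOf t := (mem_filter.1 ht).2
    have hθ : IsClassFunction G (θ t⁻¹) := fun z w => by
      refine Fintype.sum_equiv (Equiv.mulLeft w⁻¹) _ _ fun h => ?_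
      simp [mul_assoc]
    rw [blockPart_eq_conv b hθ]
    simp only [F, θ, Finset.sum_apply, Pi.smul_apply, smul_eq_mul,
      bchar_leftIdeal hM (blockEps_idem hM hb ht' _) hs, mul_sum]
    conv_rhs => rw [sum_comm]
    rw [sum_comm]
    refine sum_congr rfl fun h _ => ?_
    have hw := congrArg (fun z : LA M G =>
      (((liftIdem hb * z).coeff (h⁻¹ * s⁻¹ * h) : localRing M) : ℂ)) (sum_zeta_eps hM ht')
    simp only [mul_sum, mul_smul_comm, MonoidAlgebra.coeff_sum, Finsupp.finsetSum_apply,
      MonoidAlgebra.coeff_smul, Finsupp.smul_apply, smul_eq_mul] at hw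
    push_cast at hw
    simp only [coe_lc (memLocalRing_zeta_pow (orderOf_pos t) _)] at hw
    simp only [blockEps]
    rw [hw, coeff_mul']
    push_cast
    rw [sum_eq_single (h⁻¹ * s⁻¹ * h * t⁻¹), coeff_liftIdem]
    · rw [sum_eq_single (h * t⁻¹ * h⁻¹ * s⁻¹) (fun k _ hk => by
        rw [if_neg, mul_zero]
        intro e
        exact hk (by rw [← e]; group)) (by simp)]
      rw [if_pos (by group), mul_one, show (h⁻¹ * s⁻¹ * h * t⁻¹)⁻¹ * (h⁻¹ * s⁻¹ * h) = t by group]
      simp only [MonoidAlgebra.coeff_single, Finsupp.single_eq_same]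
      push_cast
      rw [mul_one, show h * t⁻¹ * h⁻¹ * s⁻¹ = (h * t⁻¹) * (h⁻¹ * s⁻¹ * h * t⁻¹) * (h * t⁻¹)⁻¹ by group,
        isClassFunction_blockCoeff b]
    · intro z _ hz
      rw [MonoidAlgebra.coeff_single, Finsupp.single_apply, if_neg]
      · simp
      · intro e
        exact hz (by rw [e]; group)
    · simp
  let c : G → ℂ := fun t => (Nat.card G : ℂ)⁻¹ * (χ : G → ℂ) t⁻¹
  have heq : regPart p (χ : G → ℂ) = ∑ t ∈ R, c t • F t := by
    funext s
    simp only [Finset.sum_apply, Pi.smul_apply, smul_eq_mul]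
    by_cases hs : p ∣ orderOf s
    · rw [regPart_of_dvd hs, sum_eq_zero fun t _ => ?_]
      simp [F, bchar, hs]
    · rw [regPart_of_not_dvd hs, sum_congr rfl fun t ht => by rw [hFv t ht s hs],
        ← blockPart_sum_mul, show (χ : G → ℂ) s = blockPart b (χ : G → ℂ) s by
          rw [blockPart_irr, if_pos hχ]]
      refine blockPart_congr_regular hM hb (fun z hz => ?_) hs
      simp only [c, θ, mul_sum, mul_ite, mul_one, mul_zero]
      rw [sum_comm, sum_congr rfl fun h _ => sum_eq_single (h⁻¹ * z * h)⁻¹ (fun t _ ht => if_neg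
        fun e => ht (by rw [e, inv_inv])) fun hn => absurd (mem_filter.2 ⟨mem_univ _, ?_⟩) hn]
      · simp only [inv_inv, if_true, fun h : G => show (χ : G → ℂ) (h⁻¹ * z * h) = (χ : G → ℂ) z by
          simpa using isClassFunction_irr χ z h⁻¹]
        rw [sum_const, card_univ, nsmul_eq_mul, ← mul_assoc, ← Nat.card_eq_fintype_card,
          mul_inv_cancel₀ (Nat.cast_ne_zero.2 Nat.card_pos.ne'), one_mul]
      · rw [orderOf_inv]
        rwa [show orderOf (h⁻¹ * z * h) = orderOf z from by
          simpa using orderOf_injective (MulAut.conj h⁻¹).toMonoidHom (MulAut.conj h⁻¹).injective z]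
  rw [heq]
  exact Submodule.sum_mem _ fun t ht => Submodule.smul_mem _ _ (hF t ht)

theorem eq_zero_of_mem_span_disjoint (hM : IsPModular p M) {s t : Set (G → ℂ)}
    (hs : s ⊆ bset p M G) (ht : t ⊆ bset p M G) (hd : Disjoint s t) {f : G → ℂ}
    (hfs : f ∈ Submodule.span ℂ s) (hft : f ∈ Submodule.span ℂ t) : f = 0 :=
  Submodule.disjoint_def.1 ((linearIndepOn_id_union_iff hd).1
    ((linearIndepOn_bset hM).mono (Set.union_subset hs ht))).2.2 f hfs hft

/-- An element of the basis in the span of some of them is one of them. -/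
theorem mem_of_mem_span (hM : IsPModular p M) {s : Set (G → ℂ)} (hs : s ⊆ bset p M G) {f : G → ℂ}
    (hf : f ∈ bset p M G) (hfs : f ∈ Submodule.span ℂ s) : f ∈ s := by
  by_contra hn
  exact (linearIndepOn_bset hM).ne_zero hf (eq_zero_of_mem_span_disjoint hM hs
    (Set.singleton_subset_iff.2 hf) (Set.disjoint_singleton_right.2 hn) hfs
    (Submodule.mem_span_singleton_self f))

/-- The Brauer characters of the simple modules of a block lie in the span of the regular parts. -/
theorem span_bsetB (hM : IsPModular p M) {b : Set (IrrCharacter G)} (hb : IsPBlock M b) :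
    Submodule.span ℂ (bsetB p M b) =
      Submodule.span ℂ ((fun φ : IrrCharacter G => regPart p (φ : G → ℂ)) '' b) := by
  letI := irrFintype (G := G)
  refine le_antisymm (Submodule.span_le.2 fun f hf => ?_) (Submodule.span_le.2 ?_)
  · let W : Set (IrrCharacter G) → Submodule ℂ (G → ℂ) := fun b' =>
      Submodule.span ℂ ((fun φ : IrrCharacter G => regPart p (φ : G → ℂ)) '' b')
    let T : Set (G → ℂ) := ⋃ b' ∈ {b' | IsPBlock M b' ∧ b' ≠ b}, bsetB p M b'
    obtain ⟨m, hm, hfix, rfl⟩ := hf
    set f := bchar (G := G) p M (𝔸 ⧸ m)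
    have hcl : IsClassFunction G f := isClassFunction_bchar
    let g : G → ℂ := ∑ χ ∈ univ.filter (· ∈ b), classInner f (χ : G → ℂ) • regPart p (χ : G → ℂ)
    have hg : g ∈ W b := Submodule.sum_mem _ fun χ hχ =>
      Submodule.smul_mem _ _ (Submodule.subset_span ⟨χ, (mem_filter.1 hχ).2, rfl⟩)
    have hfg : f - g ∈ Submodule.span ℂ T := by
      have e : f - g = ∑ χ ∈ univ.filter (fun χ : IrrCharacter G => χ ∉ b),
          classInner f (χ : G → ℂ) • regPart p (χ : G → ℂ) := by
        rw [sub_eq_iff_eq_add', show g = ∑ χ ∈ univ.filter (· ∈ b),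
          classInner f (χ : G → ℂ) • regPart p (χ : G → ℂ) from rfl,
          sum_filter_add_sum_filter_not]
        funext s
        simp only [Finset.sum_apply, Pi.smul_apply, smul_eq_mul]
        by_cases hs : p ∣ orderOf s
        · rw [sum_eq_zero fun χ _ => by rw [regPart_of_dvd hs, mul_zero]]
          simp [f, bchar, hs]
        · rw [classFun_expand hcl s]
          exact sum_congr rfl fun χ _ => by rw [regPart_of_not_dvd hs]
      rw [e]
      refine Submodule.sum_mem _ fun χ hχ => Submodule.smul_mem _ _ ?_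
      refine Submodule.span_mono ?_
        (regPart_mem_span hM (isPBlock_blockOf χ) (mem_blockOf_self χ))
      exact Set.subset_biUnion_of_mem (u := fun b' => bsetB p M b') (show blockOf M (χ : G → ℂ) ∈
        {b' | IsPBlock M b' ∧ b' ≠ b} from ⟨isPBlock_blockOf χ, fun e => (mem_filter.1 hχ).2
          (e ▸ mem_blockOf_self χ)⟩)
    have hd : Disjoint (bsetB p M b) T := by
      rw [Set.disjoint_left]
      rintro x ⟨m, hm, hfix, rfl⟩ hxT
      simp only [T, Set.mem_iUnion] at hxT
      obtain ⟨b', ⟨hb', hne⟩, m', hm', hfix', he⟩ := hxT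
      haveI := finiteDimensional_quot (M := M) m
      haveI := finiteDimensional_quot (M := M) m'
      haveI : IsSimpleModule 𝔸 (𝔸 ⧸ m) := isSimpleModule_iff_isCoatom.2 hm
      haveI : IsSimpleModule 𝔸 (𝔸 ⧸ m') := isSimpleModule_iff_isCoatom.2 hm'
      obtain ⟨T'⟩ := nonempty_equiv_of_bchar_eq hM hm hm' he.symm
      haveI := IsSimpleModule.nontrivial 𝔸 (𝔸 ⧸ m)
      obtain ⟨v, hv⟩ := exists_ne (0 : 𝔸 ⧸ m)
      have h0 := (isBlk_idem hM hb).mul_eq_zero_of_ne
        (alg_comm (k := 𝕜) (le_refl (⊤ : Subgroup G))) (isBlk_idem hM hb')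
        fun e => hne (idem_injective hb hb' e).symm
      refine hv (T'.injective ?_)
      rw [map_zero]
      have h1 : idem M b' • T' v = T' v := hfix' _
      have h2 : idem M b • T' v = T' v := by rw [← T'.map_smul, hfix]
      rw [← h2, ← h1, ← mul_smul, h0, zero_smul]
    have hWle : W b ≤ Submodule.span ℂ (bsetB p M b) := Submodule.span_le.2 (by
      rintro _ ⟨φ, hφ, rfl⟩
      exact regPart_mem_span hM hb hφ)
    have h0 : f - g = 0 := eq_zero_of_mem_span_disjoint hM (bsetB_subset b)
      (Set.iUnion₂_subset fun b' _ => bsetB_subset b') hd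
      (Submodule.sub_mem _ (Submodule.subset_span ⟨m, hm, hfix, rfl⟩) (hWle hg)) hfg
    rw [sub_eq_zero.1 h0]
    exact hg
  · rintro _ ⟨φ, hφ, rfl⟩
    exact regPart_mem_span hM hb hφ

/-- Isomorphisms of groups carry the Brauer characters of simple modules to each other. -/
theorem comp_mem_bset {H : Type u} [Group H] [Fintype H] (e : G ≃* H) {f : H → ℂ}
    (hf : f ∈ bset p M H) : (fun g => f (e g)) ∈ bset p M G := by
  obtain ⟨m', hm', rfl⟩ := hf
  let ε := algMap (M := M) e
  let m : Submodule 𝔸 𝔸 := Ideal.comap ε.toRingEquiv m'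
  have hm : IsCoatom m := (OrderIso.isCoatom_iff ε.toRingEquiv.idealComapOrderIso m').2 hm'
  refine ⟨m, hm, funext fun g => ?_⟩
  let q : (𝔸 ⧸ m) →ₗ[𝕜] (MonoidAlgebra 𝕜 H ⧸ m') :=
    ((m.restrictScalars 𝕜).liftQ ((m'.mkQ.restrictScalars 𝕜).comp ε.toLinearMap) fun a ha =>
      (Submodule.Quotient.mk_eq_zero m').2 ha).comp
      (Submodule.Quotient.restrictScalarsEquiv 𝕜 m).symm.toLinearMap
  have hq : ∀ a : 𝔸, q (Submodule.Quotient.mk a) = Submodule.Quotient.mk (ε a) := fun a => rfl
  have hbij : Function.Bijective q := by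
    refine ⟨(injective_iff_map_eq_zero q).2 fun x hx => ?_, fun y => ?_⟩
    · obtain ⟨a, rfl⟩ := Submodule.Quotient.mk_surjective m x
      rw [hq, Submodule.Quotient.mk_eq_zero] at hx
      exact (Submodule.Quotient.mk_eq_zero m).2 hx
    · obtain ⟨a, rfl⟩ := Submodule.Quotient.mk_surjective m' y
      exact ⟨Submodule.Quotient.mk (ε.symm a), by rw [hq, ε.apply_symm_apply]⟩
  refine bchar_map e (LinearEquiv.ofBijective q hbij) (fun a x => ?_) g
  obtain ⟨c, rfl⟩ := Submodule.Quotient.mk_surjective m x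
  show q (Submodule.Quotient.mk (a * c)) = ε a • q (Submodule.Quotient.mk c)
  rw [hq, hq, map_mul]
  rfl

end CfsgLib.BrauerBasis
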