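import Cfsg.Agent.BlocksB.Cyclic.Degree

/-!
# Brauer characters of modules over the residue group algebra

For a module over the residue group algebra and a `p`-regular element `s` the ranks of the
idempotents of the linear characters of `⟨s⟩` give the multiplicities of the lifted eigenvalues.
-/

set_option autoImplicit false
set_option linter.style.haveILetI false
set_option linter.unusedSectionVars false

namespace CfsgLib.BrauerBasis

open Cfsg Finset CfsgLib.Block CfsgLib.Block.Chr CfsgLib.BrauerPairs CfsgLib.BlockStar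
  CfsgLib.Cyclic Module
open scoped Classical

universe u

variable {M : Ideal AlgInt} [M.IsPrime] {p : ℕ} [Fact p.Prime] [CharP (Residue M) p]
  {G : Type u} [Group G] [Fintype G]

local notation "𝕜" => Residue M
local notation "𝔸" => MonoidAlgebra (Residue M) G

/-- A complex number as an element of the local ring. -/
noncomputable def lc (M : Ideal AlgInt) [M.IsPrime] (z : ℂ) : localRing M :=
  if h : MemLocalRing M z then ⟨z, h⟩ else 0

theorem coe_lc {z : ℂ} (h : MemLocalRing M z) : ((lc M z : localRing M) : ℂ) = z := by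
  rw [lc, dif_pos h]

/-- The standard root of unity. -/
noncomputable def zeta (n : ℕ) : ℂ := Complex.exp (2 * Real.pi * Complex.I / n)

theorem zeta_prim {n : ℕ} (hn : n ≠ 0) : IsPrimitiveRoot (zeta n) n :=
  Complex.isPrimitiveRoot_exp n hn

theorem memLocalRing_zeta_pow {n : ℕ} (hn : 0 < n) (j : ℕ) : MemLocalRing M (zeta n ^ j) :=
  memLocalRing_of_isIntegral (((zeta_prim hn.ne').isIntegral hn).pow j)

theorem memLocalRing_zeta_inv {n : ℕ} (hn : 0 < n) (j : ℕ) : MemLocalRing M ((zeta n ^ j)⁻¹) := by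
  have h1 : (zeta n)⁻¹ = zeta n ^ (n - 1) := by
    refine inv_eq_of_mul_eq_one_right ?_
    rw [← pow_succ', Nat.sub_add_cancel hn, (zeta_prim hn.ne').pow_eq_one]
  rw [← inv_pow, h1, ← pow_mul]
  exact memLocalRing_zeta_pow hn _

/-- The group element twisted by the inverse of a root of unity. -/
noncomputable def twist (M : Ideal AlgInt) [M.IsPrime] (s : G) (j : ℕ) : LA M G :=
  MonoidAlgebra.single s (lc M ((zeta (orderOf s) ^ j)⁻¹))

/-- The idempotent of a linear character of the cyclic group generated by an element. -/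
noncomputable def eps (M : Ideal AlgInt) [M.IsPrime] (s : G) (j : ℕ) : LA M G :=
  lc M ((orderOf s : ℂ)⁻¹) • ∑ i ∈ range (orderOf s), twist M s j ^ i

theorem twist_pow (s : G) (j i : ℕ) :
    twist M s j ^ i = MonoidAlgebra.single (s ^ i) (lc M ((zeta (orderOf s) ^ j)⁻¹) ^ i) :=
  MonoidAlgebra.single_pow _ _ _

theorem twist_pow_orderOf (s : G) (j : ℕ) : twist M s j ^ orderOf s = 1 := by
  rw [twist_pow, pow_orderOf_eq_one, MonoidAlgebra.one_def]
  congr 1
  refine Subtype.ext ?_
  push_cast
  rw [coe_lc (memLocalRing_zeta_inv (orderOf_pos s) j), inv_pow, ← pow_mul, mul_comm, pow_mul,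
    (zeta_prim (orderOf_pos s).ne').pow_eq_one, one_pow, inv_one]

theorem eps_idem (hM : IsPModular p M) {s : G} (hs : ¬ p ∣ orderOf s) (j : ℕ) :
    eps M s j * eps M s j = eps M s j := by
  set v := twist M s j
  set S := ∑ i ∈ range (orderOf s), v ^ i
  have h1 : v * S = S := by
    have h := mul_geom_sum v (orderOf s)
    rw [twist_pow_orderOf, sub_self, sub_mul, one_mul, sub_eq_zero] at h
    exact h
  have h2 : ∀ i : ℕ, v ^ i * S = S := fun i => by
    induction i with
    | zero => rw [pow_zero, one_mul]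
    | succ i ih => rw [pow_succ, mul_assoc, h1, ih]
  have h3 : S * S = (orderOf s : localRing M) • S := by
    rw [show S * S = ∑ i ∈ range (orderOf s), v ^ i * S from sum_mul _ _ _,
      sum_congr rfl fun i _ => h2 i, sum_const, card_range, Nat.cast_smul_eq_nsmul]
  show (lc M _ • S) * (lc M _ • S) = lc M _ • S
  rw [smul_mul_smul_comm, h3, smul_smul]
  congr 1
  refine Subtype.ext ?_
  push_cast
  rw [coe_lc (memLocalRing_natCast_inv hM hs)]
  field_simp [(Nat.cast_ne_zero (R := ℂ)).2 (orderOf_pos s).ne']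

/-- The element is the weighted sum of the idempotents. -/
theorem sum_zeta_eps (hM : IsPModular p M) {s : G} (hs : ¬ p ∣ orderOf s) :
    ∑ j ∈ range (orderOf s), lc M (zeta (orderOf s) ^ j) • eps M s j =
      MonoidAlgebra.single s (1 : localRing M) := by
  have ho := orderOf_pos s
  set o := orderOf s with ho'
  have hζ := zeta_prim ho.ne'
  refine MonoidAlgebra.coeff_injective (Finsupp.ext fun g => Subtype.ext ?_)
  simp only [MonoidAlgebra.coeff_sum, Finsupp.finsetSum_apply, eps, MonoidAlgebra.coeff_smul,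
    Finsupp.smul_apply, smul_eq_mul, twist_pow]
  push_cast
  simp only [MonoidAlgebra.coeff_single, Finsupp.single_apply, apply_ite ((↑) : localRing M → ℂ), ← ho',
    coe_lc (memLocalRing_zeta_pow ho _), coe_lc (memLocalRing_natCast_inv hM hs)]
  push_cast
  simp only [coe_lc (memLocalRing_zeta_inv ho _)]
  simp only [mul_sum, mul_ite, mul_zero]
  rw [sum_comm]
  have key : ∀ i < o, ∑ j ∈ range o,
      (if s ^ i = g then zeta o ^ j * ((o : ℂ)⁻¹ * ((zeta o ^ j)⁻¹) ^ i) else 0) =
      if s ^ i = g ∧ i = 1 % o then 1 else 0 := by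
    intro i hi
    by_cases hg : s ^ i = g
    · simp only [hg, if_true, true_and]
      set w := zeta o * ((zeta o) ^ i)⁻¹ with hw
      have e : ∀ j, zeta o ^ j * ((o : ℂ)⁻¹ * ((zeta o ^ j)⁻¹) ^ i) = (o : ℂ)⁻¹ * w ^ j := fun j => by
        rw [hw, mul_pow, inv_pow, inv_pow, ← pow_mul, ← pow_mul, mul_comm j i]; ring
      rw [sum_congr rfl fun j _ => e j, ← mul_sum]
      by_cases h1 : i = 1 % o
      · have hw1 : w = 1 := by
          rw [hw, h1, ← pow_eq_pow_mod 1 hζ.pow_eq_one, pow_one, mul_inv_cancel₀ (hζ.ne_zero ho.ne')]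
        rw [if_pos h1, hw1]
        simp [ho.ne']
      · have hw1 : w ≠ 1 := fun h => h1 (by
          have h2 : zeta o ^ (1 % o) = zeta o ^ i := by
            rw [← pow_eq_pow_mod 1 hζ.pow_eq_one, pow_one]
            exact (mul_inv_eq_one₀ (pow_ne_zero _ (hζ.ne_zero ho.ne'))).1 h
          exact (hζ.pow_inj (Nat.mod_lt _ ho) hi h2).symm)
        rw [if_neg h1, geom_sum_eq hw1, show w ^ o = 1 by
          rw [hw, mul_pow, inv_pow, ← pow_mul, mul_comm i o, pow_mul, hζ.pow_eq_one, one_pow,
            inv_one, mul_one], sub_self, zero_div, mul_zero]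
    · simp [hg]
  rw [sum_congr rfl fun i hi => key i (mem_range.1 hi), sum_eq_single (1 % o)]
  · rw [ho', pow_mod_orderOf, pow_one]
    simp
  · intro i _ hi; simp [hi]
  · simp [Nat.mod_lt _ ho]

/-- The Brauer character value in the local ring. -/
noncomputable def bval (M : Ideal AlgInt) [M.IsPrime] (X : Type*) [AddCommGroup X]
    [Module (Residue M) X] [Module (MonoidAlgebra (Residue M) G) X]
    [IsScalarTower (Residue M) (MonoidAlgebra (Residue M) G) X] (s : G) : localRing M :=
  ∑ j ∈ range (orderOf s), lc M (zeta (orderOf s) ^ j) *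
    (finrank (Residue M) (LinearMap.range (act (Residue M) X (redA (eps M s j)))) : localRing M)

/-- The Brauer character, extended by zero. -/
noncomputable def bchar (p : ℕ) (M : Ideal AlgInt) [M.IsPrime] (X : Type*) [AddCommGroup X]
    [Module (Residue M) X] [Module (MonoidAlgebra (Residue M) G) X]
    [IsScalarTower (Residue M) (MonoidAlgebra (Residue M) G) X] (s : G) : ℂ :=
  if p ∣ orderOf s then 0 else (bval (G := G) M X s : ℂ)

section module

variable {X : Type*} [AddCommGroup X] [Module (Residue M) X]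
  [Module (MonoidAlgebra (Residue M) G) X] [IsScalarTower (Residue M) (MonoidAlgebra (Residue M) G) X]

/-- The reduction is the trace. -/
theorem res_bval (hM : IsPModular p M) [FiniteDimensional 𝕜 X] {s : G} (hs : ¬ p ∣ orderOf s) :
    res M (bval M X s) = LinearMap.trace 𝕜 X (act 𝕜 X (MonoidAlgebra.single s (1 : 𝕜))) := by
  have h1 := congrArg redA (sum_zeta_eps hM hs)
  rw [map_sum, show redA (MonoidAlgebra.single s (1 : localRing M)) =
    MonoidAlgebra.single s (1 : 𝕜) by
      refine coeff_ext fun g => ?_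
      simp [MonoidAlgebra.coeff_single, Finsupp.single_apply, apply_ite]] at h1
  simp only [redA_smul] at h1
  rw [← h1, map_sum, map_sum, bval, map_sum]
  refine sum_congr rfl fun j _ => ?_
  rw [map_smul, map_smul, map_mul, map_natCast, smul_eq_mul]
  congr 1
  have hid : act 𝕜 X (redA (eps M s j)) * act 𝕜 X (redA (eps M s j)) =
      act 𝕜 X (redA (eps M s j)) := by rw [← map_mul, ← map_mul, eps_idem hM hs]
  exact (LinearMap.IsProj.trace ((LinearMap.isProj_range_iff_isIdempotentElem _).2 hid)).symm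

theorem bval_add [FiniteDimensional 𝕜 X] (hM : IsPModular p M) (U : Submodule 𝔸 X) {s : G}
    (hs : ¬ p ∣ orderOf s) : bval M U s + bval M (X ⧸ U) s = bval M X s := by
  rw [bval, bval, bval, ← sum_add_distrib]
  refine sum_congr rfl fun j _ => ?_
  rw [← mul_add, ← Nat.cast_add, finrank_act_add U (by rw [← map_mul, eps_idem hM hs])]

theorem bchar_add [FiniteDimensional 𝕜 X] (hM : IsPModular p M) (U : Submodule 𝔸 X) :
    bchar p M U + bchar p M (X ⧸ U) = bchar (G := G) p M X := by
  funext s
  simp only [Pi.add_apply, bchar]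
  split_ifs with hs
  · simp
  · rw [← bval_add hM U hs]; push_cast; rfl

end module

/-- A semilinear equivalence carries the ranks. -/
theorem finrank_act_map {H : Type u} [Group H] {X Y : Type*}
    [AddCommGroup X] [Module 𝕜 X] [Module (MonoidAlgebra 𝕜 G) X]
    [IsScalarTower 𝕜 (MonoidAlgebra 𝕜 G) X] [AddCommGroup Y] [Module 𝕜 Y]
    [Module (MonoidAlgebra 𝕜 H) Y] [IsScalarTower 𝕜 (MonoidAlgebra 𝕜 H) Y]
    (T : X ≃ₗ[𝕜] Y) (a : MonoidAlgebra 𝕜 G) (b : MonoidAlgebra 𝕜 H)
    (h : ∀ x, T (a • x) = b • T x) :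
    finrank 𝕜 (LinearMap.range (act 𝕜 X a)) = finrank 𝕜 (LinearMap.range (act 𝕜 Y b)) := by
  have h2 : (LinearMap.range (act 𝕜 X a)).map T.toLinearMap = LinearMap.range (act 𝕜 Y b) := by
    ext z
    constructor
    · rintro ⟨_, ⟨x, rfl⟩, rfl⟩
      exact ⟨T x, (h x).symm⟩
    · rintro ⟨x, rfl⟩
      exact ⟨_, ⟨T.symm x, rfl⟩, (h _).trans (by rw [T.apply_symm_apply]; rfl)⟩
  rw [← h2]
  exact LinearEquiv.finrank_eq (Submodule.equivMapOfInjective _ T.injective _)

/-- The map of residue group algebras induced by an isomorphism of groups. -/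
noncomputable def algMap {H : Type u} [Group H] (e : G ≃* H) :
    MonoidAlgebra 𝕜 G ≃ₐ[𝕜] MonoidAlgebra 𝕜 H :=
  MonoidAlgebra.domCongr 𝕜 𝕜 e

theorem orderOf_equiv {H : Type u} [Group H] (e : G ≃* H) (s : G) : orderOf (e s) = orderOf s :=
  e.orderOf_eq s

theorem algMap_eps {H : Type u} [Group H] [Fintype H] (e : G ≃* H) (s : G) (j : ℕ) :
    algMap e (redA (eps M s j)) = redA (eps M (e s) j) := by
  have h1 : ∀ (g : G) (r : localRing M),
      algMap e (redA (MonoidAlgebra.single g r)) = redA (MonoidAlgebra.single (e g) r) := by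
    intro g r
    refine coeff_ext fun h => ?_
    by_cases hgh : e g = h
    · subst hgh
      simp [algMap]
    · simp [algMap, hgh, Finsupp.single_apply, e.eq_symm_apply]
  simp only [eps, twist_pow, orderOf_equiv, redA_smul, map_smul, map_sum, h1, map_pow]

/-- A semilinear equivalence carries the Brauer characters. -/
theorem bchar_map {H : Type u} [Group H] [Fintype H] {X Y : Type*}
    [AddCommGroup X] [Module 𝕜 X] [Module (MonoidAlgebra 𝕜 G) X]
    [IsScalarTower 𝕜 (MonoidAlgebra 𝕜 G) X] [AddCommGroup Y] [Module 𝕜 Y]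
    [Module (MonoidAlgebra 𝕜 H) Y] [IsScalarTower 𝕜 (MonoidAlgebra 𝕜 H) Y]
    (e : G ≃* H) (T : X ≃ₗ[𝕜] Y)
    (h : ∀ (a : MonoidAlgebra 𝕜 G) x, T (a • x) = algMap e a • T x) (s : G) :
    bchar p M X s = bchar p M Y (e s) := by
  simp only [bchar, orderOf_equiv]
  split_ifs
  · rfl
  · simp only [bval, orderOf_equiv]
    refine congrArg Subtype.val (sum_congr rfl fun j _ => ?_)
    rw [finrank_act_map T _ (redA (eps M (e s) j)) fun x => by rw [h, algMap_eps]]

theorem bchar_congr {X Y : Type*}
    [AddCommGroup X] [Module 𝕜 X] [Module 𝔸 X] [IsScalarTower 𝕜 𝔸 X]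
    [AddCommGroup Y] [Module 𝕜 Y] [Module 𝔸 Y] [IsScalarTower 𝕜 𝔸 Y]
    (T : X ≃ₗ[𝔸] Y) : bchar (G := G) p M X = bchar p M Y := by
  funext s
  refine (bchar_map (MulEquiv.refl G) (T.restrictScalars 𝕜) (fun a x => ?_) s).trans rfl
  show T (a • x) = algMap (MulEquiv.refl G) a • T x
  rw [T.map_smul, show algMap (MulEquiv.refl G) a = a from coeff_ext fun g => by simp [algMap]]

theorem isClassFunction_bchar {X : Type*} [AddCommGroup X] [Module 𝕜 X] [Module 𝔸 X]
    [IsScalarTower 𝕜 𝔸 X] : IsClassFunction G (bchar (G := G) p M X) := by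
  intro g t
  let T : X ≃ₗ[𝕜] X :=
    { act 𝕜 X (MonoidAlgebra.single t (1 : 𝕜)) with
      invFun := fun x => MonoidAlgebra.single t⁻¹ (1 : 𝕜) • x
      left_inv := fun x => by
        show MonoidAlgebra.single t⁻¹ (1 : 𝕜) • MonoidAlgebra.single t (1 : 𝕜) • x = x
        rw [← mul_smul, MonoidAlgebra.single_mul_single, inv_mul_cancel, mul_one,
          ← MonoidAlgebra.one_def, one_smul]
      right_inv := fun x => by
        show MonoidAlgebra.single t (1 : 𝕜) • MonoidAlgebra.single t⁻¹ (1 : 𝕜) • x = x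
        rw [← mul_smul, MonoidAlgebra.single_mul_single, mul_inv_cancel, mul_one,
          ← MonoidAlgebra.one_def, one_smul] }
  refine (bchar_map (MulAut.conj t) T (fun a x => ?_) g).symm
  show MonoidAlgebra.single t (1 : 𝕜) • a • x =
    algMap (MulAut.conj t) a • MonoidAlgebra.single t (1 : 𝕜) • x
  rw [← mul_smul, ← mul_smul]
  congr 1
  refine coeff_ext fun h => ?_
  rw [BrauerPairs.coeff_mul, BrauerPairs.coeff_mul]
  simp only [algMap, MonoidAlgebra.coeff_single, Finsupp.single_apply, ite_mul, one_mul, zero_mul, mul_ite,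
    mul_one, mul_zero]
  rw [Fintype.sum_ite_eq, sum_eq_single (h * t⁻¹)]
  · simp [MulAut.conj_symm_apply, mul_assoc]
  · intro z _ hz
    rw [if_neg]
    intro e
    exact hz (by rw [e]; group)
  · simp

set_option maxHeartbeats 1600000 in
/-- The trace of a product of left and right multiplication by idempotents. -/
theorem finrank_mulLeft_mulRight {a b : LA M G} (ha : a * a = a) (hb : b * b = b) :
    (finrank 𝕜 (LinearMap.range
      ((LinearMap.mulLeft 𝕜 (redA a)).comp (LinearMap.mulRight 𝕜 (redA b)))) : ℂ) =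
      ∑ h : G, ∑ u : G, (a.coeff u : ℂ) * (b.coeff (h⁻¹ * u⁻¹ * h) : ℂ) := by
  let L : LA M G →ₗ[localRing M] LA M G :=
    (LinearMap.mulLeft (localRing M) a).comp (LinearMap.mulRight (localRing M) b)
  let β := MonoidAlgebra.basis G (localRing M)
  let Q : Matrix G G (localRing M) := LinearMap.toMatrix β β L
  have hLL : L ∘ₗ L = L := LinearMap.ext fun x => by
    show a * (a * (x * b) * b) = a * (x * b)
    rw [← mul_assoc a (a * (x * b)) b, ← mul_assoc a a, ha, mul_assoc a (x * b) b, mul_assoc x b b, hb]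
  have hQ : Q * Q = Q := by rw [← LinearMap.toMatrix_comp, hLL]
  have hQg : ∀ g h, Q g h = (a * (MonoidAlgebra.single h 1 * b)).coeff g := fun g h => by
    simp [Q, β, L, LinearMap.toMatrix_apply]
    rfl
  have h := rank_res_eq hQ
  have hconj : (coordEquiv M G).toLinearMap.comp
      ((LinearMap.mulLeft 𝕜 (redA a)).comp (LinearMap.mulRight 𝕜 (redA b))) =
      (Q.map (res M)).mulVecLin.comp (coordEquiv M G).toLinearMap := by
    refine (MonoidAlgebra.basis G 𝕜).ext fun h => funext fun g => ?_
    simp only [LinearMap.comp_apply, LinearEquiv.coe_coe, LinearMap.mulLeft_apply,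
      LinearMap.mulRight_apply, coordEquiv_apply, Matrix.mulVecLin_apply, Matrix.mulVec, dotProduct,
      Matrix.map_apply, hQg, MonoidAlgebra.basis_apply, MonoidAlgebra.coeff_single, Finsupp.single_apply, mul_ite,
      mul_one, mul_zero, sum_ite_eq, mem_univ, if_true]
    rw [← coeff_redA, map_mul, map_mul]
    congr 2
    refine congrArg (fun z => redA a * (z * redA b)) (coeff_ext fun z => ?_)
    simp [MonoidAlgebra.coeff_single, Finsupp.single_apply, apply_ite]
  rw [← LinearMap.range_comp_of_range_eq_top (Q.map (res M)).mulVecLin (coordEquiv M G).range,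
    ← hconj, LinearMap.range_comp, LinearEquiv.finrank_map_eq] at h
  rw [h]
  refine sum_congr rfl fun x _ => ?_
  rw [hQg, coeff_mul']
  push_cast
  refine sum_congr rfl fun u _ => ?_
  congr 1
  rw [coeff_mul', sum_eq_single x]
  · simp [MonoidAlgebra.coeff_single, mul_assoc]
  · intro z _ hz; simp [MonoidAlgebra.coeff_single, Ne.symm hz]
  · simp

end CfsgLib.BrauerBasis
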