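import Cfsg.Agent.Blocks.BrauerBasis
import Cfsg.Agent.BlocksB.LocalSymm.Dims
import Cfsg.Agent.BlocksB.Star.Generalized
import Mathlib.RepresentationTheory.Maschke

/-!
# Values at idempotents; Brauer characters extended through the regular parts are generalised
-/

set_option autoImplicit false
set_option linter.style.haveILetI false
set_option linter.unusedSectionVars false

namespace CfsgLib.BrauerBasis

open Cfsg Finset CfsgLib.Block CfsgLib.Block.Chr CfsgLib.BrauerPairs CfsgLib.BlockStar
  CfsgLib.Cyclic Module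
open scoped ComplexConjugate
open scoped Classical

universe u

variable {M : Ideal AlgInt} [M.IsPrime] {p : ℕ} [Fact p.Prime] [CharP (Residue M) p]
  {G : Type u} [Group G] [Fintype G]

local notation "𝕜" => Residue M
local notation "𝔸" => MonoidAlgebra (Residue M) G

/-- The value of a character at an element of the group algebra over the local ring. -/
noncomputable def cval (χ : G → ℂ) (b : LA M G) : ℂ := ∑ z : G, (b.coeff z : ℂ) * χ z

/-- The value at an idempotent is a natural number. -/
theorem exists_nat_cval (χ : IrrCharacter G) {b : LA M G} (hb : b * b = b) :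
    ∃ n : ℕ, cval (χ : G → ℂ) b = n := by
  obtain ⟨n, ρ, hρ⟩ := isCharacter_sval χ (K := ⊥) hb fun y hy => by
    rw [Subgroup.mem_bot.1 hy, ← MonoidAlgebra.one_def]
    exact Commute.one_left b
  refine ⟨n, ?_⟩
  have h := congrFun hρ 1
  rw [Representation.char_one, Module.finrank_fin_fun] at h
  rw [show (n : ℂ) = sval χ (((1 : (⊥ : Subgroup G))) : G) b from h]
  simp [cval, sval]

theorem sum_conj_coeff [Fintype (IrrCharacter G)] (c : LA M G) (u : G) :
    ∑ h : G, (c.coeff (h⁻¹ * u⁻¹ * h) : ℂ) =
      ∑ χ : IrrCharacter G, (χ : G → ℂ) u * cval (χ : G → ℂ) c := by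
  simp only [cval, mul_sum]
  rw [sum_comm, ← sum_fiberwise univ (fun h : G => h⁻¹ * u⁻¹ * h)]
  refine sum_congr rfl fun z _ => ?_
  have hcard : ((univ.filter fun h : G => h⁻¹ * u⁻¹ * h = z).card : ℂ) =
      ∑ χ : IrrCharacter G, (χ : G → ℂ) u * (χ : G → ℂ) z := by
    have h := congrArg conj
      ((CfsgLib.LocalSymm.card_conj_eq u⁻¹ z).trans (column_orth u⁻¹ z).symm)
    rw [Complex.conj_natCast, map_sum] at h
    rw [h]
    refine sum_congr rfl fun χ _ => ?_
    rw [map_mul, Complex.conj_conj, conj_irr χ u⁻¹, inv_inv]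
  rw [sum_congr rfl fun h hh => by rw [(mem_filter.1 hh).2], sum_const, nsmul_eq_mul, hcard, sum_mul]
  exact sum_congr rfl fun χ _ => by ring

/-- The rank of the product of two idempotents. -/
theorem finrank_pair [Fintype (IrrCharacter G)] {b c : LA M G} (hb : b * b = b) (hc : c * c = c) :
    (finrank 𝕜 (LinearMap.range (act 𝕜 (leftIdeal (redA c)) (redA b))) : ℂ) =
      ∑ χ : IrrCharacter G, cval (χ : G → ℂ) b * cval (χ : G → ℂ) c := by
  rw [range_act_leftIdeal, finrank_mulLeft_mulRight hb hc, sum_comm]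
  simp only [← mul_sum, sum_conj_coeff]
  simp only [mul_sum]
  rw [sum_comm]
  refine sum_congr rfl fun χ _ => ?_
  simp only [cval]
  rw [sum_mul]
  exact sum_congr rfl fun u _ => by ring

/-- The Brauer character of a projective module. -/
theorem bchar_leftIdeal_eq_sum [Fintype (IrrCharacter G)] (hM : IsPModular p M) {c : LA M G}
    (hc : c * c = c) {s : G} (hs : ¬ p ∣ orderOf s) :
    bchar p M (leftIdeal (redA c)) s = ∑ χ : IrrCharacter G, (χ : G → ℂ) s * cval (χ : G → ℂ) c := by
  rw [bchar_leftIdeal hM hc hs, sum_conj_coeff]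

/-- Values at an idempotent are orthogonal to the values at singular elements. -/
theorem sum_cval_singular [Fintype (IrrCharacter G)] (hM : IsPModular p M)
    {B : Set (IrrCharacter G)} (hB : IsPBlock M B) {b : LA M G} (hb : b * b = b) {h : G}
    (hh : p ∣ orderOf h) :
    ∑ χ ∈ univ.filter (· ∈ B), cval (χ : G → ℂ) b * (χ : G → ℂ) h = 0 := by
  obtain ⟨u, t, hut, hc, ⟨k, hk⟩, ⟨r, hr, htr⟩, hne, -, -, -, -⟩ := exists_pPart hM.1 h
  have hu : u ≠ 1 := hne hh
  have hF : PermTrace.block (biPerm (1 : G) u⁻¹) (0 : Matrix G G (localRing M)) = 0 := by simp [PermTrace.block]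
  have h1 := charSum_eq_trace hM (isIntClass_blockCoeff hB) (b := fun g => (b.coeff g : ℂ))
    (fun g => (b.coeff g).2) (funext fun g => by
      conv_rhs => rw [← hb, coeff_mul']
      push_cast
      rfl)
    (x := 1) (y := u⁻¹) (s := 1) (t := t) (fun g => by simp) (fun g => by simp)
    (Commute.one_left _) hc.inv_left (n := k) (one_pow _)
    (by rw [inv_pow, hk, inv_one]) (m := r) hr (one_pow _) htr hF
    (by rw [zero_pow (Nat.succ_ne_zero _)]) fun i z hi _ => absurd (by
      simpa using hi) hu
  rw [Matrix.trace_zero, ZeroMemClass.coe_zero] at h1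
  refine Eq.trans (sum_congr rfl fun χ _ => ?_) h1
  rw [inv_inv, hut]
  simp [cval]

/-- The restriction of a module along a homomorphism. -/
def ResMod {H : Type u} [Group H] (M : Ideal AlgInt) [M.IsPrime] (_φ : H →* G) (X : Type u) :
    Type u := X

namespace ResMod

variable {H : Type u} [Group H] (φ : H →* G) (X : Type u) [AddCommGroup X]
  [Module (Residue M) X] [Module (MonoidAlgebra (Residue M) G) X]
  [IsScalarTower (Residue M) (MonoidAlgebra (Residue M) G) X]

instance : AddCommGroup (ResMod M φ X) := inferInstanceAs (AddCommGroup X)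

noncomputable instance : Module (Residue M) (ResMod M φ X) := inferInstanceAs (Module (Residue M) X)

noncomputable instance : Module (MonoidAlgebra (Residue M) H) (ResMod M φ X) :=
  Module.compHom X (MonoidAlgebra.mapDomainAlgHom (Residue M) (Residue M) φ).toRingHom

theorem smul_def (a : MonoidAlgebra (Residue M) H) (v : X) :
    (a • (show ResMod M φ X from v) : ResMod M φ X) =
      (show X from MonoidAlgebra.mapDomainAlgHom (Residue M) (Residue M) φ a • v) := rfl

instance : IsScalarTower (Residue M) (MonoidAlgebra (Residue M) H) (ResMod M φ X) :=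
  ⟨fun c a v => by
    show MonoidAlgebra.mapDomainAlgHom (Residue M) (Residue M) φ (c • a) • (show X from v) =
      c • (MonoidAlgebra.mapDomainAlgHom (Residue M) (Residue M) φ a • (show X from v))
    rw [map_smul, smul_assoc]⟩

instance [FiniteDimensional (Residue M) X] : FiniteDimensional (Residue M) (ResMod M φ X) :=
  inferInstanceAs (FiniteDimensional (Residue M) X)

end ResMod

theorem bchar_res {H : Type u} [Group H] [Fintype H] (φ : H →* G) (hφ : Function.Injective φ)
    (X : Type u) [AddCommGroup X] [Module 𝕜 X] [Module 𝔸 X] [IsScalarTower 𝕜 𝔸 X] (s : H) :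
    bchar p M (ResMod M φ X) s = bchar p M X (φ s) := by
  have ho : ∀ s : H, orderOf (φ s) = orderOf s := fun s => orderOf_injective φ hφ s
  have h1 : ∀ (g : H) (r : localRing M),
      MonoidAlgebra.mapDomainAlgHom 𝕜 𝕜 φ (redA (MonoidAlgebra.single g r)) =
        redA (MonoidAlgebra.single (φ g) r) := by
    intro g r
    have e : ∀ {K : Type u} [Group K] [Fintype K] (z : K),
        redA (MonoidAlgebra.single z r) = MonoidAlgebra.single z (res M r) := fun z =>
      coeff_ext fun w => by
        by_cases hzw : z = w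
        · subst hzw; simp
        · simp [hzw]
    rw [e, e]
    exact coeff_ext fun w => by simp
  haveI : IsScalarTower 𝕜 (MonoidAlgebra 𝕜 H) (ResMod M φ X) :=
    ResMod.instIsScalarTowerResidueMonoidAlgebra φ X
  have h2 : ∀ j, MonoidAlgebra.mapDomainAlgHom 𝕜 𝕜 φ (redA (eps M s j)) =
      redA (eps M (φ s) j) := fun j => by
    simp only [eps, twist_pow, ho, redA_smul, map_smul, map_sum, h1, map_pow]
  simp only [bchar, bval, ho]
  split_ifs
  · rfl
  · refine congrArg Subtype.val (sum_congr rfl fun j _ => ?_)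
    let T : ResMod M φ X ≃ₗ[𝕜] X := LinearEquiv.refl 𝕜 X
    have hT : ∀ x : ResMod M φ X, T (redA (eps M s j) • x) = redA (eps M (φ s) j) • T x := fun x => by
      show MonoidAlgebra.mapDomainAlgHom 𝕜 𝕜 φ (redA (eps M s j)) • (show X from x) = _
      rw [h2]; rfl
    rw [finrank_act_map T _ _ hT]

/-- For a group of order prime to `p` Brauer characters are generalised characters. -/
theorem isGeneralized_bchar (hM : IsPModular p M) (hG : ¬ p ∣ Nat.card G) (X : Type u)
    [AddCommGroup X] [Module 𝕜 X] [Module 𝔸 X] [IsScalarTower 𝕜 𝔸 X] [FiniteDimensional 𝕜 X] :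
    IsGeneralizedCharacter G (bchar (G := G) p M X) := by
  letI := irrFintype (G := G)
  haveI : NeZero (Nat.card G : 𝕜) := ⟨fun h => hG ((CharP.cast_eq_zero_iff 𝕜 p _).1 h)⟩
  let A : AddSubmonoid (G → ℂ) :=
    { carrier := {f | IsGeneralizedCharacter G f}
      add_mem' := fun h h' => CfsgLib.Char.IsGeneralized.add h h'
      zero_mem' := CfsgLib.Char.isGeneralized_zero }
  refine bchar_mem_of_simple hM A 1 (fun m _ _ => ?_) _ X rfl fun x => one_smul _ x
  obtain ⟨U, hU⟩ := exists_isCompl m
  obtain ⟨c, hc, hUc⟩ : ∃ c : 𝔸, c * c = c ∧ U = leftIdeal c := by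
    let π := Submodule.projectionOnto U m hU.symm
    refine ⟨(π 1 : U), ?_, le_antisymm (fun y hy => ?_) ?_⟩
    · have h : π ((π 1 : U) : 𝔸) = π 1 := Submodule.projectionOnto_apply_left hU.symm (π 1)
      calc ((π 1 : U) : 𝔸) * (π 1 : U) = (((π 1 : U) : 𝔸) • π 1 : U) := rfl
        _ = π (((π 1 : U) : 𝔸) • (1 : 𝔸)) := by rw [π.map_smul]
        _ = (π 1 : U) := by rw [smul_eq_mul, mul_one, h]
    · refine Submodule.mem_span_singleton.2 ⟨y, ?_⟩
      have h : π y = ⟨y, hy⟩ := Submodule.projectionOnto_apply_left hU.symm ⟨y, hy⟩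
      calc y • ((π 1 : U) : 𝔸) = ((y • π 1 : U) : 𝔸) := rfl
        _ = (π (y • (1 : 𝔸)) : U) := by rw [π.map_smul]
        _ = y := by rw [smul_eq_mul, mul_one, h]
    · exact (Submodule.span_singleton_le_iff_mem _ _).2 (π 1).2
  subst hUc
  obtain ⟨b, hb, hbred, -⟩ := exists_lift (M := M) (⊥ : Subgroup G) hc
    (CfsgLib.LocalSymm.fixBy_bot c)
  show IsGeneralizedCharacter G (bchar p M (𝔸 ⧸ m))
  rw [bchar_congr (Submodule.quotientEquivOfIsCompl m (leftIdeal c) hU), ← hbred]
  have e : bchar p M (leftIdeal (redA b)) =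
      ∑ χ : IrrCharacter G, cval (χ : G → ℂ) b • (χ : G → ℂ) := by
    funext s
    rw [bchar_leftIdeal_eq_sum hM hb fun h => hG (h.trans (orderOf_dvd_natCard s))]
    simp only [Finset.sum_apply, Pi.smul_apply, smul_eq_mul, mul_comm]
  rw [e]
  refine CfsgLib.Char.isGeneralized_sum _ fun χ _ => ?_
  obtain ⟨n, hn⟩ := exists_nat_cval χ hb
  rw [hn, show ((n : ℕ) : ℂ) = (((n : ℤ)) : ℂ) by push_cast; rfl]
  exact CfsgLib.Char.IsGeneralized.intCast_smul (CfsgLib.Char.IsIrrCharacter.isGeneralized χ.2) _

/-- **Brauer characters extended through the regular parts are generalised characters.** -/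
theorem isGeneralized_bchar_regP (hM : IsPModular p M) (X : Type u)
    [AddCommGroup X] [Module 𝕜 X] [Module 𝔸 X] [IsScalarTower 𝕜 𝔸 X] [FiniteDimensional 𝕜 X] :
    IsGeneralizedCharacter G fun g => bchar p M X (regP p g) := by
  refine CfsgLib.Char.isGeneralized_of_restrict_elementary
    (fun g t => by rw [regP_conj]; exact isClassFunction_bchar _ t) fun E q hq hE => ?_
  obtain ⟨Q, S, hQE, hSE, hQ, hS, hcomm, hdec⟩ := exists_split (p := p) E hq hE
  haveI : Fintype S := Fintype.ofFinite S
  have hval : ∀ {u s : G}, u ∈ Q → s ∈ S → regP p (u * s) = s := fun {u s} hu hs => by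
    obtain ⟨n, hn⟩ := hQ ⟨u, hu⟩
    exact regP_mul ⟨⟨n, by simpa using congrArg Subtype.val hn⟩, hS s hs, hcomm u hu s hs⟩
  have hmem : ∀ e : E, regP p (e : G) ∈ S := fun e => by
    obtain ⟨u, hu, s, hs, he⟩ := hdec e e.2
    rw [← he, hval hu hs]; exact hs
  let π : E →* S := MonoidHom.mk' (fun e => ⟨regP p (e : G), hmem e⟩) fun e e' => Subtype.ext (by
    obtain ⟨u, hu, s, hs, he⟩ := hdec e e.2
    obtain ⟨u', hu', s', hs', he'⟩ := hdec e' e'.2
    show regP p ((e : G) * e') = regP p (e : G) * regP p (e' : G)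
    rw [← he, ← he', hval hu hs, hval hu' hs', show u * s * (u' * s') = u * u' * (s * s') by
      rw [mul_assoc u, ← mul_assoc s, ← (hcomm u' hu' s hs).eq, mul_assoc u', ← mul_assoc u],
      hval (mul_mem hu hu') (mul_mem hs hs')])
  have hScard : ¬ p ∣ Nat.card S := fun h => by
    obtain ⟨s, hs⟩ := exists_prime_orderOf_dvd_card' p h
    exact hS _ s.2 (by rw [Subgroup.orderOf_coe, hs])
  have h := CfsgLib.Char.IsGeneralized.comp
    (isGeneralized_bchar hM hScard (ResMod M S.subtype X)) π
  convert h using 2 with e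
  exact (bchar_res S.subtype S.subtype_injective X (π e)).symm

end CfsgLib.BrauerBasis
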