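import Cfsg.Agent.Blocks.Correspond
import Cfsg.Agent.Blocks.ThirdMain
import Cfsg.Agent.Blocks.NormalSub

/-!
# Excluding elements from the defect groups of nonprincipal blocks
-/

namespace CfsgLib.Block

open Cfsg CfsgLib.Block.Chr

set_option linter.unusedSectionVars false
set_option linter.style.haveILetI false

universe u

variable {G : Type u} [Group G] [Fintype G] {M : Ideal AlgInt} [M.IsPrime] {p : ℕ}

/-- A normal `p`-subgroup with a `p`-group as centralizer: a single block. -/
theorem sameBlock_of_normal_centralizer (hM : IsPModular p M) (Q : Subgroup G) [Q.Normal]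
    (hQ : IsPGroup p Q) (hC : IsPGroup p (Subgroup.centralizer (Q : Set G)))
    (χ ψ : IrrCharacter G) : SameBlock M (χ : G → ℂ) (ψ : G → ℂ) := by
  haveI : Fact p.Prime := ⟨hM.1⟩
  haveI : (Subgroup.centralizer (Q : Set G)).Normal := Subgroup.normal_centralizer ..
  refine sameBlock_of_constrained hM (Q ⊔ Subgroup.centralizer (Q : Set G))
    (hQ.to_sup_of_normal_right hC) ?_ χ ψ
  exact (Subgroup.centralizer_le (s := (Q : Set G))
    (SetLike.coe_subset_coe.2 (le_sup_left : Q ≤ Q ⊔ Subgroup.centralizer (Q : Set G)))).trans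
      le_sup_right

/-- The defect group of a nonprincipal block contains no element whose centralizer has only one
block. -/
theorem eq_principal_of_mem_defectGroup (hM : IsPModular p M) {z : G}
    (hone : ∀ χ ψ : IrrCharacter (Subgroup.centralizer ({z} : Set G)),
      SameBlock M (χ : Subgroup.centralizer ({z} : Set G) → ℂ)
        (ψ : Subgroup.centralizer ({z} : Set G) → ℂ))
    {B : Set (IrrCharacter G)} (hB : IsPBlock M B) {D : Subgroup G}
    (hD : IsDefectGroup p M B D) (hzD : z ∈ D) : B = principalBlock M G := by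
  classical
  haveI : Fact p.Prime := ⟨hM.1⟩
  letI : Fintype (Subgroup.centralizer ({z} : Set G)) := Fintype.ofFinite _
  obtain ⟨b, hb⟩ := exists_inducing hM (P := Subgroup.zpowers z)
    (H := Subgroup.centralizer ({z} : Set G))
    ((isPGroup_defectGroup hD).to_le (Subgroup.zpowers_le.2 hzD))
    (Subgroup.zpowers_le.2 (Subgroup.mem_centralizer_singleton_iff.2 rfl))
    (fun c hc => Subgroup.mem_centralizer_singleton_iff.2
      (Subgroup.mem_centralizer_iff.1 hc z (Subgroup.mem_zpowers z)).symm)
    (le_trans (fun c hc => by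
      rw [Subgroup.mem_centralizer_iff]
      rintro _ ⟨n, rfl⟩
      exact ((show Commute c z from Subgroup.mem_centralizer_singleton_iff.1 hc).symm.zpow_left n).eq)
      (Subgroup.centralizer_le_normalizer _))
    hB hD (x := 1) (by simpa using hzD)
  obtain ⟨ξ, hξ⟩ := exists_mem_block hb.1
  have hbp : b = principalBlock M _ := block_eq_of_common hb.1 isPBlock_principalBlock hξ
    (sameBlock_symm (hone ξ (oneIrr _)))
  exact induced_unique hb ((third_main hM ⟨B, hb⟩).2 hbp)

/-- A normal `p`-subgroup of the centralizer of an element of a defect group lies in defect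
groups. -/
theorem exists_defectGroup_of_normal (hM : IsPModular p M) {z : G} (K : Subgroup G)
    (hKC : K ≤ Subgroup.centralizer ({z} : Set G))
    [(K.subgroupOf (Subgroup.centralizer ({z} : Set G))).Normal] (hK : IsPGroup p K)
    {B : Set (IrrCharacter G)} (hB : IsPBlock M B) {D : Subgroup G}
    (hD : IsDefectGroup p M B D) (hzD : z ∈ D) :
    ∃ E, IsDefectGroup p M B E ∧ K ≤ E := by
  classical
  haveI : Fact p.Prime := ⟨hM.1⟩
  letI : Fintype (Subgroup.centralizer ({z} : Set G)) := Fintype.ofFinite _
  obtain ⟨b, hb⟩ := exists_inducing hM (P := Subgroup.zpowers z)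
    (H := Subgroup.centralizer ({z} : Set G))
    ((isPGroup_defectGroup hD).to_le (Subgroup.zpowers_le.2 hzD))
    (Subgroup.zpowers_le.2 (Subgroup.mem_centralizer_singleton_iff.2 rfl))
    (fun c hc => Subgroup.mem_centralizer_singleton_iff.2
      (Subgroup.mem_centralizer_iff.1 hc z (Subgroup.mem_zpowers z)).symm)
    (le_trans (fun c hc => by
      rw [Subgroup.mem_centralizer_iff]
      rintro _ ⟨n, rfl⟩
      exact ((show Commute c z from Subgroup.mem_centralizer_singleton_iff.1 hc).symm.zpow_left n).eq)
      (Subgroup.centralizer_le_normalizer _))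
    hB hD (x := 1) (by simpa using hzD)
  obtain ⟨Db, hDb⟩ := exists_defectGroup hb.1 hM
  obtain ⟨E, hE, hle⟩ := defectGroup_le_induced hM hb hDb
  refine ⟨E, hE, fun k hk => hle ⟨⟨k, hKC hk⟩, ?_, rfl⟩⟩
  exact normal_le_defectGroup hM hb.1 hDb (K.subgroupOf _)
    (hK.of_equiv (Subgroup.subgroupOfEquivOfLe hKC).symm) hk

/-- With a trivial defect group the degrees carry the full power of the prime. -/
theorem pow_dvd_degree_of_bot (hM : IsPModular p M) {B : Set (IrrCharacter G)}
    (hB : IsPBlock M B) (hD : IsDefectGroup p M B (⊥ : Subgroup G)) {χ : IrrCharacter G}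
    (hχ : χ ∈ B) : p ^ (Nat.card G).factorization p ∣ charDegree (χ : G → ℂ) := by
  have h0 : blockDefect p B = 0 := by
    have := card_defectGroup hM hB hD
    rw [Subgroup.card_bot] at this
    by_contra hne
    exact (Nat.one_lt_pow hne hM.1.one_lt).ne this
  rw [hM.1.pow_dvd_iff_le_factorization (irr_one χ).2.ne']
  exact (Nat.sub_eq_zero_iff_le.1 h0).trans (Nat.sInf_le ⟨χ, hχ, rfl⟩)

end CfsgLib.Block
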