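import Cfsg.Agent.Blocks.Section
import Cfsg.Agent.Blocks.BrauerFeit
import Cfsg.Agent.Blocks.FirstMain
import Cfsg.Agent.Blocks.BlockSize
import Cfsg.Agent.BlocksB.RankOne

/-!
# Blocks of defect one for the prime two
-/

namespace CfsgLib.Block

open Cfsg Finset CfsgLib.Block.Chr CfsgLib.Char
open scoped ComplexConjugate

set_option linter.unusedSectionVars false
set_option linter.style.haveILetI false

universe u

variable {G : Type u} [Group G] [Fintype G] {M : Ideal AlgInt} [M.IsPrime] {p : ℕ}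

/-- The inducing block with the same defect group is unique. -/
theorem unique_inducing (hM : IsPModular p M) {P H : Subgroup G} [Fintype H]
    (hH : H = Subgroup.normalizer (P : Set G)) {B : Set (IrrCharacter G)}
    (hP : IsDefectGroup p M B P) {b b' : Set (IrrCharacter H)} (hb : IsInducedBlock M H b B)
    (hb' : IsInducedBlock M H b' B) : b = b' := by
  subst hH
  obtain ⟨c, -, hc⟩ := first_main_existsUnique hM hb.2.1 hP
  rw [hc b ⟨hb.1, isDefectGroup_of_induced hM Subgroup.le_normalizer le_rfl hP hb, hb⟩,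
    hc b' ⟨hb'.1, isDefectGroup_of_induced hM Subgroup.le_normalizer le_rfl hP hb', hb'⟩]

/-- A class function agrees with the part of a single block where all the other parts vanish. -/
theorem apply_eq_blockPart [Fintype (IrrCharacter G)] {θ : G → ℂ} (hθ : IsClassFunction G θ)
    {b : Set (IrrCharacter G)} (hb : IsPBlock M b) {c : G}
    (h : ∀ b' : Set (IrrCharacter G), IsPBlock M b' → b' ≠ b → blockPart b' θ c = 0) :
    θ c = blockPart b θ c := by
  classical
  have hsplit : θ c = ∑ b' ∈ ((univ : Finset (IrrCharacter G)).image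
      (fun φ : IrrCharacter G => blockOf M φ.1) : Finset (Set (IrrCharacter G))),
      blockPart b' θ c := by
    rw [classFun_expand hθ c]
    have h' : ∀ b' ∈ ((univ : Finset (IrrCharacter G)).image
        (fun φ : IrrCharacter G => blockOf M φ.1) : Finset (Set (IrrCharacter G))),
        blockPart b' θ c = ∑ φ ∈ univ.filter (fun φ : IrrCharacter G => blockOf M φ.1 = b'),
          classInner θ φ.1 * φ.1 c := by
      intro b' hb'
      obtain ⟨φ₀, -, rfl⟩ := mem_image.1 hb'
      rw [blockPart_eq_sum_inner]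
      refine sum_congr (filter_congr fun φ _ => ?_) fun _ _ => rfl
      exact ⟨fun h => (eq_blockOf_of_mem (isPBlock_blockOf φ₀) h).symm,
        fun h => h ▸ mem_blockOf_self φ⟩
    rw [sum_congr rfl h']
    exact (sum_fiberwise_of_maps_to (fun φ _ => mem_image_of_mem _ (mem_univ φ)) _).symm
  rw [hsplit, sum_eq_single b]
  · intro b' hb' hne
    obtain ⟨φ₀, -, rfl⟩ := mem_image.1 hb'
    exact h _ (isPBlock_blockOf φ₀) hne
  · intro hnot
    obtain ⟨φ, hφ⟩ := exists_mem_block hb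
    exact absurd (mem_image.2 ⟨φ, mem_univ _, (eq_blockOf_of_mem hb hφ).symm⟩) hnot

/-- **Blocks of defect one**, the prime two. -/
theorem defect_one_two (hM : IsPModular 2 M) {x : G} (hx : orderOf x = 2)
    {B : Set (IrrCharacter G)} (hB : IsPBlock M B)
    (hBD : IsDefectGroup 2 M B (Subgroup.zpowers x))
    {b : Set (IrrCharacter ↥(Subgroup.centralizer ({x} : Set G)))}
    (hb : IsInducedBlock M (Subgroup.centralizer ({x} : Set G)) b B)
    (θ : IrrCharacter ↥(Subgroup.centralizer ({x} : Set G))) (hθ : θ ∈ b) :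
    Nat.card B = 2 ∧
      (∀ χ ∈ B, ∀ ψ ∈ B, ∀ g : G, ¬ 2 ∣ orderOf g → (χ : G → ℂ) g = (ψ : G → ℂ) g) ∧
      ∃ χ₁ ∈ B, ∃ χ₂ ∈ B, χ₁ ≠ χ₂ ∧ ∃ ε₁ ε₂ : ℤ, (ε₁ = 1 ∨ ε₁ = -1) ∧ (ε₂ = 1 ∨ ε₂ = -1) ∧
        ε₁ * ε₂ = -1 ∧ ∀ y : ↥(Subgroup.centralizer ({x} : Set G)), ¬ 2 ∣ orderOf y →
          (χ₁ : G → ℂ) (x * y) = (ε₁ : ℂ) * θ.1 y ∧ (χ₂ : G → ℂ) (x * y) = (ε₂ : ℂ) * θ.1 y := by
  classical
  haveI : Fact (Nat.Prime 2) := ⟨Nat.prime_two⟩
  letI := irrFintype (G := G)
  haveI : Fintype (Subgroup.centralizer ({x} : Set G)) := Fintype.ofFinite _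
  letI := irrFintype (G := Subgroup.centralizer ({x} : Set G))
  have hx' : orderOf x = 2 ^ 1 := by rw [hx, pow_one]
  have hxx : x * x = 1 := by rw [← pow_two, ← hx, pow_orderOf_eq_one]
  have hxC : x ∈ Subgroup.centralizer ({x} : Set G) := Subgroup.mem_centralizer_singleton_iff.2 rfl
  have hmemP : ∀ w ∈ Subgroup.zpowers x, w = 1 ∨ w = x := by
    intro w hw
    obtain ⟨i, rfl⟩ := Subgroup.mem_zpowers_iff.1 hw
    rw [← zpow_mod_orderOf, hx]
    have : i % (2 : ℕ) = 0 ∨ i % (2 : ℕ) = 1 := by omega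
    rcases this with h | h <;> rw [h] <;> simp
  have hH : Subgroup.centralizer ({x} : Set G) =
      Subgroup.normalizer (Subgroup.zpowers x : Set G) := by
    refine le_antisymm (le_trans ?_ (Subgroup.centralizer_le_normalizer _)) fun w hw => ?_
    · intro w hw
      rw [Subgroup.mem_centralizer_iff]
      intro u hu
      rcases hmemP u hu with rfl | rfl
      · simp
      · exact (Subgroup.mem_centralizer_singleton_iff.1 hw).symm
    · have hmem : w * x * w⁻¹ ∈ Subgroup.zpowers x :=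
        (Subgroup.mem_normalizer_iff.1 hw x).1 (Subgroup.mem_zpowers x)
      rcases hmemP _ hmem with h | h
      · rw [conj_eq_one_iff] at h
        rw [h, orderOf_one] at hx
        omega
      · exact Subgroup.mem_centralizer_singleton_iff.2 (mul_inv_eq_iff_eq_mul.1 h)
  have hPH : Subgroup.zpowers x ≤ Subgroup.centralizer ({x} : Set G) := Subgroup.zpowers_le.2 hxC
  have hbD := isDefectGroup_of_induced hM hPH hH.le hBD hb
  have hcard : Nat.card ((Subgroup.zpowers x).subgroupOf (Subgroup.centralizer ({x} : Set G))) = 2 := by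
    rw [Nat.card_congr (Subgroup.subgroupOfEquivOfLe hPH).toEquiv, Nat.card_zpowers, hx]
  have hcen : (Subgroup.zpowers x).subgroupOf (Subgroup.centralizer ({x} : Set G)) ≤
      Subgroup.center _ := by
    intro w hw
    refine Subgroup.mem_center_iff.2 fun v => Subtype.ext ?_
    show (v : G) * w = (w : G) * v
    have hw' : (w : G) ∈ Subgroup.zpowers x := hw
    rcases hmemP _ hw' with h | h <;> rw [h]
    · simp
    · exact Subgroup.mem_centralizer_singleton_iff.1 v.2
  have hl : blockRank 2 b = 1 := CfsgLib.BlockB.rank_one_of_central hM hb.1 hbD hcen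
  obtain ⟨φ, d, -, hdφ, hsum⟩ := CfsgLib.BlockB.rank_one_decomposition hM hb.1 hl
  rw [← card_defectGroup hM hb.1 hbD, hcard,
    finsum_mem_eq_sum_of_inter_support_eq (t := univ.filter (· ∈ b)) _ (by ext; simp)] at hsum
  have hdpos : ∀ ψ ∈ b, 1 ≤ d ψ := by
    intro ψ hψ
    by_contra h0
    have := hdφ ψ hψ 1 (by simp [IsPRegular])
    rw [show d ψ = 0 by omega, Nat.cast_zero, zero_mul] at this
    exact irr_one_ne_zero ψ this
  have hd1 : ∀ ψ ∈ b, d ψ = 1 := by
    intro ψ hψ
    have h1 : d ψ ^ 2 ≤ 2 := le_of_le_of_eq (single_le_sum (f := fun i => d i ^ 2)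
      (fun i _ => Nat.zero_le _) (mem_filter.2 ⟨mem_univ _, hψ⟩)) hsum
    have h2 := hdpos ψ hψ
    by_contra hne
    have : 4 ≤ d ψ ^ 2 := by
      calc 4 = 2 ^ 2 := by norm_num
        _ ≤ d ψ ^ 2 := Nat.pow_le_pow_left (by omega) 2
    omega
  have hcardb : (univ.filter (· ∈ b)).card = 2 := by
    rw [← hsum, sum_congr rfl fun ψ hψ => by rw [hd1 ψ (mem_filter.1 hψ).2, one_pow], card_eq_sum_ones]
  have hagree : ∀ ψ ∈ b, ∀ y : Subgroup.centralizer ({x} : Set G), ¬ 2 ∣ orderOf y →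
      ψ.1 y = θ.1 y := by
    intro ψ hψ y hy
    rw [hdφ ψ hψ y hy, hdφ θ hθ y hy, hd1 ψ hψ, hd1 θ hθ]
  -- the coefficient of a member of `B`
  let cc : IrrCharacter G → ℂ := fun χ => ∑ ψ ∈ univ.filter (· ∈ b),
    classInner (fun z : Subgroup.centralizer ({x} : Set G) => (χ : G → ℂ) (x * (z : G))) ψ.1
  have hint : ∀ χ : IrrCharacter G, ∃ n : ℤ, cc χ = n := by
    intro χ
    have hone : ∀ ψ : IrrCharacter (Subgroup.centralizer ({x} : Set G)), ∃ n : ℤ,
        classInner (fun z : Subgroup.centralizer ({x} : Set G) => (χ : G → ℂ) (x * (z : G))) ψ.1 = n := by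
      intro ψ
      let j : Subgroup.centralizer ({x} : Set G) := ⟨x, hxC⟩
      have hj : j ∈ Subgroup.center (Subgroup.centralizer ({x} : Set G)) :=
        hcen (Subgroup.mem_zpowers x)
      have hjj : j * j = 1 := Subtype.ext hxx
      set l := centralChar ψ.1 j
      have hl1 : l * l = 1 := by
        have h1 := irr_central_mul ψ hj j
        rw [hjj] at h1
        have h2 := irr_central_mul ψ hj 1
        rw [mul_one] at h2
        rw [h2, ← mul_assoc] at h1
        exact mul_eq_right₀ (irr_one_ne_zero ψ) |>.1 h1.symm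
      obtain ⟨m, hm⟩ := IsCharacter.exists_classInner_eq_natCast'
        (IsCharacter.restrict (isCharacter_irr χ) (Subgroup.centralizer ({x} : Set G)))
        (isCharacter_irr ψ)
      have hl' : l = 1 ∨ l = -1 := mul_self_eq_one_iff.1 hl1
      have he : classInner (fun z : Subgroup.centralizer ({x} : Set G) => (χ : G → ℂ) (x * (z : G))) ψ.1 =
          l * classInner (fun z : Subgroup.centralizer ({x} : Set G) => (χ : G → ℂ) (z : G)) ψ.1 := by
        rw [classInner, classInner, mul_left_comm]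
        congr 1
        rw [mul_sum]
        refine Fintype.sum_equiv (Equiv.mulLeft j) _ _ fun z => ?_
        have hz : ψ.1 (j * z) = l * ψ.1 z := irr_central_mul ψ hj z
        show (χ : G → ℂ) (x * (z : G)) * _ = l * ((χ : G → ℂ) (x * (z : G)) * conj (ψ.1 (j * z)))
        rw [hz, map_mul]
        rcases hl' with h | h <;> rw [h] <;> simp
      rw [he, hm]
      rcases hl' with h | h
      · exact ⟨m, by rw [h]; simp⟩
      · exact ⟨-(m : ℤ), by rw [h]; simp⟩
    choose n hn using hone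
    exact ⟨∑ ψ ∈ univ.filter (· ∈ b), n ψ, by
      rw [Int.cast_sum]; exact sum_congr rfl fun ψ _ => hn ψ⟩
  choose c hc using hint
  have hval : ∀ χ ∈ B, ∀ y : Subgroup.centralizer ({x} : Set G), ¬ 2 ∣ orderOf y →
      (χ : G → ℂ) (x * (y : G)) = (c χ : ℂ) * θ.1 y := by
    intro χ hχ y hy
    have h := apply_eq_blockPart (isClassFunction_shift χ x) hb.1 (c := y) (fun b' hb' hne =>
      blockPart_eq_zero_of_not_induced hM hx' hB hχ hb'
        (fun hi => hne (unique_inducing hM hH hBD hi hb)) y hy)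
    rw [h, blockPart_eq_sum_inner, ← hc, sum_mul]
    exact sum_congr rfl fun ψ hψ => by rw [hagree ψ (mem_filter.1 hψ).2 y hy]
  have hsingval : ∀ χ ∈ B, ∀ g : G, 2 ∣ orderOf g → c χ = 0 → (χ : G → ℂ) g = 0 := by
    intro χ hχ g hg hc0
    obtain ⟨a, w, haw, hcom, ⟨k, hk⟩, -, -, hw, ha, -, -⟩ := exists_pPart Nat.prime_two g
    by_cases hconj : IsConj x a
    · obtain ⟨e, he⟩ := isConj_iff.1 hconj
      have hy : e⁻¹ * w * e ∈ Subgroup.centralizer ({x} : Set G) := by
        rw [Subgroup.mem_centralizer_singleton_iff]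
        calc e⁻¹ * w * e * x = e⁻¹ * (w * a) * e := by rw [← he]; group
          _ = e⁻¹ * (a * w) * e := by rw [hcom.eq]
          _ = x * (e⁻¹ * w * e) := by rw [← he]; group
      have hreg : ¬ 2 ∣ orderOf (⟨e⁻¹ * w * e, hy⟩ : Subgroup.centralizer ({x} : Set G)) := by
        rw [← Subgroup.orderOf_coe, show orderOf (e⁻¹ * w * e) = orderOf w by
          simpa using orderOf_injective (MulAut.conj e⁻¹).toMonoidHom (MulAut.conj e⁻¹).injective w]
        exact hw
      have := hval χ hχ _ hreg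
      rw [hc0, Int.cast_zero, zero_mul] at this
      rw [← haw, ← he, show e * x * e⁻¹ * w = e * (x * (e⁻¹ * w * e)) * e⁻¹ by group,
        isClassFunction_irr χ]
      exact this
    · refine apply_eq_zero_of_not_mem_defectGroup hM hB hχ (x := a) ⟨w, haw, hcom, ha, hw⟩
        fun D hD haD => ?_
      obtain ⟨t, ht⟩ := defectGroup_conj hM hB hBD hD
      have hta : t * a * t⁻¹ ∈ Subgroup.zpowers x := ht ▸ ⟨a, haD, rfl⟩
      rcases hmemP _ hta with h | h
      · rw [conj_eq_one_iff] at h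
        rw [h, one_mul] at haw
        exact hw (haw ▸ hg)
      · exact hconj (isConj_iff.2 ⟨t⁻¹, by rw [← h]; group⟩)
  have hdef : blockDefect 2 B = 1 := by
    have h := card_defectGroup hM hB hBD
    rw [Nat.card_zpowers, hx] at h
    exact (Nat.pow_right_injective le_rfl ((pow_one 2).trans h)).symm
  have hne : ∀ χ ∈ B, c χ ≠ 0 := by
    intro χ hχ hc0
    have h0 : blockHeight 2 B (χ : G → ℂ) = 0 := by
      by_contra hne
      have := height_add_two_le hM hB hχ hne
      omega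
    have hfac := factorization_degree hM hB hχ
    rw [h0, hdef, add_zero] at hfac
    obtain ⟨S⟩ : Nonempty (Sylow 2 G) := inferInstance
    have hdvd := card_dvd_charDegree χ (S : Subgroup G) fun w hw hw1 => by
      refine hsingval χ hχ w ?_ hc0
      obtain ⟨k, hk⟩ := IsPGroup.iff_orderOf.1 S.2 ⟨w, hw⟩
      rw [Subgroup.orderOf_mk] at hk
      have hk0 : k ≠ 0 := fun h0 => hw1 (orderOf_eq_one_iff.1 (by rw [hk, h0, pow_zero]))
      exact hk ▸ dvd_pow_self 2 hk0
    rw [S.card_eq_multiplicity, Nat.prime_two.pow_dvd_iff_le_factorization (irr_one χ).2.ne'] at hdvd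
    have hpos : 1 ≤ (Nat.card G).factorization 2 :=
      Nat.prime_two.factorization_pos_of_dvd Nat.card_pos.ne' (hx ▸ orderOf_dvd_natCard x)
    omega
  have hθ1 : θ.1 1 ≠ 0 := irr_one_ne_zero θ
  have h1reg : ¬ 2 ∣ orderOf (1 : Subgroup.centralizer ({x} : Set G)) := by simp
  have hsq : ∑ χ ∈ univ.filter (· ∈ B), c χ ^ 2 = 2 := by
    have h := blockPart_section_kernel hM hx' hb.1 1 1 h1reg h1reg
    rw [sum_congr rfl fun ψ hψ => by rw [hagree ψ (mem_filter.1 hψ).2 1 h1reg],
      sum_const, hcardb, two_nsmul] at h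
    have hz : ∀ χ : IrrCharacter G, blockPart b
        (fun z : Subgroup.centralizer ({x} : Set G) => (χ : G → ℂ) (x * (z : G))) 1 *
          conj ((χ : G → ℂ) (x * ((1 : Subgroup.centralizer ({x} : Set G)) : G))) =
        if χ ∈ B then ((c χ ^ 2 : ℤ) : ℂ) * (θ.1 1 * conj (θ.1 1)) else 0 := by
      intro χ
      split_ifs with hχ
      · rw [hval χ hχ 1 h1reg, blockPart_eq_sum_inner, sum_congr rfl fun ψ hψ => by
          rw [hagree ψ (mem_filter.1 hψ).2 1 h1reg], ← sum_mul]
        show cc χ * θ.1 1 * _ = _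
        rw [hc, map_mul, map_intCast]
        push_cast
        ring
      · rw [blockPart_eq_zero_of_not_induced hM hx' (isPBlock_blockOf χ) (mem_blockOf_self χ) hb.1
          (fun hi => hχ (induced_unique hb hi ▸ mem_blockOf_self χ)) 1 h1reg, zero_mul]
    rw [sum_congr rfl fun χ _ => hz χ, ← sum_filter, ← sum_mul, ← Int.cast_sum] at h
    have hnz : θ.1 1 * conj (θ.1 1) ≠ 0 := mul_ne_zero hθ1 (by simpa using hθ1)
    have h2 : ((∑ χ ∈ univ.filter (· ∈ B), c χ ^ 2 : ℤ) : ℂ) = ((2 : ℤ) : ℂ) := by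
      refine mul_right_cancel₀ hnz ?_
      rw [← h]; push_cast; ring
    exact_mod_cast h2
  have hunit : ∀ χ ∈ B, c χ = 1 ∨ c χ = -1 := by
    intro χ hχ
    have hle : c χ ^ 2 ≤ 2 := le_of_le_of_eq (single_le_sum (f := fun i => c i ^ 2)
      (fun i _ => sq_nonneg (c i)) (mem_filter.2 ⟨mem_univ _, hχ⟩)) hsq
    have := hne χ hχ
    have h1 : -1 ≤ c χ := by nlinarith
    have h2 : c χ ≤ 1 := by nlinarith
    omega
  have hcardB : (univ.filter (· ∈ B)).card = 2 := by
    rw [sum_congr rfl fun χ hχ => show c χ ^ 2 = (1 : ℤ) by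
      rcases hunit χ (mem_filter.1 hχ).2 with h | h <;> simp [h], sum_const, nsmul_one] at hsq
    exact_mod_cast hsq
  obtain ⟨χ₁, χ₂, hne12, hpair⟩ := card_eq_two.1 hcardB
  have h1B : χ₁ ∈ B := (mem_filter.1 (hpair.symm ▸ mem_insert_self χ₁ {χ₂})).2
  have h2B : χ₂ ∈ B := (mem_filter.1 (hpair.symm ▸ mem_insert_of_mem (mem_singleton_self χ₂))).2
  have horth : ∀ g : G, ¬ 2 ∣ orderOf g → (χ₁ : G → ℂ) g * (c χ₁ : ℂ) + (χ₂ : G → ℂ) g * (c χ₂ : ℂ) = 0 := by
    intro g hg
    have h := weak_orth hM (isIntClass_blockCoeff hB) hg (h := x) (by rw [hx])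
    rw [hpair, sum_pair hne12] at h
    have hx1 : ∀ χ ∈ B, (χ : G → ℂ) x = (c χ : ℂ) * θ.1 1 := fun χ hχ => by
      simpa using hval χ hχ 1 h1reg
    rw [hx1 χ₁ h1B, hx1 χ₂ h2B, map_mul, map_mul, map_intCast, map_intCast] at h
    refine (mul_eq_zero.1 (?_ : _ * conj (θ.1 1) = 0)).resolve_right (by simpa using hθ1)
    linear_combination h
  have hε : c χ₁ * c χ₂ = -1 := by
    have h := horth 1 (by simp)
    rcases hunit χ₁ h1B with a1 | a1 <;> rcases hunit χ₂ h2B with a2 | a2 <;> rw [a1, a2] at h ⊢ <;>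
      norm_num at h ⊢
    all_goals
      rw [(irr_one χ₁).1, (irr_one χ₂).1] at h
      have e1 := (irr_one χ₁).2
      have e2 := (irr_one χ₂).2
      first
        | (have : ((charDegree (χ₁ : G → ℂ) + charDegree (χ₂ : G → ℂ) : ℕ) : ℂ) = ((0 : ℕ) : ℂ) := by
            push_cast; linear_combination h
           have := Nat.cast_injective this
           omega)
        | (have : ((charDegree (χ₁ : G → ℂ) + charDegree (χ₂ : G → ℂ) : ℕ) : ℂ) = ((0 : ℕ) : ℂ) := by
            push_cast; linear_combination -h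
           have := Nat.cast_injective this
           omega)
  have heq : ∀ g : G, ¬ 2 ∣ orderOf g → (χ₁ : G → ℂ) g = (χ₂ : G → ℂ) g := by
    intro g hg
    have h := horth g hg
    have hε' : (c χ₁ : ℂ) * (c χ₂ : ℂ) = -1 := by exact_mod_cast hε
    have hsq1 : (c χ₁ : ℂ) * (c χ₁ : ℂ) = 1 := by
      rcases hunit χ₁ h1B with a | a <;> simp [a]
    linear_combination (c χ₁ : ℂ) * h - (χ₁ : G → ℂ) g * hsq1 - (χ₂ : G → ℂ) g * hε'
  refine ⟨?_, ?_, χ₁, h1B, χ₂, h2B, hne12, c χ₁, c χ₂, hunit χ₁ h1B, hunit χ₂ h2B, hε,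
    fun y hy => ⟨hval χ₁ h1B y hy, hval χ₂ h2B y hy⟩⟩
  · rw [← hcardB, Nat.card_eq_fintype_card, Fintype.card_subtype]
  · intro χ hχ ψ hψ g hg
    have hm : ∀ χ ∈ B, χ = χ₁ ∨ χ = χ₂ := fun χ hχ => by
      have := hpair ▸ (mem_filter.2 ⟨mem_univ χ, hχ⟩ : χ ∈ univ.filter (· ∈ B))
      simpa using this
    rcases hm χ hχ with rfl | rfl <;> rcases hm ψ hψ with rfl | rfl
    · rfl
    · exact heq g hg
    · exact (heq g hg).symm
    · rfl

end CfsgLib.Block
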