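import Cfsg.Agent.Blocks.Cover
import Cfsg.Agent.Blocks.MinMax
import Cfsg.Agent.Blocks.Correspond
import Cfsg.Agent.Blocks.Heights
import Cfsg.Agent.Solvable.Basics

/-!
# Blocks covering an invariant block of a normal subgroup
-/

set_option autoImplicit false
set_option linter.style.haveILetI false
set_option linter.unusedSectionVars false

namespace CfsgLib.Block

open Cfsg Finset CfsgLib.Block.Chr CfsgLib.Char
open scoped ComplexConjugate

universe u

variable {G : Type u} [Group G] [Fintype G] {N : Subgroup G} [hN : N.Normal] [Fintype N]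
  {M : Ideal AlgInt} [M.IsPrime] {p : ℕ}

/-- The block `B` covers `b`. -/
def Covers (B : Set (IrrCharacter G)) (b : Set (IrrCharacter N)) : Prop :=
  ∃ χ ∈ B, ∃ θ ∈ b, classInner (fun n : N => (χ : G → ℂ) n) (θ : N → ℂ) ≠ 0

variable {b : Set (IrrCharacter N)}

theorem isInv_of_iff
    (hinv : ∀ g : G, ∀ θ ∈ b, ∀ θ' : IrrCharacter N,
      (∀ n : N, (θ' : N → ℂ) n = (θ : N → ℂ) ⟨g * n * g⁻¹, hN.conj_mem n n.2 g⟩) → θ' ∈ b) :
    orbitUnion (G := G) b = b := by
  ext φ
  constructor
  · rintro ⟨g, θ, hθ, rfl⟩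
    exact hinv g θ hθ _ fun n => rfl
  · exact fun h => self_mem_orbitUnion h

theorem omega_coverFun_eq_one_iff (hb : IsPBlock M b) (χ : IrrCharacter G) :
    (omega (χ : G → ℂ) (coverFun b) = 1 ∨ omega (χ : G → ℂ) (coverFun b) = 0) ∧
      (omega (χ : G → ℂ) (coverFun b) = 1 → ∃ θ ∈ b,
        classInner (fun n : N => (χ : G → ℂ) n) (θ : N → ℂ) ≠ 0) := by
  classical
  obtain ⟨ψ, hψ, hc⟩ := exists_constituent_restrict (N := N) χ.2
  rw [omega_coverFun (θ := ⟨ψ, hψ⟩) hc hb]
  split_ifs with h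
  · refine ⟨Or.inl rfl, fun _ => ?_⟩
    obtain ⟨g, θ, hθ, he⟩ := h
    refine ⟨θ, hθ, ?_⟩
    rw [← classInner_restrict_conjOn (isClassFunction_irr χ) (θ : N → ℂ) g, ← conjIrr_coe, ← he]
    exact hc
  · exact ⟨Or.inr rfl, fun h01 => absurd h01 zero_ne_one⟩

/-- The idempotent of the orbit is the sum of those of the covering blocks. -/
theorem exists_covering_coeff (hb : IsPBlock M b) {y : G}
    (hy : ¬ MemLocalIdeal M (coverFun b y)) :
    ∃ B : Set (IrrCharacter G), IsPBlock M B ∧ Covers B b ∧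
      ¬ MemLocalIdeal M (blockCoeff B y) := by
  classical
  letI := irrFintype (G := G)
  haveI : Fintype (Set (IrrCharacter G)) := Fintype.ofFinite _
  set U : Set (IrrCharacter G) := {χ | omega (χ : G → ℂ) (coverFun b) = 1}
  have hI := isIntClass_coverFun (G := G) hb
  have hU : coverFun b y = blockCoeff U y := by
    rw [eq_sum_omega hI.1, blockCoeff_eq_sum, sum_filter]
    congr 1
    refine sum_congr rfl fun χ _ => ?_
    rcases (omega_coverFun_eq_one_iff (G := G) hb χ).1 with h | h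
    · rw [if_pos (show χ ∈ U from h), h, mul_one]
    · rw [if_neg (show ¬ χ ∈ U from fun h1 => one_ne_zero ((h1 : _ = _).symm.trans h)), h,
        mul_zero, zero_mul]
  have hclosed : ∀ χ ∈ U, blockOf M (χ : G → ℂ) ⊆ U := by
    intro χ hχ ψ hψ
    rcases (omega_coverFun_eq_one_iff (G := G) hb ψ).1 with h | h
    · exact h
    · have := omega_cong (hψ : SameBlock M (χ : G → ℂ) (ψ : G → ℂ)) hI
      rw [show omega (χ : G → ℂ) (coverFun b) = 1 from hχ, h, sub_zero] at this
      exact absurd this not_memLocalIdeal_one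
  set 𝔅 := (univ.filter (· ∈ U)).image fun χ : IrrCharacter G => blockOf M (χ : G → ℂ)
  have hsum : blockCoeff U y = ∑ B ∈ 𝔅, blockCoeff B y := by
    rw [blockCoeff_eq_sum, ← sum_fiberwise_of_maps_to (t := 𝔅)
      (g := fun χ : IrrCharacter G => blockOf M (χ : G → ℂ))
      (fun χ hχ => mem_image_of_mem _ hχ), mul_sum]
    refine sum_congr rfl fun B hB => ?_
    obtain ⟨χ, hχ, rfl⟩ := mem_image.1 hB
    rw [blockCoeff_eq_sum]
    congr 1
    refine sum_congr ?_ fun _ _ => rfl
    ext ψ
    simp only [mem_filter, mem_univ, true_and]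
    refine ⟨fun h => h.2 ▸ mem_blockOf_self ψ, fun h => ⟨hclosed χ (mem_filter.1 hχ).2 h,
      (eq_blockOf_of_mem (isPBlock_blockOf χ) h).symm⟩⟩
  obtain ⟨B, hB, hne⟩ : ∃ B ∈ 𝔅, ¬ MemLocalIdeal M (blockCoeff B y) := by
    by_contra hne
    push Not at hne
    exact hy (by rw [hU, hsum]; exact memLocalIdeal_sum hne)
  obtain ⟨χ, hχ, rfl⟩ := mem_image.1 hB
  obtain ⟨θ, hθ, hc⟩ := (omega_coverFun_eq_one_iff (G := G) hb χ).2 (mem_filter.1 hχ).2
  exact ⟨_, isPBlock_blockOf χ, ⟨χ, mem_blockOf_self χ, θ, hθ, hc⟩, hne⟩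

omit [Fintype N] in
theorem card_centralizer_normal (n : N) :
    Nat.card (Subgroup.centralizer ({n} : Set N)) =
      Nat.card ↥(Subgroup.centralizer ({(n : G)} : Set G) ⊓ N) := by
  refine Nat.card_congr
    { toFun := fun c => ⟨((c : N) : G), Subgroup.mem_inf.2 ⟨Subgroup.mem_centralizer_singleton_iff.2
        (congrArg (Subtype.val : N → G) (Subgroup.mem_centralizer_singleton_iff.1 c.2)), (c : N).2⟩⟩
      invFun := fun c => ⟨⟨(c : G), (Subgroup.mem_inf.1 c.2).2⟩,
        Subgroup.mem_centralizer_singleton_iff.2 (Subtype.ext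
          (Subgroup.mem_centralizer_singleton_iff.1 (Subgroup.mem_inf.1 c.2).1))⟩
      left_inv := fun c => rfl
      right_inv := fun c => rfl }

/-- Over an invariant block the central character on the normal subgroup is a multiple of that of
the block. -/
theorem centralChar_cong_smul (hb : IsPBlock M b) (hinv : orbitUnion (G := G) b = b)
    {χ : IrrCharacter G} {θ : IrrCharacter N} (hθ : θ ∈ b)
    (hc : classInner (fun n : N => (χ : G → ℂ) n) (θ : N → ℂ) ≠ 0) (y : N) :
    MemLocalIdeal M (centralChar (χ : G → ℂ) (y : G) -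
      ((N ⊔ Subgroup.centralizer ({(y : G)} : Set G)).index : ℂ) *
        centralChar (θ : N → ℂ) y) := by
  classical
  set C := Subgroup.centralizer ({(y : G)} : Set G) with hC
  obtain ⟨H, hH⟩ : ∃ H : Subgroup G, H = N ⊔ C := ⟨_, rfl⟩
  rw [← hH]
  have hCN : C ≤ Subgroup.normalizer (N : Set G) := by
    rw [Subgroup.normalizer_eq_top_iff.2 hN]; exact le_top
  have hcard := CfsgLib.Solvable.card_sup_mul_card_inf hCN
  rw [sup_comm, ← hH, ← card_centralizer_normal] at hcard
  -- the sum over the group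
  set f : G → ℂ := fun g => (θ : N → ℂ) ⟨g * y * g⁻¹, hN.conj_mem y y.2 g⟩ with hf
  have hfH : ∀ g : G, ∀ h ∈ H, f (g * h) = f g := by
    intro g h hh
    rw [hH, sup_comm, CfsgLib.Solvable.mem_sup_of_le_normalizer hCN] at hh
    obtain ⟨c, hc, n, hn, rfl⟩ := hh
    have hcy : c * (y : G) * c⁻¹ = y := by
      rw [Subgroup.mem_centralizer_singleton_iff.1 hc, mul_inv_cancel_right]
    have hcn : c * n * c⁻¹ ∈ N := hN.conj_mem n hn c
    have hgn : g * (c * n * c⁻¹) * g⁻¹ ∈ N := hN.conj_mem _ hcn g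
    have hval : (⟨g * (c * n) * y * (g * (c * n))⁻¹, hN.conj_mem y y.2 _⟩ : N) =
        ⟨_, hgn⟩ * ⟨g * y * g⁻¹, hN.conj_mem y y.2 g⟩ * (⟨_, hgn⟩ : N)⁻¹ := by
      refine Subtype.ext ?_
      simp only [Subgroup.coe_mul, InvMemClass.coe_inv]
      conv_rhs => rw [← hcy]
      group
    simp only [hf, hval]
    exact isClassFunction_irr θ _ _
  have hsum : ∑ g : G, f g = (Nat.card H : ℂ) * ∑ q : G ⧸ H, f q.out := by
    haveI := Fintype.ofFinite H
    rw [← sum_fiberwise univ (fun x : G => (x : G ⧸ H)) f, mul_sum]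
    refine sum_congr rfl fun q _ => ?_
    rw [Nat.card_eq_fintype_card, ← card_univ, ← nsmul_eq_mul, ← sum_const]
    refine (sum_bij (fun (t : H) _ => q.out * (t : G)) (fun t _ => ?_) (fun t _ t' _ h =>
      Subtype.ext (mul_left_cancel h)) (fun x hx => ?_) fun t _ => (hfH _ _ t.2).symm).symm
    · rw [mem_filter]
      exact ⟨mem_univ _, by rw [QuotientGroup.mk_mul_of_mem q.out t.2, QuotientGroup.out_eq']⟩
    · have hq : (q.out : G ⧸ H) = (x : G ⧸ H) := by
        rw [QuotientGroup.out_eq', (mem_filter.1 hx).2]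
      exact ⟨⟨q.out⁻¹ * x, QuotientGroup.eq.1 hq⟩, mem_univ _, by simp⟩
  -- the central character is the sum over the cosets
  have hkey : centralChar (χ : G → ℂ) (y : G) =
      ∑ q : G ⧸ H, centralChar (conjOn q.out (θ : N → ℂ)) y := by
    rw [centralChar_eq_of_constituent hc, inducedCentralChar,
      finsum_mem_eq_sum_of_inter_support_eq
        (t := univ.filter (fun h : N => IsConj (y : G) (h : G))) _ (by ext; simp), ← sum_div]
    have h1 : ∑ g : G, f g = (Nat.card C : ℂ) *
        ∑ n ∈ univ.filter (fun h : N => IsConj (y : G) (h : G)), (θ : N → ℂ) n := by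
      rw [← sum_fiberwise_of_maps_to (t := univ.filter fun h : N => IsConj (y : G) (h : G))
        (g := fun g : G => (⟨g * y * g⁻¹, hN.conj_mem y y.2 g⟩ : N))
        (fun g _ => mem_filter.2 ⟨mem_univ _, isConj_iff.2 ⟨g, rfl⟩⟩), mul_sum]
      refine sum_congr rfl fun n hn => ?_
      obtain ⟨g₀, hg₀⟩ := isConj_iff.1 (mem_filter.1 hn).2
      rw [sum_eq_card_nsmul (b := (θ : N → ℂ) n) fun g hg => by
        simp only [hf]; rw [(mem_filter.1 hg).2], nsmul_eq_mul]
      congr 2
      rw [← Nat.card_eq_finsetCard]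
      refine Nat.card_congr ((Equiv.mulLeft g₀⁻¹).subtypeEquiv fun g => ?_)
      simp only [mem_filter, mem_univ, true_and, Equiv.coe_mulLeft]
      rw [hC, Subgroup.mem_centralizer_singleton_iff]
      constructor
      · intro h
        have h' : g * (y : G) * g⁻¹ = (n : G) := congrArg Subtype.val h
        rw [← hg₀] at h'
        calc g₀⁻¹ * g * y = g₀⁻¹ * (g * y * g⁻¹) * g := by group
          _ = g₀⁻¹ * (g₀ * y * g₀⁻¹) * g := by rw [h']
          _ = y * (g₀⁻¹ * g) := by group
      · intro h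
        refine Subtype.ext ?_
        show g * (y : G) * g⁻¹ = (n : G)
        rw [← hg₀]
        calc g * y * g⁻¹ = g₀ * (g₀⁻¹ * g * y) * g⁻¹ := by group
          _ = g₀ * (y * (g₀⁻¹ * g)) * g⁻¹ := by rw [h]
          _ = g₀ * y * g₀⁻¹ := by group
    have hC0 : (Nat.card C : ℂ) ≠ 0 := Nat.cast_ne_zero.2 Nat.card_pos.ne'
    have hN' : (Nat.card (Subgroup.centralizer ({y} : Set N)) : ℂ) ≠ 0 :=
      Nat.cast_ne_zero.2 Nat.card_pos.ne'
    have hθ1 := irr_one_ne_zero θ
    have hidx : ((Subgroup.centralizer ({y} : Set N)).index : ℂ) * (Nat.card C : ℂ) =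
        (Nat.card H : ℂ) := by
      have h3 := (Subgroup.centralizer ({y} : Set N)).card_mul_index
      refine mul_left_cancel₀ hN' ?_
      calc (Nat.card (Subgroup.centralizer ({y} : Set N)) : ℂ) *
            (((Subgroup.centralizer ({y} : Set N)).index : ℂ) * (Nat.card C : ℂ))
          = ((Nat.card (Subgroup.centralizer ({y} : Set N)) *
              (Subgroup.centralizer ({y} : Set N)).index : ℕ) : ℂ) * (Nat.card C : ℂ) := by
            push_cast; ring
        _ = ((Nat.card C * Nat.card N : ℕ) : ℂ) := by rw [h3]; push_cast; ring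
        _ = _ := by rw [← hcard]; push_cast; ring
    rw [show (∑ q : G ⧸ H, centralChar (conjOn q.out (θ : N → ℂ)) y) =
        ((Subgroup.centralizer ({y} : Set N)).index : ℂ) * (∑ q : G ⧸ H, f q.out) /
          (θ : N → ℂ) 1 by
      rw [mul_sum, sum_div]
      exact sum_congr rfl fun q _ => by rw [centralChar, conjOn_apply_one, conjOn_apply]]
    congr 1
    refine mul_left_cancel₀ hC0 ?_
    rw [← h1, hsum, ← hidx]
    ring
  rw [hkey, Subgroup.index, Nat.card_eq_fintype_card, ← card_univ, ← nsmul_eq_mul, ← sum_const,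
    ← sum_sub_distrib]
  refine memLocalIdeal_sum fun q _ => ?_
  have hmem : conjIrr q.out θ ∈ b := hinv ▸ ⟨q.out, θ, hθ, rfl⟩
  exact sameBlock_of_mem hb hmem hθ y

/-- **Fong**: the block of largest defect covering an invariant block. -/
theorem fong_defect (hM : IsPModular p M) (hb : IsPBlock M b)
    (hinv : orbitUnion (G := G) b = b) {B : Set (IrrCharacter G)} (hB : IsPBlock M B)
    (hcov : Covers B b)
    (hmax : ∀ B' : Set (IrrCharacter G), IsPBlock M B' → Covers B' b →
      blockDefect p B' ≤ blockDefect p B) {P : Subgroup G} (hP : IsDefectGroup p M B P) :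
    ¬ p ∣ (P ⊔ N).index ∧ IsDefectGroup p M b ((P ⊓ N).subgroupOf N) ∧
      blockDefect p B = blockDefect p b + N.index.factorization p := by
  classical
  haveI : Fact p.Prime := ⟨hM.1⟩
  obtain ⟨χ, hχ, θ, hθ, hc⟩ := hcov
  have h1 : ¬ MemLocalIdeal M (omega (χ : G → ℂ) (coverFun b)) := by
    rw [omega_coverFun hc hb, if_pos (self_mem_orbitUnion hθ)]; exact not_memLocalIdeal_one
  obtain ⟨y₀, hy₀, hy₀χ⟩ := exists_of_omega (isIntClass_coverFun (G := G) hb) h1
  obtain ⟨x, hx⟩ := exists_defectGroup_le_centralizer hM hB ⟨χ, hχ, hy₀χ⟩ hP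
  set y := x⁻¹ * y₀ * x with hy
  have hconj : IsConj y₀ y := isConj_iff.2 ⟨x⁻¹, by rw [inv_inv]⟩
  have hyb : ¬ MemLocalIdeal M (coverFun b y) := by
    have := (isIntClass_coverFun (M := M) (G := G) hb).1 y₀ x⁻¹
    rw [inv_inv] at this
    rwa [hy, this]
  have hyχ : ¬ MemLocalIdeal M (centralChar (χ : G → ℂ) y) := by
    rwa [← omega_classInd, show classInd y = classInd y₀ from ?_, omega_classInd]
    funext z
    by_cases hz : IsConj y₀ z
    · rw [classInd_of_isConj hz, classInd_of_isConj (hconj.symm.trans hz)]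
    · rw [classInd_of_not_isConj hz, classInd_of_not_isConj fun h => hz (hconj.trans h)]
  have hyN : y ∈ N := by
    by_contra h
    exact hyb (by rw [coverFun_not_mem b h]; exact memLocalIdeal_zero)
  set C := Subgroup.centralizer ({y} : Set G) with hCdef
  have hPC : P ≤ C := by
    intro u hu
    rw [hCdef, Subgroup.mem_centralizer_singleton_iff]
    have h2 := Subgroup.mem_centralizer_singleton_iff.1 (hx ⟨u, hu, rfl⟩)
    simp only [MulEquiv.toMonoidHom_eq_coe, MonoidHom.coe_coe, MulAut.conj_apply] at h2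
    calc u * y = x⁻¹ * (x * u * x⁻¹ * y₀) * x := by rw [hy]; group
      _ = x⁻¹ * (y₀ * (x * u * x⁻¹)) * x := by rw [h2]
      _ = y * u := by rw [hy]; group
  -- the defect is that of the class of `y`
  obtain ⟨B', hB', hcov', hB'y⟩ := exists_covering_coeff hb hyb
  have hdc : IsDefectClass M B' y := by
    refine ⟨blockCoeff_mem hB' y, hB'y, fun χ' hχ' => ?_⟩
    obtain ⟨χ₁, hχ₁, θ₁, hθ₁, hc₁⟩ := hcov'
    intro hI
    refine hyχ ((memLocalIdeal_iff_of_cong ?_).1 hI)
    exact memLocalIdeal_sub_trans (covering_cong hB' hb hχ₁ hθ₁ hc₁ hχ' hθ ⟨y, hyN⟩)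
      (memLocalIdeal_sub_comm (covering_cong hB hb hχ hθ hc hχ hθ ⟨y, hyN⟩))
  have hd : blockDefect p B = (Nat.card C).factorization p := by
    refine le_antisymm ?_ (by rw [← blockDefect_eq hM hB' hdc]; exact hmax B' hB' hcov')
    have h2 := card_defectGroup hM hB hP
    exact (hM.1.pow_dvd_iff_le_factorization Nat.card_pos.ne').1
      (h2 ▸ Subgroup.card_dvd_of_le hPC)
  -- the class of `y` in `N`
  have hcong := centralChar_cong_smul hb hinv hθ hc ⟨y, hyN⟩
  have hprod : ¬ MemLocalIdeal M (((N ⊔ C).index : ℂ) * centralChar (θ : N → ℂ) ⟨y, hyN⟩) :=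
    fun h => hyχ ((memLocalIdeal_iff_of_cong hcong).2 h)
  have hk : ¬ p ∣ (N ⊔ C).index := fun h => hprod
    (memLocalIdeal_mul_right ((memLocalIdeal_natCast_iff hM).2 h) (centralChar_mem θ _))
  have hθy : ¬ MemLocalIdeal M (centralChar (θ : N → ℂ) ⟨y, hyN⟩) := fun h =>
    hprod (memLocalIdeal_mul_left (natCast_mem_localRing _) h)
  have hdcb : IsDefectClass M b ⟨y, hyN⟩ := by
    refine ⟨blockCoeff_mem hb _, ?_, fun θ' hθ' h => hθy
      ((memLocalIdeal_iff_of_cong (sameBlock_of_mem hb hθ' hθ ⟨y, hyN⟩)).1 h)⟩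
    have h2 := congrFun (resFun_coverFun (G := G) b) ⟨y, hyN⟩
    rw [hinv] at h2
    rw [← h2]
    exact hyb
  -- orders
  have hnorm : ∀ A : Subgroup G, A ≤ Subgroup.normalizer (N : Set G) := fun A => by
    rw [Subgroup.normalizer_eq_top_iff.2 hN]; exact le_top
  have hP' : (Nat.card P).factorization p = blockDefect p B := by
    rw [card_defectGroup hM hB hP, hM.1.factorization_pow, Finsupp.single_eq_same]
  have e1 := congrArg (fun n => n.factorization p)
    (CfsgLib.Solvable.card_sup_mul_card_inf (hnorm P))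
  have e2 := congrArg (fun n => n.factorization p)
    (CfsgLib.Solvable.card_sup_mul_card_inf (hnorm C))
  simp only [Nat.factorization_mul Nat.card_pos.ne' Nat.card_pos.ne', Finsupp.add_apply,
    hP', hd] at e1 e2
  have hv : ∀ A : Subgroup G, (Nat.card A).factorization p + A.index.factorization p =
      (Nat.card G).factorization p := fun A => by
    rw [← A.card_mul_index, Nat.factorization_mul Nat.card_pos.ne'
      Subgroup.index_ne_zero_of_finite, Finsupp.add_apply]
  have hle : ∀ {A A' : Subgroup G}, A ≤ A' →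
      (Nat.card A).factorization p ≤ (Nat.card A').factorization p := fun h =>
    (Nat.factorization_le_iff_dvd Nat.card_pos.ne' Nat.card_pos.ne').2
      (Subgroup.card_dvd_of_le h) p
  have hk0 : (C ⊔ N).index.factorization p = 0 :=
    Nat.factorization_eq_zero_of_not_dvd (by rwa [sup_comm])
  have hPN : (Nat.card ↥(P ⊔ N)).factorization p ≤ (Nat.card ↥(C ⊔ N)).factorization p :=
    hle (sup_le_sup_right hPC N)
  have hPI : (Nat.card ↥(P ⊓ N)).factorization p ≤ (Nat.card ↥(C ⊓ N)).factorization p :=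
    hle (inf_le_inf_right N hPC)
  have := hv (C ⊔ N)
  have := hv (P ⊔ N)
  have := hv N
  have hdb : blockDefect p b = (Nat.card ↥(C ⊓ N)).factorization p := by
    rw [blockDefect_eq hM hb hdcb, card_centralizer_normal]
  refine ⟨fun h => ?_, ?_, by omega⟩
  · have := (hM.1.dvd_iff_one_le_factorization Subgroup.index_ne_zero_of_finite).1 h
    omega
  · have hpg : IsPGroup p ↥(P ⊓ N) := (isPGroup_defectGroup hP).to_le inf_le_left
    refine (isDefectGroup_iff hM hb).2 ⟨⟨y, hyN⟩, hdcb, ?_, ?_⟩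
    · rw [Subgroup.mem_centralizer_iff]
      intro u hu
      refine Subtype.ext ?_
      exact Subgroup.mem_centralizer_singleton_iff.1
        (hPC (Subgroup.mem_inf.1 (Subgroup.mem_subgroupOf.1 hu)).1)
    · rw [Nat.card_congr (Subgroup.subgroupOfEquivOfLe inf_le_right).toEquiv]
      obtain ⟨k, hk'⟩ := IsPGroup.iff_card.1 hpg
      have : k = (Nat.card ↥(P ⊓ N)).factorization p := by
        rw [hk', hM.1.factorization_pow, Finsupp.single_eq_same]
      rw [hk']
      congr 1
      omega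

end CfsgLib.Block
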