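import Cfsg.Agent.Blocks.StabilizerCorr
import Cfsg.Agent.Blocks.InvariantCover
import Cfsg.Agent.Blocks.FirstMain
import Cfsg.Agent.Blocks.Transport

/-!
# Blocks induced from `P C(P)` keeping the defect group `P`
-/

set_option autoImplicit false
set_option linter.style.haveILetI false
set_option linter.unusedSectionVars false

namespace CfsgLib.Block

open Cfsg Finset CfsgLib.Block.Chr CfsgLib.Char

universe u v

theorem irrComp_injective {G : Type u} [Group G] {H : Type v} [Group H] (e : H ≃* G) :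
    Function.Injective (irrComp e) := fun a b h => by
  rw [← irrComp_symm e a, h, irrComp_symm]

theorem blockDefect_image {G : Type u} [Group G] {H : Type v} [Group H] (e : H ≃* G) (p : ℕ)
    (B : Set (IrrCharacter G)) : blockDefect p (irrComp e '' B) = blockDefect p B := by
  rw [blockDefect, blockDefect, Nat.card_congr e.toEquiv, Set.image_image]
  congr 3
  funext χ
  rw [charDegree, charDegree, irrComp_coe]
  simp

section

variable {G : Type u} [Group G] [Fintype G] {M : Ideal AlgInt} [M.IsPrime] {p : ℕ}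
  {P H : Subgroup G} [Fintype H]

/-- Induction to the normalizer, followed by induction to the group. -/
theorem exists_induced_normalizer (hM : IsPModular p M) (hP : IsPGroup p P) (hPH : P ≤ H)
    (hCH : Subgroup.centralizer (P : Set G) ≤ H) {Nn : Subgroup G} [Fintype Nn]
    (hNn : Nn = Subgroup.normalizer (P : Set G)) (hHN : H ≤ Nn)
    [Fintype (H.subgroupOf Nn)] {b : Set (IrrCharacter H)} {B : Set (IrrCharacter G)}
    (hind : IsInducedBlock M H b B) :
    ∃ c : Set (IrrCharacter Nn),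
      IsInducedBlock M (H.subgroupOf Nn)
        (irrComp (Subgroup.subgroupOfEquivOfLe hHN) '' b) c ∧ IsInducedBlock M Nn c B := by
  have hPN : P ≤ Nn := hPH.trans hHN
  haveI : (P.subgroupOf Nn).Normal :=
    (Subgroup.normal_subgroupOf_iff_le_normalizer hPN).2 hNn.le
  obtain ⟨c, hc⟩ := exists_induced hM (hP.of_equiv (Subgroup.subgroupOfEquivOfLe hPN).symm)
    (fun u hu => hPH hu) (fun u hu => hCH ((centralizer_subgroupOf_iff hPN u).1 hu))
    (fun w _ => Subgroup.le_normalizer_of_normal_subgroupOf le_top (Subgroup.mem_top w))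
    (isPBlock_image (M := M) (Subgroup.subgroupOfEquivOfLe hHN) hind.1)
  refine ⟨c, hc, hc.2.1, hind.2.1, fun ψ hψ χ hχ g => ?_⟩
  obtain ⟨ξ, hξ⟩ := exists_mem_block hind.1
  have h1 := induced_cong _ (hc.2.2 _ ⟨ξ, hξ, rfl⟩ ψ hψ)
    (isIntClass_resFun (M := M) Nn (isIntClass_classInd g))
  have h2 : omega (irrComp (Subgroup.subgroupOfEquivOfLe hHN) ξ : H.subgroupOf Nn → ℂ)
      (resFun _ (resFun Nn (classInd g))) = inducedCentralChar H (ξ : H → ℂ) g := by
    rw [inducedCentralChar_eq, ← omega_irrComp (Subgroup.subgroupOfEquivOfLe hHN)]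
    rfl
  rw [h2] at h1
  rw [inducedCentralChar_eq]
  exact memLocalIdeal_sub_trans (memLocalIdeal_sub_comm h1) (hind.2.2 ξ hξ χ hχ g)

/-- The induced block has defect group `P` exactly when the block of the normalizer has defect
`log_p |P|`. -/
theorem isDefectGroup_induced_iff (hM : IsPModular p M) (hP : IsPGroup p P) {Nn : Subgroup G}
    [Fintype Nn] (hNn : Nn = Subgroup.normalizer (P : Set G)) {c : Set (IrrCharacter Nn)}
    {B : Set (IrrCharacter G)} (hind : IsInducedBlock M Nn c B) :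
    IsDefectGroup p M B P ↔ Nat.card P = p ^ blockDefect p c := by
  subst hNn
  haveI : Fact p.Prime := ⟨hM.1⟩
  have hPN : P ≤ Subgroup.normalizer (P : Set G) := Subgroup.le_normalizer
  haveI : (P.subgroupOf (Subgroup.normalizer (P : Set G))).Normal :=
    (Subgroup.normal_subgroupOf_iff_le_normalizer hPN).2 le_rfl
  have hcard : Nat.card (P.subgroupOf (Subgroup.normalizer (P : Set G))) = Nat.card P :=
    Nat.card_congr (Subgroup.subgroupOfEquivOfLe hPN).toEquiv
  constructor
  · intro h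
    rw [← card_defectGroup hM hind.1 (isDefectGroup_of_induced hM hPN le_rfl h hind), hcard]
  · intro h
    obtain ⟨D, hD⟩ := exists_defectGroup hind.1 hM
    have hle := normal_le_defectGroup hM hind.1 hD (P.subgroupOf (Subgroup.normalizer (P : Set G)))
      (hP.of_equiv (Subgroup.subgroupOfEquivOfLe hPN).symm)
    have heq : P.subgroupOf (Subgroup.normalizer (P : Set G)) = D :=
      Subgroup.eq_of_le_of_card_ge hle (le_of_eq (by
        rw [card_defectGroup hM hind.1 hD, hcard, h]))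
    obtain ⟨B', -, hB', hind'⟩ := first_main_exists hM hind.1 (heq ▸ hD)
    rwa [induced_unique hind hind']

/-- Above an invariant block of `P C(P)` there is a single block. -/
theorem covers_unique (hM : IsPModular p M) (Q : Subgroup G) [Q.Normal] (hQ : IsPGroup p Q)
    [H.Normal] (hCH : Subgroup.centralizer (Q : Set G) ≤ H) {b : Set (IrrCharacter H)}
    (hb : IsPBlock M b) {B B' : Set (IrrCharacter G)} (hB : IsPBlock M B) (hB' : IsPBlock M B')
    (hcov : Covers B b) (hcov' : Covers B' b) : B = B' := by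
  obtain ⟨χ, hχ, θ, hθ, hc⟩ := hcov
  obtain ⟨χ', hχ', θ', hθ', hc'⟩ := hcov'
  refine block_eq_of_common hB hB' (χ := χ) hχ ((sameBlock_iff_mem hB' hχ').2 fun x => ?_)
  by_cases hx : x ∈ H
  · exact memLocalIdeal_sub_trans (covering_cong hB' hb hχ' hθ' hc' hχ' hθ' ⟨x, hx⟩)
      (memLocalIdeal_sub_comm (covering_cong hB hb hχ hθ hc hχ hθ' ⟨x, hx⟩))
  · exact memLocalIdeal_sub
      (centralChar_mem_ideal_of_normal hM Q hQ χ' fun h => hx (hCH h))
      (centralChar_mem_ideal_of_normal hM Q hQ χ fun h => hx (hCH h))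

/-- The defect of the block over `b` in a group containing `H` as a normal subgroup. -/
theorem defect_over (hM : IsPModular p M) (Q : Subgroup G) [Q.Normal] (hQ : IsPGroup p Q)
    [H.Normal] (hCH : Subgroup.centralizer (Q : Set G) ≤ H) {T : Subgroup G} [Fintype T]
    (hHT : H ≤ T) {b : Set (IrrCharacter H)} (hb : IsPBlock M b) (hS : IsStab b T)
    {c : Set (IrrCharacter G)} (hc : IsPBlock M c) (hQH : Q ≤ H)
    (hind : IsInducedBlock M H b c) :
    blockDefect p c = blockDefect p b + (H.relIndex T).factorization p := by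
  classical
  obtain ⟨θ₀, hθ₀⟩ := exists_mem_block hb
  obtain ⟨χ, hχ⟩ := exists_mem_block hc
  obtain ⟨θ, hθ, hcθ⟩ := exists_constituent_of_cong hb (χ := χ) hθ₀ fun n =>
    memLocalIdeal_sub_comm (hind.2.2 θ₀ hθ₀ χ hχ n)
  obtain ⟨ψ, hψ, hcψ⟩ := exists_stab_inducing hS hHT hθ hcθ
  obtain ⟨c₀, hind₀, -, h₁, h₂⟩ := stab_block_correspond hb hS hHT (isPBlock_blockOf (M := M) ψ)
    ⟨ψ, mem_blockOf_self ψ, θ, hθ, hcψ⟩
  have hcc : c = c₀ := block_eq_of_common hc hind₀.2.1 hχ
    (mem_induced_of_indFun hind₀ (mem_blockOf_self ψ) hψ)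
  subst hcc
  rw [(stab_defect_height (isPBlock_blockOf (M := M) ψ) h₁ h₂).1]
  haveI := Fintype.ofFinite (H.subgroupOf T)
  haveI := Fintype.ofFinite (Q.subgroupOf T)
  set e := Subgroup.subgroupOfEquivOfLe hHT
  have hβ : IsPBlock M (irrComp e '' b) := isPBlock_image e hb
  have hcov : Covers (blockOf M (ψ : T → ℂ)) (irrComp e '' b) := by
    refine ⟨ψ, mem_blockOf_self ψ, irrComp e θ, ⟨θ, hθ, rfl⟩, ?_⟩
    rw [show (irrComp e θ : H.subgroupOf T → ℂ) = pullBack (θ : H → ℂ) from rfl,
      classInner_pullBack_res hHT]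
    exact hcψ
  have hinv : orbitUnion (G := T) (irrComp e '' b) = irrComp e '' b := by
    ext φ
    refine ⟨?_, self_mem_orbitUnion⟩
    rintro ⟨t, _, ⟨η, hη, rfl⟩, rfl⟩
    exact ⟨conjIrr (t : G) η, (hS _ η hη).1 t.2, rfl⟩
  have hCT : Subgroup.centralizer ((Q.subgroupOf T : Subgroup T) : Set T) ≤ H.subgroupOf T :=
    fun w hw => hCH ((centralizer_subgroupOf_iff (hQH.trans hHT) w).1 hw)
  have hQT : IsPGroup p (Q.subgroupOf T) :=
    hQ.of_equiv (Subgroup.subgroupOfEquivOfLe (hQH.trans hHT)).symm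
  obtain ⟨D, hD⟩ := exists_defectGroup (p := p) (isPBlock_blockOf (M := M) ψ) hM
  obtain ⟨-, -, h⟩ := fong_defect hM hβ hinv (isPBlock_blockOf ψ) hcov
    (fun B' hB' hcov' => le_of_eq (by
      rw [covers_unique hM (Q.subgroupOf T) hQT hCT hβ hB' (isPBlock_blockOf ψ) hcov' hcov]))
    hD
  rw [h, blockDefect_image, Subgroup.relIndex]

/-- **S4437**. -/
theorem induced_full_defect_iff (hM : IsPModular p M) (hP : IsPGroup p P)
    (hH : H = P ⊔ Subgroup.centralizer (P : Set G)) {b : Set (IrrCharacter H)}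
    (hb : IsPBlock M b) (hbP : IsDefectGroup p M b (P.subgroupOf H))
    {B : Set (IrrCharacter G)} (hind : IsInducedBlock M H b B) {T : Subgroup G}
    (hT : ∀ g : G, g ∈ T ↔ (g ∈ Subgroup.normalizer (P : Set G) ∧ ∀ θ ∈ b,
      ∀ θ' : IrrCharacter H, (∀ h h' : H, (h' : G) = g * h * g⁻¹ →
        (θ' : H → ℂ) h' = (θ : H → ℂ) h) → θ' ∈ b)) :
    IsDefectGroup p M B P ↔ ¬ p ∣ H.relIndex T := by
  classical
  haveI : Fact p.Prime := ⟨hM.1⟩
  obtain ⟨Nn, hNn⟩ : ∃ Nn : Subgroup G, Nn = Subgroup.normalizer (P : Set G) := ⟨_, rfl⟩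
  haveI := Fintype.ofFinite Nn
  have hPH : P ≤ H := hH ▸ le_sup_left
  have hCH : Subgroup.centralizer (P : Set G) ≤ H := hH ▸ le_sup_right
  have hHN : H ≤ Nn := by
    rw [hH, hNn]
    exact sup_le Subgroup.le_normalizer (Subgroup.centralizer_le_normalizer _)
  haveI := Fintype.ofFinite (H.subgroupOf Nn)
  obtain ⟨c, hc, hcB⟩ := exists_induced_normalizer hM hP hPH hCH hNn hHN hind
  rw [isDefectGroup_induced_iff hM hP hNn hcB]
  have hPN : P ≤ Nn := hPH.trans hHN
  haveI hPn : (P.subgroupOf Nn).Normal :=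
    (Subgroup.normal_subgroupOf_iff_le_normalizer hPN).2 hNn.le
  haveI : (H.subgroupOf Nn).Normal := by
    rw [hH, Subgroup.subgroupOf_sup hPN (hCH.trans hHN)]
    haveI : ((Subgroup.centralizer (P : Set G)).subgroupOf Nn).Normal := by
      rw [show (Subgroup.centralizer (P : Set G)).subgroupOf Nn =
        Subgroup.centralizer ((P.subgroupOf Nn : Subgroup Nn) : Set Nn) from
        Subgroup.ext fun w => (centralizer_subgroupOf_iff hPN w).symm]
      exact Subgroup.normal_centralizer
    exact Subgroup.sup_normal _ _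
  set e := Subgroup.subgroupOfEquivOfLe hHN
  have hTN : T ≤ Nn := fun g hg => hNn ▸ ((hT g).1 hg).1
  have hHT : H ≤ T := by
    intro h hh
    refine (hT h).2 ⟨hNn ▸ hHN hh, fun θ hθ θ' he => ?_⟩
    rw [show θ' = θ from Subtype.ext (funext fun x => ?_)]
    · exact hθ
    · have hx := he ((⟨h, hh⟩ : H)⁻¹ * x * ⟨h, hh⟩) x (by simp [mul_assoc])
      rw [hx]
      have := isClassFunction_irr θ x (⟨h, hh⟩ : H)⁻¹
      rwa [inv_inv] at this
  haveI := Fintype.ofFinite (T.subgroupOf Nn)
  have hβ : IsPBlock M (irrComp e '' b) := isPBlock_image e hb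
  have hS : IsStab (irrComp e '' b) (T.subgroupOf Nn) := by
    rintro g _ ⟨θ, hθ, rfl⟩
    constructor
    · intro hg
      refine ⟨irrComp e.symm (conjIrr g (irrComp e θ)), ?_, irrComp_symm' e _⟩
      refine ((hT _).1 (T.inv_mem (Subgroup.mem_subgroupOf.1 hg))).2 θ hθ _ fun h h' hh' => ?_
      show (θ : H → ℂ) _ = (θ : H → ℂ) h
      refine congrArg (θ : H → ℂ) (Subtype.ext ?_)
      show (g : G) * (h' : G) * (g : G)⁻¹ = (h : G)
      rw [hh']
      group
    · intro hg
      rw [Subgroup.mem_subgroupOf, ← T.inv_mem_iff]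
      refine (hT _).2 ⟨Subgroup.inv_mem _ (hNn ▸ g.2), fun η hη η' he => ?_⟩
      have e1 : irrComp e η' = conjIrr g (irrComp e η) := by
        refine Subtype.ext (funext fun n => ?_)
        have hmem : (g : G) * ((n : Nn) : G) * (g : G)⁻¹ ∈ H :=
          Subgroup.mem_subgroupOf.1 (Subgroup.Normal.conj_mem inferInstance _ n.2 g)
        refine he ⟨_, hmem⟩ (e n) ?_
        show ((n : Nn) : G) = (g : G)⁻¹ * ((g : G) * (n : Nn) * (g : G)⁻¹) * (g : G)⁻¹⁻¹
        group
      have h1 : irrComp e η' ∈ irrComp e '' b := by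
        rw [e1]
        exact (sameBlock_iff_mem hβ hg).2
          (sameBlock_conjIrr g ((sameBlock_irrComp e θ η).2 (sameBlock_of_mem hb hθ hη)))
      obtain ⟨η₀, hη₀, he0⟩ := h1
      exact irrComp_injective e he0 ▸ hη₀
  have hd := defect_over hM (P.subgroupOf Nn) (hP.of_equiv (Subgroup.subgroupOfEquivOfLe hPN).symm)
    (fun w hw => hCH ((centralizer_subgroupOf_iff hPN w).1 hw)) (fun w hw => hHT hw) hβ hS hc.2.1
    (fun w hw => hPH hw) hc
  rw [blockDefect_image, Subgroup.relIndex_subgroupOf hTN] at hd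
  rw [hd, ← Nat.card_congr (Subgroup.subgroupOfEquivOfLe hPH).toEquiv, card_defectGroup hM hb hbP]
  have h0 : H.relIndex T ≠ 0 := Subgroup.index_ne_zero_of_finite
  constructor
  · intro h hdvd
    have := Nat.pow_right_injective hM.1.two_le h
    have := (hM.1.dvd_iff_one_le_factorization h0).1 hdvd
    omega
  · intro h
    rw [Nat.factorization_eq_zero_of_not_dvd h, add_zero]

end

end CfsgLib.Block
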