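import Cfsg.Agent.Blocks.BrauerBasis
import Cfsg.Agent.Char.PowTwist
import Mathlib.RingTheory.ZMod.UnitsCyclic

/-!
# Galois action on the generalised decomposition numbers

A power map fixing the `p'`-parts permutes the members of a block and, up to scalars of one, a basis
indexed by subsections and Brauer characters.
-/

set_option autoImplicit false
set_option linter.style.haveILetI false
set_option linter.unusedSectionVars false

namespace CfsgLib.GaloisSection

open Cfsg Finset CfsgLib.Block CfsgLib.Block.Chr CfsgLib.BrauerBasis Module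
open scoped Classical

universe u

/-- The trace of a map permuting a basis counts the fixed vectors. -/
theorem trace_permBasis {V : Type*} [AddCommGroup V] [Module ℂ V] {ι : Type*} [Fintype ι]
    (b : Basis ι ℂ V) (T : V →ₗ[ℂ] V) (π : ι → ι) (h : ∀ i, T (b i) = b (π i)) :
    LinearMap.trace ℂ V T = ((univ.filter fun i => π i = i).card : ℂ) := by
  rw [LinearMap.trace_eq_matrix_trace ℂ b, Matrix.trace]
  simp [LinearMap.toMatrix_apply, h, Finsupp.single_apply, sum_boole]

variable {M : Ideal AlgInt} [M.IsPrime] {p : ℕ} [Fact p.Prime]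
  {G : Type u} [Group G] [Fintype G]

/-- Representatives of the classes of `p`-elements. -/
theorem exists_reps : ∃ X : Finset G, (∀ x ∈ X, ∃ k : ℕ, orderOf x = p ^ k) ∧
    (∀ g : G, (∃ k : ℕ, orderOf g = p ^ k) → ∃! x, x ∈ X ∧ IsConj g x) := by
  let rep : ConjClasses G → G := fun K => K.exists_rep.choose
  have hrep : ∀ g, IsConj (rep (ConjClasses.mk g)) g := fun g =>
    ConjClasses.mk_eq_mk_iff_isConj.1 (ConjClasses.mk g).exists_rep.choose_spec
  refine ⟨(univ.filter fun g => ∃ k : ℕ, orderOf g = p ^ k).image fun g => rep (ConjClasses.mk g),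
    fun x hx => ?_, fun g hg => ⟨rep (ConjClasses.mk g),
      ⟨mem_image_of_mem _ (mem_filter.2 ⟨mem_univ _, hg⟩), (hrep g).symm⟩, ?_⟩⟩
  · obtain ⟨g, hg, rfl⟩ := mem_image.1 hx
    obtain ⟨c, hc⟩ := isConj_iff.1 (hrep g).symm
    obtain ⟨k, hk⟩ := (mem_filter.1 hg).2
    exact ⟨k, by rw [← hc, ← MulAut.conj_apply, MulEquiv.orderOf_eq, hk]⟩
  · rintro x ⟨hx, hgx⟩
    obtain ⟨g', -, rfl⟩ := mem_image.1 hx
    exact congrArg rep (ConjClasses.mk_eq_mk_iff_isConj.2 ((hrep g').symm.trans hgx.symm))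

theorem single_mem_range_secIncl {B : Set (IrrCharacter G)} {X : Finset G} {x : {x // x ∈ X}}
    {β : Subgroup.centralizer ({(x : G)} : Set G) → ℂ} (hβ : β ∈ secSpace p M B (x : G)) :
    Pi.single x β ∈ LinearMap.range (secIncl p M B X) := by
  refine ⟨Pi.single x ⟨β, hβ⟩, funext fun z => ?_⟩
  simp only [secIncl, LinearMap.pi_apply, LinearMap.comp_apply, LinearMap.proj_apply,
    Submodule.subtype_apply]
  by_cases hz : z = x
  · subst hz; rw [Pi.single_eq_same, Pi.single_eq_same]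
  · rw [Pi.single_eq_of_ne hz, Pi.single_eq_of_ne hz, ZeroMemClass.coe_zero]

/-- A regular element is fixed by the power map. -/
theorem pow_eq_self {C : Type*} [Group C] {k : ℕ} (hC : Nat.card C ∣ Nat.card G)
    (hk : k ≡ 1 [MOD Nat.card G / p ^ (Nat.card G).factorization p]) {c : C}
    (hc : ¬ p ∣ orderOf c) : c ^ k = c := by
  have h : orderOf c ∣ Nat.card G / p ^ (Nat.card G).factorization p := by
    refine (((Fact.out : p.Prime).coprime_iff_not_dvd.2 hc).pow_left
      ((Nat.card G).factorization p)).symm.dvd_of_dvd_mul_left ?_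
    rw [Nat.ordProj_mul_ordCompl_eq_self]
    exact (orderOf_dvd_natCard c).trans hC
  conv_rhs => rw [← pow_one c]
  exact pow_eq_pow_iff_modEq.2 (hk.of_dvd h)

set_option maxHeartbeats 1600000 in
/-- **A power map fixing the `p'`-parts fixes at least as many members of a block as its rank.** -/
theorem blockRank_le_fixed (hM : IsPModular p M) {B : Set (IrrCharacter G)} (hB : IsPBlock M B)
    {k : ℕ} (hkc : k.Coprime (Nat.card G))
    (hk : k ≡ 1 [MOD Nat.card G / p ^ (Nat.card G).factorization p]) :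
    blockRank p B ≤ Nat.card {χ : IrrCharacter G //
      χ ∈ B ∧ ∀ g : G, (χ : G → ℂ) (g ^ k) = (χ : G → ℂ) g} := by
  haveI : CharP (Residue M) p := charP_residue hM
  letI := irrFintype (G := G)
  haveI hC : ∀ x : G, Fintype (Subgroup.centralizer ({x} : Set G)) := fun x => Fintype.ofFinite _
  obtain ⟨X, hX, hXrep⟩ := exists_reps (p := p) (G := G)
  obtain ⟨hinj, hrange⟩ := secMap_bijective hM hB X hX hXrep
  let V := charSpan B
  let R := (secMap p X).comp V.subtype
  -- the permutation of the members of the block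
  have hkG : ∀ g : G, k.Coprime (orderOf g) := fun g =>
    hkc.coprime_dvd_right (orderOf_dvd_natCard g)
  let σ : IrrCharacter G → IrrCharacter G := fun χ =>
    ⟨fun g => (χ : G → ℂ) (g ^ k), CfsgLib.Char.PowTwist.isIrrCharacter_pow hkc χ.2⟩
  have hreg : ∀ g : G, ¬ p ∣ orderOf g → g ^ k = g := fun g hg => pow_eq_self dvd_rfl hk hg
  have hσB : ∀ χ ∈ B, σ χ ∈ B := fun χ hχ => by
    refine (sameBlock_iff_mem hB hχ).2 (sameBlock_of_regular hM χ (σ χ) fun g hg => ?_)
    rw [show centralChar ((σ χ : IrrCharacter G) : G → ℂ) g = centralChar (χ : G → ℂ) g by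
      show _ * (χ : G → ℂ) (g ^ k) / (χ : G → ℂ) (1 ^ k) = _
      rw [hreg g hg, one_pow]; rfl, sub_self]
    exact memLocalIdeal_zero
  haveI : Fintype {χ // χ ∈ B} := Fintype.ofFinite _
  let π₁ : {χ // χ ∈ B} → {χ // χ ∈ B} := fun χ => ⟨σ χ.1, hσB χ.1 χ.2⟩
  let b₁ : Basis {χ // χ ∈ B} ℂ V := Basis.span
    (CfsgLib.Char.linearIndependent_irr.comp _ Subtype.val_injective)
  have hb₁ : ∀ i, (b₁ i : G → ℂ) = (i.1 : G → ℂ) := fun i =>
    congrArg Subtype.val (Basis.span_apply _ i)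
  let P : (G → ℂ) →ₗ[ℂ] (G → ℂ) := LinearMap.funLeft ℂ ℂ fun g => g ^ k
  have hP : ∀ f ∈ V, P f ∈ V := fun f hf => by
    have hle : V ≤ V.comap P := Submodule.span_le.2 (by
      rintro _ ⟨χ, rfl⟩
      exact Submodule.subset_span ⟨π₁ χ, rfl⟩)
    exact hle hf
  let T : V →ₗ[ℂ] V := P.restrict hP
  have hT₁ : ∀ i, T (b₁ i) = b₁ (π₁ i) := fun i => Subtype.ext (by
    rw [hb₁]
    show P (b₁ i : G → ℂ) = _
    rw [hb₁]; rfl)
  have hclass : ∀ f ∈ V, IsClassFunction G f := fun f hf => by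
    induction hf using Submodule.span_induction with
    | mem f hf => obtain ⟨χ, rfl⟩ := hf; exact isClassFunction_irr χ.1
    | zero => exact fun g x => rfl
    | add f f' _ _ h h' => exact fun g x => by simp [h g x, h' g x]
    | smul c f _ h => exact fun g x => by simp [h g x]
  -- the permutation of the sections
  have hρex : ∀ y : {x // x ∈ X}, ∃ (x : {x // x ∈ X}) (h : G),
      h * (x : G) * h⁻¹ = (y : G) ^ k := fun y => by
    obtain ⟨j, hj⟩ := hX y y.2
    obtain ⟨x, ⟨hx, hc⟩, -⟩ := hXrep ((y : G) ^ k) ⟨j, by rw [(hkG _).symm.orderOf_pow, hj]⟩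
    obtain ⟨h, hh⟩ := isConj_iff.1 hc.symm
    exact ⟨⟨x, hx⟩, h, hh⟩
  choose ρ t ht using hρex
  have hρinj : Function.Injective ρ := by
    intro y y' he
    obtain ⟨j, hj⟩ := hX y y.2
    have h1 : (t y' * (t y)⁻¹ * (y : G) * (t y' * (t y)⁻¹)⁻¹) ^ k = (y' : G) ^ k := by
      rw [conj_pow, ← ht y, ← ht y', he]; group
    have h2 := (powCoprime (G := G) hkc.symm).injective h1
    exact Subtype.ext ((hXrep y ⟨j, hj⟩).unique ⟨y.2, IsConj.refl _⟩
      ⟨y'.2, isConj_iff.2 ⟨_, h2⟩⟩)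
  have hcomm : ∀ (y : {x // x ∈ X}) (c : G), Commute c ((y : G) ^ k) → Commute c (y : G) := fun y c h => by
    obtain ⟨j, hj⟩ := exists_pow_eq_self_of_coprime (hkG (y : G))
    exact hj ▸ h.pow_right j
  have hfwd : ∀ (y : {x // x ∈ X}) (c : G), Commute c (y : G) →
      (t y)⁻¹ * c * t y ∈ Subgroup.centralizer ({(ρ y : G)} : Set G) := fun y c h => by
    rw [Subgroup.mem_centralizer_singleton_iff]
    have h2 := (h.pow_right k).map (MulAut.conj (t y)⁻¹)
    rw [← ht y, MulAut.conj_apply, MulAut.conj_apply, inv_inv] at h2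
    have e : (t y)⁻¹ * (t y * (ρ y : G) * (t y)⁻¹) * t y = (ρ y : G) := by group
    rw [e] at h2
    exact h2.eq
  have hback : ∀ (y : {x // x ∈ X}) (c : Subgroup.centralizer ({(ρ y : G)} : Set G)),
      t y * (c : G) * (t y)⁻¹ ∈ Subgroup.centralizer ({(y : G)} : Set G) := fun y c => by
    rw [Subgroup.mem_centralizer_singleton_iff]
    refine (hcomm y _ ?_).eq
    rw [← ht y, ← MulAut.conj_apply, ← MulAut.conj_apply]
    exact Commute.map (Subgroup.mem_centralizer_singleton_iff.1 c.2) (MulAut.conj (t y))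
  let e : ∀ y : {x // x ∈ X}, Subgroup.centralizer ({(y : G)} : Set G) ≃*
      Subgroup.centralizer ({(ρ y : G)} : Set G) := fun y =>
    { toFun := fun c => ⟨(t y)⁻¹ * (c : G) * t y,
        hfwd y c (Subgroup.mem_centralizer_singleton_iff.1 c.2)⟩
      invFun := fun c => ⟨t y * (c : G) * (t y)⁻¹, hback y c⟩
      left_inv := fun c => Subtype.ext (by show t y * ((t y)⁻¹ * (c : G) * t y) * (t y)⁻¹ = _; group)
      right_inv := fun c => Subtype.ext (by show (t y)⁻¹ * (t y * (c : G) * (t y)⁻¹) * t y = _; group)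
      map_mul' := fun c d => Subtype.ext (by
        show (t y)⁻¹ * ((c : G) * (d : G)) * t y =
          (t y)⁻¹ * (c : G) * t y * ((t y)⁻¹ * (d : G) * t y)
        group) }
  have hshift : ∀ (f : V) (y : {x // x ∈ X}) (c : Subgroup.centralizer ({(y : G)} : Set G)),
      R (T f) y c = R f (ρ y) (e y c) := by
    intro f y c
    show regPart p (fun c : Subgroup.centralizer ({(y : G)} : Set G) =>
        (f : G → ℂ) (((y : G) * (c : G)) ^ k)) c =
      regPart p (fun c : Subgroup.centralizer ({(ρ y : G)} : Set G) =>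
        (f : G → ℂ) ((ρ y : G) * (c : G))) (e y c)
    by_cases hc : p ∣ orderOf c
    · rw [regPart_of_dvd hc, regPart_of_dvd ((e y).orderOf_eq c ▸ hc)]
    · rw [regPart_of_not_dvd hc, regPart_of_not_dvd ((e y).orderOf_eq c ▸ hc)]
      have h1 : Commute (y : G) (c : G) :=
        (Subgroup.mem_centralizer_singleton_iff.1 c.2 : Commute (c : G) (y : G)).symm
      rw [h1.mul_pow, hreg (c : G) (by rwa [Subgroup.orderOf_coe]), ← ht y]
      show (f : G → ℂ) _ = (f : G → ℂ) ((ρ y : G) * ((t y)⁻¹ * (c : G) * t y))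
      rw [← hclass _ f.2 ((ρ y : G) * ((t y)⁻¹ * (c : G) * t y)) (t y)]
      group
  -- the basis of the sections
  let 𝓑 : ∀ x : {x // x ∈ X}, Set (Subgroup.centralizer ({(x : G)} : Set G) → ℂ) := fun x =>
    {β | β ∈ bset p M _ ∧ β ∈ secSpace p M B (x : G)}
  have h𝓑li : ∀ x, LinearIndepOn ℂ id (𝓑 x) := fun x =>
    (linearIndepOn_bset hM).mono fun β h => h.1
  haveI h𝓑fin : ∀ x, Fintype (𝓑 x) := fun x =>
    Set.Finite.fintype ((h𝓑li x).linearIndependent.setFinite)
  have hspan : ∀ x : {x // x ∈ X}, Submodule.span ℂ (𝓑 x) = secSpace p M B (x : G) := by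
    intro x
    refine le_antisymm (Submodule.span_le.2 fun β h => h.2) (Submodule.span_le.2 ?_)
    rintro _ ⟨φ, hφ, rfl⟩
    suffices hsub : bsetB p M (blockOf M (φ : Subgroup.centralizer ({(x : G)} : Set G) → ℂ)) ⊆ 𝓑 x from
      Submodule.span_mono hsub (regPart_mem_span hM (isPBlock_blockOf φ) (mem_blockOf_self φ))
    intro β hβ
    refine ⟨bsetB_subset _ hβ, ?_⟩
    have hb : β ∈ Submodule.span ℂ
        (bsetB p M (blockOf M (φ : Subgroup.centralizer ({(x : G)} : Set G) → ℂ))) :=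
      Submodule.subset_span hβ
    rw [span_bsetB hM (isPBlock_blockOf φ)] at hb
    refine (Submodule.span_mono ?_ : _ ≤ secSpace p M B (x : G)) hb
    rintro _ ⟨ψ, hψ, rfl⟩
    refine ⟨ψ, ?_, rfl⟩
    show IsInducedBlock M _ (blockOf M (ψ : Subgroup.centralizer ({(x : G)} : Set G) → ℂ)) B
    rw [← eq_blockOf_of_mem (isPBlock_blockOf φ) hψ]
    exact hφ
  have hpre : ∀ i : Σ x : {x // x ∈ X}, 𝓑 x,
      ∃ f : V, R f = Pi.single i.1 (i.2 : Subgroup.centralizer ({(i.1 : G)} : Set G) → ℂ) := fun i => by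
    show Pi.single i.1 _ ∈ LinearMap.range R
    rw [show LinearMap.range R = _ from hrange]
    exact single_mem_range_secIncl i.2.2.2
  choose v hv using hpre
  have hvli : LinearIndependent ℂ v := by
    refine LinearIndependent.of_comp R ?_
    rw [show R ∘ v = fun i : Σ x : {x // x ∈ X}, 𝓑 x =>
      Pi.single i.1 (i.2 : Subgroup.centralizer ({(i.1 : G)} : Set G) → ℂ) from funext hv]
    exact Pi.linearIndependent_single (fun x (β : 𝓑 x) =>
      (β : Subgroup.centralizer ({(x : G)} : Set G) → ℂ)) fun x => (h𝓑li x).linearIndependent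
  have hvspan : ⊤ ≤ Submodule.span ℂ (Set.range v) := by
    intro f _
    have h1 : R f ∈ (Submodule.span ℂ (Set.range v)).map R := by
      have h2 : ∀ x : {x // x ∈ X}, R f x ∈ secSpace p M B (x : G) := fun x => by
        obtain ⟨w, hw⟩ := (hrange.le (LinearMap.mem_range_self R f))
        rw [← hw]; exact (w x).2
      rw [← Finset.univ_sum_single (R f)]
      refine Submodule.sum_mem _ fun x _ => ?_
      have hle : secSpace p M B (x : G) ≤ ((Submodule.span ℂ (Set.range v)).map R).comap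
          (LinearMap.single ℂ (fun x : {x // x ∈ X} =>
            Subgroup.centralizer ({(x : G)} : Set G) → ℂ) x) := by
        rw [← hspan x, Submodule.span_le]
        intro β hβ
        exact ⟨v ⟨x, β, hβ⟩, Submodule.subset_span ⟨_, rfl⟩, hv _⟩
      exact hle (h2 x)
    obtain ⟨w, hw, he⟩ := h1
    rwa [← hinj he]
  let b₂ := Basis.mk hvli hvspan
  have hmem : ∀ i : Σ x : {x // x ∈ X}, 𝓑 x, ∀ y : {x // x ∈ X}, (fun c => R (v i) (ρ y) (e y c)) ∈
      secSpace p M B (y : G) := fun i y => by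
    obtain ⟨w, hw⟩ := hrange.le (LinearMap.mem_range_self R (T (v i)))
    rw [show (fun c => R (v i) (ρ y) (e y c)) = R (T (v i)) y from
      funext fun c => (hshift (v i) y c).symm, ← hw]
    exact (w y).2
  have hπex : ∀ i : Σ x : {x // x ∈ X}, 𝓑 x, ∃ j : Σ x : {x // x ∈ X}, 𝓑 x,
      T (v i) = v j ∧ ((i.1 : G) = 1 → j = i) := by
    intro i
    obtain ⟨x', β, hβ⟩ := i
    obtain ⟨y, rfl⟩ := (Finite.injective_iff_surjective.1 hρinj) x'
    have hy : R (v ⟨ρ y, β, hβ⟩) (ρ y) = β := by rw [hv]; simp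
    have hm : (fun c => β (e y c)) ∈ 𝓑 y := ⟨comp_mem_bset (e y) hβ.1, by
      have := hmem ⟨ρ y, β, hβ⟩ y
      rwa [hy] at this⟩
    refine ⟨⟨y, _, hm⟩, hinj (funext fun z => funext fun c => ?_), fun h1 => ?_⟩
    · show R (T (v ⟨ρ y, β, hβ⟩)) z c = R (v ⟨y, _, hm⟩) z c
      rw [hshift, hv, hv]
      by_cases hz : z = y
      · subst hz
        rw [Pi.single_eq_same, Pi.single_eq_same]
      · rw [Pi.single_eq_of_ne hz, Pi.single_eq_of_ne fun hh => hz (hρinj hh)]
        rfl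
    · have h1' : (ρ y : G) = 1 := h1
      have hyy : y = ρ y := by
        have h2 : (y : G) ^ k = 1 := by rw [← ht y, h1', mul_one, mul_inv_cancel]
        refine Subtype.ext ((powCoprime (G := G) hkc.symm).injective ?_)
        show (y : G) ^ k = (ρ y : G) ^ k
        rw [h2, h1', one_pow]
      have hmk : ∀ (x x' : {x // x ∈ X}) (γ : 𝓑 x) (γ' : 𝓑 x'), x = x' →
          (∀ (c : G) (hc : c ∈ Subgroup.centralizer ({(x : G)} : Set G))
            (hc' : c ∈ Subgroup.centralizer ({(x' : G)} : Set G)),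
            γ.1 ⟨c, hc⟩ = γ'.1 ⟨c, hc'⟩) →
          (⟨x, γ⟩ : Σ x : {x // x ∈ X}, 𝓑 x) = ⟨x', γ'⟩ := by
        rintro x x' γ γ' rfl hg
        exact Sigma.ext rfl (heq_of_eq (Subtype.ext (funext fun c => hg c.1 c.2 c.2)))
      refine hmk _ _ _ _ hyy fun c hc hc' => ?_
      have htm : (t y)⁻¹ ∈ Subgroup.centralizer ({(ρ y : G)} : Set G) := by
        rw [Subgroup.mem_centralizer_singleton_iff, h1', mul_one, one_mul]
      obtain ⟨m, -, hf⟩ := hβ.1
      have hcl : IsClassFunction (Subgroup.centralizer ({(ρ y : G)} : Set G)) β :=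
        hf ▸ isClassFunction_bchar
      show β _ = β _
      rw [← hcl ⟨c, hc'⟩ ⟨(t y)⁻¹, htm⟩]
      congr 1
      refine Subtype.ext ?_
      show (t y)⁻¹ * c * t y = (t y)⁻¹ * c * (t y)⁻¹⁻¹
      rw [inv_inv]
  choose π₂ hπ₂ hπ₂one using hπex
  have hb₂ : ∀ i, T (b₂ i) = b₂ (π₂ i) := fun i => by
    rw [Basis.mk_apply, Basis.mk_apply]; exact hπ₂ i
  have htr : (univ.filter fun i => π₁ i = i).card = (univ.filter fun i => π₂ i = i).card := by
    have h' := Nat.cast_injective
      ((trace_permBasis b₁ T π₁ hT₁).symm.trans (trace_permBasis b₂ T π₂ hb₂))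
    convert h'
  -- the principal section
  obtain ⟨x₁, ⟨hx₁, hconj⟩, -⟩ := hXrep 1 ⟨0, by simp⟩
  have hx₁' : x₁ = 1 := isConj_one_right.1 hconj
  let o : {x // x ∈ X} := ⟨x₁, hx₁⟩
  let Φ : (G → ℂ) →ₗ[ℂ] (Subgroup.centralizer ({(o : G)} : Set G) → ℂ) :=
    LinearMap.funLeft ℂ ℂ Subtype.val
  have hΦ : Function.Injective Φ := fun f f' h => funext fun g => congrFun h
    ⟨g, by rw [Subgroup.mem_centralizer_singleton_iff]; simp [o, hx₁']⟩
  let W := Submodule.span ℂ ((fun χ : IrrCharacter G => pRegularPart p (χ : G → ℂ)) '' B)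
  have hRo : ∀ χ : {χ // χ ∈ B}, R (b₁ χ) o = Φ (pRegularPart p (χ.1 : G → ℂ)) := fun χ => by
    funext c
    show regPart p (fun c : Subgroup.centralizer ({(o : G)} : Set G) =>
      (b₁ χ : G → ℂ) ((o : G) * (c : G))) c = pRegularPart p (χ.1 : G → ℂ) (c : G)
    rw [CfsgLib.Block.pRegularPart_eq, hb₁]
    simp only [regPart, Subgroup.orderOf_coe, o, hx₁', one_mul]
  have hle : secSpace p M B (o : G) ≤ W.map Φ := by
    intro β hβ
    obtain ⟨f, hf⟩ : Pi.single o β ∈ LinearMap.range R := by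
      rw [show LinearMap.range R = _ from hrange]
      exact single_mem_range_secIncl hβ
    have hgen : ∀ f : V, R f o ∈ W.map Φ := by
      have hle : ⊤ ≤ (W.map Φ).comap ((LinearMap.proj (φ := fun x : {x // x ∈ X} =>
          Subgroup.centralizer ({(x : G)} : Set G) → ℂ) o).comp R) := by
        rw [← b₁.span_eq, Submodule.span_le]
        rintro _ ⟨χ, rfl⟩
        rw [SetLike.mem_coe, Submodule.mem_comap]
        show R (b₁ χ) o ∈ W.map Φ
        rw [hRo]
        exact Submodule.mem_map_of_mem (Submodule.subset_span ⟨χ.1, χ.2, rfl⟩)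
      exact fun f => hle Submodule.mem_top
    have := hgen f
    rwa [hf, Pi.single_eq_same] at this
  have hge : W.map Φ ≤ secSpace p M B (o : G) := by
    rw [Submodule.map_span, Submodule.span_le]
    rintro _ ⟨_, ⟨χ, hχ, rfl⟩, rfl⟩
    rw [← hRo ⟨χ, hχ⟩]
    obtain ⟨w, hw⟩ := hrange.le (LinearMap.mem_range_self R (b₁ ⟨χ, hχ⟩))
    rw [← hw]
    exact (w o).2
  have hcard : blockRank p B = Fintype.card (𝓑 o) := by
    rw [← Set.toFinset_card, ← finrank_span_set_eq_card (h𝓑li o).linearIndependent, hspan,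
      le_antisymm hle hge]
    exact (Submodule.equivMapOfInjective Φ hΦ W).finrank_eq
  calc blockRank p B = Fintype.card (𝓑 o) := hcard
    _ ≤ (univ.filter fun i => π₂ i = i).card := by
      rw [← card_univ, ← card_map ⟨fun β => (⟨o, β⟩ : Σ x : {x // x ∈ X}, 𝓑 x),
        fun β γ h => eq_of_heq (Sigma.mk.inj h).2⟩]
      refine card_le_card fun i hi => ?_
      obtain ⟨β, -, rfl⟩ := mem_map.1 hi
      exact mem_filter.2 ⟨mem_univ _, hπ₂one _ hx₁'⟩
    _ = (univ.filter fun i => π₁ i = i).card := htr.symm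
    _ ≤ _ := by
      rw [← Fintype.card_subtype, ← Nat.card_eq_fintype_card]
      refine Nat.card_le_card_of_injective (fun i => ⟨i.1.1, i.1.2, fun g => ?_⟩) fun i j h =>
        Subtype.ext (Subtype.ext (Subtype.mk.inj h))
      exact congrFun (congrArg Subtype.val (congrArg Subtype.val i.2)) g

/-- For odd `p` one power map generates all those fixing the `p'`-parts. -/
theorem exists_generator (hodd : p ≠ 2) {n : ℕ} (hn : n ≠ 0) :
    ∃ k₀ : ℕ, k₀.Coprime n ∧ k₀ ≡ 1 [MOD n / p ^ n.factorization p] ∧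
      ∀ k : ℕ, k.Coprime n → k ≡ 1 [MOD n / p ^ n.factorization p] →
        ∃ i : ℕ, k ≡ k₀ ^ i [MOD n] := by
  have hp : p.Prime := Fact.out
  set a := n.factorization p
  set m := n / p ^ a
  have hnm : p ^ a * m = n := Nat.ordProj_mul_ordCompl_eq_self n p
  have hcop : Nat.Coprime (p ^ a) m := (hp.coprime_iff_not_dvd.2 (Nat.not_dvd_ordCompl hp hn)).pow_left a
  haveI := ZMod.isCyclic_units_of_prime_pow p hp hodd a
  haveI : NeZero (p ^ a) := ⟨pow_ne_zero _ hp.ne_zero⟩
  obtain ⟨r, hr⟩ := IsCyclic.exists_generator (α := (ZMod (p ^ a))ˣ)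
  obtain ⟨k₀, hk1, hk2⟩ := Nat.chineseRemainder hcop (r : ZMod (p ^ a)).val 1
  have hc1 : k₀.Coprime (p ^ a) := by
    rw [Nat.Coprime, hk1.gcd_eq]
    exact ZMod.val_coe_unit_coprime r
  have hc2 : k₀.Coprime m := by
    rw [Nat.Coprime, hk2.gcd_eq, Nat.gcd_one_left]
  refine ⟨k₀, hnm ▸ Nat.Coprime.mul_right hc1 hc2, hk2, fun k hk hk' => ?_⟩
  obtain ⟨i, hi⟩ := (mem_powers_iff_mem_zpowers.2
    (hr (ZMod.unitOfCoprime k (hk.coprime_dvd_right (hnm ▸ dvd_mul_right _ _)))))
  refine ⟨i, ?_⟩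
  rw [← hnm, ← Nat.modEq_and_modEq_iff_modEq_mul hcop]
  refine ⟨?_, hk'.trans (by simpa using (hk2.pow i).symm)⟩
  refine (ZMod.natCast_eq_natCast_iff _ _ _).1 ?_
  have h1 : (k₀ : ZMod (p ^ a)) = r := by
    rw [(ZMod.natCast_eq_natCast_iff _ _ _).2 hk1, ZMod.natCast_val, ZMod.cast_id]
  rw [Nat.cast_pow, h1, ← Units.val_pow_eq_pow_val]
  exact (congrArg Units.val hi).symm

end CfsgLib.GaloisSection
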