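import Cfsg.Agent.Blocks.Section
import Cfsg.Agent.Blocks.BrauerFeit
import Cfsg.Agent.Char.Galois
import Cfsg.Agent.Char.Basic
import Mathlib.GroupTheory.Transfer

/-!
# The principal 2-block of a group with a Klein four Sylow subgroup and one class of involutions
-/

namespace CfsgLib.Block

open Cfsg Finset CfsgLib.Block.Chr CfsgLib.Char
open scoped ComplexConjugate

set_option linter.unusedSectionVars false
set_option linter.style.haveILetI false

universe u

variable {G : Type u} [Group G] [Fintype G]

/-- Burnside: the centralizer of an involution of a Klein four Sylow subgroup has a normal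
`2`-complement of index `4`. -/
theorem exists_complement_centralizer (P : Sylow 2 G) (hcard : Nat.card P = 4)
    (hexp : ∀ x : P, x * x = 1) {z : G} (hz : z ∈ (P : Subgroup G)) (hz1 : z ≠ 1) :
    ∃ K : Subgroup (Subgroup.centralizer ({z} : Set G)), K.Normal ∧ ¬ 2 ∣ Nat.card K ∧
      K.index = 2 ^ 2 := by
  classical
  haveI : Fact (Nat.Prime 2) := ⟨Nat.prime_two⟩
  set C := Subgroup.centralizer ({z} : Set G) with hC
  have hab : ∀ a ∈ (P : Subgroup G), ∀ b ∈ (P : Subgroup G), a * b = b * a := by
    intro a ha b hb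
    have h1 : a * a = 1 := congrArg Subtype.val (hexp ⟨a, ha⟩)
    have h2 : b * b = 1 := congrArg Subtype.val (hexp ⟨b, hb⟩)
    have h3 : a * b * (a * b) = 1 := congrArg Subtype.val (hexp ⟨a * b, mul_mem ha hb⟩)
    calc a * b = a * (a * b * (a * b)) * b := by rw [h3, mul_one]
      _ = (a * a) * (b * a) * (b * b) := by group
      _ = b * a := by rw [h1, h2, one_mul, mul_one]
  have hPC : (P : Subgroup G) ≤ C := fun u hu =>
    Subgroup.mem_centralizer_singleton_iff.2 (hab u hu z hz)
  let Q : Sylow 2 C := P.subtype hPC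
  have hQ : (Q : Subgroup C) = (P : Subgroup G).subgroupOf C := rfl
  have hQn : Subgroup.normalizer ((Q : Subgroup C) : Set C) ≤
      Subgroup.centralizer ((Q : Subgroup C) : Set C) := by
    intro n hn
    have hmap : ∀ u ∈ (P : Subgroup G), (n : G) * u * (n : G)⁻¹ ∈ (P : Subgroup G) := fun u hu =>
      (Subgroup.mem_normalizer_iff.1 hn ⟨u, hPC hu⟩).1 hu
    have hnz : (n : G) * z * (n : G)⁻¹ = z := by
      rw [Subgroup.mem_centralizer_singleton_iff.1 n.2, mul_inv_cancel_right]
    -- the square of `n` fixes every element of `P`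
    have hsq : ∀ u ∈ (P : Subgroup G),
        (n : G) * ((n : G) * u * (n : G)⁻¹) * (n : G)⁻¹ = u := by
      intro u hu
      by_cases hu1 : u = 1
      · subst hu1; simp
      by_cases huz : u = z
      · subst huz; rw [hnz, hnz]
      set v := (n : G) * u * (n : G)⁻¹ with hv
      have hcases : ∀ w ∈ (P : Subgroup G), w = 1 ∨ w = z ∨ w = u ∨ w = z * u := by
        intro w hw
        haveI : Fintype (P : Subgroup G) := Fintype.ofFinite _
        by_contra hne
        push Not at hne
        have hzu1 : z * u ≠ 1 := fun h => huz (by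
          have h2 : z * z = 1 := congrArg Subtype.val (hexp ⟨z, hz⟩)
          calc u = (z * z) * u := by rw [h2, one_mul]
            _ = z := by rw [mul_assoc, h, mul_one])
        have hsub : ({⟨1, one_mem _⟩, ⟨z, hz⟩, ⟨u, hu⟩, ⟨z * u, mul_mem hz hu⟩, ⟨w, hw⟩} :
            Finset (P : Subgroup G)).card ≤ 4 := by
          rw [← hcard, Nat.card_eq_fintype_card]
          exact card_le_univ _
        rw [card_insert_of_notMem, card_insert_of_notMem, card_insert_of_notMem,
          card_insert_of_notMem, card_singleton] at hsub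
        · omega
        all_goals simp only [mem_insert, mem_singleton, Subtype.mk.injEq, not_or]
        · exact Ne.symm hne.2.2.2
        · exact ⟨fun h => hz1 (mul_eq_right.1 h.symm), Ne.symm hne.2.2.1⟩
        · exact ⟨Ne.symm huz, fun h => hu1 (mul_eq_left.1 h.symm), Ne.symm hne.2.1⟩
        · exact ⟨Ne.symm hz1, Ne.symm hu1, Ne.symm hzu1, Ne.symm hne.1⟩
      rcases hcases v (hmap u hu) with h | h | h | h
      · exact absurd (conj_eq_one_iff.1 (hv ▸ h)) hu1
      · exact absurd (mul_right_cancel (mul_left_cancel (a := (n : G))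
          (by rw [← mul_assoc, ← hv, h, ← mul_assoc, hnz]))) huz
      · rw [h, ← hv, h]
      · rw [h, show (n : G) * (z * u) * (n : G)⁻¹ = (n : G) * z * (n : G)⁻¹ * v by rw [hv]; group,
          hnz, h, ← mul_assoc]
        have h2 : z * z = 1 := congrArg Subtype.val (hexp ⟨z, hz⟩)
        rw [h2, one_mul]
    obtain ⟨a, b, hab', -, ⟨j, hj⟩, ⟨m, hm, hbm⟩, -, -, -, haz, hbz⟩ :=
      exists_pPart Nat.prime_two n
    have haN : a ∈ Subgroup.normalizer ((Q : Subgroup C) : Set C) :=
      Subgroup.zpowers_le.2 hn haz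
    have hbN : b ∈ Subgroup.normalizer ((Q : Subgroup C) : Set C) :=
      Subgroup.zpowers_le.2 hn hbz
    -- the 2-part lies in `Q`
    have haQ : a ∈ (Q : Subgroup C) := by
      have hle : Subgroup.zpowers a ≤ Subgroup.normalizer ((Q : Subgroup C) : Set C) :=
        Subgroup.zpowers_le.2 haN
      have hp : IsPGroup 2 (Subgroup.zpowers a) := by
        obtain ⟨i, -, hi⟩ := (Nat.dvd_prime_pow Nat.prime_two).1 (orderOf_dvd_of_pow_eq_one hj)
        exact IsPGroup.of_card (n := i) (by rw [Nat.card_zpowers, hi])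
      have := Q.3 (IsPGroup.to_sup_of_normal_right' hp Q.2 hle) le_sup_right
      exact this ▸ Subgroup.mem_sup_left (Subgroup.mem_zpowers a)
    refine hab' ▸ mul_mem (Subgroup.mem_centralizer_iff.2 fun q hq => ?_) ?_
    · exact Subtype.ext (hab _ hq _ haQ)
    · rw [Subgroup.mem_centralizer_iff]
      intro q hq
      have hsq' : n * n * q = q * (n * n) := by
        refine Subtype.ext ?_
        have := hsq (q : G) hq
        push_cast
        calc (n : G) * n * q = (n : G) * ((n : G) * q * (n : G)⁻¹) * (n : G)⁻¹ * ((n : G) * n) := by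
              group
          _ = (q : G) * ((n : G) * n) := by rw [this]
      have hbq : Commute (b * b) q := by
        have hc : Commute a q := Subtype.ext (hab _ haQ _ hq)
        have hab2 : Commute a b := by
          obtain ⟨i, rfl⟩ := Subgroup.mem_zpowers_iff.1 haz
          obtain ⟨i', rfl⟩ := Subgroup.mem_zpowers_iff.1 hbz
          exact Commute.zpow_zpow (Commute.refl n) i i'
        have hnn : b * b = (a * a)⁻¹ * (n * n) := by
          rw [← hab', show a * b * (a * b) = a * a * (b * b) from Commute.mul_mul_mul_comm hab2.symm a b]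
          group
        rw [hnn]
        exact ((hc.mul_left hc).inv_left).mul_left hsq'
      have hbb : b = (b * b) ^ ((m + 1) / 2) := by
        rw [← sq, ← pow_mul, show 2 * ((m + 1) / 2) = m + 1 by omega, pow_succ, hbm, one_mul]
      rw [hbb]
      exact ((hbq.pow_left _).symm).eq
  refine ⟨(MonoidHom.transferSylow Q hQn).ker, inferInstance, ?_, ?_⟩
  · intro h2
    refine Q.not_dvd_index ?_
    rw [(MonoidHom.ker_transferSylow_isComplement' Q hQn).index_eq_card]
    exact h2
  · rw [(MonoidHom.ker_transferSylow_isComplement' Q hQn).symm.index_eq_card, hQ,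
      Nat.card_congr (Subgroup.subgroupOfEquivOfLe hPC).toEquiv]
    simpa using hcard

variable {M : Ideal AlgInt} [M.IsPrime]

/-- The values of the principal block at an involution. -/
theorem klein_principal (hM : IsPModular 2 M) (P : Sylow 2 G) (hcard : Nat.card P = 4)
    (hexp : ∀ x : P, x * x = 1) (hone : ∀ s t : G, orderOf s = 2 → orderOf t = 2 → IsConj s t)
    [Fintype (IrrCharacter G)] [DecidablePred (· ∈ principalBlock M G)] :
    (univ.filter (· ∈ principalBlock M G)).card = 4 ∧
      ∃ v : IrrCharacter G → ℤ, v (oneIrr G) = 1 ∧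
        (∀ χ ∈ principalBlock M G, (∀ s : G, orderOf s = 2 → (χ : G → ℂ) s = (v χ : ℂ)) ∧
          (v χ = 1 ∨ v χ = -1) ∧ (4 : ℤ) ∣ (charDegree (χ : G → ℂ) : ℤ) - v χ) ∧
        ∀ y : G, ¬ 2 ∣ orderOf y →
          ∑ χ ∈ univ.filter (· ∈ principalBlock M G), (v χ : ℂ) * (χ : G → ℂ) y = 0 := by
  classical
  haveI : Fact (Nat.Prime 2) := ⟨Nat.prime_two⟩
  have hB : IsPBlock M (principalBlock M G) := isPBlock_principalBlock
  have h2 : (Nat.card G).factorization 2 = 2 := by
    have := P.card_eq_multiplicity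
    rw [hcard] at this
    exact (Nat.pow_right_injective le_rfl (this.symm.trans (show (4 : ℕ) = 2 ^ 2 by norm_num)))
  obtain ⟨⟨z, hz⟩, hz1⟩ : ∃ z : P, z ≠ 1 := by
    haveI : Nontrivial P := Finite.one_lt_card_iff_nontrivial.1 (by omega)
    exact exists_ne 1
  have hz1' : z ≠ 1 := fun h => hz1 (Subtype.ext h)
  have hinvol : ∀ u ∈ (P : Subgroup G), u ≠ 1 → orderOf u = 2 := fun u hu h1 =>
    orderOf_eq_prime (by rw [pow_two]; exact congrArg Subtype.val (hexp ⟨u, hu⟩)) h1
  have hz2 : orderOf z = 2 := hinvol z hz hz1'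
  have hint : ∀ χ : IrrCharacter G, ∃ m : ℤ, (χ : G → ℂ) z = m := by
    intro χ
    refine IsCharacter.exists_int_apply (isCharacter_irr χ) fun t ht => ?_
    have hodd : t % 2 = 1 := by
      refine Nat.mod_two_ne_zero.1 fun h => ?_
      have := Nat.eq_one_of_dvd_coprimes ht (Nat.dvd_of_mod_eq_zero h) (hz2 ▸ orderOf_dvd_natCard z)
      omega
    rw [← pow_mod_orderOf, hz2, hodd, pow_one]
  choose v hv using hint
  have hall : ∀ (χ : IrrCharacter G) (s : G), orderOf s = 2 → (χ : G → ℂ) s = (v χ : ℂ) :=
    fun χ s hs => (IsClassFunction.apply_eq_of_isConj (isClassFunction_irr χ) (hone s z hs hz2)).trans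
      (hv χ)
  have h4 : ∀ χ : IrrCharacter G, (4 : ℤ) ∣ (charDegree (χ : G → ℂ) : ℤ) + 3 * v χ := by
    intro χ
    haveI : Fintype (P : Subgroup G) := Fintype.ofFinite _
    obtain ⟨n, hn⟩ := IsCharacter.exists_classInner_eq_natCast'
      (IsCharacter.restrict (isCharacter_irr χ) (P : Subgroup G))
      (CfsgLib.Char.isCharacter_one (G := (P : Subgroup G)))
    have hs : ∑ x : (P : Subgroup G), (χ : G → ℂ) x =
        (charDegree (χ : G → ℂ) : ℂ) + 3 * (v χ : ℂ) := by
      rw [← add_sum_erase univ (fun x : (P : Subgroup G) => (χ : G → ℂ) x) (mem_univ 1),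
        Subgroup.coe_one, (irr_one χ).1]
      congr 1
      rw [sum_congr rfl fun (x : (P : Subgroup G)) hx => hall χ x (hinvol x x.2 fun h => (mem_erase.1 hx).1 (Subtype.ext h)),
        sum_const, card_erase_of_mem (mem_univ _), card_univ, ← Nat.card_eq_fintype_card,
        show Nat.card (P : Subgroup G) = 4 from hcard, nsmul_eq_mul]
      norm_num
    rw [classInner, show Nat.card (P : Subgroup G) = 4 from hcard] at hn
    simp only [map_one, mul_one] at hn
    rw [hs] at hn
    refine ⟨(n : ℤ), ?_⟩
    have : (((charDegree (χ : G → ℂ) : ℤ) + 3 * v χ : ℤ) : ℂ) = ((4 * (n : ℤ) : ℤ) : ℂ) := by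
      push_cast
      rw [← hn]
      push_cast
      ring
    exact_mod_cast this
  have hdef : blockDefect 2 (principalBlock M G) ≤ 2 := (blockDefect_le (principalBlock M G)).trans h2.le
  have hfull : blockDefect 2 (principalBlock M G) = 2 := by
    have h := degree_ge hM hB (show oneIrr G ∈ (principalBlock M G) from oneIrr_mem_principalBlock)
    rw [show charDegree ((oneIrr G : IrrCharacter G) : G → ℂ) = 1 by
      simp [charDegree, oneIrr_coe]] at h
    simp only [Nat.factorization_one, Finsupp.coe_zero, Pi.zero_apply, h2] at h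
    omega
  have hodd : ∀ χ ∈ (principalBlock M G), Odd (charDegree (χ : G → ℂ)) := by
    intro χ hχ
    have h0 : blockHeight 2 (principalBlock M G) (χ : G → ℂ) = 0 := by
      by_contra hne
      have := height_add_two_le hM hB hχ hne
      omega
    have h := factorization_degree hM hB hχ
    rw [h0, h2, hfull] at h
    rw [← Nat.not_even_iff_odd, even_iff_two_dvd]
    intro hd
    have := (Nat.prime_two.factorization_pos_of_dvd (irr_one χ).2.ne' hd)
    omega
  have hvodd : ∀ χ ∈ (principalBlock M G), v χ % 2 = 1 := by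
    intro χ hχ
    obtain ⟨k, hk⟩ := hodd χ hχ
    obtain ⟨c, hc⟩ := h4 χ
    omega
  obtain ⟨K, hK, hK2, hKidx⟩ := exists_complement_centralizer P hcard hexp hz hz1'
  have hsum : ∑ χ ∈ univ.filter (· ∈ (principalBlock M G)), v χ ^ 2 = 4 := by
    haveI : Fintype (Subgroup.centralizer ({z} : Set G)) := Fintype.ofFinite _
    letI := irrFintype (G := Subgroup.centralizer ({z} : Set G))
    haveI := hK
    have h := principal_section_kernel (M := M) hM (x := z) (k := 1) (by rw [hz2, pow_one])
      1 1 (by simp) (by simp)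
    rw [principal_complement_sum hM K hK2 ⟨2, hKidx⟩ (by simp)] at h
    have hcC : (Nat.card (Subgroup.centralizer ({z} : Set G))).factorization 2 = 2 := by
      rw [← K.index_mul_card, Nat.factorization_mul Subgroup.index_ne_zero_of_finite
        Nat.card_pos.ne', Finsupp.add_apply, hKidx, Nat.prime_two.factorization_pow,
        Finsupp.single_eq_same, Nat.factorization_eq_zero_of_not_dvd hK2]
    rw [hcC, Subgroup.coe_one, mul_one] at h
    have e : ((∑ χ ∈ univ.filter (· ∈ (principalBlock M G)), v χ ^ 2 : ℤ) : ℂ) = ((4 : ℤ) : ℂ) := by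
      push_cast
      rw [show (4 : ℂ) = ((2 ^ 2 : ℕ) : ℂ) by norm_num, ← h]
      exact sum_congr rfl fun χ _ => by rw [hv χ, map_intCast, sq]
    exact_mod_cast e
  have hsq : ∀ χ ∈ (principalBlock M G), v χ = 1 ∨ v χ = -1 := by
    intro χ hχ
    have hle : v χ ^ 2 ≤ 4 := hsum ▸ single_le_sum (fun φ _ => sq_nonneg (v φ))
      (mem_filter.2 ⟨mem_univ _, hχ⟩)
    have := hvodd χ hχ
    have h1 : -2 ≤ v χ := by nlinarith
    have h2 : v χ ≤ 2 := by nlinarith
    omega
  refine ⟨?_, v, ?_, fun χ hχ => ⟨hall χ, hsq χ hχ, ?_⟩, fun y hy => ?_⟩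
  · have : ∑ χ ∈ univ.filter (· ∈ (principalBlock M G)), v χ ^ 2 = ((univ.filter (· ∈ (principalBlock M G))).card : ℤ) := by
      rw [card_eq_sum_ones, Nat.cast_sum]
      refine sum_congr rfl fun χ hχ => ?_
      rcases hsq χ (mem_filter.1 hχ).2 with h | h <;> simp [h]
    rw [hsum] at this
    exact_mod_cast this.symm
  · have := hall (oneIrr G) z hz2
    simp only [oneIrr_coe] at this
    exact_mod_cast this.symm
  · obtain ⟨c, hc⟩ := h4 χ
    exact ⟨c - v χ, by linarith⟩
  · have h := block_orth hM (isIntClass_blockCoeff hB) (g := y) (h := z) (x := 1) (y := z)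
      ⟨y, one_mul y, Commute.one_left y, ⟨0, by simp⟩, hy⟩
      ⟨1, mul_one z, Commute.one_right z, ⟨1, by rw [hz2, pow_one]⟩, by simp⟩
      (fun hc => hz1' (isConj_one_right.1 hc))
    rw [← h]
    refine sum_congr rfl fun χ _ => ?_
    rw [hv χ, map_intCast]
    ring

end CfsgLib.Block
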