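import Cfsg.Agent.Blocks.KleinRank
import Cfsg.Agent.Invol.SmallSylow

/-!
# The order formula from the principal 2-block, Klein four Sylow subgroup
-/

namespace CfsgLib.Block

open Cfsg Finset CfsgLib.Block.Chr CfsgLib.Char
open scoped ComplexConjugate

set_option linter.unusedSectionVars false
set_option linter.style.haveILetI false

universe u

variable {G : Type u} [Group G] [Fintype G]

/-- The characters outside the principal block sum to zero on a translate of the normal complement
of an involution centralizer. -/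
theorem klein_coset_sum {M : Ideal AlgInt} [M.IsPrime] (hM : IsPModular 2 M) (P : Sylow 2 G)
    (hcard : Nat.card P = 4) (hexp : ∀ x : P, x * x = 1)
    (hone : ∀ s t : G, orderOf s = 2 → orderOf t = 2 → IsConj s t) {J : G} (hJ : orderOf J = 2)
    (K : Subgroup (Subgroup.centralizer ({J} : Set G))) [K.Normal] (hK2 : ¬ 2 ∣ Nat.card K)
    (hKidx : K.index = 4) [Fintype K] (χ : IrrCharacter G)
    [Decidable (χ ∈ principalBlock M G)] :
    ∑ k : K, (χ : G → ℂ) (J * ((k : Subgroup.centralizer ({J} : Set G)) : G)) =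
      if χ ∈ principalBlock M G then (Nat.card K : ℂ) * (χ : G → ℂ) J else 0 := by
  classical
  haveI : Fact (Nat.Prime 2) := ⟨Nat.prime_two⟩
  letI := irrFintype (G := G)
  haveI : Fintype (Subgroup.centralizer ({J} : Set G)) := Fintype.ofFinite _
  obtain ⟨h4, v, -, hv, -⟩ := klein_singular hM P hcard hexp hone
  let T : IrrCharacter G → ℂ := fun ψ =>
    ∑ k : K, (ψ : G → ℂ) (J * ((k : Subgroup.centralizer ({J} : Set G)) : G))
  have hreg : ∀ k : K, ¬ 2 ∣ orderOf (k : Subgroup.centralizer ({J} : Set G)) := fun k h => by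
    rw [Subgroup.orderOf_coe] at h
    exact hK2 (h.trans (orderOf_dvd_natCard k))
  have hJ' : orderOf J = 2 ^ 1 := by rw [hJ, pow_one]
  have hsing : ∀ k : K, 2 ∣ orderOf (J * ((k : Subgroup.centralizer ({J} : Set G)) : G)) := by
    intro k
    have hc : Commute J ((k : Subgroup.centralizer ({J} : Set G)) : G) :=
      (Subgroup.mem_centralizer_singleton_iff.1 k.1.2).symm
    rw [hc.orderOf_mul_eq_mul_orderOf_of_coprime, hJ]
    · exact dvd_mul_right 2 _
    · rw [hJ, Subgroup.orderOf_coe]
      exact Nat.prime_two.coprime_iff_not_dvd.2 (hreg k)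
  have hB : ∀ ψ ∈ principalBlock M G, T ψ = (Nat.card K : ℂ) * (ψ : G → ℂ) J := by
    intro ψ hψ
    show ∑ k : K, _ = _
    rw [sum_congr rfl fun k _ => (hv ψ hψ).2 _ (hsing k), (hv ψ hψ).2 J (by rw [hJ]),
      sum_const, card_univ, nsmul_eq_mul, Nat.card_eq_fintype_card]
  have hall : ∑ ψ : IrrCharacter G, Complex.normSq (T ψ) = 4 * (Nat.card K : ℝ) ^ 2 := by
    refine Complex.ofReal_injective ?_
    push_cast
    simp only [← Complex.mul_conj, T, map_sum, sum_mul, mul_sum]
    rw [sum_comm, sum_congr rfl fun k _ => sum_comm, sum_comm]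
    have hk : ∀ k : K, ∑ k' : K, ∑ ψ : IrrCharacter G,
        (ψ : G → ℂ) (J * ((k : Subgroup.centralizer ({J} : Set G)) : G)) *
          conj ((ψ : G → ℂ) (J * ((k' : Subgroup.centralizer ({J} : Set G)) : G))) =
        (4 : ℂ) * Nat.card K := by
      intro k
      have hC : (Nat.card (Subgroup.centralizer ({J} : Set G)) : ℂ) = 4 * Nat.card K := by
        rw [← K.index_mul_card, hKidx]; push_cast; ring
      rw [sum_congr rfl fun k' _ => column_orth _ _,
        card_centralizer_section Nat.prime_two hJ' _ (hreg k)]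
      simp only [isConj_section_iff Nat.prime_two hJ' (hreg k) (hreg _)]
      rw [← sum_filter, sum_const, nsmul_eq_mul]
      have hcard' : (univ.filter fun k' : K =>
          IsConj (k : Subgroup.centralizer ({J} : Set G)) (k' : Subgroup.centralizer ({J} : Set G))).card =
          (univ.filter (IsConj (k : Subgroup.centralizer ({J} : Set G)))).card := by
        refine card_bij (fun k' _ => (k' : Subgroup.centralizer ({J} : Set G))) (fun k' hk' => ?_)
          (fun _ _ _ _ h => Subtype.ext h) fun y hy => ?_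
        · exact mem_filter.2 ⟨mem_univ _, (mem_filter.1 hk').2⟩
        · obtain ⟨d, hd⟩ := isConj_iff.1 (mem_filter.1 hy).2
          refine ⟨⟨y, hd ▸ Subgroup.Normal.conj_mem ‹_› _ k.2 d⟩, ?_, rfl⟩
          exact mem_filter.2 ⟨mem_univ _, (mem_filter.1 hy).2⟩
      rw [hcard', card_class, ← hC, ← Nat.cast_mul, Subgroup.index_mul_card]
    rw [sum_congr rfl fun k _ => hk k, sum_const, card_univ, nsmul_eq_mul, ← Nat.card_eq_fintype_card]
    ring
  have hblock : ∑ ψ ∈ univ.filter (· ∈ principalBlock M G), Complex.normSq (T ψ) =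
      4 * (Nat.card K : ℝ) ^ 2 := by
    rw [sum_congr rfl fun ψ hψ => by
      rw [hB ψ (mem_filter.1 hψ).2, (hv ψ (mem_filter.1 hψ).2).2 J (by rw [hJ]), map_mul,
        Complex.normSq_natCast, Complex.normSq_intCast],
      sum_congr rfl fun ψ hψ => show (Nat.card K : ℝ) * Nat.card K * ((v ψ : ℝ) * (v ψ : ℝ)) =
          (Nat.card K : ℝ) ^ 2 by
        rcases (hv ψ (mem_filter.1 hψ).2).1 with h | h <;> rw [h] <;> push_cast <;> ring,
      sum_const, h4, nsmul_eq_mul]
    norm_num
  show T χ = _
  split_ifs with hχ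
  · exact hB χ hχ
  · have hzero : ∑ ψ ∈ univ.filter (fun ψ => ¬ ψ ∈ principalBlock M G), Complex.normSq (T ψ) = 0 := by
      have := sum_filter_add_sum_filter_not univ (· ∈ principalBlock M G)
        (fun ψ => Complex.normSq (T ψ))
      rw [hall, hblock] at this
      linarith
    exact Complex.normSq_eq_zero.1 ((sum_eq_zero_iff_of_nonneg fun ψ _ => Complex.normSq_nonneg _).1
      hzero χ (mem_filter.2 ⟨mem_univ _, hχ⟩))

/-- The number of pairs of involutions whose product lies in a translate of the normal complement of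
an involution centralizer. -/
theorem klein_pair_count (P : Sylow 2 G) (hP : IsKleinFour (P : Subgroup G)) {J : G}
    (hJP : J ∈ (P : Subgroup G)) (hJ : orderOf J = 2)
    (K : Subgroup (Subgroup.centralizer ({J} : Set G))) [K.Normal] (hK2 : ¬ 2 ∣ Nat.card K)
    (hKidx : K.index = 4) [Fintype K] [DecidableEq G] :
    ∃ i : ℕ, i * Nat.card (Subgroup.centralizer ((P : Subgroup G) : Set G)) =
        Nat.card (Subgroup.centralizer ({J} : Set G)) ∧
      ∑ k : K, (univ.filter fun u : G => orderOf u = 2 ∧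
        orderOf (u⁻¹ * (J * ((k : Subgroup.centralizer ({J} : Set G)) : G))) = 2).card =
          2 * i ^ 2 := by
  classical
  haveI : Fact (Nat.Prime 2) := ⟨Nat.prime_two⟩
  haveI := hP
  set c := Nat.card (Subgroup.centralizer ({J} : Set G))
  haveI : Fintype (Subgroup.centralizer ({J} : Set G)) := Fintype.ofFinite _
  have hcomm : ∀ a ∈ (P : Subgroup G), ∀ b ∈ (P : Subgroup G), a * b = b * a := fun a ha b hb =>
    CfsgLib.SmallSylow.klein_comm P hP ha hb
  have hsq : ∀ a ∈ (P : Subgroup G), a * a = 1 := fun a ha => CfsgLib.SmallSylow.klein_sq P hP ha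
  have hPC : (P : Subgroup G) ≤ Subgroup.centralizer ({J} : Set G) := fun u hu =>
    Subgroup.mem_centralizer_singleton_iff.2 (hcomm u hu J hJP)
  let Q : Sylow 2 (Subgroup.centralizer ({J} : Set G)) := P.subtype hPC
  have hQmem : ∀ q : Subgroup.centralizer ({J} : Set G),
      q ∈ (Q : Subgroup (Subgroup.centralizer ({J} : Set G))) ↔ (q : G) ∈ (P : Subgroup G) :=
    fun q => Iff.rfl
  let π := QuotientGroup.mk' K
  have hinj : ∀ a b : Subgroup.centralizer ({J} : Set G), (a : G) ∈ (P : Subgroup G) →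
      (b : G) ∈ (P : Subgroup G) → π a = π b → a = b := by
    intro a b ha hb hab
    have hK : a⁻¹ * b ∈ K := QuotientGroup.eq.1 hab
    by_contra hne
    have h2 : orderOf (a⁻¹ * b) = 2 := by
      refine orderOf_eq_prime (Subtype.ext ?_) fun h => hne (inv_mul_eq_one.1 h)
      rw [pow_two]
      exact hsq ((a : G)⁻¹ * (b : G)) (mul_mem (inv_mem ha) hb)
    refine hK2 (?_ : 2 ∣ Nat.card K)
    have := orderOf_dvd_natCard (⟨_, hK⟩ : K)
    rwa [← Subgroup.orderOf_coe, h2] at this
  have hsurj : ∀ x, ∃ q : Subgroup.centralizer ({J} : Set G),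
      (q : G) ∈ (P : Subgroup G) ∧ π q = x := by
    let f : ↥(P : Subgroup G) → Subgroup.centralizer ({J} : Set G) ⧸ K :=
      fun q => π ⟨q, hPC q.2⟩
    have hf : Function.Injective f := fun a b h =>
      Subtype.ext (congrArg Subtype.val (hinj _ _ a.2 b.2 h) :)
    have hbij := hf.bijective_of_nat_card_le (by
      rw [← Subgroup.index, hKidx, IsKleinFour.card_four])
    intro x
    obtain ⟨q, hq⟩ := hbij.2 x
    exact ⟨⟨q, hPC q.2⟩, q.2, hq⟩
  have hconjπ : ∀ a b : Subgroup.centralizer ({J} : Set G), (a : G) ∈ (P : Subgroup G) →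
      IsConj a b → π b = π a := by
    intro a b ha hab
    obtain ⟨d, hd⟩ := isConj_iff.1 hab
    obtain ⟨q, hq, hqd⟩ := hsurj (π d)
    rw [← hd, map_mul, map_mul, map_inv, ← hqd, ← map_inv, ← map_mul, ← map_mul]
    congr 1
    refine Subtype.ext ?_
    show (q : G) * a * (q : G)⁻¹ = a
    rw [hcomm _ hq _ ha, mul_inv_cancel_right]
  let j : Subgroup.centralizer ({J} : Set G) := ⟨J, hPC hJP⟩
  have hJ1 : J ≠ 1 := fun h => by rw [h, orderOf_one] at hJ; omega
  obtain ⟨t, htP, ht1, htJ⟩ : ∃ t, t ∈ (P : Subgroup G) ∧ t ≠ 1 ∧ t ≠ J := by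
    by_contra hcon
    push Not at hcon
    haveI : Fintype (P : Subgroup G) := Fintype.ofFinite _
    have h : (univ : Finset (P : Subgroup G)).card ≤
        ({1, ⟨J, hJP⟩} : Finset (P : Subgroup G)).card :=
      card_le_card fun q _ => by
        by_cases hq : (q : G) = 1
        · exact mem_insert.2 (Or.inl (Subtype.ext hq))
        · exact mem_insert.2 (Or.inr (mem_singleton.2 (Subtype.ext (hcon q q.2 hq))))
    rw [card_univ, ← Nat.card_eq_fintype_card, IsKleinFour.card_four] at h
    have := h.trans card_le_two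
    omega
  let tc : Subgroup.centralizer ({J} : Set G) := ⟨t, hPC htP⟩
  let sc : Subgroup.centralizer ({J} : Set G) := j * tc
  have hsP : (sc : G) ∈ (P : Subgroup G) := mul_mem hJP htP
  have hs1 : (sc : G) ≠ 1 := fun h => htJ (by
    calc t = J * J * t := by rw [hsq J hJP, one_mul]
      _ = J * (sc : G) := by rw [mul_assoc]; rfl
      _ = J := by rw [h, mul_one])
  have hsJ : (sc : G) ≠ J := fun h => ht1 (mul_eq_left.1 h)
  have hst : (sc : G) ≠ t := fun h => hJ1 (mul_eq_right.1 h)
  have hord : ∀ q : Subgroup.centralizer ({J} : Set G), (q : G) ∈ (P : Subgroup G) → (q : G) ≠ 1 →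
      orderOf (q : G) = 2 := fun q hq hq1 => orderOf_eq_prime (by rw [pow_two]; exact hsq _ hq) hq1
  -- the involutions of the centralizer
  have hinv : ∀ u : Subgroup.centralizer ({J} : Set G), orderOf (u : G) = 2 →
      u = j ∨ IsConj tc u ∨ IsConj sc u := by
    intro u hu
    obtain ⟨R, hR⟩ := (IsPGroup.of_card (n := 1) (show Nat.card (Subgroup.zpowers u) = 2 ^ 1 by
      rw [Nat.card_zpowers, ← Subgroup.orderOf_coe, hu, pow_one])).exists_le_sylow
    obtain ⟨d, hd⟩ := MulAction.exists_smul_eq (Subgroup.centralizer ({J} : Set G)) R Q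
    have hdu : d * u * d⁻¹ ∈ (Q : Subgroup (Subgroup.centralizer ({J} : Set G))) := by
      rw [← hd]; exact ⟨u, hR (Subgroup.mem_zpowers u), rfl⟩
    rw [hQmem] at hdu
    have hne : ((d * u * d⁻¹ : Subgroup.centralizer ({J} : Set G)) : G) ≠ 1 := fun h => by
      have := conj_eq_one_iff.1 (Subtype.ext h : d * u * d⁻¹ = 1)
      rw [this, Subgroup.coe_one, orderOf_one] at hu
      omega
    have hconj : IsConj (d * u * d⁻¹) u := isConj_iff.2 ⟨d⁻¹, by group⟩
    by_cases h1 : d * u * d⁻¹ = j
    · left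
      have hdj : d⁻¹ * j * d = j := Subtype.ext (by
        show (d : G)⁻¹ * J * d = J
        rw [mul_assoc, ← Subgroup.mem_centralizer_singleton_iff.1 d.2, inv_mul_cancel_left])
      calc u = d⁻¹ * (d * u * d⁻¹) * d := by group
        _ = j := by rw [h1, hdj]
    by_cases h2 : d * u * d⁻¹ = tc
    · exact Or.inr (Or.inl (h2 ▸ hconj))
    refine Or.inr (Or.inr ?_)
    have : d * u * d⁻¹ = sc := Subtype.ext (CfsgLib.SmallSylow.klein_third P hP hJP htP hdu hJ1 ht1 hne
      (Ne.symm htJ) (fun h => h1 (Subtype.ext h)) (fun h => h2 (Subtype.ext h)))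
    exact this ▸ hconj
  have hclsord : ∀ q u : Subgroup.centralizer ({J} : Set G), (q : G) ∈ (P : Subgroup G) →
      (q : G) ≠ 1 → IsConj q u → orderOf (u : G) = 2 := by
    intro q u hq hq1 hqu
    obtain ⟨d, rfl⟩ := isConj_iff.1 hqu
    rw [← hord q hq hq1, Subgroup.orderOf_coe, Subgroup.orderOf_coe]
    exact orderOf_injective (MulAut.conj d).toMonoidHom (MulAut.conj d).injective q
  let T := univ.filter (IsConj tc)
  let S := univ.filter (IsConj sc)
  have hclscard : ∀ q : Subgroup.centralizer ({J} : Set G), (q : G) ∈ (P : Subgroup G) →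
      (q : G) ≠ 1 → (q : G) ≠ J → (univ.filter (IsConj q)).card *
        Nat.card (Subgroup.centralizer ((P : Subgroup G) : Set G)) = c := by
    intro q hq hq1 hqJ
    rw [card_class]
    have hmap : (Subgroup.centralizer ({q} : Set (Subgroup.centralizer ({J} : Set G)))).map
        (Subgroup.centralizer ({J} : Set G)).subtype =
        Subgroup.centralizer ((P : Subgroup G) : Set G) := by
      ext d
      rw [Subgroup.mem_map]
      constructor
      · rintro ⟨d, hd, rfl⟩
        refine Subgroup.mem_centralizer_iff.2 fun w hw => ?_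
        have hdJ : Commute (d : G) J := Subgroup.mem_centralizer_singleton_iff.1 d.2
        have hdq : Commute (d : G) (q : G) :=
          congrArg Subtype.val (Subgroup.mem_centralizer_singleton_iff.1 hd)
        by_cases w1 : w = 1
        · subst w1; simp
        by_cases wJ : w = J
        · subst wJ; exact hdJ.eq.symm
        by_cases wq : w = q
        · subst wq; exact hdq.eq.symm
        rw [CfsgLib.SmallSylow.klein_third P hP hJP hq hw hJ1 hq1 w1 (Ne.symm hqJ) wJ wq]
        exact (hdJ.mul_right hdq).eq.symm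
      · intro hd
        rw [Subgroup.mem_centralizer_iff] at hd
        exact ⟨⟨d, Subgroup.mem_centralizer_singleton_iff.2 (hd J hJP).symm⟩,
          Subgroup.mem_centralizer_singleton_iff.2 (Subtype.ext (hd q hq).symm), rfl⟩
    rw [← hmap, ← Nat.card_congr ((Subgroup.centralizer
      ({q} : Set (Subgroup.centralizer ({J} : Set G)))).equivMapOfInjective _
        (Subgroup.subtype_injective _)).toEquiv]
    exact Subgroup.index_mul_card _
  have hpos : 0 < Nat.card (Subgroup.centralizer ((P : Subgroup G) : Set G)) := Nat.card_pos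
  have hST : S.card = T.card := Nat.eq_of_mul_eq_mul_right hpos
    ((hclscard sc hsP hs1 hsJ).trans (hclscard tc htP ht1 htJ).symm)
  refine ⟨T.card, hclscard tc htP ht1 htJ, ?_⟩
  -- the pairs
  have hmemC : ∀ (k : K) (u : G), orderOf u = 2 →
      orderOf (u⁻¹ * (J * ((k : Subgroup.centralizer ({J} : Set G)) : G))) = 2 →
      u ∈ Subgroup.centralizer ({J} : Set G) := by
    intro k u hu hw
    set g := J * ((k : Subgroup.centralizer ({J} : Set G)) : G) with hg
    have hu' : u * u = 1 := by rw [← pow_two, ← hu, pow_orderOf_eq_one]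
    have hw' : (u⁻¹ * g) * (u⁻¹ * g) = 1 := by rw [← pow_two, ← hw, pow_orderOf_eq_one]
    have hinvg : u * g * u⁻¹ = g⁻¹ := by
      rw [eq_inv_iff_mul_eq_one]
      calc u * g * u⁻¹ * g = u * u * ((u⁻¹ * g) * (u⁻¹ * g)) := by group
        _ = 1 := by rw [hu', hw', mul_one]
    have hpow : g ^ Nat.card K = J := by
      have hc : Commute J ((k : Subgroup.centralizer ({J} : Set G)) : G) :=
        (Subgroup.mem_centralizer_singleton_iff.1 k.1.2).symm
      obtain ⟨m, hm⟩ := Nat.odd_iff.2 (Nat.two_dvd_ne_zero.1 hK2)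
      rw [hg, hc.mul_pow, ← Subgroup.coe_pow, ← Subgroup.coe_pow, pow_card_eq_one', Subgroup.coe_one,
        Subgroup.coe_one, mul_one, hm, pow_succ, pow_mul,
        show J ^ 2 = 1 by rw [← hJ, pow_orderOf_eq_one], one_pow, one_mul]
    rw [Subgroup.mem_centralizer_singleton_iff]
    have hJinv : J⁻¹ = J := inv_eq_of_mul_eq_one_right (hsq J hJP)
    have e : u * J * u⁻¹ = J := by
      calc u * J * u⁻¹ = (u * g * u⁻¹) ^ Nat.card K := by rw [conj_pow, hpow]
        _ = J := by rw [hinvg, inv_pow, hpow, hJinv]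
    exact mul_inv_eq_iff_eq_mul.1 e
  have hdisj : ∀ u, u ∈ T → u ∈ S → False := fun u h1 h2 => hst (congrArg Subtype.val
    (hinj _ _ hsP htP ((hconjπ sc u hsP (mem_filter.1 h2).2).symm.trans
      (hconjπ tc u htP (mem_filter.1 h1).2))))
  have htj : π tc * π sc = π j := by
    rw [← map_mul]
    congr 1
    refine Subtype.ext ?_
    show t * (J * t) = J
    rw [← mul_assoc, hcomm t htP J hJP, mul_assoc, hsq t htP, mul_one]
  have hsj : π sc * π tc = π j := by
    rw [← map_mul]
    congr 1
    refine Subtype.ext ?_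
    show J * t * t = J
    rw [mul_assoc, hsq t htP, mul_one]
  have hpairs : (univ.filter fun w : Subgroup.centralizer ({J} : Set G) ×
      Subgroup.centralizer ({J} : Set G) =>
        orderOf (w.1 : G) = 2 ∧ orderOf (w.2 : G) = 2 ∧ π (w.1 * w.2) = π j) =
      T ×ˢ S ∪ S ×ˢ T := by
    ext ⟨a, b⟩
    simp only [mem_filter, mem_univ, true_and, mem_union, mem_product, T, S]
    constructor
    · rintro ⟨ha, hb, hab⟩
      rw [map_mul] at hab
      have h1P : ((1 : Subgroup.centralizer ({J} : Set G)) : G) ∈ (P : Subgroup G) := one_mem _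
      rcases hinv a ha with rfl | h | h
      · exfalso
        have hb1 : π b = π 1 := by rw [map_one]; exact mul_eq_left.1 hab
        rcases hinv b hb with rfl | h | h
        · exact hJ1 (congrArg Subtype.val (hinj _ _ hJP h1P hb1))
        · exact ht1 (congrArg Subtype.val (hinj _ _ htP h1P ((hconjπ tc b htP h).symm.trans hb1)))
        · exact hs1 (congrArg Subtype.val (hinj _ _ hsP h1P ((hconjπ sc b hsP h).symm.trans hb1)))
      · rw [hconjπ tc a htP h, ← htj, mul_left_cancel_iff] at hab
        rcases hinv b hb with rfl | h' | h'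
        · exact absurd (congrArg Subtype.val (hinj _ _ hJP hsP hab)) (Ne.symm hsJ)
        · exact absurd (congrArg Subtype.val (hinj _ _ htP hsP ((hconjπ tc b htP h').symm.trans hab)))
            (Ne.symm hst)
        · exact Or.inl ⟨h, h'⟩
      · rw [hconjπ sc a hsP h, ← hsj, mul_left_cancel_iff] at hab
        rcases hinv b hb with rfl | h' | h'
        · exact absurd (congrArg Subtype.val (hinj _ _ hJP htP hab)) (Ne.symm htJ)
        · exact Or.inr ⟨h, h'⟩
        · exact absurd (congrArg Subtype.val (hinj _ _ hsP htP ((hconjπ sc b hsP h').symm.trans hab)))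
            hst
    · rintro (⟨h, h'⟩ | ⟨h, h'⟩)
      · refine ⟨hclsord tc a htP ht1 h, hclsord sc b hsP hs1 h', ?_⟩
        rw [map_mul, hconjπ tc a htP h, hconjπ sc b hsP h', htj]
      · refine ⟨hclsord sc a hsP hs1 h, hclsord tc b htP ht1 h', ?_⟩
        rw [map_mul, hconjπ sc a hsP h, hconjπ tc b htP h', hsj]
  have hcount : ((univ : Finset K).sigma fun k => univ.filter fun u : G => orderOf u = 2 ∧
      orderOf (u⁻¹ * (J * ((k : Subgroup.centralizer ({J} : Set G)) : G))) = 2).card =
      (T ×ˢ S ∪ S ×ˢ T).card := by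
    rw [← hpairs]
    refine card_bij (fun w hw =>
      let hu := (mem_filter.1 (mem_sigma.1 hw).2).2
      ((⟨w.2, hmemC w.1 w.2 hu.1 hu.2⟩ : Subgroup.centralizer ({J} : Set G)),
        (⟨w.2, hmemC w.1 w.2 hu.1 hu.2⟩ : Subgroup.centralizer ({J} : Set G))⁻¹ * (j * w.1.1)))
      ?_ ?_ ?_
    · intro w hw
      have hu := (mem_filter.1 (mem_sigma.1 hw).2).2
      refine mem_filter.2 ⟨mem_univ _, hu.1, hu.2, ?_⟩
      rw [mul_inv_cancel_left]
      exact QuotientGroup.mk_mul_of_mem j w.1.2
    · rintro ⟨k, u⟩ hw ⟨k', u'⟩ hw' h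
      simp only [Prod.mk.injEq, Subtype.mk.injEq] at h
      obtain ⟨rfl, h⟩ := h
      rw [mul_left_cancel_iff, mul_left_cancel_iff] at h
      rw [Subtype.ext h]
    · rintro ⟨a, b⟩ hab
      obtain ⟨ha, hb, hπ⟩ := (mem_filter.1 hab).2
      have hk : j⁻¹ * (a * b) ∈ K := QuotientGroup.eq.1 hπ.symm
      have hb' : orderOf ((a : G)⁻¹ * (J * ((j⁻¹ * (a * b) : Subgroup.centralizer ({J} : Set G)) : G)))
          = 2 := by
        rw [← hb]
        congr 1
        show (a : G)⁻¹ * (J * (J⁻¹ * ((a : G) * b))) = b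
        group
      refine ⟨⟨⟨_, hk⟩, (a : G)⟩, mem_sigma.2 ⟨mem_univ _, mem_filter.2 ⟨mem_univ _, ha, hb'⟩⟩, ?_⟩
      refine Prod.ext rfl ?_
      show a⁻¹ * (j * (j⁻¹ * (a * b))) = b
      group
  rw [← card_sigma, hcount, card_union_of_disjoint (disjoint_left.2 fun w h1 h2 =>
    hdisj w.1 (mem_product.1 h1).1 (mem_product.1 h2).1), card_product, card_product, hST]
  ring

/-- The structure constant of the involutions at an involution, in terms of the principal block. -/
theorem klein_order_formula {M : Ideal AlgInt} [M.IsPrime] (hM : IsPModular 2 M) (P : Sylow 2 G)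
    (hP : IsKleinFour (P : Subgroup G))
    (hone : ∀ s t : G, orderOf s = 2 → orderOf t = 2 → IsConj s t) {J : G}
    (hJP : J ∈ (P : Subgroup G)) (hJ : orderOf J = 2) [Fintype (IrrCharacter G)]
    [DecidablePred (· ∈ principalBlock M G)] :
    (Nat.card G : ℂ) * ∑ χ ∈ univ.filter (· ∈ principalBlock M G),
        (χ : G → ℂ) J / (χ : G → ℂ) 1 =
      8 * (Nat.card (Subgroup.centralizer ({J} : Set G)) : ℂ) ^ 3 /
        (Nat.card (Subgroup.centralizer ((P : Subgroup G) : Set G)) : ℂ) ^ 2 := by
  classical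
  haveI : Fact (Nat.Prime 2) := ⟨Nat.prime_two⟩
  haveI := hP
  have hcard : Nat.card P = 4 := IsKleinFour.card_four
  have hexp : ∀ x : P, x * x = 1 := fun x => IsKleinFour.mul_self x
  have hJ1 : J ≠ 1 := fun h => by rw [h, orderOf_one] at hJ; omega
  obtain ⟨K, hKn, hK2, hKidx⟩ := exists_complement_centralizer P hcard hexp hJP hJ1
  haveI := hKn
  haveI : Fintype K := Fintype.ofFinite _
  have hKidx4 : K.index = 4 := by rw [hKidx]; norm_num
  obtain ⟨h4, v, -, hv, -⟩ := klein_singular hM P hcard hexp hone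
  obtain ⟨i, hi, hcount⟩ := klein_pair_count P hP hJP hJ K hK2 hKidx4
  let a : G → ℂ := fun g => if orderOf g = 2 then 1 else 0
  let n : ℕ := (univ.filter fun g : G => orderOf g = 2).card
  let m : G → ℂ := fun g => ∑ u : G, a u * a (u⁻¹ * g)
  have ha : IsClassFunction G a := fun g x => by
    simp only [a, show orderOf (x * g * x⁻¹) = orderOf g from
      orderOf_injective (MulAut.conj x).toMonoidHom (MulAut.conj x).injective g]
  have hm : IsClassFunction G m := isClassFunction_conv ha ha
  have hsum_a : ∀ χ : IrrCharacter G, ∑ g : G, a g * (χ : G → ℂ) g = (n : ℂ) * (χ : G → ℂ) J := by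
    intro χ
    simp only [a, ite_mul, one_mul, zero_mul]
    rw [← sum_filter, sum_congr rfl fun g hg => (IsClassFunction.apply_eq_of_isConj
      (isClassFunction_irr χ) (hone g J (mem_filter.1 hg).2 hJ)), sum_const, nsmul_eq_mul]
  have hinner : ∀ χ ∈ principalBlock M G, classInner m (χ : G → ℂ) =
      (Nat.card G : ℂ)⁻¹ * ((n : ℂ) ^ 2 * ((χ : G → ℂ) J) ^ 2 / (χ : G → ℂ) 1) := by
    intro χ hχ
    have h1 := class_mul χ ha a
    rw [hsum_a χ] at h1
    have hs : ∑ g : G, m g * (χ : G → ℂ) g =
        ∑ g : G, ∑ k : G, a g * a k * (χ : G → ℂ) (g * k) := by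
      simp only [m, sum_mul]
      rw [sum_comm]
      refine sum_congr rfl fun u _ => Fintype.sum_equiv (Equiv.mulLeft u⁻¹) _ _ fun g => ?_
      simp [mul_assoc]
    have hmreal : ∀ g, conj (m g) = m g := fun g => by
      simp only [m, map_sum, map_mul]
      exact sum_congr rfl fun u _ => by simp [a, apply_ite conj]
    have hin : classInner m (χ : G → ℂ) = (Nat.card G : ℂ)⁻¹ * conj (∑ g : G, m g * (χ : G → ℂ) g) := by
      rw [classInner, map_sum]
      congr 1
      exact sum_congr rfl fun g _ => by rw [map_mul, hmreal]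
    rw [hin, hs, eq_div_iff (irr_one_ne_zero χ) |>.2 h1, (hv χ hχ).2 J (by rw [hJ]),
      (irr_one χ).1]
    simp only [map_div₀, map_mul, map_natCast, map_intCast]
    ring
  have hmval : ∀ g : G, m g =
      ((univ.filter fun u : G => orderOf u = 2 ∧ orderOf (u⁻¹ * g) = 2).card : ℂ) := by
    intro g
    rw [card_filter, Nat.cast_sum]
    refine sum_congr rfl fun u _ => ?_
    by_cases h1 : orderOf u = 2 <;> by_cases h2 : orderOf (u⁻¹ * g) = 2 <;> simp [a, h1, h2]
  have key : ((2 * i ^ 2 : ℕ) : ℂ) = (Nat.card G : ℂ)⁻¹ * (n : ℂ) ^ 2 * (Nat.card K : ℂ) *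
      ∑ χ ∈ univ.filter (· ∈ principalBlock M G), (χ : G → ℂ) J / (χ : G → ℂ) 1 := by
    rw [← hcount, Nat.cast_sum, sum_congr rfl fun k _ => (hmval _).symm,
      sum_congr rfl fun k _ => classFun_expand hm _, sum_comm,
      sum_congr rfl fun χ _ => (mul_sum _ _ _).symm,
      sum_congr rfl fun χ _ => by rw [klein_coset_sum hM P hcard hexp hone hJ K hK2 hKidx4 χ]]
    simp only [mul_ite, mul_zero]
    rw [← sum_filter, mul_sum]
    refine sum_congr rfl fun χ hχ => ?_
    rw [hinner χ (mem_filter.1 hχ).2]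
    have hv1 : ((χ : G → ℂ) J) ^ 2 = 1 := by
      rw [(hv χ (mem_filter.1 hχ).2).2 J (by rw [hJ])]
      rcases (hv χ (mem_filter.1 hχ).2).1 with h | h <;> simp [h]
    rw [hv1]
    ring
  have hn : n * Nat.card (Subgroup.centralizer ({J} : Set G)) = Nat.card G := by
    have : (univ.filter fun g : G => orderOf g = 2) = univ.filter (IsConj J) := by
      ext g
      simp only [mem_filter, mem_univ, true_and]
      exact ⟨fun h => hone J g hJ h, fun h => by
        obtain ⟨d, rfl⟩ := isConj_iff.1 h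
        rwa [show orderOf (d * J * d⁻¹) = orderOf J from
          orderOf_injective (MulAut.conj d).toMonoidHom (MulAut.conj d).injective J]⟩
    show (univ.filter fun g : G => orderOf g = 2).card * _ = _
    rw [this, card_class]
    exact Subgroup.index_mul_card _
  have hc4 : 4 * Nat.card K = Nat.card (Subgroup.centralizer ({J} : Set G)) := by
    rw [← hKidx4]; exact K.index_mul_card
  have hG0 : (Nat.card G : ℂ) ≠ 0 := Nat.cast_ne_zero.2 Nat.card_pos.ne'
  have hP0 : (Nat.card (Subgroup.centralizer ((P : Subgroup G) : Set G)) : ℂ) ≠ 0 :=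
    Nat.cast_ne_zero.2 Nat.card_pos.ne'
  set S := ∑ χ ∈ univ.filter (· ∈ principalBlock M G), (χ : G → ℂ) J / (χ : G → ℂ) 1
  have hn' : (n : ℂ) * Nat.card (Subgroup.centralizer ({J} : Set G)) = Nat.card G := by
    exact_mod_cast hn
  have hi' : (i : ℂ) * Nat.card (Subgroup.centralizer ((P : Subgroup G) : Set G)) =
      Nat.card (Subgroup.centralizer ({J} : Set G)) := by exact_mod_cast hi
  have hc4' : (4 : ℂ) * Nat.card K = Nat.card (Subgroup.centralizer ({J} : Set G)) := by
    exact_mod_cast hc4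
  have key' : (2 : ℂ) * (i : ℂ) ^ 2 * Nat.card G = (n : ℂ) ^ 2 * Nat.card K * S := by
    have := key
    push_cast at this
    rw [this]
    field_simp
  rw [eq_div_iff (pow_ne_zero 2 hP0)]
  refine mul_left_cancel₀ (mul_ne_zero hG0
    (Nat.cast_ne_zero.2 (Nat.card_pos (α := Subgroup.centralizer ({J} : Set G))).ne')) ?_
  have e1 : (Nat.card G : ℂ) * (Nat.card (Subgroup.centralizer ({J} : Set G)) : ℂ) *
      ((Nat.card G : ℂ) * S *
        (Nat.card (Subgroup.centralizer ((P : Subgroup G) : Set G)) : ℂ) ^ 2) =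
      4 * (Nat.card (Subgroup.centralizer ({J} : Set G)) : ℂ) ^ 2 *
        (Nat.card (Subgroup.centralizer ((P : Subgroup G) : Set G)) : ℂ) ^ 2 *
          ((n : ℂ) ^ 2 * Nat.card K * S) := by
    rw [← hn', ← hc4']; ring
  rw [e1, ← key', ← hi']
  ring

end CfsgLib.Block
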