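import Cfsg.Agent.Blocks.KleinOrder
import Cfsg.Agent.Char.FrobeniusSchur

/-!
# Klein four Sylow subgroup: two nonprincipal characters with value one are complex conjugate
-/

namespace CfsgLib.Block

open Cfsg Finset CfsgLib.Block.Chr CfsgLib.Char
open scoped ComplexConjugate

set_option linter.unusedSectionVars false
set_option linter.style.haveILetI false

universe u

variable {G : Type u} [Group G] [Fintype G] {M : Ideal AlgInt} [M.IsPrime]

/-- The complex conjugate of an irreducible character. -/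
noncomputable def barIrr (χ : IrrCharacter G) : IrrCharacter G :=
  ⟨fun g => conj ((χ : G → ℂ) g), IsIrrCharacter.conj χ.2⟩

theorem barIrr_coe (χ : IrrCharacter G) (g : G) :
    (barIrr χ : G → ℂ) g = conj ((χ : G → ℂ) g) := rfl

theorem barIrr_mem_principalBlock {χ : IrrCharacter G} (hχ : χ ∈ principalBlock M G) :
    barIrr χ ∈ principalBlock M G := by
  intro g
  have hC : Subgroup.centralizer ({g⁻¹} : Set G) = Subgroup.centralizer ({g} : Set G) := by
    ext u
    rw [Subgroup.mem_centralizer_singleton_iff, Subgroup.mem_centralizer_singleton_iff]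
    exact ⟨fun h => by simpa using (Commute.inv_right h).eq, fun h => (Commute.inv_right h).eq⟩
  have h := hχ g⁻¹
  simp only [centralChar, hC] at h ⊢
  rwa [barIrr_coe, barIrr_coe, conj_irr, conj_irr, inv_one]

/-- The square root count has vanishing signed sum on the principal block. -/
theorem klein_indicator_sum (hM : IsPModular 2 M) (P : Sylow 2 G) (hcard : Nat.card P = 4)
    (hexp : ∀ x : P, x * x = 1) (hone : ∀ s t : G, orderOf s = 2 → orderOf t = 2 → IsConj s t)
    {J : G} (hJP : J ∈ (P : Subgroup G)) (hJ : orderOf J = 2) [Fintype (IrrCharacter G)]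
    [DecidablePred (· ∈ principalBlock M G)] :
    ∑ χ ∈ univ.filter (· ∈ principalBlock M G),
      conj ((Nat.card G : ℂ)⁻¹ * ∑ g : G, (χ : G → ℂ) (g * g)) * (χ : G → ℂ) J = 0 := by
  classical
  have hJ1 : J ≠ 1 := fun h => by rw [h, orderOf_one] at hJ; omega
  obtain ⟨K, hK, hK2, hKidx⟩ := exists_complement_centralizer P hcard hexp hJP hJ1
  haveI := hK
  haveI : Fintype K := Fintype.ofFinite _
  have hK4 : K.index = 4 := by rw [hKidx]; norm_num
  let f : G → ℂ := fun g => ∑ r : G, if r * r = g then 1 else 0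
  have hf : IsClassFunction G f := by
    intro g x
    refine (Fintype.sum_equiv (MulAut.conj x).toEquiv _ _ fun r => ?_).symm
    have h : r * r = g ↔ x * r * x⁻¹ * (x * r * x⁻¹) = x * g * x⁻¹ := by
      rw [show x * r * x⁻¹ * (x * r * x⁻¹) = x * (r * r) * x⁻¹ by group]
      simp
    by_cases hr : r * r = g
    · rw [if_pos hr]; exact (if_pos (h.1 hr)).symm
    · rw [if_neg hr]; exact (if_neg (mt h.2 hr)).symm
  have hinner : ∀ χ : IrrCharacter G, classInner f (χ : G → ℂ) =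
      conj ((Nat.card G : ℂ)⁻¹ * ∑ g : G, (χ : G → ℂ) (g * g)) := by
    intro χ
    rw [classInner, map_mul, map_inv₀, map_natCast, map_sum]
    congr 1
    simp only [f, sum_mul]
    rw [sum_comm]
    refine sum_congr rfl fun r _ => ?_
    rw [sum_eq_single (r * r)]
    · rw [if_pos rfl, one_mul]
    · intro g _ hg; rw [if_neg (Ne.symm hg), zero_mul]
    · simp
  have hzero : ∀ k : K, f (J * ((k : Subgroup.centralizer ({J} : Set G)) : G)) = 0 := by
    intro k
    refine sum_eq_zero fun r _ => if_neg fun hr => ?_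
    have hk : ¬ 2 ∣ orderOf ((k : Subgroup.centralizer ({J} : Set G)) : G) := fun h => by
      rw [Subgroup.orderOf_coe, Subgroup.orderOf_coe] at h
      exact hK2 (h.trans (orderOf_dvd_natCard k))
    have hc : Commute J ((k : Subgroup.centralizer ({J} : Set G)) : G) :=
      (Subgroup.mem_centralizer_singleton_iff.1 k.1.2).symm
    obtain ⟨a, b, hab, habc, ⟨j, hj⟩, ⟨m, hm, hbm⟩, -, -, ha, -, -⟩ := exists_pPart Nat.prime_two r
    obtain ⟨Q, haQ, -, hQexp⟩ := exists_sylow_klein P hcard hexp ha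
    have haa : a * a = 1 := congrArg Subtype.val (hQexp ⟨a, haQ⟩)
    have hbb : r * r = b * b := by
      rw [← hab]
      calc a * b * (a * b) = a * a * (b * b) := Commute.mul_mul_mul_comm habc.symm a b
        _ = b * b := by rw [haa, one_mul]
    have hpart : IsPPart 2 (J * ((k : Subgroup.centralizer ({J} : Set G)) : G)) J :=
      ⟨_, rfl, hc, ⟨1, by rw [hJ, pow_one]⟩, hk⟩
    refine hJ1 (pPart_unique Nat.prime_two hpart (x' := 1) (y' := b * b)
      (by rw [one_mul, ← hbb, hr]) (Commute.one_left _) (n := 0) (by simp) hm ?_)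
    rw [(Commute.refl b).mul_pow, hbm, one_mul]
  have h : ∑ k : K, f (J * ((k : Subgroup.centralizer ({J} : Set G)) : G)) = 0 :=
    sum_eq_zero fun k _ => hzero k
  rw [sum_congr rfl fun k _ => classFun_expand hf _, sum_comm] at h
  simp only [← mul_sum] at h
  rw [sum_congr rfl fun χ _ => by
    rw [klein_coset_sum hM P hcard hexp hone hJ K hK2 hK4 χ]] at h
  simp only [mul_ite, mul_zero] at h
  rw [← sum_filter] at h
  refine (mul_eq_zero.1 (?_ : (Nat.card K : ℂ) * _ = 0)).resolve_left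
    (Nat.cast_ne_zero.2 Nat.card_pos.ne')
  rw [mul_sum, ← h]
  exact sum_congr rfl fun χ _ => by rw [hinner χ]; ring

/-- In the case of value product `-1` the two characters with value one are complex conjugate. -/
theorem klein_conjugate_pair (hM : IsPModular 2 M) (P : Sylow 2 G) (hcard : Nat.card P = 4)
    (hexp : ∀ x : P, x * x = 1) (hone : ∀ s t : G, orderOf s = 2 → orderOf t = 2 → IsConj s t)
    {J : G} (hJP : J ∈ (P : Subgroup G)) (hJ : orderOf J = 2) {χ₁ χ₂ χ₃ : IrrCharacter G}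
    (hB : ∀ χ, χ ∈ principalBlock M G ↔ χ = oneIrr G ∨ χ = χ₁ ∨ χ = χ₂ ∨ χ = χ₃)
    (hd : oneIrr G ≠ χ₁ ∧ oneIrr G ≠ χ₂ ∧ oneIrr G ≠ χ₃ ∧ χ₁ ≠ χ₂ ∧ χ₁ ≠ χ₃ ∧ χ₂ ≠ χ₃)
    (h1 : (χ₁ : G → ℂ) J = 1) (h2 : (χ₂ : G → ℂ) J = 1) (h3 : (χ₃ : G → ℂ) J = -1) :
    charDegree (χ₁ : G → ℂ) = charDegree (χ₂ : G → ℂ) := by
  classical
  letI := irrFintype (G := G)
  have hdeg : ∀ χ : IrrCharacter G, charDegree (barIrr χ : G → ℂ) = charDegree (χ : G → ℂ) := fun χ => by
    simp only [charDegree, barIrr_coe, Complex.conj_re]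
  by_cases hc : barIrr χ₁ = χ₂
  · rw [← hc, hdeg]
  exfalso
  have hbarJ : ∀ χ : IrrCharacter G, (barIrr χ : G → ℂ) J = conj ((χ : G → ℂ) J) := fun χ => rfl
  have hone' : (oneIrr G : G → ℂ) J = 1 := by rw [oneIrr_coe]
  have hbarne : ∀ χ : IrrCharacter G, χ ≠ oneIrr G → barIrr χ ≠ oneIrr G := by
    intro χ hne he
    refine hne (Subtype.ext (funext fun g => ?_))
    have := congrArg conj (congrFun (congrArg Subtype.val he) g)
    rw [barIrr_coe, Complex.conj_conj, oneIrr_coe, map_one] at this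
    rw [this, oneIrr_coe]
  have hbarinv : ∀ χ : IrrCharacter G, barIrr (barIrr χ) = χ := fun χ =>
    Subtype.ext (funext fun g => Complex.conj_conj _)
  have hb1 : barIrr χ₁ = χ₁ := by
    rcases (hB _).1 (barIrr_mem_principalBlock ((hB χ₁).2 (Or.inr (Or.inl rfl)))) with h | h | h | h
    · exact absurd h (hbarne χ₁ (Ne.symm hd.1))
    · exact h
    · exact absurd h hc
    · have := hbarJ χ₁
      rw [h, h3, h1, map_one] at this
      norm_num at this
  have hb2 : barIrr χ₂ = χ₂ := by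
    rcases (hB _).1 (barIrr_mem_principalBlock ((hB χ₂).2 (Or.inr (Or.inr (Or.inl rfl))))) with h | h | h | h
    · exact absurd h (hbarne χ₂ (Ne.symm hd.2.1))
    · exact absurd (by rw [← h, hbarinv]) hc
    · exact h
    · have := hbarJ χ₂
      rw [h, h3, h2, map_one] at this
      norm_num at this
  have hb3 : barIrr χ₃ = χ₃ := by
    rcases (hB _).1 (barIrr_mem_principalBlock ((hB χ₃).2 (Or.inr (Or.inr (Or.inr rfl))))) with h | h | h | h
    · exact absurd h (hbarne χ₃ (Ne.symm hd.2.2.1))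
    · exact absurd (by rw [← hb1, ← h, hbarinv]) hd.2.2.2.2.1.symm
    · exact absurd (by rw [← hb2, ← h, hbarinv]) hd.2.2.2.2.2.symm
    · exact h
  obtain ⟨-, v, -, hv, -⟩ := klein_principal hM P hcard hexp hone
  have hfs : ∀ χ ∈ principalBlock M G, barIrr χ = χ →
      (Nat.card G : ℂ)⁻¹ * ∑ g : G, (χ : G → ℂ) (g * g) = 1 := by
    intro χ hχ hbar
    rcases IsIrrCharacter.fs_indicator χ.2 with ⟨⟨g, hg⟩, -⟩ | ⟨-, h | ⟨-, h⟩⟩
    · exact absurd (Complex.conj_eq_iff_im.1 (congrFun (congrArg Subtype.val hbar) g)) hg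
    · exact h
    · exfalso
      obtain ⟨-, hpm, hdiv⟩ := hv χ hχ
      obtain ⟨c, hc⟩ := hdiv
      obtain ⟨d, hd⟩ := h _ (irr_one χ).1
      omega
  have hsum := klein_indicator_sum hM P hcard hexp hone hJP hJ
  have hfilter : (univ.filter (· ∈ principalBlock M G)) = {oneIrr G, χ₁, χ₂, χ₃} := by
    ext χ
    simp only [mem_filter, mem_univ, true_and, mem_insert, mem_singleton, hB]
  have n1 : oneIrr G ∉ ({χ₁, χ₂, χ₃} : Finset (IrrCharacter G)) := by
    simp [hd.1, hd.2.1, hd.2.2.1]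
  have n2 : χ₁ ∉ ({χ₂, χ₃} : Finset (IrrCharacter G)) := by simp [hd.2.2.2.1, hd.2.2.2.2.1]
  have n3 : χ₂ ∉ ({χ₃} : Finset (IrrCharacter G)) := by simp [hd.2.2.2.2.2]
  have hone1 : barIrr (oneIrr G) = oneIrr G := Subtype.ext (funext fun g => map_one conj)
  rw [hfilter, sum_insert n1, sum_insert n2, sum_insert n3, sum_singleton,
    hfs _ ((hB _).2 (Or.inl rfl)) hone1, hfs _ ((hB _).2 (Or.inr (Or.inl rfl))) hb1,
    hfs _ ((hB _).2 (Or.inr (Or.inr (Or.inl rfl)))) hb2,
    hfs _ ((hB _).2 (Or.inr (Or.inr (Or.inr rfl)))) hb3, h1, h2, h3, hone', map_one] at hsum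
  norm_num at hsum

/-- The order formula in the case of value product `-1`. -/
theorem klein_psl_shape {g c d n x q i : ℕ} (hq : q = 2 * x + 1) (hx : 0 < x) (hi : i * d = c)
    (hn : n * c = g)
    (h : (g : ℚ) * d ^ 2 = 8 * (((x : ℚ) * x * q) / ((x + 1) * (x + 1) * (q - 1))) * c ^ 3)
    (hc : 0 < c) (hd : 0 < d) :
    ∃ m : ℕ, 4 * c = m * d * (q + 1) ∧ 8 * g = m ^ 3 * d * (q ^ 3 - q) := by
  have hx' : (0 : ℚ) < x := Nat.cast_pos.2 hx
  have key : ((n * (x + 1) ^ 2 : ℕ) : ℚ) = ((4 * i ^ 2 * (x * (2 * x + 1)) : ℕ) : ℚ) := by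
    have hi0 : (i : ℚ) ≠ 0 := by
      intro h0
      rw [Nat.cast_eq_zero] at h0
      rw [h0, zero_mul] at hi
      omega
    have hd0 : (d : ℚ) ≠ 0 := Nat.cast_ne_zero.2 hd.ne'
    refine mul_left_cancel₀ (mul_ne_zero (mul_ne_zero two_ne_zero hx'.ne') hi0) ?_
    rw [← hn, ← hi, hq] at h
    push_cast at h ⊢
    have h' := h
    field_simp at h'
    linear_combination (i : ℚ) * h'
  have key' : n * (x + 1) ^ 2 = 4 * i ^ 2 * (x * (2 * x + 1)) := by exact_mod_cast key
  have hcop : ((x + 1) ^ 2).Coprime (x * (2 * x + 1)) := by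
    refine Nat.Coprime.pow_left _ (Nat.Coprime.mul_right ?_ ?_)
    · simp
    · rw [show 2 * x + 1 = x + (x + 1) by ring, Nat.coprime_add_self_right]
      simp
  have hdvd : (x + 1) ^ 2 ∣ (2 * i) ^ 2 := by
    rw [show (2 * i) ^ 2 = 4 * i ^ 2 by ring]
    exact hcop.dvd_of_dvd_mul_right ⟨n, by rw [← key']; ring⟩
  obtain ⟨m, hm⟩ := (Nat.pow_dvd_pow_iff two_ne_zero).1 hdvd
  refine ⟨m, ?_, ?_⟩
  · rw [← hi, hq]
    calc 4 * (i * d) = 2 * (2 * i) * d := by ring
      _ = m * d * (2 * x + 1 + 1) := by rw [hm]; ring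
  · have h4 : 4 * i ^ 2 = (x + 1) ^ 2 * m ^ 2 := by
      calc 4 * i ^ 2 = (2 * i) ^ 2 := by ring
        _ = (x + 1) ^ 2 * m ^ 2 := by rw [hm]; ring
    have hn' : n = m ^ 2 * (x * (2 * x + 1)) :=
      Nat.eq_of_mul_eq_mul_right (show 0 < (x + 1) ^ 2 by positivity) (by rw [key', h4]; ring)
    have hq3 : q ^ 3 - q = 4 * (x + 1) * x * (2 * x + 1) := by
      refine Nat.sub_eq_of_eq_add ?_
      rw [hq]; ring
    rw [hq3, ← hn, hn', ← hi]
    calc 8 * (m ^ 2 * (x * (2 * x + 1)) * (i * d)) = m ^ 2 * (2 * i) * (4 * (x * (2 * x + 1)) * d) := by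
          ring
      _ = m ^ 3 * d * (4 * (x + 1) * x * (2 * x + 1)) := by rw [hm]; ring

end CfsgLib.Block
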