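import Cfsg.Agent.Blocks.KleinFour
import Cfsg.Prelude.Def_BlockRank

/-!
# The principal 2-block on the singular elements, Klein four Sylow subgroup, one involution class
-/

namespace CfsgLib.Block

open Cfsg Finset CfsgLib.Block.Chr CfsgLib.Char
open scoped ComplexConjugate

set_option linter.unusedSectionVars false
set_option linter.style.haveILetI false

universe u

variable {G : Type u} [Group G] [Fintype G]

/-- An element of two-power order lies in a Klein four Sylow subgroup. -/
theorem exists_sylow_klein (P : Sylow 2 G) (hcard : Nat.card P = 4) (hexp : ∀ x : P, x * x = 1)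
    {a : G} (ha : ∃ k : ℕ, orderOf a = 2 ^ k) :
    ∃ Q : Sylow 2 G, a ∈ (Q : Subgroup G) ∧ Nat.card Q = 4 ∧ ∀ x : Q, x * x = 1 := by
  haveI : Fact (Nat.Prime 2) := ⟨Nat.prime_two⟩
  obtain ⟨k, hk⟩ := ha
  obtain ⟨Q, hQ⟩ := (IsPGroup.of_card (n := k)
    (show Nat.card (Subgroup.zpowers a) = 2 ^ k by rw [Nat.card_zpowers, hk])).exists_le_sylow
  have e : Q ≃* P := Sylow.equiv Q P
  refine ⟨Q, hQ (Subgroup.mem_zpowers a), by rw [Nat.card_congr e.toEquiv, hcard], fun x => ?_⟩
  exact e.injective (by rw [map_mul, map_one, hexp])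

variable {M : Ideal AlgInt} [M.IsPrime]

theorem klein_singular (hM : IsPModular 2 M) (P : Sylow 2 G) (hcard : Nat.card P = 4)
    (hexp : ∀ x : P, x * x = 1) (hone : ∀ s t : G, orderOf s = 2 → orderOf t = 2 → IsConj s t)
    [Fintype (IrrCharacter G)] [DecidablePred (· ∈ principalBlock M G)] :
    (univ.filter (· ∈ principalBlock M G)).card = 4 ∧
      ∃ v : IrrCharacter G → ℤ, v (oneIrr G) = 1 ∧
        (∀ χ ∈ principalBlock M G, (v χ = 1 ∨ v χ = -1) ∧
          ∀ g : G, 2 ∣ orderOf g → (χ : G → ℂ) g = (v χ : ℂ)) ∧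
        ∀ y : G, ¬ 2 ∣ orderOf y →
          ∑ χ ∈ univ.filter (· ∈ principalBlock M G), (v χ : ℂ) * (χ : G → ℂ) y = 0 := by
  classical
  haveI : Fact (Nat.Prime 2) := ⟨Nat.prime_two⟩
  obtain ⟨h4, v, hv1, hv, hrel⟩ := klein_principal hM P hcard hexp hone
  refine ⟨h4, v, hv1, fun χ hχ => ⟨(hv χ hχ).2.1, fun g hg => ?_⟩, hrel⟩
  obtain ⟨a, b, hab, hc, ⟨j, hj⟩, -, -, hbreg, ha, -, -⟩ := exists_pPart Nat.prime_two g
  obtain ⟨Q, haQ, hQ4, hQexp⟩ := exists_sylow_klein P hcard hexp ha
  have ha1 : a ≠ 1 := by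
    rintro rfl
    rw [one_mul] at hab
    exact hbreg (hab ▸ hg)
  have ha2 : orderOf a = 2 :=
    orderOf_eq_prime (by rw [pow_two]; exact congrArg Subtype.val (hQexp ⟨a, haQ⟩)) ha1
  obtain ⟨K, hK, hK2, hKidx⟩ := exists_complement_centralizer Q hQ4 hQexp haQ ha1
  haveI := hK
  haveI : Fintype (Subgroup.centralizer ({a} : Set G)) := Fintype.ofFinite _
  letI := irrFintype (G := Subgroup.centralizer ({a} : Set G))
  have hcC : (Nat.card (Subgroup.centralizer ({a} : Set G))).factorization 2 = 2 := by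
    rw [← K.index_mul_card, Nat.factorization_mul Subgroup.index_ne_zero_of_finite
      Nat.card_pos.ne', Finsupp.add_apply, hKidx, Nat.prime_two.factorization_pow,
      Finsupp.single_eq_same, Nat.factorization_eq_zero_of_not_dvd hK2]
  have hpb := principalBlock_of_complement hM K hK2 ⟨2, hKidx⟩
  have hker : ∀ φ : IrrCharacter (Subgroup.centralizer ({a} : Set G)),
      φ ∈ principalBlock M (Subgroup.centralizer ({a} : Set G)) →
      ∀ y : Subgroup.centralizer ({a} : Set G), ¬ 2 ∣ orderOf y → φ.1 y = φ.1 1 := by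
    intro φ hφ y hy
    rw [hpb] at hφ
    refine hφ y ?_
    rw [← QuotientGroup.eq_one_iff (N := K), ← orderOf_eq_one_iff]
    have h1 : orderOf (y : _ ⧸ K) ∣ 2 ^ 2 := by
      rw [← hKidx, Subgroup.index]; exact orderOf_dvd_natCard _
    exact Nat.eq_one_of_dvd_coprimes ((Nat.prime_two.coprime_iff_not_dvd.2 hy).pow_left 2) h1
      (orderOf_map_dvd (QuotientGroup.mk' K) y)
  have hsum : ∀ y y' : Subgroup.centralizer ({a} : Set G), ¬ 2 ∣ orderOf y → ¬ 2 ∣ orderOf y' →
      ∑ ζ ∈ univ.filter (· ∈ principalBlock M G),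
        (ζ : G → ℂ) (a * (y : G)) * conj ((ζ : G → ℂ) (a * (y' : G))) = 4 := by
    intro y y' hy hy'
    rw [principal_section_kernel hM (x := a) (k := 1) (by rw [ha2, pow_one]) y y' hy hy']
    rw [sum_congr rfl fun φ hφ => by
      rw [hker φ (mem_filter.1 hφ).2 y hy, hker φ (mem_filter.1 hφ).2 y' hy'],
      principal_complement_sum hM K hK2 ⟨2, hKidx⟩ (by simp), hcC]
    norm_num
  have hbC : b ∈ Subgroup.centralizer ({a} : Set G) :=
    Subgroup.mem_centralizer_singleton_iff.2 hc.symm.eq
  have hb' : ¬ 2 ∣ orderOf (⟨b, hbC⟩ : Subgroup.centralizer ({a} : Set G)) := by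
    rwa [← Subgroup.orderOf_coe]
  have h1' : ¬ 2 ∣ orderOf (1 : Subgroup.centralizer ({a} : Set G)) := by simp
  have hz : ∀ ζ ∈ univ.filter (· ∈ principalBlock M G),
      ((ζ : G → ℂ) (a * b) - (ζ : G → ℂ) a) * conj ((ζ : G → ℂ) (a * b) - (ζ : G → ℂ) a) = 0 := by
    have h0 : ∑ ζ ∈ univ.filter (· ∈ principalBlock M G),
        ((ζ : G → ℂ) (a * b) - (ζ : G → ℂ) a) * conj ((ζ : G → ℂ) (a * b) - (ζ : G → ℂ) a) = 0 := by
      have e1 := hsum _ _ hb' hb'
      have e2 := hsum _ _ hb' h1'
      have e3 := hsum _ _ h1' hb'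
      have e4 := hsum _ _ h1' h1'
      simp only [Subgroup.coe_one, mul_one] at e2 e3 e4
      simp only [map_sub, sub_mul, mul_sub, sum_sub_distrib]
      simp only [] at e1
      rw [e1, e2, e3, e4]
      ring
    have hre : ∑ ζ ∈ univ.filter (· ∈ principalBlock M G),
        Complex.normSq ((ζ : G → ℂ) (a * b) - (ζ : G → ℂ) a) = 0 := by
      refine Complex.ofReal_injective ?_
      rw [Complex.ofReal_sum, Complex.ofReal_zero, ← h0]
      exact sum_congr rfl fun ζ _ => (Complex.mul_conj _).symm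
    intro ζ hζ
    rw [Complex.mul_conj, (sum_eq_zero_iff_of_nonneg fun i _ => Complex.normSq_nonneg _).1 hre ζ hζ,
      Complex.ofReal_zero]
  have := hz χ (mem_filter.2 ⟨mem_univ _, hχ⟩)
  rw [Complex.mul_conj, Complex.ofReal_eq_zero, Complex.normSq_eq_zero, sub_eq_zero] at this
  rw [← hab, this]
  exact (hv χ hχ).1 a ha2

/-- The principal block has `2`-regular rank three. -/
theorem klein_blockRank (hM : IsPModular 2 M) (P : Sylow 2 G) (hcard : Nat.card P = 4)
    (hexp : ∀ x : P, x * x = 1) (hone : ∀ s t : G, orderOf s = 2 → orderOf t = 2 → IsConj s t) :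
    blockRank 2 (principalBlock M G) = 3 := by
  classical
  letI := irrFintype (G := G)
  obtain ⟨h4, v, hv1, hv, hrel⟩ := klein_singular hM P hcard hexp hone
  let T := {χ : IrrCharacter G // χ ∈ principalBlock M G}
  let v' : T → ℂ := fun t => (v t.1 : ℂ)
  let Φ : (T → ℂ) →ₗ[ℂ] (G → ℂ) :=
    Fintype.linearCombination ℂ fun t : T => regPart 2 (t.1 : G → ℂ)
  have hΦ : ∀ (w : T → ℂ) (g : G), Φ w g = ∑ t : T, w t * regPart 2 (t.1 : G → ℂ) g := by
    intro w g
    simp [Φ, Fintype.linearCombination_apply, Finset.sum_apply]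
  have hker : LinearMap.ker Φ = Submodule.span ℂ {v'} := by
    refine le_antisymm ?_ ?_
    · intro w hw
      rw [LinearMap.mem_ker] at hw
      -- the combination is constant on singular elements and zero elsewhere
      set c : ℂ := ∑ t : T, w t * v' t with hc
      set N : ℂ := ∑ g : G, (if 2 ∣ orderOf g then c else 0)
      have hf : ∀ g : G, ∑ t : T, w t * (t.1 : G → ℂ) g = if 2 ∣ orderOf g then c else 0 := by
        intro g
        split_ifs with hg
        · exact sum_congr rfl fun t _ => by rw [(hv t.1 t.2).2 g hg]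
        · rw [← show Φ w g = 0 from congrFun hw g, hΦ]
          exact sum_congr rfl fun t _ => by rw [regPart_of_not_dvd hg]
      refine Submodule.mem_span_singleton.2 ⟨(Nat.card G : ℂ)⁻¹ * N, funext fun s => ?_⟩
      have h1 : ∑ g : G, (∑ t : T, w t * (t.1 : G → ℂ) g) * conj ((s.1 : G → ℂ) g) =
          (Nat.card G : ℂ) * w s := by
        simp only [sum_mul]
        rw [sum_comm]
        have e : ∀ t : T, ∑ g : G, w t * (t.1 : G → ℂ) g * conj ((s.1 : G → ℂ) g) =
            if t = s then (Nat.card G : ℂ) * w t else 0 := by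
          intro t
          have h := classInner_irr t.1 s.1
          rw [classInner] at h
          have hG : (Nat.card G : ℂ) ≠ 0 := Nat.cast_ne_zero.2 Nat.card_pos.ne'
          simp only [mul_assoc, ← mul_sum]
          by_cases hts : t = s
          · subst hts
            rw [if_pos rfl] at h ⊢
            field_simp at h
            rw [h, mul_comm]
          · rw [if_neg fun h' => hts (Subtype.ext h')] at h
            rw [if_neg hts, (mul_eq_zero.1 h).resolve_left (inv_ne_zero hG), mul_zero]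
        rw [sum_congr rfl fun t _ => e t, sum_ite_eq' univ s, if_pos (mem_univ s)]
      have h2 : ∑ g : G, (∑ t : T, w t * (t.1 : G → ℂ) g) * conj ((s.1 : G → ℂ) g) = N * v' s := by
        rw [sum_mul]
        refine sum_congr rfl fun g _ => ?_
        rw [hf g]
        split_ifs with hg
        · rw [(hv s.1 s.2).2 g hg, map_intCast]
        · rw [zero_mul, zero_mul]
      rw [Pi.smul_apply, smul_eq_mul, mul_assoc, ← h2, h1, inv_mul_cancel_left₀
        (Nat.cast_ne_zero.2 Nat.card_pos.ne')]
    · rw [Submodule.span_le, Set.singleton_subset_iff, SetLike.mem_coe, LinearMap.mem_ker]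
      funext g
      rw [hΦ, Pi.zero_apply]
      by_cases hg : 2 ∣ orderOf g
      · exact sum_eq_zero fun t _ => by rw [regPart_of_dvd hg, mul_zero]
      · rw [← hrel g hg, ← sum_subtype (univ.filter (· ∈ principalBlock M G)) (fun χ => by simp)
          (fun χ => (v χ : ℂ) * regPart 2 (χ : G → ℂ) g)]
        exact sum_congr rfl fun t _ => by rw [regPart_of_not_dvd hg]
  have hrange : blockRank 2 (principalBlock M G) = Module.finrank ℂ (LinearMap.range Φ) := by
    have hs : ((fun χ : IrrCharacter G => pRegularPart 2 (χ : G → ℂ)) '' principalBlock M G) =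
        Set.range fun t : T => regPart 2 (t.1 : G → ℂ) := by
      ext f
      constructor
      · rintro ⟨χ, hχ, rfl⟩
        refine ⟨⟨χ, hχ⟩, funext fun g => ?_⟩
        by_cases hg : 2 ∣ orderOf g <;> simp [pRegularPart, IsPRegular, regPart, hg]
      · rintro ⟨t, rfl⟩
        refine ⟨t.1, t.2, funext fun g => ?_⟩
        by_cases hg : 2 ∣ orderOf g <;> simp [pRegularPart, IsPRegular, regPart, hg]
    rw [blockRank, Fintype.range_linearCombination]
    exact congrArg (fun s => Module.finrank ℂ ↥(Submodule.span ℂ s)) hs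
  have hk : Module.finrank ℂ (LinearMap.ker Φ) = 1 := by
    rw [hker]
    refine finrank_span_singleton fun h => ?_
    have := congrFun h ⟨oneIrr G, oneIrr_mem_principalBlock⟩
    simp [v', hv1] at this
  have hT : Fintype.card T = 4 := by rw [← h4, Fintype.card_subtype]
  have := LinearMap.finrank_range_add_finrank_ker Φ
  rw [Module.finrank_pi, hT, hk] at this
  omega

end CfsgLib.Block
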