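import Cfsg.Agent.Blocks.Correspond
import Cfsg.Agent.Blocks.Congr
import Cfsg.Agent.Blocks.LocalPrincipal
import Cfsg.Agent.Blocks.BrauerFeit
import Cfsg.Agent.Blocks.BlockSize

/-!
# Characters vanishing on the elements of order `p`

The indicator of `{g | g ^ p = 1}` acts by a multiple of `p` in every block of the centralizer
of an element of order `p`, and by `1` in a character vanishing on the elements of order `p`.
-/

namespace CfsgLib.Block

open Cfsg Finset CfsgLib.Block.Chr CfsgLib.Char
open scoped ComplexConjugate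

set_option linter.unusedSectionVars false
set_option linter.style.haveILetI false

universe u

variable {G : Type u} [Group G] [Fintype G] {M : Ideal AlgInt} [M.IsPrime] {p : ℕ}

/-- The indicator of the solutions of `g ^ p = 1`. -/
noncomputable def powInd (p : ℕ) (g : G) : ℂ := by classical exact if g ^ p = 1 then 1 else 0

theorem isIntClass_powInd : IsIntClass M (powInd p : G → ℂ) := by
  refine ⟨fun g x => ?_, fun g => ?_⟩
  · have h : (x * g * x⁻¹) ^ p = 1 ↔ g ^ p = 1 := by rw [conj_pow, conj_eq_one_iff]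
    by_cases hg : g ^ p = 1
    · rw [powInd, powInd, if_pos hg, if_pos (h.2 hg)]
    · rw [powInd, powInd, if_neg hg, if_neg (mt h.1 hg)]
  · by_cases hg : g ^ p = 1
    · rw [powInd, if_pos hg]; exact memLocalRing_one
    · rw [powInd, if_neg hg]; exact memLocalRing_zero

/-- A function constant on the cosets of a subgroup acts, in a character trivial on it, by a
multiple of the order of the subgroup. -/
theorem omega_eq_mul_of_ker (Q : Subgroup G) [Q.Normal] [Fintype (G ⧸ Q)] {χ : G → ℂ}
    {φ : G ⧸ Q → ℂ} (h : ∀ g : G, χ g = φ g) {a : G → ℂ} {a' : G ⧸ Q → ℂ}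
    (ha : ∀ g : G, a g = a' g) :
    omega χ a = (Nat.card Q : ℂ) * omega φ a' := by
  classical
  have hfib : ∀ q : G ⧸ Q, (univ.filter fun g : G => (g : G ⧸ Q) = q).card = Nat.card Q := by
    intro q
    obtain ⟨r, rfl⟩ := QuotientGroup.mk_surjective q
    rw [Nat.card_eq_fintype_card, ← card_univ]
    exact (card_nbij (fun v : Q => r * (v : G))
      (fun v _ => mem_filter.2 ⟨mem_univ _, QuotientGroup.mk_mul_of_mem r v.2⟩)
      (fun v _ w _ e => Subtype.ext (mul_left_cancel e))
      fun g hg => ⟨⟨r⁻¹ * g, QuotientGroup.eq.1 (mem_filter.1 hg).2.symm⟩, by simp, by simp⟩).symm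
  rw [omega, omega, h 1, mul_div_assoc', QuotientGroup.mk_one, mul_sum,
    ← sum_fiberwise univ (fun g : G => (g : G ⧸ Q))]
  congr 1
  refine sum_congr rfl fun q _ => ?_
  rw [sum_congr rfl fun g hg => by rw [h g, ha g, (mem_filter.1 hg).2], sum_const, hfib,
    nsmul_eq_mul]

/-- Knörr's criterion: vanishing on the elements of order `p` forces defect zero. -/
theorem knorr_defect_zero (hM : IsPModular p M) (χ : IrrCharacter G)
    (hvan : ∀ g : G, orderOf g = p → (χ : G → ℂ) g = 0) :
    (charDegree (χ : G → ℂ)).factorization p = (Nat.card G).factorization p := by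
  classical
  haveI : Fact p.Prime := ⟨hM.1⟩
  letI := irrFintype (G := G)
  refine le_antisymm ((Nat.factorization_le_iff_dvd (irr_one χ).2.ne' Nat.card_pos.ne').2
    (charDegree_dvd_card χ) p) ?_
  have hB := isPBlock_blockOf (M := M) χ
  rcases Nat.eq_zero_or_pos (blockDefect p (blockOf M (χ : G → ℂ))) with h0 | hpos
  · have := degree_ge hM hB (mem_blockOf_self χ)
    rwa [h0, Nat.sub_zero] at this
  exfalso
  obtain ⟨D, hD⟩ := exists_defectGroup (M := M) hB hM
  haveI : Fintype D := Fintype.ofFinite D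
  obtain ⟨⟨z, hzD⟩, hz⟩ := exists_prime_orderOf_dvd_card (G := D) p (by
    rw [← Nat.card_eq_fintype_card, card_defectGroup hM hB hD]; exact dvd_pow_self p hpos.ne')
  rw [Subgroup.orderOf_mk] at hz
  have hzC : z ∈ Subgroup.centralizer ({z} : Set G) := Subgroup.mem_centralizer_singleton_iff.2 rfl
  have hQ : IsPGroup p (Subgroup.zpowers z) :=
    IsPGroup.of_card (n := 1) (by rw [Nat.card_zpowers, hz, pow_one])
  have hPH : Subgroup.zpowers z ≤ Subgroup.centralizer ({z} : Set G) := Subgroup.zpowers_le.2 hzC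
  haveI : Fintype (Subgroup.centralizer ({z} : Set G)) := Fintype.ofFinite _
  obtain ⟨b, hb⟩ := exists_inducing (H := Subgroup.centralizer ({z} : Set G)) hM hQ hPH
    (fun w hw => Subgroup.mem_centralizer_singleton_iff.2
      ((Subgroup.mem_centralizer_iff.1 hw z (Subgroup.mem_zpowers z)).symm))
    (le_trans (by
      intro w hw
      rw [Subgroup.mem_centralizer_iff]
      intro u hu
      obtain ⟨i, rfl⟩ := hu
      exact ((show Commute z w from
        (Subgroup.mem_centralizer_singleton_iff.1 hw).symm).zpow_left i).eq)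
      (Subgroup.centralizer_le_normalizer _))
    hB hD (x := 1) (by
      rintro _ ⟨u, hu, rfl⟩
      simpa using (Subgroup.zpowers_le.2 hzD) hu)
  set Q := (Subgroup.zpowers z).subgroupOf (Subgroup.centralizer ({z} : Set G)) with hQdef
  haveI hQn : Q.Normal := ⟨fun u hu v => by
    obtain ⟨i, hi⟩ : ∃ i : ℤ, z ^ i = (u : G) := id hu
    have hc : Commute (v : G) (u : G) := by
      rw [← hi]
      exact (show Commute (v : G) z from Subgroup.mem_centralizer_singleton_iff.1 v.2).zpow_right i
    have : v * u * v⁻¹ = u := Subtype.ext (by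
      show (v : G) * u * (v : G)⁻¹ = u
      rw [hc.eq, mul_inv_cancel_right])
    exact this.symm ▸ hu⟩
  have hQp : IsPGroup p Q := hQ.of_equiv (Subgroup.subgroupOfEquivOfLe hPH).symm
  obtain ⟨ξ, hξ, hker⟩ := exists_ker_mem_block hM hb.1 Q hQp
  obtain ⟨φ, hφ⟩ := exists_quotient_irr Q ξ hker
  haveI : Fintype (Subgroup.centralizer ({z} : Set G) ⧸ Q) := Fintype.ofFinite _
  let a' : Subgroup.centralizer ({z} : Set G) ⧸ Q → ℂ := fun q => powInd p ((q.out : _) : G)
  have hcompat : ∀ c : Subgroup.centralizer ({z} : Set G),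
      powInd p (c : G) = a' (c : Subgroup.centralizer ({z} : Set G) ⧸ Q) := by
    intro c
    obtain ⟨u, hu⟩ := QuotientGroup.mk_out_eq_mul Q c
    obtain ⟨i, hi⟩ : ∃ i : ℤ, z ^ i = ((u : Subgroup.centralizer ({z} : Set G)) : G) := u.2
    have hc : Commute (c : G) (z ^ i) :=
      (show Commute (c : G) z from Subgroup.mem_centralizer_singleton_iff.1 c.2).zpow_right i
    show powInd p (c : G) = powInd p _
    rw [hu, Subgroup.coe_mul, ← hi, powInd, powInd, hc.mul_pow]
    have : (z ^ i) ^ p = 1 := by
      rw [← zpow_natCast, ← zpow_mul, mul_comm, zpow_mul, zpow_natCast, ← hz, pow_orderOf_eq_one,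
        one_zpow]
    rw [this, mul_one]
  have ha' : IsIntClass M a' := by
    refine ⟨fun q r => ?_, fun q => (isIntClass_powInd (G := G)).2 _⟩
    obtain ⟨c, rfl⟩ := QuotientGroup.mk_surjective q
    obtain ⟨d, rfl⟩ := QuotientGroup.mk_surjective r
    rw [← QuotientGroup.mk_inv, ← QuotientGroup.mk_mul, ← QuotientGroup.mk_mul, ← hcompat, ← hcompat]
    push_cast
    exact (isIntClass_powInd (M := M) (G := G)).1 _ _
  have hind : MemLocalIdeal M (omega (ξ : _ → ℂ)
      (resFun (Subgroup.centralizer ({z} : Set G)) (powInd p : G → ℂ))) := by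
    show MemLocalIdeal M (omega ξ.1 fun c : Subgroup.centralizer ({z} : Set G) => powInd p (c : G))
    rw [omega_eq_mul_of_ker Q (φ := φ.1) hφ (a' := a') hcompat,
      show Nat.card Q = p by
        rw [Nat.card_congr (Subgroup.subgroupOfEquivOfLe hPH).toEquiv, Nat.card_zpowers, hz]]
    exact memLocalIdeal_mul_right (memLocalIdeal_p hM) (omega_mem φ ha')
  have h1 := induced_cong _ (hb.2.2 ξ hξ χ (mem_blockOf_self χ)) (isIntClass_powInd (M := M) (p := p))
  have hone : omega (χ : G → ℂ) (powInd p : G → ℂ) = 1 := by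
    rw [omega, sum_eq_single (1 : G), powInd, if_pos (one_pow p), one_mul,
      div_self (irr_one_ne_zero χ)]
    · intro g _ hg
      by_cases hgp : g ^ p = 1
      · rw [hvan g (orderOf_eq_prime hgp hg), mul_zero]
      · rw [powInd, if_neg hgp, zero_mul]
    · simp
  rw [hone] at h1
  have h2 := memLocalIdeal_sub hind h1
  rw [sub_sub_cancel] at h2
  exact not_memLocalIdeal_one h2

end CfsgLib.Block
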