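import Cfsg.Prelude.Def_Blocks
import Mathlib.RingTheory.Ideal.Quotient.Basic
import Mathlib.RingTheory.IntegralClosure.IntegralRestrict
import Mathlib.RingTheory.RootsOfUnity.Complex
import Mathlib.RingTheory.Ideal.GoingUp
import Mathlib.Algebra.CharP.Lemmas
import Mathlib.Algebra.CharP.Reduced
import Mathlib.Data.Nat.Prime.Int
import Mathlib.RingTheory.Int.Basic

/-!
# The valuation ring at a maximal ideal of the algebraic integers

`localRing M` is the subring of complex numbers satisfying `Cfsg.MemLocalRing M`, `localIdeal M` its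
maximal ideal, and `Residue M` the residue field.
-/

namespace CfsgLib.Block

open Cfsg

set_option linter.unusedSectionVars false

variable {M : Ideal AlgInt}

theorem mem_algInt_iff {z : ℂ} : z ∈ AlgInt ↔ IsIntegral ℤ z := Iff.rfl

section Prime

variable [hM : M.IsPrime]

theorem one_notMem : (1 : AlgInt) ∉ M := fun h => hM.ne_top ((Ideal.eq_top_iff_one M).2 h)

theorem coe_ne_zero_of_notMem {b : AlgInt} (hb : b ∉ M) : (b : ℂ) ≠ 0 := fun h =>
  hb (by rw [show b = 0 from Subtype.ext h]; exact M.zero_mem)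

theorem memLocalRing_algInt (a : AlgInt) : MemLocalRing M (a : ℂ) :=
  ⟨a, 1, one_notMem, by simp⟩

theorem memLocalRing_of_isIntegral {z : ℂ} (hz : IsIntegral ℤ z) : MemLocalRing M z :=
  memLocalRing_algInt ⟨z, hz⟩

theorem memLocalRing_zero : MemLocalRing M 0 := by
  simpa using memLocalRing_algInt (M := M) 0

theorem memLocalRing_one : MemLocalRing M 1 := by
  simpa using memLocalRing_algInt (M := M) 1

theorem memLocalRing_add {x y : ℂ} (hx : MemLocalRing M x) (hy : MemLocalRing M y) :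
    MemLocalRing M (x + y) := by
  obtain ⟨a, b, hb, rfl⟩ := hx
  obtain ⟨c, d, hd, rfl⟩ := hy
  refine ⟨a * d + b * c, b * d, fun h => (hM.mem_or_mem h).elim hb hd, ?_⟩
  push_cast
  rw [div_add_div _ _ (coe_ne_zero_of_notMem hb) (coe_ne_zero_of_notMem hd)]

theorem memLocalRing_mul {x y : ℂ} (hx : MemLocalRing M x) (hy : MemLocalRing M y) :
    MemLocalRing M (x * y) := by
  obtain ⟨a, b, hb, rfl⟩ := hx
  obtain ⟨c, d, hd, rfl⟩ := hy
  refine ⟨a * c, b * d, fun h => (hM.mem_or_mem h).elim hb hd, ?_⟩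
  push_cast
  rw [div_mul_div_comm]

theorem memLocalRing_neg {x : ℂ} (hx : MemLocalRing M x) : MemLocalRing M (-x) := by
  obtain ⟨a, b, hb, rfl⟩ := hx
  exact ⟨-a, b, hb, by push_cast; rw [neg_div]⟩

end Prime

variable (M) in
/-- The subring of local integers at `M`. -/
noncomputable def localRing [M.IsPrime] : Subring ℂ where
  carrier := {z | MemLocalRing M z}
  zero_mem' := memLocalRing_zero
  one_mem' := memLocalRing_one
  add_mem' := memLocalRing_add
  mul_mem' := memLocalRing_mul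
  neg_mem' := memLocalRing_neg

section Prime

variable [hM : M.IsPrime]

theorem mem_localRing {z : ℂ} : z ∈ localRing M ↔ MemLocalRing M z := Iff.rfl

theorem algInt_mem_localRing (a : AlgInt) : (a : ℂ) ∈ localRing M := memLocalRing_algInt a

theorem integral_mem_localRing {z : ℂ} (hz : IsIntegral ℤ z) : z ∈ localRing M :=
  memLocalRing_of_isIntegral hz

theorem natCast_mem_localRing (n : ℕ) : (n : ℂ) ∈ localRing M := natCast_mem _ n

theorem memLocalIdeal_memLocalRing {z : ℂ} (hz : MemLocalIdeal M z) : MemLocalRing M z := by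
  obtain ⟨a, b, _, hb, rfl⟩ := hz
  exact ⟨a, b, hb, rfl⟩

theorem memLocalIdeal_algInt_iff {a : AlgInt} : MemLocalIdeal M (a : ℂ) ↔ a ∈ M := by
  constructor
  · rintro ⟨c, b, hc, hb, h⟩
    have h' : a * b = c := Subtype.ext (by
      push_cast
      rw [← h, div_mul_cancel₀ _ (coe_ne_zero_of_notMem hb)])
    exact (hM.mem_or_mem (h' ▸ hc)).resolve_right hb
  · exact fun h => ⟨a, 1, h, one_notMem, by simp⟩

theorem memLocalIdeal_zero : MemLocalIdeal M 0 :=
  ⟨0, 1, M.zero_mem, one_notMem, by simp⟩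

theorem memLocalIdeal_add {x y : ℂ} (hx : MemLocalIdeal M x) (hy : MemLocalIdeal M y) :
    MemLocalIdeal M (x + y) := by
  obtain ⟨a, b, ha, hb, rfl⟩ := hx
  obtain ⟨c, d, hc, hd, rfl⟩ := hy
  refine ⟨a * d + b * c, b * d, M.add_mem (M.mul_mem_right _ ha) (M.mul_mem_left _ hc),
    fun h => (hM.mem_or_mem h).elim hb hd, ?_⟩
  push_cast
  rw [div_add_div _ _ (coe_ne_zero_of_notMem hb) (coe_ne_zero_of_notMem hd)]

theorem memLocalIdeal_mul_left {r x : ℂ} (hr : MemLocalRing M r) (hx : MemLocalIdeal M x) :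
    MemLocalIdeal M (r * x) := by
  obtain ⟨a, b, hb, rfl⟩ := hr
  obtain ⟨c, d, hc, hd, rfl⟩ := hx
  refine ⟨a * c, b * d, M.mul_mem_left _ hc, fun h => (hM.mem_or_mem h).elim hb hd, ?_⟩
  push_cast
  rw [div_mul_div_comm]

theorem memLocalIdeal_mul_right {r x : ℂ} (hx : MemLocalIdeal M x) (hr : MemLocalRing M r) :
    MemLocalIdeal M (x * r) := by
  rw [mul_comm]; exact memLocalIdeal_mul_left hr hx

theorem memLocalIdeal_neg {x : ℂ} (hx : MemLocalIdeal M x) : MemLocalIdeal M (-x) := by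
  simpa using memLocalIdeal_mul_left (memLocalRing_neg (memLocalRing_one (M := M))) hx

theorem memLocalIdeal_sub {x y : ℂ} (hx : MemLocalIdeal M x) (hy : MemLocalIdeal M y) :
    MemLocalIdeal M (x - y) := by
  rw [sub_eq_add_neg]; exact memLocalIdeal_add hx (memLocalIdeal_neg hy)

theorem memLocalIdeal_sub_comm {x y : ℂ} (h : MemLocalIdeal M (x - y)) :
    MemLocalIdeal M (y - x) := by
  simpa using memLocalIdeal_neg h

theorem memLocalIdeal_sub_trans {x y z : ℂ} (h : MemLocalIdeal M (x - y))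
    (h' : MemLocalIdeal M (y - z)) : MemLocalIdeal M (x - z) := by
  simpa using memLocalIdeal_add h h'

theorem memLocalIdeal_iff_of_cong {x y : ℂ} (h : MemLocalIdeal M (x - y)) :
    MemLocalIdeal M x ↔ MemLocalIdeal M y := by
  constructor
  · intro hx; simpa using memLocalIdeal_sub hx h
  · intro hy; simpa using memLocalIdeal_add hy h

theorem memLocalIdeal_sum {ι : Type*} {s : Finset ι} {f : ι → ℂ}
    (h : ∀ i ∈ s, MemLocalIdeal M (f i)) : MemLocalIdeal M (∑ i ∈ s, f i) :=
  Finset.sum_induction f (MemLocalIdeal M) (fun _ _ => memLocalIdeal_add) memLocalIdeal_zero h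

theorem memLocalRing_sum {ι : Type*} {s : Finset ι} {f : ι → ℂ}
    (h : ∀ i ∈ s, MemLocalRing M (f i)) : MemLocalRing M (∑ i ∈ s, f i) :=
  (localRing M).sum_mem h

theorem memLocalRing_sub {x y : ℂ} (hx : MemLocalRing M x) (hy : MemLocalRing M y) :
    MemLocalRing M (x - y) :=
  (localRing M).sub_mem hx hy

theorem not_memLocalIdeal_one : ¬ MemLocalIdeal M 1 := fun h =>
  one_notMem (memLocalIdeal_algInt_iff.1 (by simpa using h))

/-- A local integer outside the local ideal has its inverse in the local ring. -/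
theorem memLocalRing_inv {x : ℂ} (hx : MemLocalRing M x) (hx' : ¬ MemLocalIdeal M x) :
    MemLocalRing M x⁻¹ := by
  obtain ⟨a, b, hb, rfl⟩ := hx
  have ha : a ∉ M := fun ha => hx' ⟨a, b, ha, hb, rfl⟩
  exact ⟨b, a, ha, by rw [inv_div]⟩

theorem ne_zero_of_not_memLocalIdeal {x : ℂ} (hx : ¬ MemLocalIdeal M x) : x ≠ 0 :=
  fun h => hx (h ▸ memLocalIdeal_zero)

theorem not_memLocalIdeal_mul {x y : ℂ} (hx : MemLocalRing M x) (hx' : ¬ MemLocalIdeal M x)
    (hy : ¬ MemLocalIdeal M y) : ¬ MemLocalIdeal M (x * y) := fun h => hy (by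
  simpa [← mul_assoc, inv_mul_cancel₀ (ne_zero_of_not_memLocalIdeal hx')] using
    memLocalIdeal_mul_left (memLocalRing_inv hx hx') h)

theorem not_memLocalIdeal_inv {x : ℂ} (hx : MemLocalRing M x) (hx' : ¬ MemLocalIdeal M x) :
    ¬ MemLocalIdeal M x⁻¹ := fun h => not_memLocalIdeal_one (M := M) (by
  simpa [ne_zero_of_not_memLocalIdeal hx'] using memLocalIdeal_mul_left hx h)

end Prime

variable (M) in
/-- The maximal ideal of `localRing M`. -/
noncomputable def localIdeal [M.IsPrime] : Ideal (localRing M) where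
  carrier := {z | MemLocalIdeal M (z : ℂ)}
  zero_mem' := memLocalIdeal_zero
  add_mem' := memLocalIdeal_add
  smul_mem' := fun r _ hx => memLocalIdeal_mul_left r.2 hx

section Prime

variable [hM : M.IsPrime]

theorem mem_localIdeal {z : localRing M} : z ∈ localIdeal M ↔ MemLocalIdeal M (z : ℂ) := Iff.rfl

theorem isUnit_of_notMem_localIdeal {z : localRing M} (hz : z ∉ localIdeal M) : IsUnit z :=
  IsUnit.of_mul_eq_one ⟨(z : ℂ)⁻¹, memLocalRing_inv z.2 hz⟩
    (Subtype.ext (mul_inv_cancel₀ (ne_zero_of_not_memLocalIdeal hz)))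

instance localIdeal_isMaximal : (localIdeal M).IsMaximal := by
  rw [Ideal.isMaximal_iff]
  refine ⟨fun h => not_memLocalIdeal_one (M := M) h, fun J x _ hx hxJ => ?_⟩
  exact (Ideal.eq_top_of_isUnit_mem J hxJ (isUnit_of_notMem_localIdeal hx)).symm ▸ Submodule.mem_top

end Prime

variable (M) in
/-- The residue field of `localRing M`. -/
abbrev Residue [M.IsPrime] : Type := localRing M ⧸ localIdeal M

noncomputable instance residueField [M.IsPrime] : Field (Residue M) :=
  Ideal.Quotient.field (localIdeal M)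

variable (M) in
/-- Reduction modulo the local ideal. -/
noncomputable abbrev res [M.IsPrime] : localRing M →+* Residue M :=
  Ideal.Quotient.mk (localIdeal M)

theorem res_eq_zero_iff [M.IsPrime] {z : localRing M} :
    res M z = 0 ↔ MemLocalIdeal M (z : ℂ) :=
  Ideal.Quotient.eq_zero_iff_mem

theorem res_eq_iff [M.IsPrime] {x y : localRing M} :
    res M x = res M y ↔ MemLocalIdeal M ((x : ℂ) - (y : ℂ)) := by
  rw [Ideal.Quotient.mk_eq_mk_iff_sub_mem, mem_localIdeal]; rfl

theorem isUnit_of_res_ne_zero [M.IsPrime] (z : localRing M) (hz : res M z ≠ 0) : IsUnit z :=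
  isUnit_of_notMem_localIdeal fun h => hz (Ideal.Quotient.eq_zero_iff_mem.2 h)

theorem isUnit_iff_res_ne_zero [M.IsPrime] {z : localRing M} : IsUnit z ↔ res M z ≠ 0 :=
  ⟨fun h => (h.map (res M)).ne_zero, isUnit_of_res_ne_zero z⟩

/-! ### Facts for a modular maximal ideal -/

variable {p : ℕ}

theorem isPrime_of_isPModular (hM : IsPModular p M) : M.IsPrime := hM.2.1.isPrime

section Modular

variable [M.IsPrime]

theorem memLocalIdeal_p (hM : IsPModular p M) : MemLocalIdeal M (p : ℂ) := by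
  simpa using memLocalIdeal_algInt_iff.2 hM.2.2

theorem res_natCast_p (hM : IsPModular p M) : (p : Residue M) = 0 := by
  rw [← map_natCast (res M), res_eq_zero_iff]
  simpa using memLocalIdeal_p hM

theorem charP_residue (hM : IsPModular p M) : CharP (Residue M) p :=
  (CharP.charP_iff_prime_eq_zero hM.1).2 (res_natCast_p hM)

theorem memLocalIdeal_intCast_iff (hM : IsPModular p M) {n : ℤ} :
    MemLocalIdeal M (n : ℂ) ↔ (p : ℤ) ∣ n := by
  have := charP_residue hM
  rw [← CharP.intCast_eq_zero_iff (Residue M) p, ← map_intCast (res M), res_eq_zero_iff]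
  simp

theorem memLocalIdeal_natCast_iff (hM : IsPModular p M) {n : ℕ} :
    MemLocalIdeal M (n : ℂ) ↔ p ∣ n := by
  simpa [Int.natCast_dvd_natCast] using memLocalIdeal_intCast_iff hM (n := n)

theorem memLocalRing_natCast_inv (hM : IsPModular p M) {n : ℕ} (hn : ¬ p ∣ n) :
    MemLocalRing M (n : ℂ)⁻¹ :=
  memLocalRing_inv (natCast_mem_localRing n) (mt (memLocalIdeal_natCast_iff hM).1 hn)

/-- An integer divisible by `p ^ k` in the local ring is divisible by it in `ℤ`. -/
theorem pow_dvd_of_memLocalRing (hM : IsPModular p M) {n : ℤ} :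
    ∀ {k : ℕ}, MemLocalRing M ((n : ℂ) / (p : ℂ) ^ k) → (p : ℤ) ^ k ∣ n := by
  have hp0 : (p : ℂ) ≠ 0 := Nat.cast_ne_zero.2 hM.1.ne_zero
  intro k
  induction k with
  | zero => simp
  | succ k ih =>
    intro h
    obtain ⟨m, rfl⟩ := ih (by
      convert memLocalRing_mul h (natCast_mem_localRing p) using 1
      field_simp
      ring)
    have hm : MemLocalIdeal M (m : ℂ) := by
      convert memLocalIdeal_mul_right (memLocalIdeal_p hM) h using 1
      push_cast; field_simp; ring
    rw [pow_succ]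
    exact mul_dvd_mul_left _ ((memLocalIdeal_intCast_iff hM).1 hm)

/-- An integer lying in `p ^ k` times the local ideal is divisible by `p ^ (k + 1)`. -/
theorem pow_succ_dvd_of_memLocalIdeal (hM : IsPModular p M) {n : ℤ} {k : ℕ}
    (h : MemLocalIdeal M ((n : ℂ) / (p : ℂ) ^ k)) : (p : ℤ) ^ (k + 1) ∣ n := by
  obtain ⟨m, rfl⟩ := pow_dvd_of_memLocalRing hM (memLocalIdeal_memLocalRing h)
  have hp0 : (p : ℂ) ≠ 0 := Nat.cast_ne_zero.2 hM.1.ne_zero
  rw [pow_succ]
  refine mul_dvd_mul_left _ ((memLocalIdeal_intCast_iff hM).1 ?_)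
  convert h using 1
  push_cast; field_simp

theorem memLocalRing_div_pow_of_dvd {n : ℤ} {k : ℕ} (hp : p ≠ 0) (h : (p : ℤ) ^ k ∣ n) :
    MemLocalRing M ((n : ℂ) / (p : ℂ) ^ k) := by
  obtain ⟨m, rfl⟩ := h
  have hp0 : (p : ℂ) ≠ 0 := Nat.cast_ne_zero.2 hp
  have e : (((p : ℤ) ^ k * m : ℤ) : ℂ) / (p : ℂ) ^ k = (m : ℂ) := by push_cast; field_simp
  rw [e]
  exact intCast_mem (localRing M) m

/-- A `p`-power root of unity is congruent to one. -/
theorem res_eq_one_of_pow_eq_one (hM : IsPModular p M) {z : localRing M} {n : ℕ}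
    (hz : z ^ p ^ n = 1) : res M z = 1 := by
  have := charP_residue hM
  have : Fact p.Prime := ⟨hM.1⟩
  have h : res M z ^ p ^ n = 1 := by rw [← map_pow, hz, map_one]
  have := ExpChar.prime (R := Residue M) hM.1
  simpa using (ExpChar.pow_prime_pow_mul_eq_one_iff p n 1 (res M z)).1 (by simpa using h)

omit [M.IsPrime] in
/-- The prime ideals of the algebraic integers containing `p` are maximal. -/
theorem isMaximal_of_prime_natCast_mem (hp : p.Prime) (Q : Ideal AlgInt) [Q.IsPrime]
    (h : (p : AlgInt) ∈ Q) : Q.IsMaximal := by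
  apply Ideal.isMaximal_of_isIntegral_of_isMaximal_comap (R := ℤ) Q
  have hle : Ideal.span {(p : ℤ)} ≤ Q.comap (algebraMap ℤ AlgInt) := by
    rw [Ideal.span_singleton_le_iff_mem, Ideal.mem_comap]
    simpa using h
  have hmax : (Ideal.span {(p : ℤ)}).IsMaximal :=
    PrincipalIdealRing.isMaximal_of_irreducible (Int.prime_iff_natAbs_prime.2 (by simpa using hp)).irreducible
  rwa [← hmax.eq_of_le (Ideal.IsPrime.ne_top inferInstance) hle]

/-- A high power of an element of the local ideal is divisible by any given power of `p`. -/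
theorem exists_pow_dvd_of_memLocalIdeal (hM : IsPModular p M) {z : ℂ} (hz : MemLocalIdeal M z)
    (k : ℕ) : ∃ n : ℕ, MemLocalRing M (z ^ n / (p : ℂ) ^ k) := by
  obtain ⟨a, b, ha, hb, rfl⟩ := hz
  let S : Submonoid AlgInt := M.primeCompl ⊔ Submonoid.powers a
  have key : ¬ Disjoint ((Ideal.span {(p : AlgInt) ^ k} : Ideal AlgInt) : Set AlgInt) (S : Set AlgInt) := by
    intro hdisj
    obtain ⟨Q, hQ, hle, hQS⟩ := Ideal.exists_le_prime_disjoint _ S hdisj
    have hpQ : (p : AlgInt) ∈ Q := hQ.mem_of_pow_mem k (hle (Ideal.mem_span_singleton_self _))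
    have hQM : Q ≤ M := fun x hx => by
      by_contra hxM
      exact Set.disjoint_left.1 hQS hx (Submonoid.mem_sup_left hxM)
    have := (isMaximal_of_prime_natCast_mem hM.1 Q hpQ).eq_of_le (Ideal.IsPrime.ne_top inferInstance) hQM
    exact Set.disjoint_left.1 hQS (this ▸ ha)
      (Submonoid.mem_sup_right (Submonoid.mem_powers a))
  obtain ⟨x, hx, hxS⟩ := Set.not_disjoint_iff.1 key
  obtain ⟨s, hs, t, ⟨n, rfl⟩, rfl⟩ := Submonoid.mem_sup.1 hxS
  obtain ⟨c, hc⟩ := Ideal.mem_span_singleton.1 hx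
  refine ⟨n, c, s * b ^ n, fun h => (Ideal.IsPrime.mem_or_mem inferInstance h).elim hs
    (fun h => hb (Ideal.IsPrime.mem_of_pow_mem inferInstance n h)), ?_⟩
  have hc' : (s : ℂ) * (a : ℂ) ^ n = (p : ℂ) ^ k * (c : ℂ) := by
    simpa using congrArg (fun w : AlgInt => (w : ℂ)) hc
  have hs0 := coe_ne_zero_of_notMem hs
  have hb0 := coe_ne_zero_of_notMem hb
  have hp0 : (p : ℂ) ≠ 0 := Nat.cast_ne_zero.2 hM.1.ne_zero
  push_cast
  rw [div_pow, div_div, div_eq_div_iff (by positivity) (by positivity)]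
  linear_combination (-(b : ℂ) ^ n) * hc'

/-- A root of unity of any positive order lies in the local ring. -/
theorem exists_primitiveRoot (n : ℕ) (hn : n ≠ 0) :
    ∃ ζ : localRing M, IsPrimitiveRoot ζ n := by
  have h := Complex.isPrimitiveRoot_exp n hn
  have hi : IsIntegral ℤ (Complex.exp (2 * Real.pi * Complex.I / n)) :=
    IsIntegral.of_pow (Nat.pos_of_ne_zero hn) (h.pow_eq_one.symm ▸ isIntegral_one)
  exact ⟨⟨_, integral_mem_localRing hi⟩,
    IsPrimitiveRoot.of_map_of_injective (f := (localRing M).subtype) h Subtype.coe_injective⟩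

end Modular

end CfsgLib.Block
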