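import Cfsg.Agent.Blocks.MinMax
import Cfsg.Agent.Blocks.NormalSub
import Cfsg.Agent.Blocks.BrauerFeit
import Cfsg.Agent.BlocksB.PrincipalRankQuotient
import Cfsg.Agent.BlocksB.RegRank

/-!
# Blocks with a defect group `P` such that `G = P C(P)`

Every character of the block is, on `P` times the `p`-regular elements, the product of its
restriction to `P` and the character of defect zero of `G ⧸ P`.
-/

namespace CfsgLib.Block

open Cfsg Finset CfsgLib.Block.Chr CfsgLib.Char CfsgLib.BlockB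
open scoped ComplexConjugate

set_option linter.unusedSectionVars false
set_option linter.style.haveILetI false

universe u

variable {G : Type u} [Group G] [Fintype G] {M : Ideal AlgInt} [M.IsPrime] {p : ℕ}
  [hp : Fact p.Prime] {P : Subgroup G} [P.Normal]

/-- Multiplicativity of irreducible characters on `P` times the regular elements. -/
theorem irr_mul_of_split (hP : IsPGroup p P) (hG : P ⊔ Subgroup.centralizer (P : Set G) = ⊤)
    (χ : IrrCharacter G) {x y : G} (hx : x ∈ P) (hy : ¬ p ∣ orderOf y) :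
    (χ : G → ℂ) (x * y) * (χ : G → ℂ) 1 = (χ : G → ℂ) x * (χ : G → ℂ) y := by
  classical
  have hyC := mem_centralizer_of_regular hP hG hy
  have hdec : ∀ c : G, ∃ q ∈ P, ∃ d ∈ Subgroup.centralizer (P : Set G), q * d = c := fun c =>
    Subgroup.mem_sup_of_normal_left.1 (hG ▸ Subgroup.mem_top c : c ∈ P ⊔ _)
  have hconst : ∀ g k : G, IsConj x g → IsConj y k → (χ : G → ℂ) (g * k) = (χ : G → ℂ) (x * y) := by
    intro g k hg hk
    obtain ⟨c, rfl⟩ := isConj_iff.1 hg
    obtain ⟨e, rfl⟩ := isConj_iff.1 hk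
    obtain ⟨q, hq, d, hd, rfl⟩ := hdec c
    obtain ⟨q', hq', d', hd', rfl⟩ := hdec e
    have h1 : d * x * d⁻¹ = x := by
      rw [← Subgroup.mem_centralizer_iff.1 hd x hx, mul_inv_cancel_right]
    have h1' : d' * x * d'⁻¹ = x := by
      rw [← Subgroup.mem_centralizer_iff.1 hd' x hx, mul_inv_cancel_right]
    have hk' : d' * y * d'⁻¹ ∈ Subgroup.centralizer (P : Set G) :=
      mul_mem (mul_mem hd' hyC) (inv_mem hd')
    have h2 : ∀ w ∈ P, w * (d' * y * d'⁻¹) * w⁻¹ = d' * y * d'⁻¹ := fun w hw => by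
      rw [Subgroup.mem_centralizer_iff.1 hk' w hw, mul_inv_cancel_right]
    rw [← isClassFunction_irr χ (x * y) (q * d')]
    refine congrArg χ.1 ?_
    calc q * d * x * (q * d)⁻¹ * (q' * d' * y * (q' * d')⁻¹)
        = q * (d * x * d⁻¹) * q⁻¹ * (q' * (d' * y * d'⁻¹) * q'⁻¹) := by group
      _ = q * (d' * x * d'⁻¹) * q⁻¹ * (q * (d' * y * d'⁻¹) * q⁻¹) := by rw [h1, h1', h2 q' hq', h2 q hq]
      _ = q * d' * (x * y) * (q * d')⁻¹ := by group
  have h := class_mul χ (isClassFunction_classInd x) (classInd y)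
  have hsum : ∀ (z : G) (f : G → ℂ), ∑ g : G, classInd z g * f g = ∑ g ∈ univ.filter (IsConj z), f g := by
    intro z f
    rw [sum_filter]
    refine sum_congr rfl fun g _ => ?_
    by_cases hg : IsConj z g
    · rw [classInd_of_isConj hg, one_mul, if_pos hg]
    · rw [classInd_of_not_isConj hg, zero_mul, if_neg hg]
  rw [hsum x, hsum y, sum_class_eq (isClassFunction_irr χ) x,
    sum_class_eq (isClassFunction_irr χ) y] at h
  simp only [mul_assoc, ← mul_sum] at h
  rw [hsum x, sum_congr rfl fun g hg => (hsum y _).trans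
    (sum_congr rfl fun k hk => hconst g k (mem_filter.1 hg).2 (mem_filter.1 hk).2)] at h
  simp only [sum_const, card_class, nsmul_eq_mul] at h
  have h0 : ∀ z : G, ((Subgroup.centralizer ({z} : Set G)).index : ℂ) ≠ 0 := fun z =>
    Nat.cast_ne_zero.2 Subgroup.index_ne_zero_of_finite
  refine mul_left_cancel₀ (h0 x) (mul_left_cancel₀ (h0 y) ?_)
  linear_combination h

variable {B : Set (IrrCharacter G)}

/-- Only one character of the block is trivial on `P`. -/
theorem split_block_unique (hM : IsPModular p M) (hP : IsPGroup p P)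
    (hG : P ⊔ Subgroup.centralizer (P : Set G) = ⊤) [Fintype (G ⧸ P)] (hB : IsPBlock M B)
    (hD : IsDefectGroup p M B P) {ψ φ : IrrCharacter (G ⧸ P)} (hψ : inflIrr ψ ∈ B)
    (hφ : inflIrr φ ∈ B) : ψ = φ := by
  classical
  letI := irrFintype (G := G ⧸ P)
  have hcv : (Nat.card P).factorization p = blockDefect p B := by
    rw [card_defectGroup hM hB hD, hM.1.factorization_pow, Finsupp.single_eq_same]
  have hGv : (Nat.card G).factorization p = blockDefect p B + (Nat.card (G ⧸ P)).factorization p := by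
    rw [← hcv, ← Subgroup.index_eq_card, ← Subgroup.card_mul_index P,
      Nat.factorization_mul Nat.card_pos.ne' Subgroup.index_ne_zero_of_finite, Finsupp.add_apply]
  have hlift : ∀ ψ' : IrrCharacter (G ⧸ P), ψ' ∈ blockOf M (φ : G ⧸ P → ℂ) → inflIrr ψ' ∈ B := by
    intro ψ' h
    refine (sameBlock_iff_mem hB hφ).2 ?_
    refine sameBlock_of_regular hM (inflIrr φ) (inflIrr ψ') fun g hg => ?_
    rw [centralChar_inflIrr hP hG _ hg, centralChar_inflIrr hP hG _ hg]
    exact h _
  have hd0 : blockDefect p (blockOf M (φ : G ⧸ P → ℂ)) = 0 := by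
    rw [blockDefect, Nat.sub_eq_zero_iff_le]
    refine le_csInf ⟨_, φ, mem_blockOf_self φ, rfl⟩ ?_
    rintro _ ⟨ψ', hψ', rfl⟩
    have := degree_ge hM hB (hlift ψ' hψ')
    have e : charDegree (inflIrr ψ' : G → ℂ) = charDegree (ψ' : G ⧸ P → ℂ) := by
      simp only [charDegree, inflIrr, CfsgLib.Char.inflate, QuotientGroup.mk_one]
    rw [e] at this
    show _ ≤ (charDegree (ψ' : G ⧸ P → ℂ)).factorization p
    omega
  have hψ' : ψ ∈ blockOf M (φ : G ⧸ P → ℂ) := by
    refine sameBlock_of_regular hM φ ψ fun y hy => ?_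
    obtain ⟨g, hg, rfl⟩ := exists_regular_lift hP hy
    rw [← centralChar_inflIrr hP hG _ hg, ← centralChar_inflIrr hP hG _ hg]
    exact sameBlock_of_mem hB hφ hψ g
  have h1 := (card_and_rank_of_defect_zero hM (isPBlock_blockOf φ) hd0).1
  rw [Nat.card_eq_one_iff_unique] at h1
  haveI := h1.1
  exact congrArg Subtype.val (Subsingleton.elim
    (⟨ψ, hψ'⟩ : {v // v ∈ blockOf M (φ : G ⧸ P → ℂ)}) ⟨φ, mem_blockOf_self φ⟩)

/-- Every member is proportional, on regular elements, to the member trivial on `P`. -/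
theorem split_block_regular (hM : IsPModular p M) (hP : IsPGroup p P)
    (hG : P ⊔ Subgroup.centralizer (P : Set G) = ⊤) (hB : IsPBlock M B)
    (hD : IsDefectGroup p M B P) {φ : IrrCharacter (G ⧸ P)} (hφ : inflIrr φ ∈ B)
    {χ : IrrCharacter G} (hχ : χ ∈ B) {y : G} (hy : ¬ p ∣ orderOf y) :
    (χ : G → ℂ) y * (inflIrr φ : G → ℂ) 1 = (inflIrr φ : G → ℂ) y * (χ : G → ℂ) 1 := by
  classical
  haveI : Fintype (G ⧸ P) := Fintype.ofFinite _
  letI := irrFintype (G := G ⧸ P)
  let h : G ⧸ P → ℂ := fun q => ∑ g ∈ univ.filter (fun g : G => (g : G ⧸ P) = q), regPart p χ.1 g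
  have hh : ∀ g : G, ¬ p ∣ orderOf g → h (g : G ⧸ P) = (χ : G → ℂ) g := by
    intro g hg
    show ∑ k ∈ _, _ = _
    rw [sum_eq_single g]
    · rw [regPart_of_not_dvd hg]
    · intro k hk hne
      rw [regPart_of_dvd]
      by_contra hk'
      exact hne (eq_of_regular hP hG hk' hg (mem_filter.1 hk).2)
    · simp
  have hcl : IsClassFunction (G ⧸ P) h := by
    intro q r
    obtain ⟨c, rfl⟩ := QuotientGroup.mk_surjective r
    refine sum_nbij' (fun g => c⁻¹ * g * c) (fun g => c * g * c⁻¹) ?_ ?_ (fun g _ => by group)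
      (fun g _ => by group) fun g _ => ?_
    · intro g hg
      refine mem_filter.2 ⟨mem_univ _, ?_⟩
      rw [QuotientGroup.mk_mul, QuotientGroup.mk_mul, (mem_filter.1 hg).2, QuotientGroup.mk_inv]
      group
    · intro g hg
      refine mem_filter.2 ⟨mem_univ _, ?_⟩
      rw [QuotientGroup.mk_mul, QuotientGroup.mk_mul, (mem_filter.1 hg).2, QuotientGroup.mk_inv]
    · have := isClassFunction_irr χ g c⁻¹
      rw [inv_inv] at this
      have ho : orderOf (c⁻¹ * g * c) = orderOf g := by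
        simpa using orderOf_injective (MulAut.conj c⁻¹).toMonoidHom (MulAut.conj c⁻¹).injective g
      by_cases hg : p ∣ orderOf g
      · rw [regPart_of_dvd hg, regPart_of_dvd (ho ▸ hg)]
      · rw [regPart_of_not_dvd hg, regPart_of_not_dvd (ho ▸ hg), this]
  have hinner : ∀ ψ : IrrCharacter (G ⧸ P), ψ ≠ φ → classInner h ψ.1 = 0 := by
    intro ψ hne
    have h1 : classInner (regPart p χ.1) (inflIrr ψ).1 = 0 := classInner_regPart_eq_zero hM χ (inflIrr ψ)
      fun hs => hne (split_block_unique hM hP hG hB hD ((sameBlock_iff_mem hB hχ).2 hs) hφ)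
    rw [classInner, mul_eq_zero] at h1 ⊢
    refine Or.inr ?_
    refine Eq.trans ?_ (h1.resolve_left (inv_ne_zero (Nat.cast_ne_zero.2 Nat.card_pos.ne')))
    rw [← sum_fiberwise univ (fun g : G => (g : G ⧸ P)) (fun g => regPart p χ.1 g * conj ((inflIrr ψ).1 g))]
    refine sum_congr rfl fun q _ => ?_
    rw [sum_mul]
    refine sum_congr rfl fun g hg => ?_
    show _ = _ * conj (ψ.1 (g : G ⧸ P))
    rw [(mem_filter.1 hg).2]
  have hprop : ∀ q, h q = classInner h φ.1 * φ.1 q := by
    intro q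
    rw [classFun_expand hcl q, sum_eq_single φ]
    · intro ψ _ hne; rw [hinner ψ hne, zero_mul]
    · simp
  have e1 := hprop (y : G ⧸ P)
  rw [hh y hy] at e1
  have e2 := hprop ((1 : G) : G ⧸ P)
  rw [hh 1 (by simpa using hp.out.not_dvd_one)] at e2
  show (χ : G → ℂ) y * φ.1 ((1 : G) : G ⧸ P) = φ.1 (y : G ⧸ P) * (χ : G → ℂ) 1
  rw [e1, e2]
  ring

/-- **Blocks with defect group `P` when `G = P C(P)`.** -/
theorem split_block_count (hM : IsPModular p M) (hP : IsPGroup p P)
    (hG : P ⊔ Subgroup.centralizer (P : Set G) = ⊤) (hB : IsPBlock M B)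
    (hD : IsDefectGroup p M B P) :
    (∃! θ : IrrCharacter G, θ ∈ B ∧ ∀ x ∈ P, (θ : G → ℂ) x = (θ : G → ℂ) 1) ∧
      (∀ θ ∈ B, (∀ x ∈ P, (θ : G → ℂ) x = (θ : G → ℂ) 1) →
        (charDegree (θ : G → ℂ)).factorization p = P.index.factorization p) ∧
      Nat.card B = Nat.card (ConjClasses P) := by
  classical
  haveI : Fintype (G ⧸ P) := Fintype.ofFinite _
  haveI : Fintype P := Fintype.ofFinite _
  letI := irrFintype (G := G)
  have hinfl : ∀ θ : IrrCharacter G, (∀ x ∈ P, (θ : G → ℂ) x = (θ : G → ℂ) 1) →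
      ∃ φ : IrrCharacter (G ⧸ P), inflIrr φ = θ := fun θ hθ => by
    obtain ⟨φ, hφ⟩ := exists_quotient_irr P θ hθ
    exact ⟨φ, Subtype.ext (funext fun g => (hφ g).symm)⟩
  have hdeg : ∀ θ ∈ B, (∀ x ∈ P, (θ : G → ℂ) x = (θ : G → ℂ) 1) →
      (charDegree (θ : G → ℂ)).factorization p = P.index.factorization p := by
    intro θ hθ hker
    obtain ⟨φ, rfl⟩ := hinfl θ hker
    have hcv : (Nat.card P).factorization p = blockDefect p B := by
      rw [card_defectGroup hM hB hD, hM.1.factorization_pow, Finsupp.single_eq_same]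
    have hGv : (Nat.card G).factorization p = blockDefect p B + P.index.factorization p := by
      rw [← hcv, ← Subgroup.card_mul_index P,
        Nat.factorization_mul Nat.card_pos.ne' Subgroup.index_ne_zero_of_finite, Finsupp.add_apply]
    have h1 := degree_ge hM hB hθ
    have hd : charDegree (φ : G ⧸ P → ℂ) ∣ P.index := by
      rw [Subgroup.index_eq_card]; exact charDegree_dvd_card φ
    have h2 : (charDegree (φ : G ⧸ P → ℂ)).factorization p ≤ P.index.factorization p :=
      (Nat.factorization_le_iff_dvd (irr_one φ).2.ne' Subgroup.index_ne_zero_of_finite).2 hd p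
    have e : charDegree (inflIrr φ : G → ℂ) = charDegree (φ : G ⧸ P → ℂ) := by
      simp only [charDegree, inflIrr, CfsgLib.Char.inflate, QuotientGroup.mk_one]
    rw [e] at h1 ⊢
    omega
  obtain ⟨θ, hθ, hθk⟩ := exists_ker_mem_block hM hB P hP
  obtain ⟨φ, rfl⟩ := hinfl θ hθk
  refine ⟨⟨inflIrr φ, ⟨hθ, hθk⟩, fun θ' hθ' => ?_⟩, hdeg, ?_⟩
  · obtain ⟨ψ, rfl⟩ := hinfl θ' hθ'.2
    rw [split_block_unique hM hP hG hB hD hθ'.1 hθ]
  set θ := inflIrr φ with hθdef
  have hθ1 : (θ : G → ℂ) 1 ≠ 0 := irr_one_ne_zero θ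
  have hmul : ∀ χ ∈ B, ∀ x ∈ P, ∀ y : G, ¬ p ∣ orderOf y →
      (χ : G → ℂ) (x * y) * (θ : G → ℂ) 1 = (χ : G → ℂ) x * (θ : G → ℂ) y := by
    intro χ hχ x hx y hy
    refine mul_right_cancel₀ (irr_one_ne_zero χ) ?_
    have h1 := irr_mul_of_split hP hG χ hx hy
    have h2 := split_block_regular hM hP hG hB hD hθ hχ hy
    linear_combination (θ : G → ℂ) 1 * h1 + (χ : G → ℂ) x * h2
  have hθxy : ∀ x ∈ P, ∀ y : G, ¬ p ∣ orderOf y → (θ : G → ℂ) (x * y) = (θ : G → ℂ) y := by
    intro x hx y hy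
    have := hmul θ hθ x hx y hy
    rw [hθk x hx, mul_comm] at this
    exact mul_left_cancel₀ hθ1 this
  -- extension of class functions on `P`
  let E : (ConjClasses P → ℂ) → G → ℂ := fun γ g =>
    if h : ∃ a : P, IsPPart p g (a : G) then γ (ConjClasses.mk h.choose) * (θ : G → ℂ) g else 0
  have huniq : ∀ {g : G} {a a' : G}, IsPPart p g a → IsPPart p g a' → a = a' := by
    intro g a a' h h'
    obtain ⟨w, hw, hc, ⟨k, hk⟩, hwr⟩ := h'
    exact pPart_unique hM.1 h hw hc (n := k) (hk ▸ pow_orderOf_eq_one a') hwr (pow_orderOf_eq_one w)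
  have hEval : ∀ (γ : ConjClasses P → ℂ) (a : P) {g : G}, IsPPart p g (a : G) →
      E γ g = γ (ConjClasses.mk a) * (θ : G → ℂ) g := by
    intro γ a g hga
    have h : ∃ a : P, IsPPart p g (a : G) := ⟨a, hga⟩
    simp only [E, dif_pos h]
    rw [show h.choose = a from Subtype.ext (huniq h.choose_spec hga)]
  have hpart : ∀ (x : P) (y : G), ¬ p ∣ orderOf y → IsPPart p ((x : G) * y) (x : G) := by
    intro x y hy
    obtain ⟨k, hk⟩ := IsPGroup.iff_orderOf.1 hP x
    exact ⟨y, rfl, Subgroup.mem_centralizer_iff.1 (mem_centralizer_of_regular hP hG hy) x x.2,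
      ⟨k, by rw [Subgroup.orderOf_coe]; exact hk⟩, hy⟩
  have hEcl : ∀ γ, IsClassFunction G (E γ) := by
    intro γ g c
    have hconj : ∀ (g c a : G), IsPPart p g a → IsPPart p (c * g * c⁻¹) (c * a * c⁻¹) := by
      intro g c a h
      obtain ⟨w, hw, hcm, hk, hwr⟩ := h
      have e : ∀ v : G, orderOf (c * v * c⁻¹) = orderOf v := fun v =>
        orderOf_injective (MulAut.conj c).toMonoidHom (MulAut.conj c).injective v
      exact ⟨c * w * c⁻¹, by rw [← hw]; group, hcm.map (MulAut.conj c), by rwa [e], by rwa [e]⟩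
    by_cases h : ∃ a : P, IsPPart p g (a : G)
    · obtain ⟨a, ha⟩ := h
      obtain ⟨q, hq, d, hd, rfl⟩ :=
        Subgroup.mem_sup_of_normal_left.1 (hG ▸ Subgroup.mem_top c : c ∈ P ⊔ _)
      let qq : P := ⟨q, hq⟩
      have e : ((qq * a * qq⁻¹ : P) : G) = q * d * (a : G) * (q * d)⁻¹ := by
        push_cast
        have h1 : d * (a : G) * d⁻¹ = a := by
          rw [← Subgroup.mem_centralizer_iff.1 hd a a.2, mul_inv_cancel_right]
        calc q * (a : G) * q⁻¹ = q * (d * (a : G) * d⁻¹) * q⁻¹ := by rw [h1]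
          _ = q * d * (a : G) * (q * d)⁻¹ := by group
      rw [hEval γ (qq * a * qq⁻¹) (e ▸ hconj g (q * d) a ha), hEval γ a ha,
        isClassFunction_irr θ g (q * d),
        show ConjClasses.mk (qq * a * qq⁻¹) = ConjClasses.mk a from
          ConjClasses.mk_eq_mk_iff_isConj.2 (isConj_iff.2 ⟨qq⁻¹, by group⟩)]
    · have h' : ¬ ∃ a : P, IsPPart p (c * g * c⁻¹) (a : G) := by
        rintro ⟨a, ha⟩
        have := hconj _ c⁻¹ _ ha
        rw [show c⁻¹ * (c * g * c⁻¹) * c⁻¹⁻¹ = g by group] at this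
        exact h ⟨⟨_, Subgroup.Normal.conj_mem ‹_› _ a.2 c⁻¹⟩, this⟩
      simp only [E, dif_neg h, dif_neg h']
  have hEinner : ∀ (γ : ConjClasses P → ℂ) (ψ : IrrCharacter G), ψ ∉ B →
      classInner (E γ) (ψ : G → ℂ) = 0 := by
    intro γ ψ hψ
    have hs : ∑ y ∈ univ.filter (fun y : G => ¬ p ∣ orderOf y),
        (θ : G → ℂ) y * conj ((ψ : G → ℂ) y) = 0 := by
      have h1 := classInner_regPart_eq_zero hM θ ψ fun hs => hψ ((sameBlock_iff_mem hB hθ).2 hs)
      rw [classInner, mul_eq_zero] at h1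
      rw [sum_filter]
      refine Eq.trans (sum_congr rfl fun g _ => ?_)
        (h1.resolve_left (inv_ne_zero (Nat.cast_ne_zero.2 Nat.card_pos.ne')))
      by_cases hg : p ∣ orderOf g
      · rw [regPart_of_dvd hg, zero_mul, if_neg (not_not.2 hg)]
      · rw [regPart_of_not_dvd hg, if_pos hg]
    rw [classInner, mul_eq_zero]
    refine Or.inr ?_
    rw [← sum_filter_add_sum_filter_not univ (fun g : G => ∃ a : P, IsPPart p g (a : G))]
    have hz : ∑ g ∈ univ.filter (fun g : G => ¬ ∃ a : P, IsPPart p g (a : G)),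
        E γ g * conj ((ψ : G → ℂ) g) = 0 :=
      sum_eq_zero fun g hg => by simp only [E, dif_neg (mem_filter.1 hg).2, zero_mul]
    rw [hz, add_zero]
    have hbij : ∑ g ∈ univ.filter (fun g : G => ∃ a : P, IsPPart p g (a : G)),
        E γ g * conj ((ψ : G → ℂ) g) =
        ∑ w ∈ (univ : Finset P) ×ˢ univ.filter (fun y : G => ¬ p ∣ orderOf y),
          E γ ((w.1 : G) * w.2) * conj ((ψ : G → ℂ) ((w.1 : G) * w.2)) := by
      symm
      refine sum_bij (fun w _ => (w.1 : G) * w.2) (fun w hw => ?_) ?_ ?_ (fun _ _ => rfl)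
      · exact mem_filter.2 ⟨mem_univ _, w.1, hpart _ _ (mem_filter.1 (mem_product.1 hw).2).2⟩
      · intro w hw w' hw' he
        have hy := (mem_filter.1 (mem_product.1 hw).2).2
        have hy' := (mem_filter.1 (mem_product.1 hw').2).2
        have e1 := huniq (hpart w.1 w.2 hy) (he ▸ hpart w'.1 w'.2 hy')
        refine Prod.ext (Subtype.ext e1) ?_
        rw [e1] at he
        exact mul_left_cancel he
      · intro g hg
        obtain ⟨a, y, hy, -, -, hyr⟩ := (mem_filter.1 hg).2
        exact ⟨(a, y), mem_product.2 ⟨mem_univ _, mem_filter.2 ⟨mem_univ _, hyr⟩⟩, hy⟩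
    rw [hbij, sum_product]
    refine sum_eq_zero fun x _ => ?_
    have hψ1 := irr_one_ne_zero ψ
    rw [sum_congr rfl fun y hy => show E γ ((x : G) * y) * conj ((ψ : G → ℂ) ((x : G) * y)) =
        (γ (ConjClasses.mk x) * conj ((ψ : G → ℂ) x / (ψ : G → ℂ) 1)) *
          ((θ : G → ℂ) y * conj ((ψ : G → ℂ) y)) from ?_, ← mul_sum, hs, mul_zero]
    have hy' := (mem_filter.1 hy).2
    rw [hEval γ x (hpart x y hy'), hθxy x x.2 y hy',
      show (ψ : G → ℂ) ((x : G) * y) = (ψ : G → ℂ) x / (ψ : G → ℂ) 1 * (ψ : G → ℂ) y by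
        rw [div_mul_eq_mul_div, eq_div_iff hψ1]; exact irr_mul_of_split hP hG ψ x.2 hy',
      map_mul]
    ring
  let EL : (ConjClasses P → ℂ) →ₗ[ℂ] (G → ℂ) :=
    { toFun := E
      map_add' := fun γ γ' => by
        funext g
        show E (γ + γ') g = E γ g + E γ' g
        by_cases h : ∃ a : P, IsPPart p g (a : G)
        · simp only [E, dif_pos h, Pi.add_apply, add_mul]
        · simp only [E, dif_neg h, add_zero]
      map_smul' := fun c γ => by
        funext g
        show E (c • γ) g = c * E γ g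
        by_cases h : ∃ a : P, IsPPart p g (a : G)
        · simp only [E, dif_pos h, Pi.smul_apply, smul_eq_mul, mul_assoc]
        · simp only [E, dif_neg h, mul_zero] }
  have hEL : ∀ γ g, EL γ g = E γ g := fun _ _ => rfl
  let V : Submodule ℂ (G → ℂ) :=
    Submodule.span ℂ (Set.range fun χ : {χ // χ ∈ B} => ((χ.1 : IrrCharacter G) : G → ℂ))
  have hV : Module.finrank ℂ ↥V = Nat.card B := by
    haveI : Fintype {χ // χ ∈ B} := Fintype.ofFinite _
    exact (finrank_span_eq_card
      (CfsgLib.Char.linearIndependent_irr.comp _ Subtype.val_injective)).trans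
      Nat.card_eq_fintype_card.symm
  have hrange : LinearMap.range EL = V := by
    refine le_antisymm ?_ (Submodule.span_le.2 ?_)
    · rintro _ ⟨γ, rfl⟩
      have : EL γ = ∑ χ : IrrCharacter G, classInner (E γ) χ.1 • χ.1 := by
        funext g
        rw [Finset.sum_apply]
        exact classFun_expand (hEcl γ) g
      rw [this]
      refine Submodule.sum_mem _ fun χ _ => ?_
      by_cases hχ : χ ∈ B
      · exact Submodule.smul_mem _ _ (Submodule.subset_span ⟨⟨χ, hχ⟩, rfl⟩)
      · rw [hEinner γ χ hχ, zero_smul]; exact Submodule.zero_mem _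
    · rintro _ ⟨⟨χ, hχ⟩, rfl⟩
      let γ₀ : ConjClasses P → ℂ := fun C => (χ : G → ℂ)
        ((Function.surjInv (f := ConjClasses.mk) ConjClasses.mk_surjective C : P) : G) / (θ : G → ℂ) 1
      refine ⟨γ₀, funext fun g => ?_⟩
      obtain ⟨a, y, hab, hc, -, -, -, hyr, ha, -, -⟩ := exists_pPart hM.1 g
      by_cases haP : a ∈ P
      · rw [hEL]
        refine (hEval γ₀ ⟨a, haP⟩ (g := g) ⟨y, hab, hc, ha, hyr⟩).trans ?_
        have hout : (χ : G → ℂ) ((Function.surjInv ConjClasses.mk_surjective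
            (ConjClasses.mk (⟨a, haP⟩ : P)) : P) : G) = (χ : G → ℂ) a :=
          IsClassFunction.apply_eq_of_isConj (isClassFunction_irr χ)
            (P.subtype.map_isConj (ConjClasses.mk_eq_mk_iff_isConj.1
              (Function.surjInv_eq ConjClasses.mk_surjective (ConjClasses.mk (⟨a, haP⟩ : P)))))
        show _ / _ * _ = _
        rw [hout, ← hab, hθxy a haP y hyr, div_mul_eq_mul_div, div_eq_iff hθ1]
        exact (hmul χ hχ a haP y hyr).symm
      · rw [hEL]
        have hno : ¬ ∃ b : P, IsPPart p g (b : G) := fun ⟨b, hb⟩ =>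
          haP (huniq hb ⟨y, hab, hc, ha, hyr⟩ ▸ b.2)
        simp only [E, dif_neg hno]
        refine (apply_eq_zero_of_not_mem_defectGroup hM hB hχ ⟨y, hab, hc, ha, hyr⟩
          fun D hD' haD => haP ?_).symm
        obtain ⟨t, ht⟩ := defectGroup_conj hM hB hD hD'
        have hta : t * a * t⁻¹ ∈ P := ht ▸ ⟨a, haD, rfl⟩
        simpa [mul_assoc] using Subgroup.Normal.conj_mem ‹_› _ hta t⁻¹
  have hinj : Function.Injective EL := by
    intro γ γ' h
    funext C
    obtain ⟨x, rfl⟩ := ConjClasses.mk_surjective C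
    have h1 : IsPPart p (x : G) (x : G) := by
      simpa using hpart x 1 (by simpa using hp.out.not_dvd_one)
    have := congrFun h (x : G)
    change E γ x = E γ' x at this
    rw [hEval γ x h1, hEval γ' x h1, hθk x x.2] at this
    exact mul_right_cancel₀ hθ1 this
  haveI : Fintype (ConjClasses P) := Fintype.ofFinite _
  rw [← hV, ← hrange, LinearMap.finrank_range_of_inj hinj, Module.finrank_pi,
    Nat.card_eq_fintype_card]

end CfsgLib.Block
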