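import Cfsg.Agent.Blocks.InvariantCover
import Cfsg.Agent.Blocks.Transport
import Cfsg.Agent.Blocks.Correspond
import Cfsg.Agent.BrauerPairs.CoverDefect
import Cfsg.Agent.PLocal.PConstrained

/-!
# Blocks over an invariant character of `O_{p'}` in constrained groups
-/

namespace CfsgLib.Block

open Cfsg Finset CfsgLib.Block.Chr CfsgLib.Char
open scoped ComplexConjugate

set_option linter.unusedSectionVars false
set_option linter.style.haveILetI false

universe u

variable {G : Type u} [Group G] [Fintype G] {M : Ideal AlgInt} [M.IsPrime] {p : ℕ}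
  {N : Subgroup G} [hN : N.Normal] [Fintype N]

theorem orbitUnion_singleton {θ : IrrCharacter N}
    (hinv : ∀ g : G, conjIrr g θ = θ) : orbitUnion (G := G) ({θ} : Set (IrrCharacter N)) = {θ} := by
  ext φ
  constructor
  · rintro ⟨g, ψ, hψ, rfl⟩
    rw [Set.mem_singleton_iff.1 hψ, hinv g]
    exact Set.mem_singleton θ
  · exact fun h => self_mem_orbitUnion h

/-- Over an invariant character of a `p'`-subgroup with `p`-group quotient there is one block, of
full defect. -/
theorem defect_full_of_pPower_index (hM : IsPModular p M) (hNp : ¬ p ∣ Nat.card N)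
    (hidx : ∃ k : ℕ, N.index = p ^ k) {θ : IrrCharacter N} (hinv : ∀ g : G, conjIrr g θ = θ)
    {χ : IrrCharacter G} (hc : classInner (fun n : N => (χ : G → ℂ) n) (θ : N → ℂ) ≠ 0)
    {P : Subgroup G} (hP : IsDefectGroup p M (blockOf M (χ : G → ℂ)) P) :
    Nat.card P = p ^ (Nat.card G).factorization p := by
  classical
  haveI : Fact p.Prime := ⟨hM.1⟩
  obtain ⟨k, hk⟩ := hidx
  have hmem : ∀ g : G, ¬ p ∣ orderOf g → g ∈ N := by
    intro g hg
    rw [← QuotientGroup.eq_one_iff (N := N), ← orderOf_eq_one_iff]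
    have h1 : orderOf (g : G ⧸ N) ∣ p ^ k := by
      rw [← hk, Subgroup.index]; exact orderOf_dvd_natCard _
    exact Nat.eq_one_of_dvd_coprimes ((hM.1.coprime_iff_not_dvd.2 hg).pow_left k) h1
      (orderOf_map_dvd (QuotientGroup.mk' N) g)
  have hb : IsPBlock M ({θ} : Set (IrrCharacter N)) := ⟨θ, (blockOf_eq_singleton hM hNp θ).symm⟩
  have hmax : ∀ B' : Set (IrrCharacter G), IsPBlock M B' → Covers B' ({θ} : Set (IrrCharacter N)) →
      blockDefect p B' ≤ blockDefect p (blockOf M (χ : G → ℂ)) := by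
    intro B' hB' hcov
    obtain ⟨ψ, hψ, θ', hθ', hc'⟩ := hcov
    rw [Set.mem_singleton_iff.1 hθ'] at hc'
    refine le_of_eq (congrArg _ (block_eq_of_common hB' (isPBlock_blockOf χ) hψ ?_))
    refine sameBlock_of_regular hM χ ψ fun g hg => ?_
    have e1 := centralChar_eq_of_constituent hc ⟨g, hmem g hg⟩
    have e2 := centralChar_eq_of_constituent hc' ⟨g, hmem g hg⟩
    simp only at e1 e2
    rw [e1, e2, sub_self]
    exact memLocalIdeal_zero
  obtain ⟨-, -, hd⟩ := fong_defect hM hb (orbitUnion_singleton hinv) (isPBlock_blockOf χ)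
    ⟨χ, mem_blockOf_self χ, θ, Set.mem_singleton θ, hc⟩ hmax hP
  have h0 : (Nat.card N).factorization p = 0 := Nat.factorization_eq_zero_of_not_dvd hNp
  have hb0 : blockDefect p ({θ} : Set (IrrCharacter N)) = 0 :=
    Nat.le_zero.1 (h0 ▸ blockDefect_le _)
  rw [card_defectGroup hM (isPBlock_blockOf χ) hP, hd, hb0, ← N.card_mul_index,
    Nat.factorization_mul Nat.card_pos.ne' Subgroup.index_ne_zero_of_finite, Finsupp.add_apply, h0]

/-- The regular classes with a nonzero central character over an invariant character of the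
`p'`-core lie in the core. -/
theorem mem_core_of_centralChar (hM : IsPModular p M) (hNp : ¬ p ∣ Nat.card N)
    (hsc : CfsgLib.PConstrained.SelfCent p (G ⧸ N)) {θ : IrrCharacter N}
    (hinv : ∀ g : G, conjIrr g θ = θ) {χ : IrrCharacter G}
    (hc : classInner (fun n : N => (χ : G → ℂ) n) (θ : N → ℂ) ≠ 0) {g : G}
    (hg : ¬ p ∣ orderOf g) (hne : ¬ MemLocalIdeal M (centralChar (χ : G → ℂ) g)) : g ∈ N := by
  classical
  haveI : Fact p.Prime := ⟨hM.1⟩
  set L := Cfsg.pCore p (G ⧸ N)
  haveI hLn : L.Normal := CfsgLib.Solvable.pCore_normal p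
  obtain ⟨l, hl⟩ := IsPGroup.iff_card.1 (CfsgLib.Solvable.isPGroup_pCore (G := G ⧸ N) p)
  set H := L.comap (QuotientGroup.mk' N) with hH
  haveI : H.Normal := hLn.comap _
  haveI : Fintype H := Fintype.ofFinite _
  have hNH : N ≤ H := fun n hn => by
    show QuotientGroup.mk' N n ∈ L
    rw [QuotientGroup.mk'_apply, (QuotientGroup.eq_one_iff n).2 hn]
    exact one_mem _
  set N' := N.subgroupOf H
  haveI : N'.Normal := inferInstance
  haveI : Fintype N' := Fintype.ofFinite _
  let e : N' ≃* N := Subgroup.subgroupOfEquivOfLe hNH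
  set θ' := irrComp e θ with hθ'
  have hinv' : ∀ h : H, conjIrr h θ' = θ' := by
    intro h
    refine Subtype.ext (funext fun n => ?_)
    have := congrFun (congrArg Subtype.val (hinv (h : G))) (e n)
    simp only [conjIrr_coe, conjOn_apply] at this ⊢
    rw [hθ', irrComp_coe]
    refine Eq.trans (congrArg θ.1 (Subtype.ext ?_)) this
    rfl
  obtain ⟨ηf, hηi, hcη⟩ := exists_constituent_restrict (N := H) χ.2
  let η : IrrCharacter H := ⟨ηf, hηi⟩
  obtain ⟨ψf, hψi, hcψ⟩ := exists_constituent_restrict (N := N') η.2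
  let ψ : IrrCharacter N' := ⟨ψf, hψi⟩
  have hb : IsPBlock M ({θ} : Set (IrrCharacter N)) := ⟨θ, (blockOf_eq_singleton hM hNp θ).symm⟩
  have horb := orbitUnion_singleton hinv
  have hψθ : ψ = θ' := by
    set a := coverFun (G := G) ({θ} : Set (IrrCharacter N))
    have ha : IsClassFunction G a := (isIntClass_coverFun (M := M) hb).1
    have h1 : omega (χ : G → ℂ) a = 1 := by
      rw [omega_coverFun hc hb, if_pos (self_mem_orbitUnion (Set.mem_singleton θ))]
    have h2 : omega (η : H → ℂ) (resFun H a) = 1 :=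
      (omega_eq_of_constituent (θ := η) hcη ha fun x hx => coverFun_not_mem _ fun h => hx (hNH h)).symm.trans h1
    have hsupp : ∀ x : H, x ∉ N' → resFun H a x = 0 := fun x hx =>
      coverFun_not_mem ({θ} : Set (IrrCharacter N)) (g := (x : G)) fun h =>
        hx (Subgroup.mem_subgroupOf.2 h)
    have haH : IsClassFunction H (resFun H a) := fun x y => by
      show a ((y * x * y⁻¹ : H) : G) = a (x : G)
      rw [← ha (x : G) (y : G)]
      rfl
    have h3 : omega (ψ : N' → ℂ) (resFun N' (resFun H a)) = 1 := by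
      rw [← omega_eq_of_constituent (χ := η) (θ := ψ) hcψ haH hsupp]
      exact h2
    have h4 : resFun N' (resFun H a) = fun n : N' => blockCoeff ({θ} : Set (IrrCharacter N)) (e n) := by
      funext n
      show a ((e n : N) : G) = _
      have := congrFun (resFun_coverFun (G := G) ({θ} : Set (IrrCharacter N))) (e n)
      rw [horb] at this
      exact this
    rw [h4, show (ψ : N' → ℂ) = (irrComp e (irrComp e.symm ψ) : N' → ℂ) by rw [irrComp_symm'],
      omega_irrComp, omega_blockCoeff] at h3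
    have hmem : irrComp e.symm ψ ∈ ({θ} : Set (IrrCharacter N)) := by
      by_contra hh
      rw [if_neg hh] at h3
      exact zero_ne_one h3
    rw [Set.mem_singleton_iff] at hmem
    rw [hθ', ← hmem, irrComp_symm']
  have hN'p : ¬ p ∣ Nat.card N' := by rwa [Nat.card_congr e.toEquiv]
  have hN'idx : ∃ k : ℕ, N'.index = p ^ k := by
    refine ⟨l, ?_⟩
    rw [← hl]
    show N.relIndex H = _
    have h1 : (⊥ : Subgroup (G ⧸ N)).comap (QuotientGroup.mk' N) = N := by
      rw [MonoidHom.comap_bot, QuotientGroup.ker_mk']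
    calc N.relIndex H = ((⊥ : Subgroup (G ⧸ N)).comap (QuotientGroup.mk' N)).relIndex H := by rw [h1]
      _ = (⊥ : Subgroup (G ⧸ N)).relIndex (H.map (QuotientGroup.mk' N)) := Subgroup.relIndex_comap _ _ _
      _ = Nat.card L := by
        rw [Subgroup.relIndex_bot_left, hH,
          Subgroup.map_comap_eq_self_of_surjective (QuotientGroup.mk'_surjective N)]
  obtain ⟨Q', hQ'⟩ := exists_defectGroup (M := M) (p := p) (isPBlock_blockOf η) hM
  have hQcard := defect_full_of_pPower_index hM hN'p hN'idx hinv' (χ := η)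
    (by rw [← hψθ]; exact hcψ) hQ'
  set Q := Q'.map H.subtype
  have hQH : Q ≤ H := Subgroup.map_subtype_le _
  have hQsub : Q.subgroupOf H = Q' := Subgroup.comap_map_eq_self_of_injective H.subtype_injective Q'
  obtain ⟨P, hP, hPQ⟩ := CfsgLib.BrauerPairs.exists_defectGroup_inf_eq hM (isPBlock_blockOf χ)
    (isPBlock_blockOf η) (mem_blockOf_self χ) (mem_blockOf_self η) hcη hQH (hQsub.symm ▸ hQ')
  obtain ⟨x, hgx, hxC, -⟩ := exists_conj_pPart_mem hM (isPBlock_blockOf χ) hP
    ⟨χ, mem_blockOf_self χ, hne⟩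
  have hxQ : x ∈ Subgroup.centralizer (Q : Set G) :=
    Subgroup.centralizer_le (show (Q : Set G) ⊆ (P : Set G) from hPQ ▸ Set.inter_subset_left) hxC
  -- the image of `Q` is the `p`-core of the quotient
  have hcardH : Nat.card H = Nat.card L * Nat.card N := by
    rw [← Nat.card_congr e.toEquiv, mul_comm, ← N'.card_mul_index]
    congr 1
    show N.relIndex H = _
    have h1 : (⊥ : Subgroup (G ⧸ N)).comap (QuotientGroup.mk' N) = N := by
      rw [MonoidHom.comap_bot, QuotientGroup.ker_mk']
    calc N.relIndex H = ((⊥ : Subgroup (G ⧸ N)).comap (QuotientGroup.mk' N)).relIndex H := by rw [h1]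
      _ = (⊥ : Subgroup (G ⧸ N)).relIndex (H.map (QuotientGroup.mk' N)) := Subgroup.relIndex_comap _ _ _
      _ = Nat.card L := by
        rw [Subgroup.relIndex_bot_left, hH,
          Subgroup.map_comap_eq_self_of_surjective (QuotientGroup.mk'_surjective N)]
  have hQl : Nat.card Q' = p ^ l := by
    rw [hQcard, hcardH, hl, Nat.factorization_mul (pow_ne_zero _ hM.1.ne_zero) Nat.card_pos.ne',
      Finsupp.add_apply, Nat.factorization_eq_zero_of_not_dvd hNp, hM.1.factorization_pow,
      Finsupp.single_eq_same, add_zero]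
  have himg : Q.map (QuotientGroup.mk' N) = L := by
    refine Subgroup.eq_of_le_of_card_ge ?_ (le_of_eq ?_)
    · rintro _ ⟨u, hu, rfl⟩
      exact hQH hu
    have hinj : Function.Injective ((QuotientGroup.mk' N).comp Q.subtype) := by
      rw [← MonoidHom.ker_eq_bot_iff, eq_bot_iff]
      intro u hu
      have huN : (u : G) ∈ N := (QuotientGroup.eq_one_iff _).1 hu
      have hQp : IsPGroup p Q := ((isPGroup_defectGroup hQ').map H.subtype)
      obtain ⟨i, hi⟩ := IsPGroup.iff_orderOf.1 hQp u
      have hd : orderOf (u : G) ∣ Nat.card N := by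
        have := orderOf_dvd_natCard (⟨(u : G), huN⟩ : N)
        rwa [← Subgroup.orderOf_coe] at this
      rw [Subgroup.mem_bot, ← orderOf_eq_one_iff, hi]
      rcases i with _ | i
      · simp
      · rw [Subgroup.orderOf_coe, hi] at hd
        exact absurd ((dvd_pow_self p i.succ_ne_zero).trans hd) hNp
    calc Nat.card L = p ^ l := hl
      _ = Nat.card Q := by rw [Subgroup.card_map_of_injective H.subtype_injective, hQl]
      _ = Nat.card (((QuotientGroup.mk' N).comp Q.subtype).range) :=
          Nat.card_congr (MonoidHom.ofInjective hinj).toEquiv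
      _ = Nat.card (Q.map (QuotientGroup.mk' N)) := by
          rw [MonoidHom.range_comp, Subgroup.range_subtype]
  have hxL : QuotientGroup.mk' N x ∈ L := by
    refine hsc (Subgroup.mem_centralizer_iff.2 fun r hr => ?_)
    obtain ⟨u, hu, rfl⟩ : ∃ u ∈ Q, QuotientGroup.mk' N u = r := by
      have : r ∈ Q.map (QuotientGroup.mk' N) := himg ▸ hr
      exact this
    rw [← map_mul, ← map_mul, Subgroup.mem_centralizer_iff.1 hxQ u hu]
  obtain ⟨c, hcx⟩ := isConj_iff.1 hgx
  have hxr : ¬ p ∣ orderOf x := by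
    rwa [← hcx, show orderOf (c * g * c⁻¹) = orderOf g from
      orderOf_injective (MulAut.conj c).toMonoidHom (MulAut.conj c).injective g]
  have hxN : x ∈ N := by
    rw [← QuotientGroup.eq_one_iff (N := N), ← orderOf_eq_one_iff]
    have h1 : orderOf (x : G ⧸ N) ∣ p ^ l := by
      have := orderOf_dvd_natCard (⟨_, hxL⟩ : L)
      rwa [← Subgroup.orderOf_coe, hl] at this
    exact Nat.eq_one_of_dvd_coprimes ((hM.1.coprime_iff_not_dvd.2 hxr).pow_left l) h1
      (orderOf_map_dvd (QuotientGroup.mk' N) x)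
  have := hN.conj_mem x hxN c⁻¹
  rwa [← hcx, show c⁻¹ * (c * g * c⁻¹) * c⁻¹⁻¹ = g by group] at this

/-- One block over an invariant character of the `p'`-core, of full defect. -/
theorem block_over_invariant (hM : IsPModular p M) (hNp : ¬ p ∣ Nat.card N)
    (hsc : CfsgLib.PConstrained.SelfCent p (G ⧸ N)) {θ : IrrCharacter N}
    (hinv : ∀ g : G, conjIrr g θ = θ) :
    ∃ B : Set (IrrCharacter G), IsPBlock M B ∧
      (∀ χ : IrrCharacter G, χ ∈ B ↔ classInner (fun n : N => (χ : G → ℂ) n) (θ : N → ℂ) ≠ 0) ∧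
      (∀ P : Sylow p G, IsDefectGroup p M B (P : Subgroup G)) ∧
      ∀ D : Subgroup G, IsDefectGroup p M B D → ∃ P : Sylow p G, D = (P : Subgroup G) := by
  classical
  haveI : Fact p.Prime := ⟨hM.1⟩
  letI := irrFintype (G := G)
  have hb : IsPBlock M ({θ} : Set (IrrCharacter N)) := ⟨θ, (blockOf_eq_singleton hM hNp θ).symm⟩
  have horb := orbitUnion_singleton hinv
  have h1 : omega (θ : N → ℂ) (resFun N (coverFun (G := G) ({θ} : Set (IrrCharacter N)))) = 1 := by
    rw [resFun_coverFun, horb, omega_blockCoeff, if_pos (Set.mem_singleton θ)]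
  obtain ⟨χ₀, hc₀⟩ : ∃ χ : IrrCharacter G,
      classInner (fun n : N => (χ : G → ℂ) n) (θ : N → ℂ) ≠ 0 := by
    obtain ⟨y, hy, -⟩ := exists_of_omega (G := N)
      (isIntClass_resFun N (isIntClass_coverFun (M := M) hb)) (h1 ▸ not_memLocalIdeal_one)
    obtain ⟨B, -, ⟨χ, -, θ', hθ', hc⟩, -⟩ := exists_covering_coeff hb (y := (y : G)) hy
    exact ⟨χ, by rwa [Set.mem_singleton_iff.1 hθ'] at hc⟩
  have hB := isPBlock_blockOf (M := M) χ₀
  have hiff : ∀ χ : IrrCharacter G, χ ∈ blockOf M (χ₀ : G → ℂ) ↔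
      classInner (fun n : N => (χ : G → ℂ) n) (θ : N → ℂ) ≠ 0 := by
    intro χ
    constructor
    · intro hχ
      obtain ⟨ψ, hψ, hc⟩ := exists_constituent_restrict (N := N) χ.2
      have := mem_orbitUnion_of_covering hB hb (mem_blockOf_self χ₀) hχ (Set.mem_singleton θ) hc₀
        (ψ := ⟨ψ, hψ⟩) hc
      rw [horb, Set.mem_singleton_iff] at this
      rwa [← this]
    · intro hc
      refine sameBlock_of_regular hM χ₀ χ fun g hg => ?_
      by_cases hgN : g ∈ N
      · have e1 := centralChar_eq_of_constituent hc₀ ⟨g, hgN⟩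
        have e2 := centralChar_eq_of_constituent hc ⟨g, hgN⟩
        simp only at e1 e2
        rw [e1, e2, sub_self]
        exact memLocalIdeal_zero
      · exact memLocalIdeal_sub
          (not_not.1 fun h => hgN (mem_core_of_centralChar hM hNp hsc hinv hc₀ hg h))
          (not_not.1 fun h => hgN (mem_core_of_centralChar hM hNp hsc hinv hc hg h))
  obtain ⟨D₀, hD₀⟩ := exists_defectGroup (M := M) (p := p) hB hM
  have hmax : ∀ B' : Set (IrrCharacter G), IsPBlock M B' → Covers B' ({θ} : Set (IrrCharacter N)) →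
      blockDefect p B' ≤ blockDefect p (blockOf M (χ₀ : G → ℂ)) := by
    intro B' hB' hcov
    obtain ⟨ψ, hψ, θ', hθ', hc'⟩ := hcov
    rw [Set.mem_singleton_iff.1 hθ'] at hc'
    exact le_of_eq (congrArg _ (block_eq_of_common hB' hB hψ ((hiff ψ).2 hc')))
  obtain ⟨-, -, hd⟩ := fong_defect hM hb horb hB ⟨χ₀, mem_blockOf_self χ₀, θ, Set.mem_singleton θ, hc₀⟩
    hmax hD₀
  have h0 : (Nat.card N).factorization p = 0 := Nat.factorization_eq_zero_of_not_dvd hNp
  have hb0 : blockDefect p ({θ} : Set (IrrCharacter N)) = 0 :=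
    Nat.le_zero.1 (h0 ▸ blockDefect_le _)
  have hsyl : ∀ D, IsDefectGroup p M (blockOf M (χ₀ : G → ℂ)) D →
      ∃ P : Sylow p G, D = (P : Subgroup G) := by
    intro D hD
    have hcard : Nat.card D = p ^ (Nat.card G).factorization p := by
      rw [card_defectGroup hM hB hD, hd, hb0, ← N.card_mul_index,
        Nat.factorization_mul Nat.card_pos.ne' Subgroup.index_ne_zero_of_finite, Finsupp.add_apply, h0]
    exact ⟨Sylow.ofCard D hcard, (Sylow.coe_ofCard D hcard).symm⟩
  refine ⟨_, hB, hiff, fun P => ?_, hsyl⟩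
  obtain ⟨P₀, rfl⟩ := hsyl D₀ hD₀
  obtain ⟨x, hx⟩ := MulAction.exists_smul_eq G P₀ P
  rw [← hx]
  exact isDefectGroup_conj hM hB hD₀ x

end CfsgLib.Block
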