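import Cfsg.Agent.Blocks.PSolvableBlock
import Cfsg.Agent.BlocksB.CentralIdempotent
import Cfsg.Agent.GlaubermanCorr.Main
import Cfsg.Agent.PLocal.PConstrained
import Cfsg.Agent.Char.Central

/-!
# Blocks over an invariant character of the `p'`-core of a constrained group are of principal type
-/

set_option autoImplicit false
set_option linter.unusedSectionVars false
set_option linter.style.haveILetI false

namespace CfsgLib.Block

open Cfsg Finset CfsgLib.Block.Chr CfsgLib.Char
open scoped ComplexConjugate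

universe u

variable {G : Type u} [Group G] [Fintype G] {M : Ideal AlgInt} [M.IsPrime] {p : ℕ}

theorem unit_natCast_div (hM : IsPModular p M) {n m : ℕ} (hn : ¬ p ∣ n) (hm : ¬ p ∣ m) :
    ¬ MemLocalIdeal M ((n : ℂ) / m) := by
  intro h
  have h2 := memLocalIdeal_mul_left (natCast_mem_localRing m) h
  rw [mul_div_cancel₀ _ (Nat.cast_ne_zero.2 fun h0 => hm (by rw [h0]; exact dvd_zero p))] at h2
  exact hn ((memLocalIdeal_natCast_iff hM).1 h2)

/-- The block over an invariant character of the `p'`-core is of principal type. -/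
theorem principal_type (hM : IsPModular p M) {K : Subgroup G} [hKn : K.Normal] [Fintype K]
    (hK : K = Cfsg.pPrimeCore p G) (hsc : CfsgLib.PConstrained.SelfCent p (G ⧸ Cfsg.pPrimeCore p G))
    {θ : IrrCharacter K} (hinv : ∀ g : G, conjIrr g θ = θ) {B : Set (IrrCharacter G)}
    (hB : IsPBlock M B)
    (hiff : ∀ χ : IrrCharacter G, χ ∈ B ↔ classInner (fun k : K => (χ : G → ℂ) k) (θ : K → ℂ) ≠ 0)
    {R : Subgroup G} (hR : IsPGroup p R) :
    ∃! f : Set (IrrCharacter (Subgroup.centralizer (R : Set G))),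
      IsInducedBlock M (Subgroup.centralizer (R : Set G)) f B := by
  classical
  haveI : Fact p.Prime := ⟨hM.1⟩
  set C := Subgroup.centralizer (R : Set G) with hC
  have hcopK : (Nat.card K).Coprime p := by rw [hK]; exact CfsgLib.Solvable.coprime_card_pPrimeCore p
  have hndK : ¬ p ∣ Nat.card K := fun h =>
    hM.1.ne_one (Nat.eq_one_of_dvd_coprimes hcopK h dvd_rfl)
  -- the core of the centraliser
  haveI : Fintype C := Fintype.ofFinite _
  obtain ⟨N', hN'⟩ : ∃ N', Cfsg.pPrimeCore p C = N' := ⟨_, rfl⟩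
  have hcore := CfsgLib.PConstrained.pPrimeCore_centralizer_eq hsc hR
  have hscC : CfsgLib.PConstrained.SelfCent p (C ⧸ Cfsg.pPrimeCore p C) :=
    CfsgLib.PConstrained.isPConstrained_iff.1 (CfsgLib.PConstrained.isPConstrained_local hsc hR
      le_rfl (Subgroup.centralizer_le_normalizer _) hcore (Or.inr le_rfl))
  haveI hN'n : N'.Normal := hN' ▸ CfsgLib.Solvable.pPrimeCore_normal p
  haveI : Fintype N' := Fintype.ofFinite _
  have hscC' : CfsgLib.PConstrained.SelfCent p (C ⧸ N') :=
    CfsgLib.PConstrained.SelfCent.of_equiv (QuotientGroup.quotientMulEquivOfEq hN') hscC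
  have hN'mem : ∀ x : C, x ∈ N' ↔ (x : G) ∈ K := by
    intro x
    rw [← hN', hK]
    constructor
    · intro hx; exact (hcore.le ⟨x, hx, rfl⟩).1
    · intro hx
      obtain ⟨y, hy, e⟩ := hcore.ge ⟨hx, x.2⟩
      exact Subtype.ext (a1 := y) (a2 := x) e ▸ hy
  have hndN' : ¬ p ∣ Nat.card N' := by
    intro h
    rw [← hN'] at h
    exact hM.1.ne_one (Nat.eq_one_of_dvd_coprimes (CfsgLib.Solvable.coprime_card_pPrimeCore p) h dvd_rfl)
  -- the correspondent of `θ`
  set C₀ : Subgroup G := K ⊓ C with hC₀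
  haveI : Fintype C₀ := Fintype.ofFinite _
  have hndC₀ : ¬ p ∣ Nat.card C₀ := fun h =>
    hndK (h.trans (Subgroup.card_dvd_of_le inf_le_left))
  have hθR : GlaubermanCorr.Inv K R (θ : K → ℂ) := by
    intro y _ k k' hk
    have h1 := congrFun (congrArg Subtype.val (hinv y)) k
    rw [conjIrr_coe, conjOn_apply] at h1
    exact (congrArg (θ : K → ℂ) (Subtype.ext hk)).trans h1
  have hξR : ∀ ξ : IrrCharacter C₀, GlaubermanCorr.Inv C₀ R (ξ : C₀ → ℂ) := by
    intro ξ y hy k k' hk
    refine congrArg (ξ : C₀ → ℂ) (Subtype.ext ?_)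
    rw [hk, Subgroup.mem_centralizer_iff.1 k.2.2 y hy, mul_inv_cancel_right]
  obtain ⟨Φ, -, hΦ⟩ := GlaubermanCorr.exists_correspondence (p := p) (P := R) (K := K) (Q := ⊥)
    (C := C₀) hR bot_le (fun k _ q hq => by rw [Subgroup.mem_bot] at hq ⊢; subst hq; simp)
    IsPGroup.of_bot (by rwa [Subgroup.relIndex_bot_left])
    (fun y _ k hk => hKn.conj_mem k hk y) inf_le_left (fun k => by
      rw [hC₀, Subgroup.mem_inf, hC, Subgroup.mem_centralizer_iff]
      simp only [Subgroup.mem_bot, mul_inv_eq_iff_eq_mul, one_mul, SetLike.mem_coe])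
  set θs : IrrCharacter C₀ := (Φ ⟨θ, hθR⟩).1 with hθs
  have hmult : ∀ ξ : IrrCharacter C₀, ∃ m : ℕ,
      classInner (fun c : C₀ => (θ : K → ℂ) ⟨c, c.2.1⟩) (ξ : C₀ → ℂ) = (m : ℂ) ∧
        (ξ = θs ↔ ¬ p ∣ m) := by
    intro ξ
    obtain ⟨m, hm, h1, h2⟩ := hΦ ⟨θ, hθR⟩ ⟨ξ, hξR ξ⟩
    refine ⟨m, hm, fun e hd => ?_, fun hd => ?_⟩
    · have := h1 (Subtype.ext e)
      rw [(ZMod.natCast_eq_zero_iff m p).2 hd] at this
      exact zero_ne_one ((zero_pow two_ne_zero).symm.trans this)
    · by_contra e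
      exact hd ((ZMod.natCast_eq_zero_iff m p).1 (h2 fun h => e (congrArg Subtype.val h)))
  let e : N' ≃* C₀ :=
    { toFun := fun x => ⟨((x : C) : G), (hN'mem _).1 x.2, (x : C).2⟩
      invFun := fun x => ⟨⟨(x : G), x.2.2⟩, (hN'mem _).2 x.2.1⟩
      left_inv := fun x => rfl
      right_inv := fun x => rfl
      map_mul' := fun x y => rfl }
  set θ' : IrrCharacter N' := irrComp e θs with hθ'
  have hinv' : ∀ c : C, conjIrr c θ' = θ' := by
    intro c
    set φ := conjIrr c θ' with hφ
    have hback : φ = irrComp e (irrComp e.symm φ) := Subtype.ext (funext fun x => by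
      simp [irrComp_coe])
    suffices h : irrComp e.symm φ = θs by rw [hback, h]
    obtain ⟨m, hm, hmiff⟩ := hmult (irrComp e.symm φ)
    obtain ⟨m₀, hm₀, hm₀iff⟩ := hmult θs
    refine hmiff.2 ?_
    suffices h : m = m₀ by rw [h]; exact hm₀iff.1 rfl
    rw [← Nat.cast_inj (R := ℂ), ← hm, ← hm₀]
    rw [classInner_def, classInner_def]
    congr 1
    let σ : C₀ ≃ C₀ :=
      { toFun := fun x => ⟨(c : G) * x * (c : G)⁻¹,
          hKn.conj_mem _ x.2.1 _, C.mul_mem (C.mul_mem c.2 x.2.2) (C.inv_mem c.2)⟩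
        invFun := fun x => ⟨(c : G)⁻¹ * x * (c : G), by
            simpa using hKn.conj_mem _ x.2.1 (c : G)⁻¹, C.mul_mem (C.mul_mem (C.inv_mem c.2) x.2.2) c.2⟩
        left_inv := fun x => Subtype.ext (by group)
        right_inv := fun x => Subtype.ext (by group) }
    refine Fintype.sum_equiv σ _ _ fun x => ?_
    have h1 := congrFun (congrArg Subtype.val (hinv (c : G))) ⟨x, x.2.1⟩
    rw [conjIrr_coe, conjOn_apply] at h1
    refine congrArg₂ (· * ·) h1.symm (congrArg _ ?_)
    simp only [irrComp_coe, hφ, conjIrr_coe, conjOn_apply, hθ']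
    rfl
  obtain ⟨b₀, hb₀, hb₀iff, -, -⟩ := block_over_invariant (G := C) hM hndN' hscC' hinv'
  -- the cover idempotent of `θ`
  have hbθ : IsPBlock M ({θ} : Set (IrrCharacter K)) := ⟨θ, (blockOf_eq_singleton hM hndK θ).symm⟩
  set a : G → ℂ := coverFun (G := G) ({θ} : Set (IrrCharacter K)) with ha
  have haI : IsIntClass M a := isIntClass_coverFun hbθ
  have hkey : ∀ ξ : IrrCharacter C, MemLocalIdeal M (omega (ξ : C → ℂ) (resFun C a)) ↔ ξ ∉ b₀ := by
    intro ξ
    obtain ⟨φf, hφi, hcφ⟩ := exists_constituent_restrict (N := N') ξ.2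
    let φ : IrrCharacter N' := ⟨φf, hφi⟩
    have hval : omega (ξ : C → ℂ) (resFun C a) = omega (φ : N' → ℂ) (resFun N' (resFun C a)) := by
      refine omega_eq_of_constituent (θ := φ) hcφ (isIntClass_resFun C haI).1 fun x hx => ?_
      exact coverFun_not_mem _ fun h => hx ((hN'mem x).2 h)
    obtain ⟨m, hm, hmiff⟩ := hmult (irrComp e.symm φ)
    obtain ⟨dθ, hdθ0, hdθ⟩ := IsIrrCharacter.exists_degree θ.2
    obtain ⟨dφ, hdφ0, hdφ⟩ := IsIrrCharacter.exists_degree φ.2
    have homega : omega (φ : N' → ℂ) (resFun N' (resFun C a)) =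
        ((dθ * Nat.card C₀ * m : ℕ) : ℂ) / ((Nat.card K * dφ : ℕ) : ℂ) := by
      have hsum : ∑ x : N', resFun N' (resFun C a) x * (φ : N' → ℂ) x =
          (Nat.card K : ℂ)⁻¹ * (dθ : ℂ) * ((Nat.card C₀ : ℂ) * m) := by
        have hstar : conj ((m : ℕ) : ℂ) = (m : ℂ) := Complex.conj_natCast m
        rw [← hstar, ← hm, classInner_def, map_mul, map_inv₀, Complex.conj_natCast, map_sum,
          ← mul_assoc (Nat.card C₀ : ℂ), mul_inv_cancel₀ (Nat.cast_ne_zero.2 Nat.card_pos.ne'),
          one_mul, mul_sum]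
        refine Fintype.sum_equiv e.toEquiv _ _ fun x => ?_
        have hxK : ((x : C) : G) ∈ K := (hN'mem _).1 x.2
        show coverFun (G := G) ({θ} : Set (IrrCharacter K)) ((x : C) : G) * _ = _
        have h2 := congrFun (resFun_coverFun (G := G) ({θ} : Set (IrrCharacter K))) ⟨_, hxK⟩
        rw [orbitUnion_singleton hinv, CentralIdem.blockCoeff_singleton] at h2
        rw [show coverFun (G := G) ({θ} : Set (IrrCharacter K)) ((x : C) : G) = _ from h2, hdθ,
          map_mul, Complex.conj_conj]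
        simp only [irrComp_coe, MulEquiv.toEquiv_eq_coe, MulEquiv.coe_toEquiv,
          MulEquiv.symm_apply_apply]
        show _ = _ * (conj ((θ : K → ℂ) ⟨((x : C) : G), hxK⟩) * φf x)
        ring
      rw [omega, hsum, hdφ]
      have : (Nat.card K : ℂ) ≠ 0 := Nat.cast_ne_zero.2 Nat.card_pos.ne'
      have : (dφ : ℂ) ≠ 0 := Nat.cast_ne_zero.2 hdφ0.ne'
      push_cast
      field_simp
    have hdθp : ¬ p ∣ dθ := fun h => hndK (h.trans (CfsgLib.Char.IsIrrCharacter.degree_dvd_card θ.2 hdθ))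
    have hdφp : ¬ p ∣ dφ := fun h => hndN' (h.trans (CfsgLib.Char.IsIrrCharacter.degree_dvd_card φ.2 hdφ))
    have hden : ¬ p ∣ Nat.card K * dφ := fun h => (hM.1.dvd_mul.1 h).elim hndK hdφp
    rw [hval, homega]
    by_cases hφ : φ = θ'
    · have hm' : ¬ p ∣ m := hmiff.1 (by
        rw [hφ, hθ']
        exact Subtype.ext (funext fun x => by simp [irrComp_coe]))
      have hnum : ¬ p ∣ dθ * Nat.card C₀ * m := fun h =>
        (hM.1.dvd_mul.1 h).elim (fun h => (hM.1.dvd_mul.1 h).elim hdθp hndC₀) hm'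
      refine iff_of_false (unit_natCast_div hM hnum hden) (not_not.2 ((hb₀iff ξ).2 ?_))
      rw [← hφ]; exact hcφ
    · refine iff_of_true ?_ fun hξ => ?_
      · have hm' : p ∣ m := by
          by_contra h
          refine hφ ?_
          rw [hθ', ← hmiff.2 h]
          exact Subtype.ext (funext fun x => by simp [irrComp_coe])
        rw [div_eq_mul_inv, mul_comm]
        exact memLocalIdeal_mul_left
          (memLocalRing_inv (natCast_mem_localRing _) (mt (memLocalIdeal_natCast_iff hM).1 hden))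
          ((memLocalIdeal_natCast_iff hM).2 (hm'.mul_left _))
      · refine hφ ?_
        obtain ⟨g, hg⟩ := mem_conjOrbit.1
          (mem_conjOrbit_of_constituent (G := C) ξ.2 θ'.2 φ.2 ((hb₀iff ξ).1 hξ) hcφ)
        exact Subtype.ext (hg.trans (congrArg Subtype.val (hinv' g)))
  -- existence
  obtain ⟨ξ₀, hξ₀⟩ := exists_mem_block hb₀
  let L : (G → ℂ) → ℂ := fun f => omega (ξ₀ : C → ℂ) (resFun C f)
  have hone : L deltaOne = 1 := by
    rw [show L deltaOne = omega (ξ₀ : C → ℂ) (deltaOne : C → ℂ) from ?_, omega_deltaOne]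
    refine congrArg (omega (ξ₀ : C → ℂ)) (funext fun w => ?_)
    by_cases hw : w = 1
    · subst hw; simp [resFun, deltaOne_one]
    · rw [deltaOne_of_ne hw, resFun, deltaOne_of_ne fun hc => hw (Subtype.ext hc)]
  obtain ⟨B', hB', hL⟩ := exists_block_of_hom hM L
    (fun f g => by show omega _ _ = _; exact omega_add (ξ₀ : C → ℂ) (resFun C f) (resFun C g))
    (fun c f => omega_smul (ξ₀ : C → ℂ) c (resFun C f))
    (fun f hf => omega_mem ξ₀ (isIntClass_resFun C hf))
    (fun f hf hI => omega_mem_ideal C (isIntClass_resFun C hf) fun w => Or.inl (hI _))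
    hone (fun f g hf hg => by
      have h1 : L (conv f g) - L f * L g =
          omega (ξ₀ : C → ℂ) (resFun C (conv f g) + (-1 : ℂ) • conv (resFun C f) (resFun C g)) := by
        rw [omega_add, omega_smul, omega_conv ξ₀ (isIntClass_resFun (M := M) C hf).1]
        show L (conv f g) - L f * L g = L (conv f g) + _
        ring
      rw [h1]
      refine omega_mem_ideal C ⟨fun x y => ?_, fun x => ?_⟩ fun w => Or.inl ?_
      · simp only [Pi.add_apply, Pi.smul_apply,
          (isIntClass_resFun (M := M) C (isIntClass_conv hf hg)).1 x y,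
          isClassFunction_conv (isIntClass_resFun (M := M) C hf).1
            (isIntClass_resFun (M := M) C hg).1 x y]
      · refine memLocalRing_add ((isIntClass_resFun C (isIntClass_conv hf hg)).2 x) ?_
        simpa using memLocalRing_neg
          ((isIntClass_conv (isIntClass_resFun C hf) (isIntClass_resFun C hg)).2 x)
      · have hG := conv_cong hM hf hg hR (h := (w : G)) w.2
        have hsum : conv (resFun C f) (resFun C g) w =
            ∑ x ∈ univ.filter (· ∈ Subgroup.centralizer (R : Set G)), f x * g (x⁻¹ * (w : G)) := by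
          refine sum_bij (fun x _ => (x : G)) (fun x _ => mem_filter.2 ⟨mem_univ _, x.2⟩)
            (fun x _ y _ h => Subtype.ext h) (fun x hx => ?_) (fun x _ => rfl)
          exact ⟨⟨x, (mem_filter.1 hx).2⟩, mem_univ _, rfl⟩
        simp only [Pi.add_apply, Pi.smul_apply, smul_eq_mul, neg_one_mul, ← sub_eq_add_neg, hsum]
        exact hG)
  have hBB' : B' = B := by
    obtain ⟨χ, hχ⟩ := exists_mem_block hB'
    obtain ⟨ψf, hψi, hcψ⟩ := exists_constituent_restrict (N := K) χ.2
    have hne : ¬ MemLocalIdeal M (omega (χ : G → ℂ) a) := fun h => by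
      have h2 := memLocalIdeal_add (hL χ hχ a haI) h
      rw [sub_add_cancel] at h2
      exact (hkey ξ₀).1 h2 hξ₀
    rw [ha, omega_coverFun (θ := ⟨ψf, hψi⟩) hcψ hbθ, orbitUnion_singleton hinv] at hne
    by_cases h : (⟨ψf, hψi⟩ : IrrCharacter K) ∈ ({θ} : Set (IrrCharacter K))
    · refine block_eq_of_common hB' hB hχ ((hiff χ).2 ?_)
      rw [← Set.mem_singleton_iff.1 h]; exact hcψ
    · rw [if_neg h] at hne
      exact absurd memLocalIdeal_zero hne
  refine ⟨b₀, ⟨hb₀, hB, fun ξ hξ χ hχ g => ?_⟩, fun f hf => ?_⟩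
  · rw [inducedCentralChar_eq]
    have h1 := hL χ (hBB' ▸ hχ) (classInd g) (isIntClass_classInd g)
    rw [omega_classInd] at h1
    exact memLocalIdeal_sub_trans
      (omega_cong (sameBlock_of_mem hb₀ hξ hξ₀) (isIntClass_resFun C (isIntClass_classInd g))) h1
  · obtain ⟨ξ, hξ⟩ := exists_mem_block hf.1
    obtain ⟨χ, hχ⟩ := exists_mem_block hB
    haveI : Fintype (ConjClasses G) := Fintype.ofFinite _
    have hc : MemLocalIdeal M (omega (ξ : C → ℂ) (resFun C a) - omega (χ : G → ℂ) a) := by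
      rw [omega_eq_sum_classes χ haI.1, omega_res_eq_sum_classes C _ haI.1, ← sum_sub_distrib]
      refine memLocalIdeal_sum fun D _ => ?_
      rw [← mul_sub]
      exact memLocalIdeal_mul_left (haI.2 _) (hf.2.2 ξ hξ χ hχ _)
    refine block_eq_of_common hf.1 hb₀ hξ (not_not.1 fun h => ?_)
    have h1 := memLocalIdeal_sub ((hkey ξ).2 h) hc
    rw [sub_sub_cancel, ha, omega_coverFun ((hiff χ).1 hχ) hbθ,
      if_pos (self_mem_orbitUnion (Set.mem_singleton θ))] at h1
    exact not_memLocalIdeal_one h1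

end CfsgLib.Block
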