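import Cfsg.Agent.Blocks.AlperinIso
import Cfsg.Agent.Blocks.Congr
import Cfsg.Agent.Blocks.UnitRoot
import Cfsg.Agent.Blocks.Transport
import Cfsg.Agent.Char.ExtendInv
import Cfsg.Agent.Char.GaloisTwist
import Cfsg.Agent.Char.MaximalClassField
import Mathlib.GroupTheory.Sylow

/-!
# Rational extensions inside the principal block

If `θ` is an invariant `p`-rational character of `p'`-degree in the principal block of `N` and
`N C(Q)` has `p`-power index for a Sylow `p`-subgroup `Q` of `N`, then `θ` has a `p`-rational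
extension in the principal block (`p` odd).
-/

set_option autoImplicit false
set_option linter.style.haveILetI false
set_option linter.unusedSectionVars false

namespace CfsgLib.Block.RatExt

open Cfsg Finset CfsgLib.Block CfsgLib.Block.Chr CfsgLib.Char

universe u

variable {G : Type u} [Group G] [Fintype G] {M : Ideal AlgInt} [M.IsPrime] {p : ℕ}

local notation "ζ[" m "]" => Complex.exp (2 * Real.pi * Complex.I / ((m : ℕ) : ℂ))

/-- The centralizer in `G` of a Sylow subgroup of `N`. -/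
abbrev cent {N : Subgroup G} (Q : Sylow p N) : Subgroup G :=
  Subgroup.centralizer (((Q : Subgroup N).map N.subtype : Subgroup G) : Set G)

theorem nearOne_of_pow_pow (hM : IsPModular p M) {z : ℂ} {s : ℕ} (hz : z ^ p ^ s = 1) :
    NearOne M z := by
  haveI := charP_residue (M := M) hM
  haveI : Fact p.Prime := ⟨hM.1⟩
  have hmem : MemLocalRing M z := memLocalRing_of_isIntegral
    (IsIntegral.of_pow (pow_pos hM.1.pos s) (hz ▸ isIntegral_one))
  let w : localRing M := ⟨z, hmem⟩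
  have hres : res M w = res M 1 := by
    apply iterateFrobenius_inj (Residue M) p s
    rw [iterateFrobenius_def, iterateFrobenius_def, ← map_pow, ← map_pow, one_pow]
    exact congrArg (res M) (Subtype.ext (by simpa [w] using hz))
  exact ⟨hmem, by simpa [w] using res_eq_iff.1 hres⟩

theorem zeta_pow_self {m : ℕ} (hm : m ≠ 0) : ζ[m] ^ m = 1 :=
  (Complex.isPrimitiveRoot_exp m hm).pow_eq_one

theorem fixed_of_pow_eq_one {n : ℕ} (hn : n ≠ 0) {σ : ℂ ≃+* ℂ} (hσ : σ ζ[n] = ζ[n]) {z : ℂ}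
    (hz : z ^ n = 1) : σ z = z := by
  haveI : NeZero n := ⟨hn⟩
  obtain ⟨i, -, rfl⟩ := (Complex.isPrimitiveRoot_exp n hn).eq_pow_of_pow_eq_one hz
  rw [map_pow, hσ]

/-- For odd `p` no nontrivial `p`-power root of unity is `p`-rational. -/
theorem eq_one_of_rational_root (hp : p.Prime) (hp2 : p ≠ 2) {m : ℕ} (hm : ¬ p ∣ m) {z : ℂ}
    {s : ℕ} (hz : z ^ p ^ s = 1)
    (hfix : ∀ σ : ℂ ≃+* ℂ, σ ζ[m] = ζ[m] → σ z = z) : z = 1 := by
  have hm0 : m ≠ 0 := fun h => hm (h ▸ dvd_zero p)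
  have hcop : m.Coprime (p ^ s) := Nat.Coprime.pow_right _ ((hp.coprime_iff_not_dvd.2 hm).symm)
  obtain ⟨t, ht1, ht2⟩ := Nat.chineseRemainder hcop 1 2
  have htcop : t.Coprime (m * p ^ s) := by
    refine Nat.Coprime.mul_right ?_ ?_
    · rw [Nat.Coprime, Nat.ModEq.gcd_eq ht1, Nat.gcd_one_left]
    · have h2 : Nat.Coprime 2 (p ^ s) := Nat.Coprime.pow_right _
        (Nat.prime_two.coprime_iff_not_dvd.2 fun h => hp2 ((Nat.prime_dvd_prime_iff_eq
          Nat.prime_two hp).1 h).symm)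
      rw [Nat.Coprime, Nat.ModEq.gcd_eq ht2]
      exact h2
  obtain ⟨σ, hσ⟩ := exists_ringEquiv_pow (Nat.mul_pos (Nat.pos_of_ne_zero hm0)
    (pow_pos hp.pos s)) htcop
  have h1 : σ ζ[m] = ζ[m] := by
    have hc : ζ[m] ^ (m * p ^ s) = 1 := by rw [pow_mul, zeta_pow_self hm0, one_pow]
    rw [hσ _ hc, pow_eq_pow_mod t (zeta_pow_self hm0), ht1, ← pow_eq_pow_mod 1 (zeta_pow_self hm0),
      pow_one]
  have h2 := hfix σ h1
  rw [hσ z (by rw [mul_comm, pow_mul, hz, one_pow]), pow_eq_pow_mod t hz, ht2,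
    ← pow_eq_pow_mod 2 hz, pow_two] at h2
  have hz0 : z ≠ 0 := fun h => by
    rw [h, zero_pow (pow_pos hp.pos s).ne'] at hz; exact zero_ne_one hz
  exact (mul_eq_left₀ hz0).1 h2

/-- The determinant of a `p`-rational character has order prime to `p`. -/
theorem exists_det_regular {K : Type*} [Group K] [Finite K] (hp : p.Prime) (hp2 : p ≠ 2)
    {θ : K → ℂ} (hθ : Cfsg.IsCharacter K θ) {d : ℕ} (hd : θ 1 = d) {m : ℕ} (hm : ¬ p ∣ m)
    (hrat : ∀ k, θ k ∈ IntermediateField.adjoin ℚ ({ζ[m]} : Set ℂ)) :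
    ∃ f : K →* ℂˣ, (∀ k, Cfsg.detChar θ k = f k) ∧ ∃ r, ¬ p ∣ r ∧ ∀ k, f k ^ r = 1 := by
  obtain ⟨f, hf, -⟩ := exists_detHom hθ hd
  have hc : Nat.card K ≠ 0 := Nat.card_pos.ne'
  refine ⟨f, hf, ordCompl[p] (Nat.card K), Nat.not_dvd_ordCompl hp hc, fun k => Units.ext ?_⟩
  rw [Units.val_pow_eq_pow_val, Units.val_one]
  refine eq_one_of_rational_root (s := (Nat.card K).factorization p) hp hp2 hm ?_ fun σ hσ => ?_
  · rw [← pow_mul, mul_comm, Nat.ordProj_mul_ordCompl_eq_self, ← Units.val_pow_eq_pow_val,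
      ← map_pow, pow_card_eq_one', map_one, Units.val_one]
  · have h : σ (f k : ℂ) = f k := by
      rw [← hf, ← congrFun (detChar_map_ringEquiv hθ σ) k]
      congr 2
      exact funext fun x => CfsgLib.MaxClassField.fixed_adjoin (T := {ζ[m]}) (fun t ht => by
        rw [Set.mem_singleton_iff.1 ht, hσ]) (hrat x)
    rw [map_pow, h]

/-- The determinantal character commutes with homomorphisms. -/
theorem detChar_comp_hom {K K' : Type*} [Group K] [Finite K] [Group K'] [Finite K'] {θ : K → ℂ}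
    (hθ : Cfsg.IsCharacter K θ) (φ : K' →* K) (x : K') :
    Cfsg.detChar (fun y => θ (φ y)) x = Cfsg.detChar θ (φ x) := by
  obtain ⟨n, ρ, rfl⟩ := hθ
  rw [detChar_eq]
  exact detChar_eq (ρ.comp φ : Representation ℂ K' (Fin n → ℂ)) x

variable {N : Subgroup G} [hN : N.Normal]

theorem mem_cent_iff (Q : Sylow p N) {c : G} :
    c ∈ cent Q ↔ ∀ u : N, u ∈ (Q : Subgroup N) → (u : G) * c = c * u := by
  rw [Subgroup.mem_centralizer_iff]
  exact ⟨fun h u hu => h _ ⟨u, hu, rfl⟩, fun h y hy => by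
    obtain ⟨u, hu, rfl⟩ := hy; exact h u hu⟩

section local_data

variable [Fact p.Prime] {L : Subgroup G} (hNL : N ≤ L) (Q : Sylow p N)

/-- The Sylow subgroup moved into an overgroup. -/
noncomputable def locSylow : Sylow p (N.subgroupOf L) :=
  Q.comapOfInjective (Subgroup.subgroupOfEquivOfLe hNL).toMonoidHom
    (Subgroup.subgroupOfEquivOfLe hNL).injective (by
      rw [MonoidHom.range_eq_top.2 (Subgroup.subgroupOfEquivOfLe hNL).surjective]
      exact le_top)

theorem mem_locSylow {u : N.subgroupOf L} :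
    u ∈ (locSylow hNL Q : Subgroup (N.subgroupOf L)) ↔
      Subgroup.subgroupOfEquivOfLe hNL u ∈ (Q : Subgroup N) := Iff.rfl

theorem commute_locSylow_iff {c : L} :
    (∀ u : (locSylow hNL Q : Subgroup (N.subgroupOf L)),
      ((u : N.subgroupOf L) : L) * c = c * ((u : N.subgroupOf L) : L)) ↔ (c : G) ∈ cent Q := by
  rw [mem_cent_iff]
  constructor
  · intro h u hu
    have := congrArg (Subtype.val : L → G)
      (h ⟨(Subgroup.subgroupOfEquivOfLe hNL).symm u, (mem_locSylow hNL Q).2 (by simpa using hu)⟩)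
    simpa using this
  · intro h u
    exact Subtype.ext (h _ ((mem_locSylow hNL Q).1 u.2))

theorem cover_loc (hLH : L ≤ N ⊔ cent Q) (g : L) :
    ∃ a ∈ N.subgroupOf L, ∃ c : L,
      (∀ u : (locSylow hNL Q : Subgroup (N.subgroupOf L)),
        ((u : N.subgroupOf L) : L) * c = c * ((u : N.subgroupOf L) : L)) ∧ a * c = g := by
  obtain ⟨a, ha, c, hc, hac⟩ := Subgroup.mem_sup_of_normal_left.1 (hLH g.2)
  have hcL : c ∈ L := by
    rw [show c = a⁻¹ * g by rw [← hac]; group]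
    exact mul_mem (inv_mem (hNL ha)) g.2
  exact ⟨⟨a, hNL ha⟩, ha, ⟨c, hcL⟩, (commute_locSylow_iff hNL Q).2 hc, Subtype.ext hac⟩

theorem sup_loc (hLH : L ≤ N ⊔ cent Q) :
    N.subgroupOf L ⊔ Subgroup.centralizer
      (((locSylow hNL Q : Subgroup (N.subgroupOf L)).map (N.subgroupOf L).subtype :
        Subgroup L) : Set L) = ⊤ := by
  refine top_le_iff.1 fun g _ => ?_
  obtain ⟨a, ha, c, hc, rfl⟩ := cover_loc hNL Q hLH g
  refine Subgroup.mul_mem_sup ha (Subgroup.mem_centralizer_iff.2 fun y hy => ?_)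
  obtain ⟨u, hu, rfl⟩ := hy
  exact hc ⟨u, hu⟩

theorem irrComp_mem_principalBlock {θ : IrrCharacter N} [Fintype N] [Fintype (N.subgroupOf L)]
    (hθ : θ ∈ principalBlock M N) :
    irrComp (Subgroup.subgroupOfEquivOfLe hNL) θ ∈ principalBlock M (N.subgroupOf L) := by
  refine (sameBlock_iff_mem isPBlock_principalBlock oneIrr_mem_principalBlock).2 ?_
  rw [show oneIrr (N.subgroupOf L) = irrComp (Subgroup.subgroupOfEquivOfLe hNL) (oneIrr N) from
    Subtype.ext rfl, sameBlock_irrComp]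
  exact sameBlock_of_mem isPBlock_principalBlock oneIrr_mem_principalBlock hθ

end local_data

variable [Fact p.Prime]

/-- The extension before normalisation. -/
theorem exists_extension (hM : IsPModular p M) (hp2 : p ≠ 2) (θ : IrrCharacter N)
    (hinv : ∀ (g : G) (x : N),
      (θ : N → ℂ) ⟨g * x * g⁻¹, hN.conj_mem (x : G) x.2 g⟩ = (θ : N → ℂ) x)
    {d : ℕ} (hd : (θ : N → ℂ) 1 = d) (hpd : ¬ p ∣ d) {m : ℕ} (hm : ¬ p ∣ m)
    (hrat : ∀ x : N, (θ : N → ℂ) x ∈ IntermediateField.adjoin ℚ ({ζ[m]} : Set ℂ))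
    [Fintype N] (hθ : θ ∈ principalBlock M N) (Q : Sylow p N)
    (hHn : (N ⊔ cent Q).Normal) {a : ℕ} (hidx : (N ⊔ cent Q).index = p ^ a) :
    ∃ χ : G → ℂ, IsIrrCharacter G χ ∧ ∀ x : N, χ x = (θ : N → ℂ) x := by
  have hp : p.Prime := Fact.out
  refine exists_extension_of_sylow θ.2 hinv fun l hl => ?_
  haveI : Fact l.Prime := ⟨hl⟩
  obtain ⟨S⟩ : Nonempty (Sylow l (G ⧸ N)) := inferInstance
  set L : Subgroup G := (S : Subgroup (G ⧸ N)).comap (QuotientGroup.mk' N) with hL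
  have hNL : N ≤ L := fun x hx => by
    rw [hL, Subgroup.mem_comap, QuotientGroup.mk'_apply, (QuotientGroup.eq_one_iff x).2 hx]
    exact one_mem _
  have hLidx : ¬ l ∣ L.index := by
    rw [hL, Subgroup.index_comap_of_surjective _ (QuotientGroup.mk'_surjective N)]
    exact S.not_dvd_index
  have hnil : ∀ g ∈ L, ∃ k, g ^ l ^ k ∈ N := fun g hg => by
    obtain ⟨k, hk⟩ := S.isPGroup' ⟨QuotientGroup.mk' N g, hg⟩
    refine ⟨k, (QuotientGroup.eq_one_iff _).1 ?_⟩
    simpa [Subtype.ext_iff] using hk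
  have hrel : ∀ q : ℕ, q.Prime → q ≠ l → ¬ q ∣ (N.subgroupOf L).index := by
    intro q hq hql hdvd
    haveI : Fact q.Prime := ⟨hq⟩
    have hP : IsPGroup l (L ⧸ N.subgroupOf L) := fun x => by
      obtain ⟨g, rfl⟩ := QuotientGroup.mk_surjective x
      obtain ⟨k, hk⟩ := hnil g g.2
      exact ⟨k, by rw [← QuotientGroup.mk_pow, QuotientGroup.eq_one_iff]; exact hk⟩
    obtain ⟨j, hj⟩ := IsPGroup.iff_card.1 hP
    rw [Subgroup.index_eq_card, hj] at hdvd
    exact hql ((Nat.prime_dvd_prime_iff_eq hq hl).1 (hq.dvd_of_dvd_pow hdvd))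
  let e := Subgroup.subgroupOfEquivOfLe hNL
  haveI : Fintype (N.subgroupOf L) := Fintype.ofFinite _
  haveI : Fintype L := Fintype.ofFinite _
  rcases eq_or_ne p l with rfl | hpl
  · obtain ⟨f, hf, r, hr, hfr⟩ := exists_det_regular hp hp2 (IsIrrCharacter.isCharacter θ.2) hd hm hrat
    have hfe : ∀ x, Cfsg.detChar (irrComp e θ : _ → ℂ) x = f (e x) := fun x => by
      rw [← hf]
      exact detChar_comp_hom (IsIrrCharacter.isCharacter θ.2) e.toMonoidHom x
    have hinvf : ∀ (g : L) (x : N.subgroupOf L),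
        (irrComp e θ : N.subgroupOf L → ℂ) ⟨g * x * g⁻¹,
          Subgroup.Normal.conj_mem inferInstance (x : L) x.2 g⟩ =
            (irrComp e θ : N.subgroupOf L → ℂ) x := fun g x => by
      simp only [irrComp_coe]
      exact hinv (g : G) (e x)
    have hcopr : ∀ k : ℕ, ¬ p ∣ k → Nat.Coprime (N.subgroupOf L).index k := fun k hk =>
      Nat.coprime_of_dvd fun q hq h1 h2 => by
        rcases eq_or_ne q p with rfl | hqp
        · exact hk h2
        · exact hrel q hq hqp h1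
    obtain ⟨F, hF, -, -⟩ := exists_canonical_linear_extension (f.comp e.toMonoidHom)
      (fun g x => Units.ext (by
        let φ : N →* N := (MulAut.conjNormal (g : G)).toMonoidHom
        show (f (φ (e x)) : ℂ) = f (e x)
        rw [← hf, ← hf, ← detChar_comp_hom (IsIrrCharacter.isCharacter θ.2) φ (e x),
          show (fun y => (θ : N → ℂ) (φ y)) = (θ : N → ℂ) from funext fun y => hinv (g : G) y]))
      (hcopr _ fun h => hr (h.trans (orderOf_dvd_of_pow_eq_one (MonoidHom.ext fun x => hfr _))))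
    obtain ⟨η, hη, hηN⟩ := exists_extension_of_det (irrComp e θ).2 hinvf (d := d)
      (by rw [irrComp_coe]; simpa using hd) 1 (by rw [mul_one]; exact hcopr d hpd)
      (fun x => (F x : ℂ)) ⟨isCharacter_ofHom F, by simp⟩
      (fun x => by rw [pow_one, hfe, hF]; rfl)
    exact ⟨L, hNL, η, hLidx, IsIrrCharacter.isCharacter hη, fun x => by
      rw [show (⟨(x : G), hNL x.2⟩ : L) = ((e.symm x : N.subgroupOf L) : L) from rfl, hηN,
        irrComp_coe]
      exact congrArg _ (e.apply_symm_apply x)⟩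
  · have hLH : L ≤ N ⊔ cent Q := fun g hg => by
      obtain ⟨k, hk⟩ := hnil g hg
      haveI := hHn
      have h1 : (g : G ⧸ (N ⊔ cent Q)) ^ l ^ k = 1 := by
        rw [← QuotientGroup.mk_pow, QuotientGroup.eq_one_iff]; exact Subgroup.mem_sup_left hk
      have h2 : (g : G ⧸ (N ⊔ cent Q)) ^ p ^ a = 1 := by
        rw [← hidx, ← QuotientGroup.mk_pow, QuotientGroup.eq_one_iff]
        exact Subgroup.pow_index_mem _ g
      rw [← QuotientGroup.eq_one_iff, ← orderOf_eq_one_iff]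
      exact Nat.eq_one_of_dvd_coprimes
        (Nat.Coprime.pow _ _ ((Nat.coprime_primes hl hp).2 hpl.symm))
        (orderOf_dvd_of_pow_eq_one h1) (orderOf_dvd_of_pow_eq_one h2)
    obtain ⟨ψ, -, hψ⟩ := Alperin.exists_principal_extension hM (hrel p hp hpl)
      (locSylow hNL Q) (sup_loc hNL Q hLH) (irrComp_mem_principalBlock (M := M) hNL hθ)
    exact ⟨L, hNL, (ψ : L → ℂ), hLidx, IsIrrCharacter.isCharacter ψ.2, fun x => by
      rw [show (⟨(x : G), hNL x.2⟩ : L) = ((e.symm x : N.subgroupOf L) : L) from rfl, hψ,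
        irrComp_coe]
      exact congrArg _ (e.apply_symm_apply x)⟩

theorem relIndex_dvd_index_normal (K C : Subgroup G) [C.Normal] : K.relIndex C ∣ K.index := by
  have e : (K ⊓ C).relIndex C * C.index = (K ⊓ C).relIndex K * K.index := by
    rw [Subgroup.relIndex_mul_index inf_le_right, Subgroup.relIndex_mul_index inf_le_left]
  rw [Subgroup.inf_relIndex_right, Subgroup.inf_relIndex_left] at e
  obtain ⟨c, hc⟩ : C.relIndex K ∣ C.index := Subgroup.relIndex_dvd_index_of_normal C K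
  rw [hc, mul_left_comm] at e
  refine Dvd.intro c (Nat.eq_of_mul_eq_mul_left (Nat.pos_of_ne_zero fun h => ?_) e)
  exact Subgroup.index_ne_zero_of_finite (H := C) (by rw [hc, h, zero_mul])

/-- A class of length prime to `p` meets the centralizer of a Sylow subgroup of `N`. -/
theorem exists_conj_mem_cent (Q : Sylow p N) {g : G}
    (h : ¬ p ∣ (Subgroup.centralizer ({g} : Set G)).index) : ∃ x : G, x * g * x⁻¹ ∈ cent Q := by
  set K := (Subgroup.centralizer ({g} : Set G)).subgroupOf N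
  have hK : ¬ p ∣ K.index := fun hd => h (hd.trans (relIndex_dvd_index_normal _ N))
  obtain ⟨R⟩ : Nonempty (Sylow p K) := inferInstance
  have hR : ¬ p ∣ ((R : Subgroup K).map K.subtype).index := by
    rw [Subgroup.index_map_subtype]
    exact Nat.Prime.not_dvd_mul Fact.out R.not_dvd_index hK
  let P : Sylow p N := (R.isPGroup'.map K.subtype).toSylow hR
  obtain ⟨n, hn⟩ := MulAction.exists_smul_eq N Q P
  refine ⟨(n : G)⁻¹, (mem_cent_iff Q).2 fun u hu => ?_⟩
  have h1 : n * u * n⁻¹ ∈ (P : Subgroup N) := by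
    rw [← hn, Sylow.coe_subgroup_smul]
    exact ⟨u, hu, by simp⟩
  have h2 : n * u * n⁻¹ ∈ K := Subgroup.map_subtype_le _ h1
  rw [Subgroup.mem_subgroupOf, Subgroup.mem_centralizer_singleton_iff] at h2
  push_cast at h2
  calc (u : G) * ((n : G)⁻¹ * g * (n : G)⁻¹⁻¹)
      = (n : G)⁻¹ * (((n : G) * u * (n : G)⁻¹) * g) * (n : G) := by group
    _ = (n : G)⁻¹ * (g * ((n : G) * u * (n : G)⁻¹)) * (n : G) := by rw [h2]
    _ = _ := by group

theorem hom_apply_pow {K : Type*} [Group K] {F : K →* ℂˣ} {j : ℕ} (h : ∀ g, F g ^ j = 1) (g : K) :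
    (F g : ℂ) ^ j = 1 := by
  rw [← Units.val_pow_eq_pow_val, h g, Units.val_one]

/-- A root of unity is a local unit. -/
theorem not_mem_of_pow {z : ℂ} {j : ℕ} (hj : 0 < j) (hz : z ^ j = 1) :
    MemLocalRing M z ∧ ¬ MemLocalIdeal M z := by
  have h : MemLocalRing M z :=
    memLocalRing_of_isIntegral (IsIntegral.of_pow hj (hz ▸ isIntegral_one))
  refine ⟨h, fun hI => not_memLocalIdeal_one (M := M) ?_⟩
  obtain ⟨i, rfl⟩ : ∃ i, j = i + 1 := ⟨j - 1, by omega⟩
  rw [← hz, pow_succ]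
  exact memLocalIdeal_mul_left ((localRing M).pow_mem h i) hI

/-- **The theorem.** -/
theorem main (hM : IsPModular p M) (hp2 : p ≠ 2) (θ : IrrCharacter N)
    (hinv : ∀ (g : G) (x : N),
      (θ : N → ℂ) ⟨g * x * g⁻¹, hN.conj_mem (x : G) x.2 g⟩ = (θ : N → ℂ) x)
    {d : ℕ} (hd : (θ : N → ℂ) 1 = d) (hpd : ¬ p ∣ d) {m : ℕ} (hm : ¬ p ∣ m)
    (hrat : ∀ x : N, (θ : N → ℂ) x ∈ IntermediateField.adjoin ℚ ({ζ[m]} : Set ℂ))
    [Fintype N] (hθ : θ ∈ principalBlock M N) (Q : Sylow p N)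
    {a : ℕ} (hidx : (N ⊔ cent Q).index = p ^ a) :
    ∃ χ : IrrCharacter G, χ ∈ principalBlock M G ∧
      (∃ n : ℕ, ¬ p ∣ n ∧
        ∀ g : G, (χ : G → ℂ) g ∈ IntermediateField.adjoin ℚ ({ζ[n]} : Set ℂ)) ∧
      ∀ x : N, (χ : G → ℂ) x = (θ : N → ℂ) x := by
  classical
  have hp : p.Prime := Fact.out
  have hd0 : (d : ℂ) ≠ 0 := Nat.cast_ne_zero.2 fun h => hpd (h ▸ dvd_zero p)
  set H : Subgroup G := N ⊔ cent Q with hH
  set QG : Subgroup G := (Q : Subgroup N).map N.subtype with hQG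
  have hdec : ∀ g : G, ∃ b ∈ N, ∃ x ∈ Subgroup.normalizer (QG : Set G), b * x = g := fun g => by
    have h := Sylow.normalizer_sup_eq_top Q
    rw [sup_comm] at h
    exact Subgroup.mem_sup_of_normal_left.1 (h ▸ Subgroup.mem_top g)
  have hconj : ∀ x ∈ Subgroup.normalizer (QG : Set G), ∀ c ∈ cent Q, x * c * x⁻¹ ∈ cent Q := by
    intro x hx c hc
    refine Subgroup.mem_centralizer_iff.2 fun y hy => ?_
    have hy' : x⁻¹ * y * x ∈ QG := by
      have := (Subgroup.mem_normalizer_iff.1 (inv_mem hx) y).1 hy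
      simpa [mul_assoc] using this
    have e := Subgroup.mem_centralizer_iff.1 hc _ hy'
    calc y * (x * c * x⁻¹) = x * ((x⁻¹ * y * x) * c) * x⁻¹ := by group
      _ = x * (c * (x⁻¹ * y * x)) * x⁻¹ := by rw [e]
      _ = _ := by group
  have hHn : H.Normal := ⟨fun h hh g => by
    obtain ⟨b, hb, x, hx, rfl⟩ := hdec g
    obtain ⟨b', hb', c, hc, rfl⟩ := Subgroup.mem_sup_of_normal_left.1 hh
    have h1 : x * (b' * c) * x⁻¹ ∈ H := by
      rw [show x * (b' * c) * x⁻¹ = (x * b' * x⁻¹) * (x * c * x⁻¹) by group]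
      exact Subgroup.mul_mem_sup (hN.conj_mem b' hb' x) (hconj x hx c hc)
    rw [show b * x * (b' * c) * (b * x)⁻¹ = b * (x * (b' * c) * x⁻¹) * b⁻¹ by group]
    exact mul_mem (mul_mem (Subgroup.mem_sup_left hb) h1) (inv_mem (Subgroup.mem_sup_left hb))⟩
  obtain ⟨f, hf, r0, hr0, hfr⟩ :=
    exists_det_regular hp hp2 (IsIrrCharacter.isCharacter θ.2) hd hm hrat
  obtain ⟨X, hX, hXN⟩ := exists_extension hM hp2 θ hinv hd hpd hm hrat hθ Q hHn hidx
  have hXd : X 1 = d := by rw [← hd, ← hXN]; rfl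
  -- normalising the determinant
  obtain ⟨D, hD, htw⟩ := exists_detHom (IsIrrCharacter.isCharacter hX) hXd
  set o := Nat.card G with ho
  have ho0 : o ≠ 0 := Nat.card_pos.ne'
  set s := o.factorization p
  set r := ordCompl[p] o with hr
  have hpr : ¬ p ∣ r := Nat.not_dvd_ordCompl hp ho0
  have hsr : p ^ s * r = o := Nat.ordProj_mul_ordCompl_eq_self o p
  have hDo : ∀ g, D g ^ o = 1 := fun g => by rw [← map_pow, pow_card_eq_one', map_one]
  have hDN : ∀ x : N, D x ^ r = 1 := fun x => by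
    rw [← orderOf_dvd_iff_pow_eq_one]
    have e : D (x : G) = f x := Units.ext (by
      rw [← hD, ← hf, detChar_comp (IsIrrCharacter.isCharacter hX) hXN])
    refine Nat.Coprime.dvd_of_dvd_mul_left ?_ (hsr.symm ▸ orderOf_dvd_of_pow_eq_one (hDo x))
    refine Nat.Coprime.coprime_dvd_left (orderOf_dvd_of_pow_eq_one (e ▸ hfr x)) ?_
    exact Nat.Coprime.pow_right _ (hp.coprime_iff_not_dvd.2 hr0).symm
  have hcop : (r * d).Coprime (p ^ s) :=
    Nat.Coprime.pow_right _ (hp.coprime_iff_not_dvd.2 (hp.not_dvd_mul hpr hpd)).symm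
  obtain ⟨A, B, hAB⟩ :=
    (Int.isCoprime_iff_gcd_eq_one.2 hcop : IsCoprime ((r * d : ℕ) : ℤ) ((p ^ s : ℕ) : ℤ))
  obtain ⟨ν₀, hν₀⟩ : ∃ ν₀ : G →* ℂˣ, ∀ g, ν₀ g = (D g ^ (A * (r : ℤ)))⁻¹ :=
    ⟨(D ^ (A * (r : ℤ)))⁻¹, fun g => rfl⟩
  set X1 : G → ℂ := X * fun g => (ν₀ g : ℂ) with hX1
  have hX1i : IsIrrCharacter G X1 := IsIrrCharacter.mul_hom hX ν₀
  have hX1N : ∀ x : N, X1 x = (θ : N → ℂ) x := fun x => by
    rw [hX1, Pi.mul_apply, hXN, hν₀, mul_comm A, zpow_mul, zpow_natCast, hDN, one_zpow, inv_one,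
      Units.val_one, mul_one]
  have hX1d : X1 1 = d := by rw [← hd, ← hX1N]; rfl
  obtain ⟨D1, hD1, htw1⟩ := exists_detHom (IsIrrCharacter.isCharacter hX1i) hX1d
  have hD1r : ∀ g, D1 g ^ r = 1 := fun g => by
    have e : D1 g = ν₀ g ^ d * D g := Units.ext (by
      rw [← hD1, hX1, htw, Units.val_mul, Units.val_pow_eq_pow_val])
    have e2 : D1 g = D g ^ (((p ^ s : ℕ) : ℤ) * B) := by
      rw [e, hν₀, inv_pow, ← zpow_natCast (D g ^ (A * (r : ℤ))) d, ← zpow_mul,
        ← zpow_neg, ← zpow_add_one]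
      congr 1
      push_cast at hAB ⊢
      linarith
    rw [e2, ← zpow_natCast, ← zpow_mul, show ((p ^ s : ℕ) : ℤ) * B * (r : ℤ) = (o : ℤ) * B by
      rw [← hsr]; push_cast; ring, zpow_mul, zpow_natCast, hDo, one_zpow]
  -- the normalised extension to `H`
  have hNH : N ≤ H := le_sup_left
  let e := Subgroup.subgroupOfEquivOfLe hNH
  haveI : Fintype (N.subgroupOf H) := Fintype.ofFinite _
  haveI : Fintype H := Fintype.ofFinite _
  have he : ∀ x : N.subgroupOf H, X1 ((x : H) : G) = (irrComp e θ : N.subgroupOf H → ℂ) x :=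
    fun x => hX1N (e x)
  obtain ⟨k1, ρ1, -, hρ1⟩ := id hX1i
  have hirrR : IsIrrCharacter H fun h : H => X1 (h : G) := by
    let τ : Representation ℂ (N.subgroupOf H) (Fin k1 → ℂ) :=
      ρ1.comp (H.subtype.comp (N.subgroupOf H).subtype)
    haveI : τ.IsIrreducible := by
      rw [isIrreducible_iff_isIrrCharacter, show τ.character = (irrComp e θ : _ → ℂ) from
        funext fun x => (congrFun hρ1 _).trans (he x)]
      exact (irrComp e θ).2
    have h := isIrreducible_of_restrict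
      (ρ1.comp H.subtype : Representation ℂ H (Fin k1 → ℂ)) τ fun x => rfl
    exact ⟨k1, _, h, funext fun x => congrFun hρ1 (x : G)⟩
  obtain ⟨k, ρ, hirrN, hρθ, hcong⟩ := Dade.exists_normalized hM (locSylow hNH Q)
    (cover_loc hNH Q le_rfl) (irrComp_mem_principalBlock (M := M) hNH hθ) ⟨_, hirrR⟩ he
  have hψ : IsIrrCharacter H ρ.character := by
    haveI := hirrN
    exact ⟨k, ρ, isIrreducible_of_restrict ρ (Dade.resN ρ (N.subgroupOf H)) fun x => rfl, rfl⟩
  obtain ⟨ν, hνN, hν⟩ := exists_twist_of_extensions (irrComp e θ).2 hψ hρθ hirrR he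
  have hρd : ρ.character 1 = d := by
    rw [show ρ.character 1 = ρ.character ((1 : N.subgroupOf H) : H) from rfl, hρθ, irrComp_coe]
    simpa using hd
  have hψc : ∀ c : H, (c : G) ∈ cent Q → MemLocalIdeal M (ρ.character c - d) := fun c hc => by
    have hn := Dade.not_dvd_card_orb (locSylow hNH Q) ((commute_locSylow_iff hNH Q).2 hc)
    have h := hcong _ (Dade.inv_orb c)
    rw [Dade.phi_orb, hρd] at h
    have h2 := memLocalIdeal_mul_left
      (memLocalRing_mul (natCast_mem_localRing d) (memLocalRing_natCast_inv hM hn)) h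
    have hn0 : ((Dade.orb (N.subgroupOf H) c).card : ℂ) ≠ 0 :=
      Nat.cast_ne_zero.2 fun h0 => hn (h0 ▸ dvd_zero p)
    convert h2 using 1
    field_simp
  -- the part of order prime to `p`
  set oH := Nat.card H with hoH
  have hoH0 : oH ≠ 0 := Nat.card_pos.ne'
  set s' := oH.factorization p
  set r' := ordCompl[p] oH
  have hpr' : ¬ p ∣ r' := Nat.not_dvd_ordCompl hp hoH0
  have hsr' : p ^ s' * r' = oH := Nat.ordProj_mul_ordCompl_eq_self oH p
  obtain ⟨j, hj0, hj1⟩ := Nat.chineseRemainder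
    (Nat.Coprime.pow_left s' (hp.coprime_iff_not_dvd.2 hpr')) 0 1
  have hνo : ∀ h : H, ν h ^ oH = 1 := fun h => by rw [← map_pow, pow_card_eq_one', map_one]
  let μ : H →* ℂˣ := ν ^ j
  have hμ : ∀ h, μ h = ν h ^ j := fun h => rfl
  have hμr : ∀ h, μ h ^ r' = 1 := fun h => by
    obtain ⟨i, hi⟩ := Nat.modEq_zero_iff_dvd.1 hj0
    rw [hμ, ← pow_mul, hi, mul_right_comm, hsr', pow_mul, hνo, one_pow]
  have hνμ : ∀ h, NearOne M ((ν h : ℂ) / (μ h : ℂ)) := fun h => by
    refine nearOne_of_pow_pow hM (s := s') ?_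
    have hm' : p ^ s' * j ≡ p ^ s' * 1 [MOD p ^ s' * r'] := hj1.mul_left' _
    rw [hsr', mul_one] at hm'
    have e1 : ν h ^ (p ^ s' * j) = ν h ^ p ^ s' :=
      pow_eq_pow_iff_modEq.2 (hm'.of_dvd (orderOf_dvd_of_pow_eq_one (hνo h)))
    rw [div_pow, div_eq_one_iff_eq (pow_ne_zero _ (Units.ne_zero _)), hμ,
      ← Units.val_pow_eq_pow_val, ← Units.val_pow_eq_pow_val, ← pow_mul, mul_comm j, e1]
  have hμN : ∀ x : N.subgroupOf H, μ x = 1 := fun x => by rw [hμ, hνN, one_pow]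
  have hX1c : ∀ c : H, (c : G) ∈ cent Q →
      MemLocalIdeal M (X1 (c : G) - (d : ℂ) * (ν c : ℂ)) := fun c hc => by
    rw [show X1 (c : G) = ρ.character c * (ν c : ℂ) from congrFun hν c, ← sub_mul]
    exact memLocalIdeal_mul_right (hψc c hc)
      (not_mem_of_pow (Nat.pos_of_ne_zero hoH0) (hom_apply_pow hνo c)).1
  have hμc : ∀ x ∈ Subgroup.normalizer (QG : Set G), ∀ c : H, (c : G) ∈ cent Q →
      μ ⟨x * c * x⁻¹, hHn.conj_mem (c : G) c.2 x⟩ = μ c := by
    intro x hx c hc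
    set c' : H := ⟨x * c * x⁻¹, hHn.conj_mem (c : G) c.2 x⟩
    have h1 := hX1c c' (hconj x hx _ hc)
    have h2 := hX1c c hc
    rw [show X1 (c' : G) = X1 (c : G) from IsIrrCharacter.isClassFunction hX1i (c : G) x] at h1
    have h3 := memLocalIdeal_mul_left (memLocalRing_natCast_inv hM hpd) (memLocalIdeal_sub h2 h1)
    have hu := not_mem_of_pow (M := M) (Nat.pos_of_ne_zero hoH0) (hom_apply_pow hνo c)
    have hu' := not_mem_of_pow (M := M) (Nat.pos_of_ne_zero hoH0) (hom_apply_pow hνo c')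
    have hq : NearOne M ((ν c' : ℂ) / (ν c : ℂ)) := nearOne_div hu.1 hu.2 hu'.1 (by
      convert h3 using 1
      field_simp
      ring)
    refine Units.ext (div_eq_one_iff_eq (Units.ne_zero _) |>.1 ?_)
    refine NearOne.eq_one_of_pow hM ?_ hpr' ?_
    · rw [hμ, hμ, Units.val_pow_eq_pow_val, Units.val_pow_eq_pow_val, ← div_pow]
      exact hq.pow j
    · rw [div_pow, hom_apply_pow hμr, hom_apply_pow hμr, div_one]
  have hμinv : ∀ (g : G) (h : H), μ ⟨g * h * g⁻¹, hHn.conj_mem (h : G) h.2 g⟩ = μ h := by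
    intro g h
    obtain ⟨b, hb, x, hx, rfl⟩ := hdec g
    obtain ⟨b', hb', c, hc, hbc⟩ := Subgroup.mem_sup_of_normal_left.1 h.2
    have hcH : c ∈ H := Subgroup.mem_sup_right hc
    have hb1 : ∀ (y : G) (hy : y ∈ N), μ ⟨y, hNH hy⟩ = 1 := fun y hy => hμN ⟨⟨y, hNH hy⟩, hy⟩
    rw [show h = (⟨b', hNH hb'⟩ : H) * ⟨c, hcH⟩ from Subtype.ext hbc.symm,
      map_mul, hb1 b' hb', one_mul]
    rw [show (⟨_, hHn.conj_mem ((⟨b', hNH hb'⟩ * ⟨c, hcH⟩ : H) : G) (SetLike.coe_mem _) (b * x)⟩ : H) =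
        ⟨b, hNH hb⟩ * (⟨x * b' * x⁻¹, hNH (hN.conj_mem b' hb' x)⟩ *
          ⟨x * c * x⁻¹, hHn.conj_mem c hcH x⟩) * ⟨b, hNH hb⟩⁻¹ from Subtype.ext (by
            push_cast; group),
      map_mul, map_mul, map_mul, map_inv, hb1 b hb, hb1 _ (hN.conj_mem b' hb' x),
      hμc x hx ⟨c, hcH⟩ hc]
    simp
  haveI := hHn
  have hμo : orderOf μ ∣ r' := orderOf_dvd_of_pow_eq_one (MonoidHom.ext fun h => hμr h)
  obtain ⟨F, hF, hFo, -⟩ := exists_canonical_linear_extension μ hμinv (by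
    rw [hidx]
    exact Nat.Coprime.pow_left _ (hp.coprime_iff_not_dvd.2 fun h => hpr' (h.trans hμo)))
  have hFr : ∀ g, F g ^ r' = 1 := fun g => by
    rw [← MonoidHom.pow_apply, orderOf_dvd_iff_pow_eq_one.1 (hFo ▸ hμo), MonoidHom.one_apply]
  -- the character
  set χ : G → ℂ := X1 * fun g => ((F⁻¹ g : ℂˣ) : ℂ) with hχ
  have hχi : IsIrrCharacter G χ := IsIrrCharacter.mul_hom hX1i _
  have hχN : ∀ x : N, χ x = (θ : N → ℂ) x := fun x => by
    rw [hχ, Pi.mul_apply, hX1N, MonoidHom.inv_apply,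
      show F (x : G) = μ (⟨x, hNH x.2⟩ : H) from hF ⟨x, hNH x.2⟩,
      show μ (⟨x, hNH x.2⟩ : H) = 1 from hμN ⟨⟨x, hNH x.2⟩, x.2⟩]
    simp
  have hχd : χ 1 = d := by rw [← hd, ← hχN]; rfl
  have hχc : ∀ c ∈ cent Q, MemLocalIdeal M (χ c - d) := fun c hc => by
    let c' : H := ⟨c, Subgroup.mem_sup_right hc⟩
    have e1 : χ c = ρ.character c' * ((ν c' : ℂ) / (μ c' : ℂ)) := by
      rw [hχ, Pi.mul_apply, MonoidHom.inv_apply, show F c = μ c' from hF c',
        show X1 c = ρ.character c' * (ν c' : ℂ) from congrFun hν c', Units.val_inv_eq_inv_val,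
        mul_assoc, div_eq_mul_inv]
    rw [e1]
    refine memLocalIdeal_sub_trans (y := (d : ℂ) * ((ν c' : ℂ) / (μ c' : ℂ))) ?_ ?_
    · rw [← sub_mul]; exact memLocalIdeal_mul_right (hψc c' hc) (hνμ c').1
    · rw [← mul_sub_one]; exact memLocalIdeal_mul_left (natCast_mem_localRing d) (hνμ c').2
  refine ⟨⟨χ, hχi⟩, ?_, ?_, hχN⟩
  · refine (sameBlock_iff_mem isPBlock_principalBlock oneIrr_mem_principalBlock).2 fun g => ?_
    refine memLocalIdeal_sub_comm ?_
    rw [centralChar, centralChar, oneIrr_apply, oneIrr_apply, mul_one, div_one,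
      show ((⟨χ, hχi⟩ : IrrCharacter G) : G → ℂ) 1 = d from hχd]
    set i := (Subgroup.centralizer ({g} : Set G)).index
    have hrw : (i : ℂ) * χ g / d - i = (i : ℂ) * ((d : ℂ)⁻¹ * (χ g - d)) := by field_simp
    show MemLocalIdeal M ((i : ℂ) * χ g / d - i)
    rw [hrw]
    have hmem : MemLocalRing M (χ g - d) := memLocalRing_sub
      (memLocalRing_of_isIntegral (IsCharacter.isIntegral (IsIrrCharacter.isCharacter hχi) g))
      (natCast_mem_localRing d)
    by_cases hi : p ∣ i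
    · exact memLocalIdeal_mul_right ((memLocalIdeal_natCast_iff hM).2 hi)
        (memLocalRing_mul (memLocalRing_natCast_inv hM hpd) hmem)
    · obtain ⟨x, hx⟩ := exists_conj_mem_cent Q hi
      refine memLocalIdeal_mul_left (natCast_mem_localRing i)
        (memLocalIdeal_mul_left (memLocalRing_natCast_inv hM hpd) ?_)
      rw [← IsIrrCharacter.isClassFunction hχi g x]
      exact hχc _ hx
  · obtain ⟨D2, hD2, htw2⟩ := exists_detHom (IsIrrCharacter.isCharacter hχi) hχd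
    have hD2r : ∀ g, D2 g ^ (r * r') = 1 := fun g => by
      have e2 : D2 g = (F⁻¹ g) ^ d * D1 g := Units.ext (by
        rw [← hD2, hχ, htw1, Units.val_mul, Units.val_pow_eq_pow_val])
      rw [e2, mul_pow, ← pow_mul, mul_comm r, MonoidHom.inv_apply, inv_pow,
        show d * (r' * r) = r' * (d * r) by ring, pow_mul, hFr, one_pow, inv_one, one_mul,
        mul_comm r' r, pow_mul, hD1r, one_pow]
    set n := m * (r * r') with hn
    have hpn : ¬ p ∣ n := hp.not_dvd_mul hm (hp.not_dvd_mul hpr hpr')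
    have hn0 : n ≠ 0 := fun h => hpn (h ▸ dvd_zero p)
    refine ⟨n, hpn, fun g => CfsgLib.MaxClassField.mem_adjoin_of_fixed
      (IsCharacter.isIntegral (IsIrrCharacter.isCharacter hχi) g).tower_top.isAlgebraic
      (fun t ht => by
        rw [Set.mem_singleton_iff.1 ht]
        exact (IsIntegral.of_pow (Nat.pos_of_ne_zero hn0)
          (by rw [zeta_pow_self hn0]; exact isIntegral_one)).isAlgebraic) fun σ hσ => ?_⟩
    have hfix : ∀ z : ℂ, z ^ n = 1 → σ z = z := fun z hz =>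
      fixed_of_pow_eq_one hn0 (hσ _ rfl) hz
    have hm0 : m ≠ 0 := fun h => hm (h ▸ dvd_zero p)
    have hθσ : ∀ x : N, σ ((θ : N → ℂ) x) = (θ : N → ℂ) x := fun x =>
      CfsgLib.MaxClassField.fixed_adjoin (T := {ζ[m]}) (fun t ht => by
        rw [Set.mem_singleton_iff.1 ht]
        exact hfix _ (by rw [hn, pow_mul, zeta_pow_self hm0, one_pow])) (hrat x)
    obtain ⟨lam, hlamN, hlam⟩ := exists_twist_of_extensions θ.2 hχi hχN
      (IsIrrCharacter.map_ringEquiv hχi σ) (fun x => by rw [hχN, hθσ])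
    have hlamd : ∀ g, lam g ^ d = 1 := fun g => by
      have h := congrFun (detChar_map_ringEquiv (IsIrrCharacter.isCharacter hχi) σ) g
      rw [show (fun g => σ (χ g)) = χ * fun x => (lam x : ℂ) from hlam, htw2, hD2,
        hfix _ (by rw [hn, mul_comm, pow_mul, hom_apply_pow hD2r, one_pow]),
        mul_eq_right₀ (Units.ne_zero _)] at h
      exact Units.ext (by rw [Units.val_pow_eq_pow_val, h, Units.val_one])
    have hlamC : ∀ c ∈ cent Q, lam c ^ p ^ s = 1 := fun c hc => by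
      have hx : c ^ p ^ s ∈ cent Q := pow_mem hc _
      have ho' : (c ^ p ^ s) ^ r = 1 := by rw [← pow_mul, hsr, pow_card_eq_one']
      have hv := IsCharacter.map_ringEquiv_eq_pow (IsIrrCharacter.isCharacter hχi) σ (t := 1)
        (g := c ^ p ^ s) fun z hz => by
          rw [pow_one]
          refine hfix z ?_
          obtain ⟨i, hi⟩ := (orderOf_dvd_of_pow_eq_one ho').trans
            ((dvd_mul_right r r').trans (dvd_mul_left (r * r') m))
          rw [hn, hi, pow_mul, hz, one_pow]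
      rw [pow_one] at hv
      have h := congrFun hlam (c ^ p ^ s)
      simp only [Pi.mul_apply] at h
      rw [hv, eq_comm, mul_eq_left₀] at h
      · rw [← map_pow]; exact Units.ext h
      · exact ne_zero_of_not_memLocalIdeal fun h0 => hpd ((memLocalIdeal_natCast_iff hM).1
          ((memLocalIdeal_iff_of_cong (hχc _ hx)).1 h0))
    have hlam1 : lam g = 1 := by
      obtain ⟨b, hb, c, hc, hbc⟩ := Subgroup.mem_sup_of_normal_left.1
        (Subgroup.pow_index_mem H g)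
      have h1 : lam g ^ (p ^ a * p ^ s) = 1 := by
        rw [pow_mul, ← map_pow, ← hidx, ← hbc, map_mul, hlamN ⟨b, hb⟩, one_mul, hlamC c hc]
      refine orderOf_eq_one_iff.1 (Nat.eq_one_of_dvd_coprimes ?_
        (orderOf_dvd_of_pow_eq_one h1) (orderOf_dvd_of_pow_eq_one (hlamd g)))
      rw [← pow_add]
      exact Nat.Coprime.pow_left _ (hp.coprime_iff_not_dvd.2 hpd)
    have h := congrFun hlam g
    simp only [Pi.mul_apply, hlam1, Units.val_one, mul_one] at h
    exact h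

end CfsgLib.Block.RatExt
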