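/-
Reynolds' theorem on blocks with normal defect group (statement S0972).
-/
import Cfsg.Agent.Blocks.BlockSize
import Cfsg.Agent.Blocks.NormalSub
import Cfsg.Agent.Blocks.MinMax
import Cfsg.Agent.Char.DegreeRatio
import Cfsg.Agent.Char.Linear
import Cfsg.Agent.KGV.Basic

/-!
# Blocks with a normal defect group: abelian iff all heights are zero
-/

set_option autoImplicit false
set_option linter.style.haveILetI false

namespace CfsgLib.Block

open Cfsg Finset CfsgLib.Block.Chr CfsgLib.Char

universe u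

variable {G : Type u} [Group G] [Fintype G] {M : Ideal AlgInt} [M.IsPrime] {p : ℕ}

/-- Over every character of a `p`-subgroup lies a member of the block. -/
theorem exists_over_of_pGroup (hM : IsPModular p M) {B : Set (IrrCharacter G)} (hB : IsPBlock M B)
    (P : Subgroup G) [Fintype P] (hP : IsPGroup p P) (φ : IrrCharacter P) :
    ∃ χ ∈ B, classInner (fun u : P => (χ : G → ℂ) u) (φ : P → ℂ) ≠ 0 := by
  classical
  letI := irrFintype (G := G)
  haveI : Fact p.Prime := ⟨hM.1⟩
  obtain ⟨n, hn, hnω, hdeg⟩ := blockPart_indFun_one P φ B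
  have h1 : omega (φ : P → ℂ) (resFun P (blockCoeff B)) = blockCoeff B 1 := by
    rw [omega, sum_eq_single (1 : P)]
    · simp only [resFun, OneMemClass.coe_one]
      rw [mul_div_cancel_right₀ _ (irr_one_ne_zero φ)]
    · intro u _ hu
      rw [resFun, blockCoeff_eq_zero_of_singular hM hB ?_, zero_mul]
      obtain ⟨k, hk⟩ := IsPGroup.iff_orderOf.1 hP u
      rw [Subgroup.orderOf_coe, hk]
      refine dvd_pow_self p fun h0 => hu ?_
      rw [h0, pow_zero, orderOf_eq_one_iff] at hk
      exact hk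
    · simp
  have hn0 : (n : ℂ) ≠ 0 := by
    rw [hnω, h1]
    refine mul_ne_zero (Nat.cast_ne_zero.2 hdeg) fun h0 => ?_
    exact (blockCoeff_one_unit hM hB).2 (by rw [h0, zero_div]; exact memLocalIdeal_zero)
  rw [← hn, blockPart_eq_sum_inner] at hn0
  obtain ⟨χ, hχ, hne⟩ := exists_ne_zero_of_sum_ne_zero hn0
  refine ⟨χ, (mem_filter.1 hχ).2, fun h0 => left_ne_zero_of_mul hne ?_⟩
  rw [classInner_indFun _ (isClassFunction_irr χ), ← CfsgLib.Char.classInner_conj, h0, map_zero]

/-- Above a nonlinear character of a normal `p`-subgroup the values on its centralizer vanish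
modulo the ideal. -/
theorem value_mem_ideal (hM : IsPModular p M) (P : Subgroup G) [P.Normal] [Fintype P]
    (hP : IsPGroup p P) {χ : IrrCharacter G} {φ : IrrCharacter P}
    (hφ : classInner (fun u : P => (χ : G → ℂ) u) (φ : P → ℂ) ≠ 0) (hφ1 : (φ : P → ℂ) 1 ≠ 1)
    {y : G} (hy : y ∈ Subgroup.centralizer (P : Set G)) :
    MemLocalIdeal M ((χ : G → ℂ) y) := by
  classical
  haveI : Fact p.Prime := ⟨hM.1⟩
  obtain ⟨K, hK⟩ : ∃ K : Subgroup G, K = P ⊔ Subgroup.zpowers y := ⟨_, rfl⟩
  haveI := Fintype.ofFinite K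
  letI := irrFintype (G := K)
  have hPK : P ≤ K := hK ▸ le_sup_left
  have hyK : y ∈ K := hK ▸ Subgroup.mem_sup_right (Subgroup.mem_zpowers y)
  have hycen : (⟨y, hyK⟩ : K) ∈ Subgroup.center K := by
    refine Subgroup.mem_center_iff.2 fun k => Subtype.ext ?_
    have hle : K ≤ Subgroup.centralizer ({y} : Set G) := by
      rw [hK, sup_le_iff]
      exact ⟨fun u hu => Subgroup.mem_centralizer_singleton_iff.2
        (Subgroup.mem_centralizer_iff.1 hy u hu), Subgroup.zpowers_le.2
        (Subgroup.mem_centralizer_singleton_iff.2 rfl)⟩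
    exact Subgroup.mem_centralizer_singleton_iff.1 (hle k.2)
  have hres := IsCharacter.restrict (isCharacter_irr χ) K
  have hexp := classFun_expand (IsCharacter.isClassFunction hres) (⟨y, hyK⟩ : K)
  simp only at hexp
  rw [hexp]
  refine memLocalIdeal_sum fun η _ => ?_
  obtain ⟨a, ha⟩ := IsCharacter.exists_classInner_eq_natCast hres η.2
  rw [ha]
  rcases Nat.eq_zero_or_pos a with rfl | ha0
  · rw [Nat.cast_zero, zero_mul]; exact memLocalIdeal_zero
  refine memLocalIdeal_mul_left (natCast_mem_localRing a) ?_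
  obtain ⟨c, hc, hceq⟩ := CfsgLib.KGV.exists_central_scalar η.2 hycen
  have h := hceq 1
  rw [one_mul] at h
  rw [h]
  refine memLocalIdeal_mul_left (memLocalRing_of_isIntegral hc) ?_
  -- the degree of the constituent is divisible by `p`
  have hcomp : IsCharacter P (fun u : P => (η : K → ℂ) (Subgroup.inclusion hPK u)) :=
    IsCharacter.comp (isCharacter_irr η) (Subgroup.inclusion hPK)
  have hrest : IsCharacter P (fun u : P => ((fun k : K => (χ : G → ℂ) k) - (η : K → ℂ))
      (Subgroup.inclusion hPK u)) :=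
    IsCharacter.comp (IsCharacter.sub_irr hres η.2 (by rw [ha]; exact Nat.cast_ne_zero.2 ha0.ne'))
      (Subgroup.inclusion hPK)
  obtain ⟨d, hd0, hd⟩ := IsIrrCharacter.exists_degree φ.2
  have hpd : MemLocalIdeal M (d : ℂ) := by
    refine (memLocalIdeal_natCast_iff hM).2 ?_
    obtain ⟨k, hk⟩ := IsPGroup.iff_card.1 hP
    obtain ⟨i, -, hi⟩ := (Nat.dvd_prime_pow hM.1).1
      (hk ▸ IsIrrCharacter.degree_dvd_card φ.2 hd)
    rw [hi]
    refine dvd_pow_self p fun h0 => hφ1 ?_
    rw [hd, hi, h0, pow_zero, Nat.cast_one]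
  have h1 := congrFun (eq_sum_irr (IsCharacter.isClassFunction hcomp)) 1
  simp only [map_one, Finset.sum_apply, Pi.smul_apply, smul_eq_mul] at h1
  rw [h1]
  refine memLocalIdeal_sum fun ψ hψ => ?_
  obtain ⟨m, hm⟩ := IsCharacter.exists_classInner_eq_natCast hcomp (mem_irrFinset.1 hψ)
  rw [hm]
  rcases Nat.eq_zero_or_pos m with rfl | hm0
  · rw [Nat.cast_zero, zero_mul]; exact memLocalIdeal_zero
  obtain ⟨l, hl⟩ := IsCharacter.exists_classInner_eq_natCast hrest (mem_irrFinset.1 hψ)
  have hχψ : classInner (fun u : P => (χ : G → ℂ) u) ψ ≠ 0 := by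
    rw [show (fun u : P => (χ : G → ℂ) u) = (fun u : P => (η : K → ℂ) (Subgroup.inclusion hPK u)) +
      fun u : P => ((fun k : K => (χ : G → ℂ) k) - (η : K → ℂ)) (Subgroup.inclusion hPK u) from
        funext fun u => by simp, classInner_add_left, hm, hl, ← Nat.cast_add, Nat.cast_ne_zero]
    omega
  obtain ⟨g, rfl⟩ := mem_conjOrbit.1
    (mem_conjOrbit_of_constituent (N := P) χ.2 φ.2 (mem_irrFinset.1 hψ) hφ hχψ)
  rw [conjOn_apply_one, hd]
  exact memLocalIdeal_mul_left (natCast_mem_localRing m) hpd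

/-- **Reynolds**: a normal defect group is abelian iff all heights are zero. -/
theorem abelian_iff_height_zero (hM : IsPModular p M) {B : Set (IrrCharacter G)}
    (hB : IsPBlock M B) (P : Subgroup G) [P.Normal] (hP : IsDefectGroup p M B P) :
    (∀ a ∈ P, ∀ c ∈ P, a * c = c * a) ↔ ∀ χ ∈ B, blockHeight p B (χ : G → ℂ) = 0 := by
  classical
  haveI : Fact p.Prime := ⟨hM.1⟩
  haveI := Fintype.ofFinite P
  have hPp := isPGroup_defectGroup hP
  have hcard := card_defectGroup hM hB hP
  obtain ⟨y, hy, hyP, -⟩ := (isDefectGroup_iff hM hB).1 hP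
  constructor
  · intro hab χ hχ
    rw [blockHeight_eq_zero_iff hM hB hy hχ, ← degree_eq_iff hM hy hχ]
    refine le_antisymm ?_ (defect_le_degree hM hy hχ)
    obtain ⟨n, ρ, hρ, hρχ⟩ := χ.2
    haveI := hρ
    have hdvd := finrank_dvd_index_of_abelian ρ P hab
    rw [Module.finrank_fin_fun] at hdvd
    have hn : charDegree (χ : G → ℂ) = n := by
      rw [← hρχ]; simp [charDegree, Representation.char_one]
    have hmul := P.card_mul_index
    have h1 : (Nat.card G).factorization p = blockDefect p B + P.index.factorization p := by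
      rw [← hmul, Nat.factorization_mul Nat.card_pos.ne' Subgroup.index_ne_zero_of_finite,
        Finsupp.add_apply, hcard, Nat.Prime.factorization_pow hM.1, Finsupp.single_eq_same]
    rw [← blockDefect_eq hM hB hy, h1, Nat.add_sub_cancel_left, hn]
    exact (Nat.factorization_le_iff_dvd (by
      rw [← hn]; exact (irr_one χ).2.ne') Subgroup.index_ne_zero_of_finite).2 hdvd p
  · intro hh a ha c hc
    have hlin : ∀ φ, IsIrrCharacter P φ → φ 1 = 1 := fun φ hφ => by
      by_contra hφ1
      obtain ⟨χ, hχ, hne⟩ := exists_over_of_pGroup hM hB P hPp ⟨φ, hφ⟩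
      exact (blockHeight_eq_zero_iff hM hB hy hχ).1 (hh χ hχ)
        (value_mem_ideal hM P hPp (φ := ⟨φ, hφ⟩) hne hφ1 hyP)
    exact congrArg Subtype.val (abelian_iff_degree_one.2 hlin ⟨a, ha⟩ ⟨c, hc⟩)

end CfsgLib.Block
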