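import Cfsg.Agent.Blocks.MinMax
import Cfsg.Agent.Blocks.NormalSub
import Cfsg.Agent.Blocks.BlockSize
import Cfsg.Agent.Blocks.SecondMain
import Cfsg.Agent.Char.ClassProducts
import Mathlib.LinearAlgebra.Matrix.Rank

/-!
# Robinson: blocks with a given normal defect group and a rank
-/

set_option autoImplicit false
set_option linter.style.haveILetI false
set_option linter.unusedSectionVars false

namespace CfsgLib.Block.Robinson

open Cfsg Finset CfsgLib.Block CfsgLib.Block.Chr CfsgLib.Char
open scoped ComplexConjugate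

universe u

/-- The rank of a square matrix does not change under extension of the field. -/
theorem rank_map_field {F K : Type*} [Field F] [Field K] {ι : Type*} [Fintype ι] [DecidableEq ι]
    (A : Matrix ι ι F) (f : F →+* K) : (A.map f).rank = A.rank := by
  classical
  obtain ⟨L, L', D, rfl⟩ := Matrix.Pivot.exists_list_transvec_mul_diagonal_mul_list_transvec A
  have h1 : ∀ T : List (Matrix.TransvectionStruct ι F),
      IsUnit ((T.map Matrix.TransvectionStruct.toMatrix).prod).det := fun T => by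
    rw [Matrix.TransvectionStruct.det_toMatrix_prod]; exact isUnit_one
  have h2 : ∀ T : List (Matrix.TransvectionStruct ι F),
      IsUnit (((T.map Matrix.TransvectionStruct.toMatrix).prod).map f).det := fun T => by
    rw [← RingHom.mapMatrix_apply, ← RingHom.map_det]; exact (h1 T).map f
  rw [Matrix.map_mul, Matrix.map_mul, Matrix.rank_mul_eq_left_of_isUnit_det _ _ (h2 L'),
    Matrix.rank_mul_eq_right_of_isUnit_det _ _ (h2 L), Matrix.diagonal_map (map_zero f),
    Matrix.rank_mul_eq_left_of_isUnit_det _ _ (h1 L'),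
    Matrix.rank_mul_eq_right_of_isUnit_det _ _ (h1 L), Matrix.rank_diagonal, Matrix.rank_diagonal]
  exact Fintype.card_congr (Equiv.subtypeEquivRight fun i => by simp)

variable {G : Type u} [Group G] [Fintype G] {M : Ideal AlgInt} [M.IsPrime] {p : ℕ}

theorem eq_of_isConj_index {g h : G} (hc : IsConj g h) :
    (Subgroup.centralizer ({g} : Set G)).index = (Subgroup.centralizer ({h} : Set G)).index := by
  rw [← card_conj_class, ← card_conj_class]
  exact Nat.card_congr (Equiv.subtypeEquivRight fun x => ⟨hc.symm.trans, hc.trans⟩)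

variable (D : Subgroup G) [D.Normal]

/-- An element of the regular classes with defect group `D`. -/
def HasDefect (p : ℕ) (x : G) : Prop :=
  ¬ p ∣ orderOf x ∧ x ∈ Subgroup.centralizer (D : Set G) ∧
    (Nat.card (Subgroup.centralizer ({x} : Set G))).factorization p =
      (Nat.card D).factorization p

theorem hasDefect_of_isConj {x y : G} (hc : IsConj x y) (hx : HasDefect D p x) :
    HasDefect D p y := by
  obtain ⟨h1, h2, h3⟩ := hx
  obtain ⟨z, rfl⟩ := isConj_iff.1 hc
  refine ⟨by rwa [show orderOf (z * x * z⁻¹) = orderOf x from (MulAut.conj z).orderOf_eq x],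
    Subgroup.mem_centralizer_iff.2 fun d hd => ?_, ?_⟩
  · have h4 := Subgroup.mem_centralizer_iff.1 h2 _ (Subgroup.Normal.conj_mem ‹_› d hd z⁻¹)
    simp only [inv_inv] at h4
    calc d * (z * x * z⁻¹) = z * (z⁻¹ * d * z * x) * z⁻¹ := by group
      _ = z * (x * (z⁻¹ * d * z)) * z⁻¹ := by rw [h4]
      _ = z * x * z⁻¹ * d := by group
  · have e1 := Subgroup.card_mul_index (Subgroup.centralizer ({x} : Set G))
    have e2 := Subgroup.card_mul_index (Subgroup.centralizer ({z * x * z⁻¹} : Set G))
    rw [← eq_of_isConj_index hc, ← e1] at e2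
    rw [Nat.eq_of_mul_eq_mul_right (Nat.pos_of_ne_zero Subgroup.index_ne_zero_of_finite) e2]
    exact h3

theorem hasDefect_iff [Fact p.Prime] (hD : IsPGroup p D) (x : G) :
    HasDefect D p x ↔ ¬ p ∣ orderOf x ∧ ∃ Q : Sylow p (Subgroup.centralizer ({x} : Set G)),
      (Q : Subgroup (Subgroup.centralizer ({x} : Set G))).map
        (Subgroup.centralizer ({x} : Set G)).subtype = D := by
  obtain ⟨n, hn⟩ := IsPGroup.iff_card.1 hD
  have hfac : (Nat.card D).factorization p = n := by
    rw [hn, Nat.factorization_pow, Finsupp.smul_apply, (Fact.out : p.Prime).factorization_self,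
      smul_eq_mul, mul_one]
  constructor
  · rintro ⟨h1, h2, h3⟩
    have hle := le_centralizer_singleton.2 h2
    refine ⟨h1, Sylow.ofCard (D.subgroupOf (Subgroup.centralizer ({x} : Set G))) ?_, ?_⟩
    · rw [Nat.card_congr (Subgroup.subgroupOfEquivOfLe hle).toEquiv, h3, hfac, hn]
    · rw [Sylow.coe_ofCard, Subgroup.map_subgroupOf_eq_of_le hle]
  · rintro ⟨h1, Q, hQ⟩
    refine ⟨h1, le_centralizer_singleton.1 (hQ ▸ Subgroup.map_subtype_le _), ?_⟩
    rw [hfac]
    have h := Q.card_eq_multiplicity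
    rw [← Subgroup.card_map_of_injective (Subgroup.centralizer ({x} : Set G)).subtype_injective,
      hQ, hn] at h
    exact (Nat.pow_right_injective (Fact.out : p.Prime).two_le h).symm

/-- The defect groups of a block with normal defect group `D` all equal `D`. -/
theorem eq_of_isDefectGroup (hM : IsPModular p M) {B : Set (IrrCharacter G)} (hB : IsPBlock M B)
    (hD : IsDefectGroup p M B D) {E : Subgroup G} (hE : IsDefectGroup p M B E) : E = D := by
  obtain ⟨x, hx⟩ := defectGroup_conj hM hB hE hD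
  rw [← hx]
  exact Subgroup.eq_of_le_of_card_ge (Subgroup.map_le_iff_le_comap.2 fun d hd =>
    Subgroup.Normal.conj_mem ‹_› d hd x)
    (Subgroup.card_map_of_injective (MulAut.conj x).injective).ge

theorem hasDefect_of_units (hM : IsPModular p M) {B B' : Set (IrrCharacter G)}
    (hB : IsPBlock M B) (hDB : IsDefectGroup p M B D) {χ' : IrrCharacter G} (hχ' : χ' ∈ B')
    {h : G} (ha : ¬ MemLocalIdeal M (blockCoeff B h))
    (hω : ¬ MemLocalIdeal M (centralChar (χ' : G → ℂ) h)) : HasDefect D p h := by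
  haveI : Fact p.Prime := ⟨hM.1⟩
  have hDp := isPGroup_defectGroup hDB
  have hhD : h ∈ Subgroup.centralizer (D : Set G) :=
    by_contra fun hn => hω (centralChar_mem_ideal_of_normal hM D hDp χ' hn)
  refine ⟨fun hs => ha (by rw [blockCoeff_eq_zero_of_singular hM hB hs]; exact memLocalIdeal_zero),
    hhD, ?_⟩
  have hle := le_centralizer_singleton.2 hhD
  refine le_antisymm ?_ ((Nat.factorization_le_iff_dvd Nat.card_pos.ne' Nat.card_pos.ne').2
    (Subgroup.card_dvd_of_le hle) p)
  obtain ⟨S⟩ : Nonempty (Sylow p (Subgroup.centralizer ({h} : Set G))) := inferInstance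
  obtain ⟨x, hx⟩ := exists_conj_le_defectGroup hM hB hDB ha
    (S.isPGroup'.map (Subgroup.centralizer ({h} : Set G)).subtype)
    (le_centralizer_singleton.1 (Subgroup.map_subtype_le _))
  have h1 := Subgroup.card_dvd_of_le hx
  rw [Subgroup.card_map_of_injective (MulAut.conj x).injective,
    Subgroup.card_map_of_injective (Subgroup.centralizer ({h} : Set G)).subtype_injective,
    S.card_eq_multiplicity] at h1
  exact (hM.1.pow_dvd_iff_le_factorization Nat.card_pos.ne').1 h1

theorem mem_ideal_of_not_defect (hM : IsPModular p M) (hDp : IsPGroup p D)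
    {B : Set (IrrCharacter G)} (hB : IsPBlock M B) (hDB : ¬ IsDefectGroup p M B D)
    {χ : IrrCharacter G} (hχ : χ ∈ B) {x : G} (hx : HasDefect D p x) :
    MemLocalIdeal M (centralChar (χ : G → ℂ) x) := by
  haveI : Fact p.Prime := ⟨hM.1⟩
  by_contra hne
  obtain ⟨P, hP⟩ := exists_defectGroup hB hM
  have hDP := normal_le_defectGroup hM hB hP D hDp
  obtain ⟨g, hg, hgP, -⟩ := (isDefectGroup_iff hM hB).1 hP
  obtain ⟨k, hk, hkP⟩ := exists_conj_mem_centralizer hM hB ⟨χ, hχ, hne⟩ hg.2.1
    (isPGroup_defectGroup hP) hgP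
  have hkd := (hasDefect_of_isConj D hk hx).2.2
  obtain ⟨n, hn⟩ := IsPGroup.iff_card.1 (isPGroup_defectGroup hP)
  obtain ⟨m, hm⟩ := IsPGroup.iff_card.1 hDp
  have h1 := Subgroup.card_dvd_of_le (le_centralizer_singleton.2 hkP)
  rw [hn, hM.1.pow_dvd_iff_le_factorization Nat.card_pos.ne', hkd, hm, Nat.factorization_pow,
    Finsupp.smul_apply, hM.1.factorization_self, smul_eq_mul, mul_one] at h1
  have heq : D = P := Subgroup.eq_of_le_of_card_ge hDP
    (by rw [hn, hm]; exact Nat.pow_le_pow_right hM.1.pos h1)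
  exact hDB (heq ▸ hP)

open scoped Classical in
/-- Counting pairs in two classes whose quotient lies in a subgroup. -/
theorem card_pairs_quotient_mem [Fintype (IrrCharacter G)] (S : Subgroup G) [Fintype S]
    (x y : G) :
    (Nat.card {yz : G × G // IsConj x yz.1 ∧ IsConj y yz.2 ∧ yz.2 * yz.1⁻¹ ∈ S} : ℂ) =
      (Nat.card S : ℂ) / (Nat.card G : ℂ) * ∑ χ : IrrCharacter G, centralChar (χ : G → ℂ) y *
        ((Subgroup.centralizer ({x} : Set G)).index : ℂ) * (χ : G → ℂ) x⁻¹ *
          conj (classInner (fun s : S => (χ : G → ℂ) s) (fun _ => 1)) := by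
  have hinv : ∀ z : G, IsConj x⁻¹ z ↔ IsConj x z⁻¹ := fun z => by
    simp only [isConj_iff]
    refine ⟨fun ⟨c, hc⟩ => ⟨c, ?_⟩, fun ⟨c, hc⟩ => ⟨c, ?_⟩⟩
    · rw [← hc]; group
    · rw [← inv_inj, ← hc]; group
  have e : {yz : G × G // IsConj x yz.1 ∧ IsConj y yz.2 ∧ yz.2 * yz.1⁻¹ ∈ S} ≃
      Σ s : S, {p : G × G // IsConj y p.1 ∧ IsConj x⁻¹ p.2 ∧ p.1 * p.2 = (s : G)} :=
    { toFun := fun t => ⟨⟨t.1.2 * t.1.1⁻¹, t.2.2.2⟩, (t.1.2, t.1.1⁻¹),
        t.2.2.1, (hinv _).2 (by rw [inv_inv]; exact t.2.1), rfl⟩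
      invFun := fun t => ⟨(t.2.1.2⁻¹, t.2.1.1), (hinv _).1 t.2.2.2.1, t.2.2.1,
        by rw [inv_inv, t.2.2.2.2]; exact t.1.2⟩
      left_inv := fun t => by simp
      right_inv := by
        rintro ⟨⟨s, hs⟩, ⟨a, b⟩, h1, h2, h3⟩
        refine Sigma.subtype_ext (Subtype.ext ?_) ?_
        · simpa using h3
        · simp }
  rw [Nat.card_congr e, Nat.card_sigma, Nat.cast_sum]
  simp only [CfsgLib.Char.card_class_products]
  rw [← Finset.mul_sum, Finset.sum_comm,
    Finset.sum_subtype (CfsgLib.Char.irrFinset G) (fun _ => CfsgLib.Char.mem_irrFinset),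
    Finset.mul_sum, Finset.mul_sum]
  refine Finset.sum_congr rfl fun χ _ => ?_
  have hs : ∑ s : S, conj ((χ : G → ℂ) s) =
      (Nat.card S : ℂ) * conj (classInner (fun s : S => (χ : G → ℂ) s) (fun _ => 1)) := by
    rw [CfsgLib.Char.classInner_def]
    simp only [map_mul, map_inv₀, map_natCast, map_sum, map_one, mul_one]
    rw [← mul_assoc, mul_inv_cancel₀ (Nat.cast_ne_zero.2 Nat.card_pos.ne'), one_mul]
  rw [← Finset.sum_div, ← Finset.mul_sum, hs, card_conj_class, card_conj_class,
    show (Subgroup.centralizer ({x⁻¹} : Set G)).index =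
      (Subgroup.centralizer ({x} : Set G)).index by
      congr 1
      ext z
      rw [Subgroup.mem_centralizer_singleton_iff, Subgroup.mem_centralizer_singleton_iff]
      exact ⟨fun h => by simpa using (Commute.inv_right (show Commute z x⁻¹ from h)).eq,
        fun h => (Commute.inv_right (show Commute z x from h)).eq⟩, centralChar]
  field_simp

open scoped Classical in
/-- Robinson's rank formula. -/
theorem card_blocks_eq_rank [hp : Fact p.Prime] (hM : IsPModular p M) (hD : IsPGroup p D)
    (S : Sylow p G) {ι : Type*} [Fintype ι] [DecidableEq ι] (xs : ι → G)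
    (hinj : ∀ i j, IsConj (xs i) (xs j) → i = j)
    (hxs : ∀ x, HasDefect D p x ↔ ∃ i, IsConj (xs i) x) :
    Nat.card {B : Set (IrrCharacter G) // IsPBlock M B ∧ IsDefectGroup p M B D} =
      (Matrix.of fun i j : ι => ((Nat.card {yz : G × G // IsConj (xs i) yz.1 ∧
        IsConj (xs j) yz.2 ∧ yz.2 * yz.1⁻¹ ∈ (S : Subgroup G)} /
          p ^ ((Nat.card G).factorization p - (Nat.card D).factorization p) : ℕ) : ZMod p)).rank := by
  letI := irrFintype (G := G)
  haveI := charP_residue hM
  haveI := Fintype.ofFinite (S : Subgroup G)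
  haveI : Fintype (ConjClasses G) := Fintype.ofFinite _
  have hp0 : (p : ℂ) ≠ 0 := Nat.cast_ne_zero.2 hM.1.ne_zero
  set k := (Nat.card G).factorization p - (Nat.card D).factorization p with hk
  let β := {B : Set (IrrCharacter G) // IsPBlock M B ∧ IsDefectGroup p M B D}
  haveI : Fintype β := Fintype.ofFinite _
  have hmem : ∀ i, HasDefect D p (xs i) := fun i => (hxs _).2 ⟨i, IsConj.refl _⟩
  choose rep hrep using fun B : β => exists_mem_block B.2.1
  have hdefect : ∀ B : β, (Nat.card G).factorization p - blockDefect p B.1 = k := fun B => by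
    have h := card_defectGroup hM B.2.1 B.2.2
    rw [hk, h, Nat.factorization_pow, Finsupp.smul_apply, hM.1.factorization_self, smul_eq_mul,
      mul_one]
  -- the three constants
  obtain ⟨r, hrdef⟩ : ∃ r : ℂ, (Nat.card (S : Subgroup G) : ℂ) / (Nat.card G : ℂ) = r := ⟨_, rfl⟩
  have hS0 : (Nat.card (S : Subgroup G) : ℂ) ≠ 0 := Nat.cast_ne_zero.2 Nat.card_pos.ne'
  have hrval : r = ((S : Subgroup G).index : ℂ)⁻¹ := by
    rw [← hrdef, ← Subgroup.card_mul_index (S : Subgroup G), Nat.cast_mul, div_mul_eq_div_div,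
      div_self hS0, one_div]
  have hr : MemLocalRing M r := hrval ▸ memLocalRing_natCast_inv hM S.not_dvd_index
  have hidx : ∀ i, ∃ u : ℕ, (Subgroup.centralizer ({xs i} : Set G)).index = p ^ k * u := fun i => by
    refine ⟨(Subgroup.centralizer ({xs i} : Set G)).index / p ^ k, (Nat.mul_div_cancel' ?_).symm⟩
    rw [hM.1.pow_dvd_iff_le_factorization Subgroup.index_ne_zero_of_finite, hk,
      ← Subgroup.card_mul_index (Subgroup.centralizer ({xs i} : Set G)),
      Nat.factorization_mul Nat.card_pos.ne' Subgroup.index_ne_zero_of_finite, Finsupp.add_apply,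
      (hmem i).2.2, Nat.add_sub_cancel_left]
  choose u hu using hidx
  choose m hm using fun χ : IrrCharacter G => IsCharacter.exists_classInner_eq_natCast'
    (IsCharacter.restrict (isCharacter_irr χ) (S : Subgroup G))
    (isCharacter_one (G := (S : Subgroup G)))
  -- the entries
  let term : ι → ι → IrrCharacter G → ℂ := fun i j χ =>
    centralChar (χ : G → ℂ) (xs j) * ((u i : ℂ) * (χ : G → ℂ) (xs i)⁻¹ * (m χ : ℂ))
  have hterm : ∀ i j χ, MemLocalRing M (term i j χ) := fun i j χ =>
    memLocalRing_mul (centralChar_mem χ _) (memLocalRing_mul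
      (memLocalRing_mul (natCast_mem_localRing _) (irr_mem χ _)) (natCast_mem_localRing _))
  have hT : ∀ i j, (Nat.card {yz : G × G // IsConj (xs i) yz.1 ∧
        IsConj (xs j) yz.2 ∧ yz.2 * yz.1⁻¹ ∈ (S : Subgroup G)} : ℂ) =
      (p : ℂ) ^ k * (r * ∑ χ, term i j χ) := by
    intro i j
    rw [card_pairs_quotient_mem (S : Subgroup G) (xs i) (xs j), hrdef, hu i, mul_sum, mul_sum,
      mul_sum]
    refine sum_congr rfl fun χ _ => ?_
    rw [hm χ, map_natCast]
    push_cast
    ring
  have hdvd : ∀ i j, p ^ k ∣ Nat.card {yz : G × G // IsConj (xs i) yz.1 ∧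
      IsConj (xs j) yz.2 ∧ yz.2 * yz.1⁻¹ ∈ (S : Subgroup G)} := fun i j =>
    Int.natCast_dvd_natCast.1 (by
      push_cast
      refine pow_dvd_of_memLocalRing hM ?_
      rw [Int.cast_natCast, hT, mul_div_cancel_left₀ _ (pow_ne_zero _ hp0)]
      exact memLocalRing_mul hr (memLocalRing_sum fun χ _ => hterm i j χ))
  let c : β → ℂ := fun B => blockCoeff B.1 1 / (p : ℂ) ^ k
  have hcR : ∀ B, MemLocalRing M (c B) := fun B => by
    have := (blockCoeff_one_unit hM B.2.1).1; rwa [hdefect B] at this
  have hc0 : ∀ B, ¬ MemLocalIdeal M (c B) := fun B => by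
    have := (blockCoeff_one_unit hM B.2.1).2; rwa [hdefect B] at this
  -- the contribution of a block
  have hW : ∀ (B : β) (i : ι),
      MemLocalIdeal M ((r * ∑ χ ∈ univ.filter (· ∈ B.1), (u i : ℂ) * (χ : G → ℂ) (xs i)⁻¹ * (m χ : ℂ)) -
        c B * centralChar (rep B : G → ℂ) (xs i)⁻¹) := by
    intro B i
    have hd : ∀ χ ∈ B.1, MemLocalRing M ((χ : G → ℂ) 1 / (p : ℂ) ^ k) := by
      intro χ hχ
      obtain ⟨y, hy⟩ := exists_isDefectClass B.2.1
      have h := defect_le_degree hM hy hχ
      rw [← blockDefect_eq hM B.2.1 hy, hdefect B] at h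
      obtain ⟨w, hw⟩ := (hM.1.pow_dvd_iff_le_factorization (irr_one χ).2.ne').2 h
      rw [(irr_one χ).1, hw, Nat.cast_mul, Nat.cast_pow, mul_div_cancel_left₀ _ (pow_ne_zero _ hp0)]
      exact natCast_mem_localRing w
    have hsum : r * ∑ χ ∈ univ.filter (· ∈ B.1), (χ : G → ℂ) 1 / (p : ℂ) ^ k * (m χ : ℂ) = c B := by
      obtain ⟨n, hn, hnω, -⟩ := blockPart_indFun_one (S : Subgroup G)
        (CfsgLib.Block.oneIrr (S : Subgroup G)) B.1
      rw [blockPart_eq_sum_inner] at hn
      have h1 : omega (CfsgLib.Block.oneIrr (S : Subgroup G) : ↥(S : Subgroup G) → ℂ)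
          (resFun (S : Subgroup G) (blockCoeff B.1)) = blockCoeff B.1 1 := by
        rw [omega, sum_eq_single (1 : (S : Subgroup G))]
        · simp only [resFun, OneMemClass.coe_one]
          rw [mul_div_cancel_right₀ _ (irr_one_ne_zero _)]
        · intro v _ hv
          rw [resFun, blockCoeff_eq_zero_of_singular hM B.2.1 ?_, zero_mul]
          obtain ⟨e, he⟩ := IsPGroup.iff_orderOf.1 S.isPGroup' v
          rw [Subgroup.orderOf_coe, he]
          refine dvd_pow_self p fun h0 => hv ?_
          rw [h0, pow_zero, orderOf_eq_one_iff] at he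
          exact he
        · simp
      have hdeg : charDegree (indFun (S : Subgroup G)
          (CfsgLib.Block.oneIrr (S : Subgroup G) : ↥(S : Subgroup G) → ℂ)) =
            (S : Subgroup G).index := by
        rw [charDegree, CfsgLib.Char.indFun_one, oneIrr_coe, mul_one, Complex.natCast_re,
          Nat.floor_natCast]
      rw [hnω, h1, hdeg] at hn
      have h2 : ∑ χ ∈ univ.filter (· ∈ B.1), (χ : G → ℂ) 1 * (m χ : ℂ) =
          ((S : Subgroup G).index : ℂ) * blockCoeff B.1 1 := by
        rw [← hn]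
        refine sum_congr rfl fun χ _ => ?_
        rw [classInner_indFun _ (isClassFunction_irr χ), mul_comm]
        congr 1
        rw [← CfsgLib.Char.classInner_conj, oneIrr_coe, hm χ, map_natCast]
      show _ = blockCoeff B.1 1 / (p : ℂ) ^ k
      rw [sum_congr rfl fun χ _ => div_mul_eq_mul_div _ _ _, ← sum_div, h2, hrval]
      have : ((S : Subgroup G).index : ℂ) ≠ 0 :=
        Nat.cast_ne_zero.2 Subgroup.index_ne_zero_of_finite
      field_simp
    rw [← hsum, mul_assoc r, sum_mul, ← mul_sub, ← sum_sub_distrib]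
    refine memLocalIdeal_mul_left hr (memLocalIdeal_sum fun χ hχ => ?_)
    have hχB := (mem_filter.1 hχ).2
    have e : (u i : ℂ) * (χ : G → ℂ) (xs i)⁻¹ * (m χ : ℂ) =
        (χ : G → ℂ) 1 / (p : ℂ) ^ k * (m χ : ℂ) * centralChar (χ : G → ℂ) (xs i)⁻¹ := by
      have hi : (Subgroup.centralizer ({(xs i)⁻¹} : Set G)).index = p ^ k * u i := by
        rw [← hu i]
        congr 1
        ext z
        rw [Subgroup.mem_centralizer_singleton_iff, Subgroup.mem_centralizer_singleton_iff]
        exact ⟨fun h => by simpa using (Commute.inv_right (show Commute z (xs i)⁻¹ from h)).eq,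
          fun h => (Commute.inv_right (show Commute z (xs i) from h)).eq⟩
      rw [centralChar, hi]
      have := irr_one_ne_zero χ
      push_cast
      field_simp
    rw [e, ← mul_sub]
    exact memLocalIdeal_mul_left (memLocalRing_mul (hd χ hχB) (natCast_mem_localRing _))
      (sameBlock_of_mem B.2.1 hχB (hrep B) _)
  -- the congruence for the entries
  have hentry : ∀ i j, MemLocalIdeal M ((r * ∑ χ, term i j χ) -
      ∑ B : β, centralChar (rep B : G → ℂ) (xs j) *
        (c B * centralChar (rep B : G → ℂ) (xs i)⁻¹)) := by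
    intro i j
    have hdisj : ∀ B ∈ (univ : Finset β), ∀ B' ∈ (univ : Finset β), B ≠ B' →
        Disjoint (univ.filter (· ∈ B.1)) (univ.filter (· ∈ B'.1)) := fun B _ B' _ hne =>
      disjoint_left.2 fun χ h1 h2 => hne (Subtype.ext
        (block_eq_of_common B.2.1 B'.2.1 (mem_filter.1 h1).2 (mem_filter.1 h2).2))
    rw [← sum_sdiff (subset_univ ((univ : Finset β).biUnion fun B => univ.filter (· ∈ B.1))),
      sum_biUnion hdisj, mul_add, add_sub_assoc]
    refine memLocalIdeal_add (memLocalIdeal_mul_left hr (memLocalIdeal_sum fun χ hχ => ?_)) ?_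
    · refine memLocalIdeal_mul_right (mem_ideal_of_not_defect D hM hD (isPBlock_blockOf χ) ?_
        (mem_blockOf_self χ) (hmem j)) (memLocalRing_mul (memLocalRing_mul
          (natCast_mem_localRing _) (irr_mem χ _)) (natCast_mem_localRing _))
      intro hdef
      exact (mem_sdiff.1 hχ).2 (mem_biUnion.2
        ⟨⟨_, isPBlock_blockOf χ, hdef⟩, mem_univ _, mem_filter.2 ⟨mem_univ _, mem_blockOf_self χ⟩⟩)
    rw [mul_sum, ← sum_sub_distrib]
    refine memLocalIdeal_sum fun B _ => ?_
    have hA : MemLocalIdeal M ((r * ∑ χ ∈ univ.filter (· ∈ B.1), term i j χ) -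
        centralChar (rep B : G → ℂ) (xs j) * (r * ∑ χ ∈ univ.filter (· ∈ B.1),
          (u i : ℂ) * (χ : G → ℂ) (xs i)⁻¹ * (m χ : ℂ))) := by
      rw [mul_left_comm (centralChar (rep B : G → ℂ) (xs j)), ← mul_sub, mul_sum, ← sum_sub_distrib]
      refine memLocalIdeal_mul_left hr (memLocalIdeal_sum fun χ hχ => ?_)
      rw [← sub_mul]
      exact memLocalIdeal_mul_right (sameBlock_of_mem B.2.1 (mem_filter.1 hχ).2 (hrep B) _)
        (memLocalRing_mul (memLocalRing_mul (natCast_mem_localRing _) (irr_mem χ _))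
          (natCast_mem_localRing _))
    refine memLocalIdeal_sub_trans hA ?_
    rw [← mul_sub]
    exact memLocalIdeal_mul_left (centralChar_mem _ _) (hW B i)
  -- independence of the central characters on the classes
  have hout : ∀ i, HasDefect D p (ConjClasses.mk (xs i)).out ∧
      IsConj (xs i) (ConjClasses.mk (xs i)).out := fun i => by
    have h : IsConj (xs i) (ConjClasses.mk (xs i)).out :=
      (ConjClasses.mk_eq_mk_iff_isConj.1 (Quotient.out_eq (ConjClasses.mk (xs i)))).symm
    exact ⟨hasDefect_of_isConj D h (hmem i), h⟩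
  have hδ : ∀ B B' : β, MemLocalIdeal M
      ((∑ j, blockCoeff B.1 (xs j) * centralChar (rep B' : G → ℂ) (xs j)) -
        if B' = B then 1 else 0) := by
    intro B B'
    have h1 : omega (rep B' : G → ℂ) (blockCoeff B.1) = if B' = B then 1 else 0 := by
      rw [omega_blockCoeff]
      refine if_congr ⟨fun h => Subtype.ext (block_eq_of_common B'.2.1 B.2.1 (hrep B') h),
        fun h => h ▸ hrep B'⟩ rfl rfl
    rw [← h1, omega_eq_sum_classes _ (isClassFunction_blockCoeff B.1)]
    have himg : ∑ j, blockCoeff B.1 (xs j) * centralChar (rep B' : G → ℂ) (xs j) =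
        ∑ C ∈ univ.image (fun j => ConjClasses.mk (xs j)),
          blockCoeff B.1 C.out * centralChar (rep B' : G → ℂ) C.out := by
      rw [sum_image fun a _ b _ h => hinj a b (ConjClasses.mk_eq_mk_iff_isConj.1 h)]
      refine sum_congr rfl fun j _ => ?_
      rw [IsClassFunction.apply_eq_of_isConj (isClassFunction_blockCoeff B.1) (hout j).2, centralChar,
        centralChar, eq_of_isConj_index (hout j).2,
        IsClassFunction.apply_eq_of_isConj (isClassFunction_irr (rep B')) (hout j).2]
    rw [himg, ← sum_sdiff (subset_univ (univ.image fun j => ConjClasses.mk (xs j))),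
      sub_add_cancel_right]
    refine memLocalIdeal_neg (memLocalIdeal_sum fun C hC => ?_)
    by_cases ha : MemLocalIdeal M (blockCoeff B.1 C.out)
    · exact memLocalIdeal_mul_right ha (centralChar_mem _ _)
    by_cases hω : MemLocalIdeal M (centralChar (rep B' : G → ℂ) C.out)
    · exact memLocalIdeal_mul_left (blockCoeff_mem B.2.1 _) hω
    exfalso
    obtain ⟨j, hj⟩ := (hxs _).1 (hasDefect_of_units D hM B.2.1 B.2.2 (hrep B') ha hω)
    refine (mem_sdiff.1 hC).2 (mem_image.2 ⟨j, mem_univ _, ?_⟩)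
    exact (ConjClasses.mk_eq_mk_iff_isConj.2 hj).trans (Quotient.out_eq C)
  -- matrices over the residue field
  let ω' : β → G → localRing M := fun B g => ⟨centralChar (rep B : G → ℂ) g, centralChar_mem _ _⟩
  let a' : β → G → localRing M := fun B g => ⟨blockCoeff B.1 g, blockCoeff_mem B.2.1 g⟩
  let c' : β → localRing M := fun B => ⟨c B, hcR B⟩
  let U : Matrix ι β (Residue M) := Matrix.of fun i B => res M (ω' B (xs i)⁻¹)
  let V : Matrix β ι (Residue M) := Matrix.of fun B j => res M (ω' B (xs j))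
  let A₁ : Matrix β ι (Residue M) := Matrix.of fun B i => res M (a' B (xs i)⁻¹)
  let A₂ : Matrix ι β (Residue M) := Matrix.of fun j B => res M (a' B (xs j))
  have hδ' : ∀ B B' : β, ∑ j, res M (a' B (xs j)) * res M (ω' B' (xs j)) =
      if B' = B then 1 else 0 := by
    intro B B'
    have h : res M (∑ j, a' B (xs j) * ω' B' (xs j)) = res M (if B' = B then 1 else 0) := by
      rw [res_eq_iff]
      have h1 := hδ B B'
      push_cast
      convert h1 using 2
      split_ifs <;> rfl
    simp only [map_sum, map_mul] at h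
    rw [h]
    split_ifs <;> simp
  have hinvD : ∀ i, HasDefect D p (xs i)⁻¹ := fun i => by
    obtain ⟨h1, h2, h3⟩ := hmem i
    refine ⟨by rwa [orderOf_inv], Subgroup.inv_mem _ h2, ?_⟩
    rwa [show Subgroup.centralizer ({(xs i)⁻¹} : Set G) = Subgroup.centralizer ({xs i} : Set G) by
      ext z
      rw [Subgroup.mem_centralizer_singleton_iff, Subgroup.mem_centralizer_singleton_iff]
      exact ⟨fun h => by simpa using (Commute.inv_right (show Commute z (xs i)⁻¹ from h)).eq,
        fun h => (Commute.inv_right (show Commute z (xs i) from h)).eq⟩]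
  choose σ hσ using fun i => (hxs _).1 (hinvD i)
  have hσinj : Function.Injective σ := fun i j h => by
    refine hinj i j ?_
    have h1 := (hσ i).symm.trans (h ▸ hσ j)
    obtain ⟨z, hz⟩ := isConj_iff.1 h1
    exact isConj_iff.2 ⟨z, by rw [← inv_inj, ← hz]; group⟩
  have hrc : ∀ (B : β) (i : ι), res M (a' B (xs (σ i))) = res M (a' B (xs i)⁻¹) ∧
      res M (ω' B (xs (σ i))) = res M (ω' B (xs i)⁻¹) := fun B i => by
    refine ⟨congrArg _ (Subtype.ext ?_), congrArg _ (Subtype.ext ?_)⟩
    · exact IsClassFunction.apply_eq_of_isConj (isClassFunction_blockCoeff B.1) (hσ i)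
    · show centralChar _ _ = centralChar _ _
      rw [centralChar, centralChar, eq_of_isConj_index (hσ i),
        IsClassFunction.apply_eq_of_isConj (isClassFunction_irr (rep B)) (hσ i)]
  have hAU : A₁ * U = 1 := by
    ext B B'
    rw [Matrix.mul_apply, Matrix.one_apply, if_congr (eq_comm (a := B) (b := B')) rfl rfl, ← hδ' B B',
      ← (Finite.injective_iff_bijective.1 hσinj).sum_comp
        (fun j => res M (a' B (xs j)) * res M (ω' B' (xs j)))]
    exact sum_congr rfl fun i _ => by rw [(hrc B i).1, (hrc B' i).2]; rfl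
  have hVA : V * A₂ = 1 := by
    ext B B'
    rw [Matrix.mul_apply, Matrix.one_apply, ← hδ' B' B]
    exact sum_congr rfl fun j _ => mul_comm _ _
  have hmap : (Matrix.of fun i j : ι => ((Nat.card {yz : G × G // IsConj (xs i) yz.1 ∧
        IsConj (xs j) yz.2 ∧ yz.2 * yz.1⁻¹ ∈ (S : Subgroup G)} / p ^ k : ℕ) : ZMod p)).map
          (ZMod.castHom (dvd_refl p) (Residue M)) =
      U * Matrix.diagonal (fun B => res M (c' B)) * V := by
    ext i j
    rw [Matrix.map_apply, Matrix.of_apply, map_natCast, Matrix.mul_apply,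
      sum_congr rfl fun B _ => by rw [Matrix.mul_diagonal]]
    have h : res M ((Nat.card {yz : G × G // IsConj (xs i) yz.1 ∧
        IsConj (xs j) yz.2 ∧ yz.2 * yz.1⁻¹ ∈ (S : Subgroup G)} / p ^ k : ℕ) : localRing M) =
        res M (∑ B, ω' B (xs j) * (c' B * ω' B (xs i)⁻¹)) := by
      rw [res_eq_iff]
      push_cast [Nat.cast_div (hdvd i j) (show ((p ^ k : ℕ) : ℂ) ≠ 0 from
        Nat.cast_ne_zero.2 (pow_ne_zero _ hM.1.ne_zero))]
      rw [hT, mul_div_cancel_left₀ _ (pow_ne_zero _ hp0)]
      exact hentry i j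
    rw [map_natCast] at h
    rw [h, map_sum]
    refine sum_congr rfl fun B _ => ?_
    show res M (ω' B (xs j) * (c' B * ω' B (xs i)⁻¹)) =
      res M (ω' B (xs i)⁻¹) * res M (c' B) * res M (ω' B (xs j))
    rw [map_mul, map_mul]; ring
  rw [← rank_map_field _ (ZMod.castHom (dvd_refl p) (Residue M)), hmap, Nat.card_eq_fintype_card]
  refine le_antisymm ?_ (((Matrix.rank_mul_le_left _ _).trans (Matrix.rank_mul_le_left _ _)).trans
    (Matrix.rank_le_card_width _))
  have hdiag : (Matrix.diagonal fun B => res M (c' B)).rank = Fintype.card β := by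
    rw [Matrix.rank_diagonal]
    exact Fintype.card_congr (Equiv.subtypeUnivEquiv fun B h => hc0 B (res_eq_zero_iff.1 h))
  calc Fintype.card β = (Matrix.diagonal fun B => res M (c' B)).rank := hdiag.symm
    _ = (A₁ * (U * Matrix.diagonal (fun B => res M (c' B)) * V) * A₂).rank := by
        rw [← Matrix.mul_assoc, ← Matrix.mul_assoc, hAU, Matrix.one_mul, Matrix.mul_assoc, hVA,
          Matrix.mul_one]
    _ ≤ _ := (Matrix.rank_mul_le_left _ _).trans (Matrix.rank_mul_le_right _ _)

end CfsgLib.Block.Robinson
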