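import Cfsg.Agent.Blocks.CentralizerLocal
import Mathlib.LinearAlgebra.Matrix.SchurComplement
import Mathlib.LinearAlgebra.Matrix.CharP
import Mathlib.LinearAlgebra.Matrix.GeneralLinearGroup.Defs
import Mathlib.LinearAlgebra.Matrix.SpecialLinearGroup
import Mathlib.Algebra.CharP.Lemmas
import Mathlib.Algebra.CharP.CharAndCard
import Mathlib.GroupTheory.Perm.Cycle.Type

/-!
# Blocks of `SL n` in defining characteristic: positive defect means full defect
-/

set_option autoImplicit false

namespace CfsgLib.Block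

open Cfsg Matrix

set_option linter.unusedSectionVars false
set_option linter.style.haveILetI false

section general

universe u

variable {G : Type u} [Group G] [Fintype G] {M : Ideal AlgInt} [M.IsPrime] {p : ℕ}

/-- A block whose defect group contains an element with a central constrained centralizer of full
`p`-part has full defect. -/
theorem blockDefect_eq_of_constrained_centralizer (hM : IsPModular p M) {t : G}
    (Q : Subgroup (Subgroup.centralizer ({t} : Set G))) [Q.Normal] (hQ : IsPGroup p Q)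
    (hC : ∀ c ∈ Subgroup.centralizer (Q : Set (Subgroup.centralizer ({t} : Set G))),
      ¬ p ∣ orderOf c → ∀ w, w * c = c * w)
    (hfull : (Nat.card G).factorization p ≤
      (Nat.card (Subgroup.centralizer ({t} : Set G))).factorization p)
    {B : Set (IrrCharacter G)} (hB : IsPBlock M B) {D : Subgroup G}
    (hD : IsDefectGroup p M B D) (htD : t ∈ D) :
    blockDefect p B = (Nat.card G).factorization p := by
  classical
  haveI : Fact p.Prime := ⟨hM.1⟩
  letI : Fintype (Subgroup.centralizer ({t} : Set G)) := Fintype.ofFinite _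
  obtain ⟨b, hb⟩ := exists_inducing hM (P := Subgroup.zpowers t)
    (H := Subgroup.centralizer ({t} : Set G))
    ((isPGroup_defectGroup hD).to_le (Subgroup.zpowers_le.2 htD))
    (Subgroup.zpowers_le.2 (Subgroup.mem_centralizer_singleton_iff.2 rfl))
    (fun c hc => Subgroup.mem_centralizer_singleton_iff.2
      (Subgroup.mem_centralizer_iff.1 hc t (Subgroup.mem_zpowers t)).symm)
    (le_trans (fun c hc => by
      rw [Subgroup.mem_centralizer_iff]
      rintro _ ⟨n, rfl⟩
      exact ((show Commute c t from Subgroup.mem_centralizer_singleton_iff.1 hc).symm.zpow_left n).eq)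
      (Subgroup.centralizer_le_normalizer _))
    hB hD (x := 1) (by simpa using htD)
  obtain ⟨c, hc⟩ := exists_isDefectClass hb.1
  obtain ⟨χ, hχ⟩ := exists_mem_block hb.1
  have hcQ : c ∈ Subgroup.centralizer (Q : Set (Subgroup.centralizer ({t} : Set G))) :=
    by_contra fun h => hc.2.2 χ hχ (centralChar_mem_ideal_of_normal hM Q hQ χ h)
  have htop : Subgroup.centralizer ({c} : Set (Subgroup.centralizer ({t} : Set G))) = ⊤ :=
    eq_top_iff.2 fun w _ => Subgroup.mem_centralizer_singleton_iff.2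
      (hC c hcQ (defectClass_regular hM hb.1 hc) w)
  have hbd : blockDefect p b =
      (Nat.card (Subgroup.centralizer ({t} : Set G))).factorization p := by
    rw [blockDefect_eq hM hb.1 hc, htop, Subgroup.card_top]
  obtain ⟨Db, hDb⟩ := exists_defectGroup hb.1 hM
  obtain ⟨E, hE, hle⟩ := defectGroup_le_induced hM hb hDb
  have h1 := Subgroup.card_le_of_le hle
  rw [Subgroup.card_map_of_injective (Subgroup.subtype_injective _), card_defectGroup hM hb.1 hDb,
    card_defectGroup hM hB hE, hbd] at h1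
  exact le_antisymm (Nat.sub_le _ _)
    (hfull.trans ((Nat.pow_le_pow_iff_right hM.1.one_lt).1 h1))

end general

namespace SpecialLinearFull

variable {n : ℕ} {F : Type*} [Field F]

/-- Two nonzero vectors have a common functional not vanishing on either. -/
theorem exists_dotProduct_ne_zero {a b : Fin n → F} (ha : a ≠ 0) (hb : b ≠ 0) :
    ∃ u : Fin n → F, u ⬝ᵥ a ≠ 0 ∧ u ⬝ᵥ b ≠ 0 := by
  obtain ⟨i, hi⟩ := Function.ne_iff.1 ha
  obtain ⟨j, hj⟩ := Function.ne_iff.1 hb
  simp only [Pi.zero_apply] at hi hj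
  by_cases hbi : b i = 0
  · by_cases haj : a j = 0
    · exact ⟨Pi.single i 1 + Pi.single j 1,
        by simp [add_dotProduct, single_dotProduct, haj, hi],
        by simp [add_dotProduct, single_dotProduct, hbi, hj]⟩
    · exact ⟨Pi.single j 1, by simpa [single_dotProduct] using haj,
        by simpa [single_dotProduct] using hj⟩
  · exact ⟨Pi.single i 1, by simpa [single_dotProduct] using hi,
      by simpa [single_dotProduct] using hbi⟩

theorem det_one_add_vecMulVec (u v : Fin n → F) :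
    (1 + vecMulVec u v).det = 1 + v ⬝ᵥ u := by
  rw [vecMulVec_eq Unit, det_one_add_replicateCol_mul_replicateRow]

/-- The general linear group is transitive on orthogonal pairs of nonzero vectors. -/
theorem exists_GL_map {v0 w0 v w : Fin n → F} (hv0 : v0 ≠ 0) (hw0 : w0 ≠ 0) (hv : v ≠ 0)
    (hw : w ≠ 0) (h0 : w0 ⬝ᵥ v0 = 0) (h : w ⬝ᵥ v = 0) :
    ∃ g : GL (Fin n) F, (g : Matrix (Fin n) (Fin n) F) *ᵥ v0 = v ∧
      w ᵥ* (g : Matrix (Fin n) (Fin n) F) = w0 := by
  obtain ⟨u, hu0, hu1⟩ := exists_dotProduct_ne_zero hv0 hv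
  set u' : Fin n → F := (u ⬝ᵥ v0)⁻¹ • u with hu'
  have e0 : u' ⬝ᵥ v0 = 1 := by rw [hu', smul_dotProduct, smul_eq_mul, inv_mul_cancel₀ hu0]
  have hd1 : (1 + vecMulVec (v - v0) u').det ≠ 0 := by
    rw [det_one_add_vecMulVec, dotProduct_sub, e0, add_sub_cancel, hu', smul_dotProduct,
      smul_eq_mul]
    exact mul_ne_zero (inv_ne_zero hu0) hu1
  let g1 := GeneralLinearGroup.mkOfDetNeZero _ hd1
  have hg1 : (g1 : Matrix (Fin n) (Fin n) F) *ᵥ v0 = v := by
    show (1 + vecMulVec (v - v0) u') *ᵥ v0 = v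
    rw [add_mulVec, one_mulVec, vecMulVec_mulVec, e0]
    simp
  set w1 : Fin n → F := w0 ᵥ* ((g1⁻¹ : GL (Fin n) F) : Matrix (Fin n) (Fin n) F) with hw1
  have hw1g : w1 ᵥ* (g1 : Matrix (Fin n) (Fin n) F) = w0 := by
    rw [hw1, vecMul_vecMul, ← Units.val_mul, inv_mul_cancel, Units.val_one, vecMul_one]
  have hw1v : w1 ⬝ᵥ v = 0 := by
    rw [← hg1, dotProduct_mulVec, hw1g, h0]
  have hw10 : w1 ≠ 0 := fun e => hw0 (by rw [← hw1g, e, zero_vecMul])
  obtain ⟨z, hz0, hz1⟩ := exists_dotProduct_ne_zero hw hw10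
  set y : Fin n → F := (z ⬝ᵥ w)⁻¹ • (w1 - w) with hy
  have hd2 : (1 + vecMulVec z y).det ≠ 0 := by
    rw [det_one_add_vecMulVec, hy, smul_dotProduct, smul_eq_mul, sub_dotProduct,
      dotProduct_comm w z, dotProduct_comm w1 z, mul_sub, inv_mul_cancel₀ hz0, add_sub_cancel]
    exact mul_ne_zero (inv_ne_zero hz0) hz1
  let g2 := GeneralLinearGroup.mkOfDetNeZero _ hd2
  refine ⟨g2 * g1, ?_, ?_⟩
  · rw [Units.val_mul, ← mulVec_mulVec, hg1]
    show (1 + vecMulVec z y) *ᵥ v = v
    rw [add_mulVec, one_mulVec, vecMulVec_mulVec, hy, smul_dotProduct, sub_dotProduct, hw1v, h]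
    simp
  · rw [Units.val_mul, ← vecMul_vecMul]
    show w ᵥ* (1 + vecMulVec z y) ᵥ* (g1 : Matrix (Fin n) (Fin n) F) = w0
    rw [vecMul_add, vecMul_one, vecMul_vecMulVec, hy, dotProduct_comm w z, smul_smul,
      mul_inv_cancel₀ hz0, one_smul, add_sub_cancel, hw1g]

theorem conj_comm_iff (g : GL (Fin n) F) (s : Matrix (Fin n) (Fin n) F) {a b : Fin n → F}
    {a' b' : Fin n → F} (ha : (g : Matrix (Fin n) (Fin n) F) *ᵥ a = a')
    (hb : b' ᵥ* (g : Matrix (Fin n) (Fin n) F) = b) :
    s * vecMulVec a b = vecMulVec a b * s ↔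
      ((g : Matrix (Fin n) (Fin n) F) * s * ((g⁻¹ : GL (Fin n) F) : Matrix (Fin n) (Fin n) F)) *
          vecMulVec a' b' =
        vecMulVec a' b' *
          ((g : Matrix (Fin n) (Fin n) F) * s * ((g⁻¹ : GL (Fin n) F) : Matrix (Fin n) (Fin n) F)) := by
  have e : vecMulVec a' b' = (g : Matrix (Fin n) (Fin n) F) * vecMulVec a b *
      ((g⁻¹ : GL (Fin n) F) : Matrix (Fin n) (Fin n) F) := by
    rw [mul_vecMulVec, ha, vecMulVec_mul, ← hb, vecMul_vecMul, ← Units.val_mul, mul_inv_cancel,
      Units.val_one, vecMul_one]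
  have hgg : ((g⁻¹ : GL (Fin n) F) : Matrix (Fin n) (Fin n) F) * (g : Matrix (Fin n) (Fin n) F) = 1 := by
    rw [← Units.val_mul, inv_mul_cancel, Units.val_one]
  have l : ∀ A B : Matrix (Fin n) (Fin n) F,
      ((g : Matrix (Fin n) (Fin n) F) * A * ((g⁻¹ : GL (Fin n) F) : Matrix (Fin n) (Fin n) F)) *
        ((g : Matrix (Fin n) (Fin n) F) * B * ((g⁻¹ : GL (Fin n) F) : Matrix (Fin n) (Fin n) F)) =
      (g : Matrix (Fin n) (Fin n) F) * (A * B) *
        ((g⁻¹ : GL (Fin n) F) : Matrix (Fin n) (Fin n) F) := fun A B => by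
    simp only [mul_assoc]
    rw [← mul_assoc ((g⁻¹ : GL (Fin n) F) : Matrix (Fin n) (Fin n) F), hgg, one_mul]
  rw [e, l, l, Units.mul_left_inj, Units.mul_right_inj]

theorem mem_centralizer_iff_coe {t s : SpecialLinearGroup (Fin n) F} :
    s ∈ Subgroup.centralizer ({t} : Set (SpecialLinearGroup (Fin n) F)) ↔
      (s : Matrix (Fin n) (Fin n) F) * t = (t : Matrix (Fin n) (Fin n) F) * s := by
  rw [Subgroup.mem_centralizer_singleton_iff]
  exact ⟨fun h => congrArg Subtype.val h, fun h => Subtype.ext h⟩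

variable (p : ℕ) [Fact p.Prime] [CharP F p]

theorem sub_mul_one {A B : Matrix (Fin n) (Fin n) F} :
    A * B - 1 = (A - 1) + (B - 1) + (A - 1) * (B - 1) := by noncomm_ring

theorem pow_char_eq_one {g : SpecialLinearGroup (Fin n) F} {k : ℕ}
    (h : ((g : Matrix (Fin n) (Fin n) F) - 1) ^ (p ^ k) = 0) : g ^ (p ^ k) = 1 := by
  rcases Nat.eq_zero_or_pos n with rfl | hn
  · exact Subsingleton.elim _ _
  haveI : Nonempty (Fin n) := ⟨⟨0, hn⟩⟩
  apply Subtype.ext
  rw [SpecialLinearGroup.coe_pow, SpecialLinearGroup.coe_one]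
  have := sub_pow_char_pow_of_commute (R := Matrix (Fin n) (Fin n) F) (p := p) (n := k)
    (Commute.one_right (g : Matrix (Fin n) (Fin n) F))
  rwa [h, one_pow, eq_comm, sub_eq_zero] at this

variable [Fintype F]

/-- The centralizer of a transvection has the full `p`-part. -/
theorem full_centralizer {v w : Fin n → F} (hv : v ≠ 0) (hw : w ≠ 0) (hwv : w ⬝ᵥ v = 0)
    {t : SpecialLinearGroup (Fin n) F}
    (ht : (t : Matrix (Fin n) (Fin n) F) = 1 + vecMulVec v w) :
    (Nat.card (SpecialLinearGroup (Fin n) F)).factorization p ≤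
      (Nat.card (Subgroup.centralizer ({t} : Set (SpecialLinearGroup (Fin n) F)))).factorization p := by
  classical
  obtain ⟨S⟩ := (inferInstance : Nonempty (Sylow p (SpecialLinearGroup (Fin n) F)))
  -- a fixed vector
  letI : MulAction S (Fin n → F) :=
    { smul := fun s x => (((s : SpecialLinearGroup (Fin n) F)) : Matrix (Fin n) (Fin n) F) *ᵥ x
      one_smul := fun x => by
        show (((1 : S) : SpecialLinearGroup (Fin n) F) : Matrix (Fin n) (Fin n) F) *ᵥ x = x
        simp
      mul_smul := fun a b x => by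
        show (((a * b : S) : SpecialLinearGroup (Fin n) F) : Matrix (Fin n) (Fin n) F) *ᵥ x = _
        rw [Subgroup.coe_mul, SpecialLinearGroup.coe_mul, ← mulVec_mulVec]
        rfl }
  obtain ⟨i, hi⟩ := Function.ne_iff.1 hv
  obtain ⟨j, hj⟩ := Function.ne_iff.1 hw
  simp only [Pi.zero_apply] at hi hj
  have hn : 2 ≤ n := by
    by_contra hlt
    have hs : Subsingleton (Fin n) := Fin.subsingleton_iff_le_one.2 (by omega)
    rw [dotProduct, Finset.sum_eq_single i (fun b _ hb => absurd (Subsingleton.elim b i) hb)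
      (by simp)] at hwv
    rw [Subsingleton.elim j i] at hj
    exact mul_ne_zero hj hi hwv
  have hp2 : p ∣ Nat.card F := by
    rw [Nat.card_eq_fintype_card]
    exact (CharP.cast_eq_zero_iff F p _).1 (Nat.cast_card_eq_zero F)
  have hdvd : p ∣ Nat.card (Fin n → F) := by
    rw [Nat.card_fun, Nat.card_fin]
    exact hp2.trans (dvd_pow_self _ (by omega))
  obtain ⟨v0, hv0f, hv0⟩ := S.2.exists_fixed_point_of_prime_dvd_card_of_fixed_point (Fin n → F)
    hdvd (a := 0) (fun s => mulVec_zero _)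
  have hv0' : v0 ≠ 0 := fun e => hv0 e.symm
  -- a fixed covector in its annihilator
  let A : AddSubgroup (Fin n → F) :=
    { carrier := {x | x ⬝ᵥ v0 = 0}
      zero_mem' := zero_dotProduct _
      add_mem' := fun {a b} (ha : a ⬝ᵥ v0 = 0) (hb : b ⬝ᵥ v0 = 0) => by
        show (a + b) ⬝ᵥ v0 = 0
        rw [add_dotProduct, ha, hb, add_zero]
      neg_mem' := fun {a} (ha : a ⬝ᵥ v0 = 0) => by
        show (-a) ⬝ᵥ v0 = 0
        rw [neg_dotProduct, ha, neg_zero] }
  letI : MulAction S A :=
    { smul := fun s x => ⟨(x : Fin n → F) ᵥ*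
          (((s⁻¹ : S) : SpecialLinearGroup (Fin n) F) : Matrix (Fin n) (Fin n) F), by
        show _ ⬝ᵥ v0 = 0
        rw [← dotProduct_mulVec]
        have := hv0f s⁻¹
        rw [show (((s⁻¹ : S) : SpecialLinearGroup (Fin n) F) : Matrix (Fin n) (Fin n) F) *ᵥ v0 = v0
          from this]
        exact x.2⟩
      one_smul := fun x => Subtype.ext (by
        show (x : Fin n → F) ᵥ*
          ((((1 : S)⁻¹ : S) : SpecialLinearGroup (Fin n) F) : Matrix (Fin n) (Fin n) F) = x
        simp)
      mul_smul := fun a b x => Subtype.ext (by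
        show (x : Fin n → F) ᵥ*
          ((((a * b)⁻¹ : S) : SpecialLinearGroup (Fin n) F) : Matrix (Fin n) (Fin n) F) =
          ((x : Fin n → F) ᵥ*
            (((b⁻¹ : S) : SpecialLinearGroup (Fin n) F) : Matrix (Fin n) (Fin n) F)) ᵥ*
            (((a⁻¹ : S) : SpecialLinearGroup (Fin n) F) : Matrix (Fin n) (Fin n) F)
        rw [_root_.mul_inv_rev, Subgroup.coe_mul, SpecialLinearGroup.coe_mul, ← vecMul_vecMul]) }
  have hA : A ≠ ⊥ := by
    intro e
    obtain ⟨a, ha⟩ := Function.ne_iff.1 hv0'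
    haveI : Nontrivial (Fin n) := Fin.nontrivial_iff_two_le.2 hn
    obtain ⟨b, hb⟩ := exists_ne a
    have hmem : Pi.single b (v0 a) - Pi.single a (v0 b) ∈ A := by
      show _ ⬝ᵥ v0 = 0
      rw [sub_dotProduct, single_dotProduct, single_dotProduct, mul_comm, sub_self]
    rw [e, AddSubgroup.mem_bot] at hmem
    have := congrFun hmem b
    simp [hb] at this
    exact ha this
  have hdvdA : p ∣ Nat.card A := by
    have hdv : Nat.card A ∣ Nat.card (Fin n → F) := A.card_addSubgroup_dvd_card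
    rw [Nat.card_fun, Nat.card_fin, Nat.card_eq_fintype_card (α := F)] at hdv
    obtain ⟨f, hF⟩ := FiniteField.card F p
    rw [hF.2, ← pow_mul] at hdv
    obtain ⟨m, -, hm⟩ := (Nat.dvd_prime_pow Fact.out).1 hdv
    rcases Nat.eq_zero_or_pos m with rfl | hm0
    · rw [pow_zero] at hm
      exact absurd (A.eq_bot_of_card_eq hm) hA
    · rw [hm]; exact dvd_pow_self p hm0.ne'
  obtain ⟨⟨w0, hw0m⟩, hw0f, hw0⟩ := S.2.exists_fixed_point_of_prime_dvd_card_of_fixed_point A
    hdvdA (a := 0) (fun s => Subtype.ext (zero_vecMul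
      (((s⁻¹ : S) : SpecialLinearGroup (Fin n) F) : Matrix (Fin n) (Fin n) F)))
  have hw0' : w0 ≠ 0 := fun e => hw0 (Subtype.ext e.symm)
  obtain ⟨g, hg1, hg2⟩ := exists_GL_map hv0' hw0' hv hw hw0m hwv
  have hS : ∀ s : S, ((s : SpecialLinearGroup (Fin n) F) : Matrix (Fin n) (Fin n) F) *
      vecMulVec v0 w0 = vecMulVec v0 w0 *
        ((s : SpecialLinearGroup (Fin n) F) : Matrix (Fin n) (Fin n) F) := fun s => by
    have hs := congrArg Subtype.val (hw0f s⁻¹)
    change w0 ᵥ* ((((s⁻¹)⁻¹ : S) : SpecialLinearGroup (Fin n) F) : Matrix (Fin n) (Fin n) F) = w0 at hs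
    rw [inv_inv] at hs
    rw [mul_vecMulVec, vecMulVec_mul, hs]
    exact congrArg (fun x => vecMulVec x w0) (hv0f s)
  let C0 : Subgroup (SpecialLinearGroup (Fin n) F) :=
    { carrier := {s | (s : Matrix (Fin n) (Fin n) F) * vecMulVec v0 w0 =
        vecMulVec v0 w0 * (s : Matrix (Fin n) (Fin n) F)}
      one_mem' := by simp
      mul_mem' := fun {a b} (ha : _ = _) (hb : _ = _) => by
        show _ = _
        rw [SpecialLinearGroup.coe_mul, mul_assoc, hb, ← mul_assoc, ha, mul_assoc]
      inv_mem' := fun {a} (ha : _ = _) => by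
        show _ = _
        have e1 : ((a⁻¹ : SpecialLinearGroup (Fin n) F) : Matrix (Fin n) (Fin n) F) * a = 1 := by
          rw [← SpecialLinearGroup.coe_mul, inv_mul_cancel, SpecialLinearGroup.coe_one]
        have e2 : (a : Matrix (Fin n) (Fin n) F) * (a⁻¹ : SpecialLinearGroup (Fin n) F) = 1 := by
          rw [← SpecialLinearGroup.coe_mul, mul_inv_cancel, SpecialLinearGroup.coe_one]
        calc ((a⁻¹ : SpecialLinearGroup (Fin n) F) : Matrix (Fin n) (Fin n) F) * vecMulVec v0 w0
            = (a⁻¹ : SpecialLinearGroup (Fin n) F) * (vecMulVec v0 w0 * (a : Matrix (Fin n) (Fin n) F)) *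
                (a⁻¹ : SpecialLinearGroup (Fin n) F) := by
              rw [mul_assoc, mul_assoc, e2, mul_one]
          _ = _ := by rw [← ha, ← mul_assoc, e1, one_mul] }
  have hmem : ∀ s : SpecialLinearGroup (Fin n) F,
      s ∈ Subgroup.centralizer ({t} : Set (SpecialLinearGroup (Fin n) F)) ↔
        (s : Matrix (Fin n) (Fin n) F) * vecMulVec v w =
          vecMulVec v w * (s : Matrix (Fin n) (Fin n) F) := fun s => by
    rw [mem_centralizer_iff_coe, ht, mul_add, add_mul, mul_one, one_mul, add_right_inj]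
  have hdetg : ∀ s : SpecialLinearGroup (Fin n) F, ((g : Matrix (Fin n) (Fin n) F) * s *
      ((g⁻¹ : GL (Fin n) F) : Matrix (Fin n) (Fin n) F)).det = 1 := fun s => by
    rw [det_mul, det_mul, s.2, mul_one, ← det_mul, ← Units.val_mul, mul_inv_cancel, Units.val_one,
      det_one]
  let f : C0 → Subgroup.centralizer ({t} : Set (SpecialLinearGroup (Fin n) F)) := fun s =>
    ⟨⟨_, hdetg s.1⟩, (hmem _).2 ((conj_comm_iff g _ hg1 hg2).1 s.2)⟩
  have hf : Function.Bijective f := by
    refine ⟨fun a b hab => ?_, fun s => ?_⟩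
    · have := congrArg (fun x : Subgroup.centralizer ({t} : Set (SpecialLinearGroup (Fin n) F)) =>
        ((x : SpecialLinearGroup (Fin n) F) : Matrix (Fin n) (Fin n) F)) hab
      exact Subtype.ext (Subtype.ext ((Units.mul_right_inj g).1 ((Units.mul_left_inj g⁻¹).1 this)))
    · have hd : (((g⁻¹ : GL (Fin n) F) : Matrix (Fin n) (Fin n) F) * (s : SpecialLinearGroup (Fin n) F) *
          (g : Matrix (Fin n) (Fin n) F)).det = 1 := by
        rw [det_mul, det_mul, (s : SpecialLinearGroup (Fin n) F).2, mul_one, ← det_mul,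
          ← Units.val_mul, inv_mul_cancel, Units.val_one, det_one]
      have e : (g : Matrix (Fin n) (Fin n) F) * (((g⁻¹ : GL (Fin n) F) : Matrix (Fin n) (Fin n) F) *
          (s : SpecialLinearGroup (Fin n) F) * (g : Matrix (Fin n) (Fin n) F)) *
          ((g⁻¹ : GL (Fin n) F) : Matrix (Fin n) (Fin n) F) =
          ((s : SpecialLinearGroup (Fin n) F) : Matrix (Fin n) (Fin n) F) := by
        simp only [mul_assoc, ← Units.val_mul, mul_inv_cancel, Units.val_one, mul_one]
        rw [← mul_assoc, ← Units.val_mul, mul_inv_cancel, Units.val_one, one_mul]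
      refine ⟨⟨⟨_, hd⟩, (conj_comm_iff g _ hg1 hg2).2 ?_⟩, Subtype.ext (Subtype.ext e)⟩
      rw [e]
      exact (hmem _).1 s.2
  rw [← Nat.card_congr (Equiv.ofBijective f hf)]
  have hle : (S : Subgroup (SpecialLinearGroup (Fin n) F)) ≤ C0 := fun s hs => hS ⟨s, hs⟩
  have h1 := Subgroup.card_dvd_of_le hle
  rw [S.card_eq_multiplicity] at h1
  exact ((Nat.Prime.pow_dvd_iff_le_factorization Fact.out Nat.card_pos.ne').1 h1)

/-- The unipotent radical attached to a transvection. -/
def radical {v w : Fin n → F} (hwv : w ⬝ᵥ v = 0) : Subgroup (SpecialLinearGroup (Fin n) F) where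
  carrier := {g | ∃ a b : Fin n → F, a ⬝ᵥ v = 0 ∧ w ⬝ᵥ b = 0 ∧
    (g : Matrix (Fin n) (Fin n) F) - 1 = vecMulVec v a + vecMulVec b w}
  one_mem' := ⟨0, 0, zero_dotProduct _, dotProduct_zero _, by simp⟩
  mul_mem' := by
    rintro g h ⟨a, b, ha, hb, hg⟩ ⟨a', b', ha', hb', hh⟩
    refine ⟨a + a' + (a ⬝ᵥ b') • w, b + b', ?_, ?_, ?_⟩
    · simp [add_dotProduct, smul_dotProduct, ha, ha', hwv]
    · simp [dotProduct_add, hb, hb']
    · rw [SpecialLinearGroup.coe_mul, sub_mul_one, hg, hh]
      simp only [mul_add, add_mul, vecMulVec_mul_vecMulVec, vecMulVec_add, add_vecMulVec,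
        ha, hb', hwv, zero_smul, vecMulVec_zero]
      abel
  inv_mem' := by
    rintro g ⟨a, b, ha, hb, hg⟩
    refine ⟨-a + (a ⬝ᵥ b) • w, -b, ?_, ?_, ?_⟩
    · simp [add_dotProduct, neg_dotProduct, smul_dotProduct, ha, hwv]
    · simp [dotProduct_neg, hb]
    · have hg' : (g : Matrix (Fin n) (Fin n) F) = 1 + (vecMulVec v a + vecMulVec b w) :=
        sub_eq_iff_eq_add'.1 hg
      have e : (g : Matrix (Fin n) (Fin n) F) *
          (1 + (vecMulVec v (-a + (a ⬝ᵥ b) • w) + vecMulVec (-b) w)) = 1 := by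
        rw [hg']
        simp only [mul_add, add_mul, one_mul, mul_one, vecMulVec_mul_vecMulVec, vecMulVec_add,
          ha, hb, hwv, zero_smul, vecMulVec_zero, vecMulVec_neg, neg_vecMulVec, dotProduct_neg,
          neg_smul, mul_neg, neg_zero]
        abel
      have e1 : ((g⁻¹ : SpecialLinearGroup (Fin n) F) : Matrix (Fin n) (Fin n) F) * g = 1 := by
        rw [← SpecialLinearGroup.coe_mul, inv_mul_cancel, SpecialLinearGroup.coe_one]
      have e2 := left_inv_eq_right_inv e1 e
      rw [e2]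
      abel

theorem isPGroup_radical {v w : Fin n → F} (hwv : w ⬝ᵥ v = 0) :
    IsPGroup p (radical hwv) := by
  rintro ⟨g, a, b, ha, hb, hg⟩
  refine ⟨2, Subtype.ext (pow_char_eq_one p (k := 2) ?_)⟩
  rw [hg]
  refine pow_eq_zero_of_le (m := 3) ?_ ?_
  · have := (Fact.out : p.Prime).two_le
    nlinarith
  · rw [pow_succ, pow_two]
    simp only [mul_add, add_mul, vecMulVec_mul_vecMulVec, ha, hb, hwv, zero_smul, vecMulVec_zero,
      zero_mul, add_zero, zero_add]
    simp [vecMulVec_mul_vecMulVec, smul_dotProduct, hwv, ha, hb]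

variable {M : Ideal AlgInt}

/-- A block of `SL n` with a transvection in a defect group has full defect. -/
theorem full_of_transvection (hM : IsPModular p M) {v w : Fin n → F} (hv : v ≠ 0) (hw : w ≠ 0)
    (hwv : w ⬝ᵥ v = 0) {t : SpecialLinearGroup (Fin n) F}
    (ht : (t : Matrix (Fin n) (Fin n) F) = 1 + vecMulVec v w)
    {B : Set (IrrCharacter (SpecialLinearGroup (Fin n) F))} (hB : IsPBlock M B)
    {D : Subgroup (SpecialLinearGroup (Fin n) F)} (hD : IsDefectGroup p M B D) (htD : t ∈ D) :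
    blockDefect p B = (Nat.card (SpecialLinearGroup (Fin n) F)).factorization p := by
  classical
  haveI : M.IsPrime := isPrime_of_isPModular hM
  letI : Fintype (SpecialLinearGroup (Fin n) F) := Fintype.ofFinite _
  set Ct := Subgroup.centralizer ({t} : Set (SpecialLinearGroup (Fin n) F))
  have hmem : ∀ s : SpecialLinearGroup (Fin n) F,
      s ∈ Ct ↔ (s : Matrix (Fin n) (Fin n) F) * vecMulVec v w =
          vecMulVec v w * (s : Matrix (Fin n) (Fin n) F) := fun s => by
    rw [mem_centralizer_iff_coe, ht, mul_add, add_mul, mul_one, one_mul, add_right_inj]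
  obtain ⟨j, hj⟩ := Function.ne_iff.1 hw
  obtain ⟨i, hi⟩ := Function.ne_iff.1 hv
  simp only [Pi.zero_apply] at hi hj
  -- common eigenvalue
  have heig : ∀ S : Matrix (Fin n) (Fin n) F, S * vecMulVec v w = vecMulVec v w * S →
      ∃ c : F, S *ᵥ v = c • v ∧ w ᵥ* S = c • w := fun S hS => by
    rw [mul_vecMulVec, vecMulVec_mul] at hS
    have hv' : S *ᵥ v = ((w ᵥ* S) j / w j) • v := funext fun k => by
      have := congrFun (congrFun hS k) j
      rw [vecMulVec_apply, vecMulVec_apply] at this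
      rw [Pi.smul_apply, smul_eq_mul, div_mul_eq_mul_div, eq_div_iff hj, this]
      ring
    refine ⟨_, hv', funext fun k => ?_⟩
    have := congrFun (congrFun hS i) k
    rw [hv', vecMulVec_apply, vecMulVec_apply, Pi.smul_apply, smul_eq_mul] at this
    rw [Pi.smul_apply, smul_eq_mul]
    exact mul_left_cancel₀ hi (this.symm.trans (by ring))
  haveI hN : ((radical hwv).subgroupOf Ct).Normal := ⟨by
    rintro q ⟨a, b, ha, hb, hq⟩ h
    obtain ⟨c, hc1, hc2⟩ := heig _ ((hmem _).1 h.2)
    obtain ⟨c', hc1', hc2'⟩ := heig _ ((hmem _).1 (h⁻¹).2)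
    refine ⟨c • (a ᵥ* (((h⁻¹ : Ct) : SpecialLinearGroup (Fin n) F) : Matrix (Fin n) (Fin n) F)),
      c' • ((((h : Ct) : SpecialLinearGroup (Fin n) F) : Matrix (Fin n) (Fin n) F) *ᵥ b), ?_, ?_, ?_⟩
    · rw [smul_dotProduct, ← dotProduct_mulVec, hc1', dotProduct_smul, ha, smul_zero, smul_zero]
    · rw [dotProduct_smul, dotProduct_mulVec, hc2, smul_dotProduct, hb, smul_zero, smul_zero]
    · change ((((h : Ct) : SpecialLinearGroup (Fin n) F) * (q : SpecialLinearGroup (Fin n) F) *
        ((h⁻¹ : Ct) : SpecialLinearGroup (Fin n) F) : SpecialLinearGroup (Fin n) F) :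
          Matrix (Fin n) (Fin n) F) - 1 = _
      change ((q : SpecialLinearGroup (Fin n) F) : Matrix (Fin n) (Fin n) F) - 1 = _ at hq
      have e2 : (((h : Ct) : SpecialLinearGroup (Fin n) F) : Matrix (Fin n) (Fin n) F) *
          (((h⁻¹ : Ct) : SpecialLinearGroup (Fin n) F) : Matrix (Fin n) (Fin n) F) = 1 := by
        rw [← SpecialLinearGroup.coe_mul, ← Subgroup.coe_mul, mul_inv_cancel, Subgroup.coe_one,
          SpecialLinearGroup.coe_one]
      rw [SpecialLinearGroup.coe_mul, SpecialLinearGroup.coe_mul, sub_eq_iff_eq_add'.1 hq,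
        mul_add, add_mul, mul_one, e2, add_sub_cancel_left, mul_add, add_mul, mul_vecMulVec,
        mul_vecMulVec, vecMulVec_mul, vecMulVec_mul, hc1, hc2']
      simp only [smul_vecMulVec, vecMulVec_smul]⟩
  refine blockDefect_eq_of_constrained_centralizer hM ((radical hwv).subgroupOf Ct)
    ((isPGroup_radical p hwv).comap_of_injective Ct.subtype Ct.subtype_injective) ?_
    (full_centralizer p hv hw hwv ht) hB hD htD
  intro c hc hreg y
  set S : Matrix (Fin n) (Fin n) F := ((c : SpecialLinearGroup (Fin n) F) : Matrix (Fin n) (Fin n) F)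
    with hSdef
  obtain ⟨l, hl1, hl2⟩ := heig S ((hmem _).1 c.2)
  have hcomm : ∀ a b : Fin n → F, a ⬝ᵥ v = 0 → w ⬝ᵥ b = 0 →
      S * (vecMulVec v a + vecMulVec b w) = (vecMulVec v a + vecMulVec b w) * S := by
    intro a b ha hb
    have hd : (1 + (vecMulVec v a + vecMulVec b w)).det = 1 := by
      have e : (1 : Matrix (Fin n) (Fin n) F) + (vecMulVec v a + vecMulVec b w) =
          (1 + vecMulVec b w) * (1 + vecMulVec v a) := by
        simp only [mul_add, add_mul, one_mul, mul_one, vecMulVec_mul_vecMulVec, hwv, zero_smul,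
          vecMulVec_zero]
        abel
      rw [e, det_mul, det_one_add_vecMulVec, det_one_add_vecMulVec, ha, hb, add_zero, mul_one]
    have hqC : (⟨_, hd⟩ : SpecialLinearGroup (Fin n) F) ∈ Ct := (hmem _).2 (by
      show (1 + _) * _ = _ * (1 + _)
      simp only [mul_add, add_mul, one_mul, mul_one, vecMulVec_mul_vecMulVec, hwv, ha, hb,
        zero_smul, vecMulVec_zero, add_zero])
    have := Subgroup.mem_centralizer_iff.1 hc ⟨_, hqC⟩ ⟨a, b, ha, hb, add_sub_cancel_left _ _⟩
    have := congrArg (fun x : Ct => ((x : SpecialLinearGroup (Fin n) F) : Matrix (Fin n) (Fin n) F))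
      this
    change (1 + (vecMulVec v a + vecMulVec b w)) * S = S * (1 + (vecMulVec v a + vecMulVec b w))
      at this
    rw [add_mul, mul_add, one_mul, mul_one] at this
    exact (add_left_cancel this).symm
  have ha' : ∀ a, a ⬝ᵥ v = 0 → a ᵥ* S = l • a := fun a ha => funext fun k => by
    have := congrFun (congrFun (hcomm a 0 ha (dotProduct_zero _)) i) k
    simp only [zero_vecMulVec, add_zero, mul_vecMulVec, vecMulVec_mul, hl1, vecMulVec_apply,
      Pi.smul_apply, smul_eq_mul] at this ⊢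
    exact mul_left_cancel₀ hi (this.symm.trans (by ring))
  have hb' : ∀ b, w ⬝ᵥ b = 0 → S *ᵥ b = l • b := fun b hb => funext fun k => by
    have := congrFun (congrFun (hcomm 0 b (zero_dotProduct _) hb) k) j
    simp only [vecMulVec_zero, zero_add, mul_vecMulVec, vecMulVec_mul, hl2, vecMulVec_apply,
      Pi.smul_apply, smul_eq_mul] at this ⊢
    exact mul_right_cancel₀ hj (this.trans (by ring))
  set x0 : Fin n → F := Pi.single j (w j)⁻¹ with hx0
  have hwx0 : w ⬝ᵥ x0 = 1 := by rw [hx0, dotProduct_single, mul_inv_cancel₀ hj]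
  set u : Fin n → F := S *ᵥ x0 - l • x0 with hu
  have hS1 : ∀ x, S *ᵥ x = l • x + (w ⬝ᵥ x) • u := fun x => by
    have hb := hb' (x - (w ⬝ᵥ x) • x0) (by
      rw [dotProduct_sub, dotProduct_smul, hwx0, smul_eq_mul, mul_one, sub_self])
    rw [mulVec_sub, mulVec_smul, sub_eq_iff_eq_add] at hb
    rw [hb, hu, smul_sub, smul_sub, smul_comm l]
    abel
  have hau : ∀ a, a ⬝ᵥ v = 0 → a ⬝ᵥ u = 0 := fun a ha => by
    have h1 := congrArg (· ⬝ᵥ x0) (ha' a ha)
    simp only [← dotProduct_mulVec, hS1 x0, hwx0, one_smul, dotProduct_add, dotProduct_smul,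
      smul_dotProduct] at h1
    exact add_eq_left.1 h1
  set d := u i / v i
  have hud : u = d • v := funext fun k => by
    have := hau (Pi.single k (v i) - Pi.single i (v k))
      (by rw [sub_dotProduct, single_dotProduct, single_dotProduct, mul_comm, sub_self])
    rw [sub_dotProduct, single_dotProduct, single_dotProduct, sub_eq_zero] at this
    rw [Pi.smul_apply, smul_eq_mul, div_mul_eq_mul_div, eq_div_iff hi, mul_comm (u k), this]
    ring
  have hS : S = l • (1 : Matrix (Fin n) (Fin n) F) + d • vecMulVec v w := by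
    refine Matrix.toLin'.injective (LinearMap.ext fun x => ?_)
    rw [toLin'_apply, toLin'_apply, hS1 x, hud, add_mulVec, smul_mulVec, smul_mulVec, one_mulVec,
      vecMulVec_mulVec]
    simp only [op_smul_eq_smul, smul_comm d]
  have hp : S ^ p = (l ^ p) • (1 : Matrix (Fin n) (Fin n) F) := by
    haveI : Nonempty (Fin n) := ⟨i⟩
    rw [hS, add_pow_char_of_commute _ ((Commute.one_left (d • vecMulVec v w)).smul_left l),
      smul_pow, one_pow, smul_pow]
    have : vecMulVec v w ^ p = 0 := pow_eq_zero_of_le (m := 2) (Fact.out : p.Prime).two_le (by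
      rw [pow_two, vecMulVec_mul_vecMulVec, hwv, zero_smul, vecMulVec_zero])
    rw [this, smul_zero, add_zero]
  obtain ⟨m, hm⟩ := exists_pow_eq_self_of_coprime (x := c) (n := p)
    ((Nat.Prime.coprime_iff_not_dvd Fact.out).2 hreg)
  have hpc : ∀ z : Ct, Commute z (c ^ p) := fun z => Subtype.ext (Subtype.ext (by
    show ((z : SpecialLinearGroup (Fin n) F) : Matrix (Fin n) (Fin n) F) *
      ((((c ^ p : Ct) : SpecialLinearGroup (Fin n) F)) : Matrix (Fin n) (Fin n) F) = _ *
        ((z : SpecialLinearGroup (Fin n) F) : Matrix (Fin n) (Fin n) F)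
    rw [SubgroupClass.coe_pow, SpecialLinearGroup.coe_pow, ← hSdef, hp, mul_smul_comm, mul_one,
      smul_mul_assoc, one_mul]))
  rw [← hm]
  exact (hpc y).pow_right m

/-- Every block of `SL n` has defect zero or full defect. -/
theorem blockDefect_zero_or_full (hM : IsPModular p M)
    {B : Set (IrrCharacter (SpecialLinearGroup (Fin n) F))} (hB : IsPBlock M B) :
    blockDefect p B = 0 ∨
      blockDefect p B = (Nat.card (SpecialLinearGroup (Fin n) F)).factorization p := by
  classical
  haveI : M.IsPrime := isPrime_of_isPModular hM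
  letI : Fintype (SpecialLinearGroup (Fin n) F) := Fintype.ofFinite _
  by_cases h0 : blockDefect p B = 0
  · exact Or.inl h0
  right
  obtain ⟨D, hD⟩ := exists_defectGroup hB hM
  have hdvd : p ∣ Nat.card D := by
    rw [card_defectGroup hM hB hD]
    exact dvd_pow_self p h0
  obtain ⟨⟨z, hzD⟩, hz⟩ := exists_prime_orderOf_dvd_card' p hdvd
  rw [Subgroup.orderOf_mk] at hz
  set N : Matrix (Fin n) (Fin n) F := (z : Matrix (Fin n) (Fin n) F) - 1 with hNdef
  have hn : 0 < n := by
    rcases Nat.eq_zero_or_pos n with rfl | hn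
    · rw [Subsingleton.elim z 1, orderOf_one] at hz
      exact absurd hz.symm (Fact.out : p.Prime).ne_one
    · exact hn
  haveI : Nonempty (Fin n) := ⟨⟨0, hn⟩⟩
  have hNp : N ^ p = 0 := by
    rw [hNdef, sub_pow_char_of_commute _ (Commute.one_right _), one_pow, ← SpecialLinearGroup.coe_pow,
      ← hz, pow_orderOf_eq_one, SpecialLinearGroup.coe_one, sub_self]
  have hex : ∃ r, N ^ (r + 1) = 0 := ⟨p - 1, by rw [Nat.sub_add_cancel (Fact.out : p.Prime).one_le, hNp]⟩
  have hr1 := Nat.find_spec hex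
  set r := Nat.find hex with hr
  have hr0 : 1 ≤ r := by
    by_contra hlt
    rw [Nat.lt_one_iff.1 (not_le.1 hlt), zero_add, pow_one, hNdef, sub_eq_zero] at hr1
    have : z = 1 := Subtype.ext hr1
    rw [this, orderOf_one] at hz
    exact (Fact.out : p.Prime).ne_one hz.symm
  have hrne : N ^ r ≠ 0 := by
    intro e
    exact Nat.find_min hex (show r - 1 < r by omega) (by rwa [Nat.sub_add_cancel hr0])
  obtain ⟨i, j, hij⟩ : ∃ i j, (N ^ r) i j ≠ 0 := by
    by_contra h
    push Not at h
    exact hrne (ext h)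
  set v : Fin n → F := (N ^ r).col j with hvdef
  set w : Fin n → F := (N ^ r).row i with hwdef
  have hv : v ≠ 0 := fun e => hij (congrFun e i)
  have hw : w ≠ 0 := fun e => hij (congrFun e j)
  have hwv : w ⬝ᵥ v = 0 := by
    have e2 : N ^ r * N ^ r = 0 := by rw [← pow_add]; exact pow_eq_zero_of_le (by omega) hr1
    have := congrFun (congrFun e2 i) j
    rw [mul_apply] at this
    simpa [dotProduct, hvdef, hwdef] using this
  have hvw : vecMulVec v w = N ^ r * single j i 1 * N ^ r := by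
    ext a b
    simp [vecMulVec_apply, mul_apply, Matrix.single_apply, hvdef, hwdef, ite_and, Finset.sum_ite_eq]
  let K : Subgroup (SpecialLinearGroup (Fin n) F) :=
    { carrier := {g | ∃ B C : Matrix (Fin n) (Fin n) F,
        (g : Matrix (Fin n) (Fin n) F) - 1 = N * B ∧ (g : Matrix (Fin n) (Fin n) F) - 1 = C * N ∧
        N * ((g : Matrix (Fin n) (Fin n) F) - 1) = 0 ∧ ((g : Matrix (Fin n) (Fin n) F) - 1) * N = 0}
      one_mem' := ⟨0, 0, by simp, by simp, by simp, by simp⟩
      mul_mem' := by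
        rintro g h ⟨B, C, hgB, hgC, hNg, hgN⟩ ⟨B', C', hhB, hhC, hNh, hhN⟩
        have hz0 : ((g : Matrix (Fin n) (Fin n) F) - 1) * ((h : Matrix (Fin n) (Fin n) F) - 1) = 0 := by
          rw [hhB, ← mul_assoc, hgN, zero_mul]
        refine ⟨B + B', C + C', ?_, ?_, ?_, ?_⟩ <;>
          rw [SpecialLinearGroup.coe_mul, sub_mul_one, hz0, add_zero]
        · rw [mul_add, hgB, hhB]
        · rw [add_mul, hgC, hhC]
        · rw [mul_add, hNg, hNh, add_zero]
        · rw [add_mul, hgN, hhN, add_zero]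
      inv_mem' := by
        rintro g ⟨B, C, hgB, hgC, hNg, hgN⟩
        have hsq : ((g : Matrix (Fin n) (Fin n) F) - 1) * ((g : Matrix (Fin n) (Fin n) F) - 1) = 0 := by
          nth_rewrite 2 [hgB]
          rw [← mul_assoc, hgN, zero_mul]
        have e1 : ((g⁻¹ : SpecialLinearGroup (Fin n) F) : Matrix (Fin n) (Fin n) F) * g = 1 := by
          rw [← SpecialLinearGroup.coe_mul, inv_mul_cancel, SpecialLinearGroup.coe_one]
        have e : (g : Matrix (Fin n) (Fin n) F) * (1 - ((g : Matrix (Fin n) (Fin n) F) - 1)) = 1 := by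
          calc _ = 1 - ((g : Matrix (Fin n) (Fin n) F) - 1) * ((g : Matrix (Fin n) (Fin n) F) - 1) := by
                noncomm_ring
            _ = 1 := by rw [hsq, sub_zero]
        refine ⟨-B, -C, ?_, ?_, ?_, ?_⟩ <;> rw [left_inv_eq_right_inv e1 e, sub_sub_cancel_left]
        · rw [mul_neg, hgB]
        · rw [neg_mul, hgC]
        · rw [mul_neg, hNg, neg_zero]
        · rw [neg_mul, hgN, neg_zero] }
  have hKp : IsPGroup p K := by
    rintro ⟨g, B, C, hgB, hgC, hNg, hgN⟩
    refine ⟨1, Subtype.ext (pow_char_eq_one p (k := 1) (pow_eq_zero_of_le (m := 2) ?_ ?_))⟩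
    · rw [pow_one]; exact (Fact.out : p.Prime).two_le
    · rw [pow_two]
      show ((g : Matrix (Fin n) (Fin n) F) - 1) * ((g : Matrix (Fin n) (Fin n) F) - 1) = 0
      calc _ = ((g : Matrix (Fin n) (Fin n) F) - 1) * (N * B) := by rw [← hgB]
        _ = 0 := by rw [← mul_assoc, hgN, zero_mul]
  have hzN : ∀ g : SpecialLinearGroup (Fin n) F,
      g ∈ Subgroup.centralizer ({z} : Set (SpecialLinearGroup (Fin n) F)) ↔
        (g : Matrix (Fin n) (Fin n) F) * N = N * (g : Matrix (Fin n) (Fin n) F) := fun g => by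
    rw [mem_centralizer_iff_coe, hNdef, mul_sub, sub_mul, mul_one, one_mul, sub_left_inj]
  have hKC : K ≤ Subgroup.centralizer ({z} : Set (SpecialLinearGroup (Fin n) F)) := by
    rintro g ⟨B, C, hgB, hgC, hNg, hgN⟩
    rw [hzN]
    have := hgN.trans hNg.symm
    clear_value N
    rwa [sub_mul, mul_sub, one_mul, mul_one, sub_left_inj] at this
  haveI : (K.subgroupOf (Subgroup.centralizer ({z} : Set (SpecialLinearGroup (Fin n) F)))).Normal :=
    ⟨by
      rintro ⟨q, hqC⟩ ⟨B, C, hqB, hqC', hNq, hqN⟩ ⟨h, hh⟩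
      rw [hzN] at hh
      set H : Matrix (Fin n) (Fin n) F := (h : Matrix (Fin n) (Fin n) F)
      set H' : Matrix (Fin n) (Fin n) F :=
        ((h⁻¹ : SpecialLinearGroup (Fin n) F) : Matrix (Fin n) (Fin n) F)
      have e1 : H * H' = 1 := by
        rw [← SpecialLinearGroup.coe_mul, mul_inv_cancel, SpecialLinearGroup.coe_one]
      have e0 : H' * H = 1 := by
        rw [← SpecialLinearGroup.coe_mul, inv_mul_cancel, SpecialLinearGroup.coe_one]
      have hh' : H' * N = N * H' := by
        calc H' * N = H' * (N * H) * H' := by rw [mul_assoc, mul_assoc, e1, mul_one]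
          _ = N * H' := by rw [← hh, ← mul_assoc, e0, one_mul]
      change (q : Matrix (Fin n) (Fin n) F) - 1 = N * B at hqB
      change (q : Matrix (Fin n) (Fin n) F) - 1 = C * N at hqC'
      change N * ((q : Matrix (Fin n) (Fin n) F) - 1) = 0 at hNq
      change ((q : Matrix (Fin n) (Fin n) F) - 1) * N = 0 at hqN
      have hconj : ((h * q * h⁻¹ : SpecialLinearGroup (Fin n) F) : Matrix (Fin n) (Fin n) F) - 1 =
          H * ((q : Matrix (Fin n) (Fin n) F) - 1) * H' := by
        rw [SpecialLinearGroup.coe_mul, SpecialLinearGroup.coe_mul, mul_sub, sub_mul, mul_one, e1]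
      refine ⟨H * B * H', H * C * H', hconj.trans ?_, hconj.trans ?_,
        (congrArg (N * ·) hconj).trans ?_, (congrArg (· * N) hconj).trans ?_⟩
      · rw [hqB, ← mul_assoc, ← mul_assoc, ← mul_assoc, hh]
      · rw [hqC', ← mul_assoc, mul_assoc _ N H', ← hh', ← mul_assoc]
      · beta_reduce
        rw [← mul_assoc, ← mul_assoc, ← hh, mul_assoc H N, hNq, mul_zero, zero_mul]
      · beta_reduce
        rw [mul_assoc _ H' N, hh', ← mul_assoc, mul_assoc H _ N, hqN, mul_zero, zero_mul]⟩
  have hdet : (1 + vecMulVec v w).det = 1 := by rw [det_one_add_vecMulVec, hwv, add_zero]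
  let t : SpecialLinearGroup (Fin n) F := ⟨_, hdet⟩
  have hN1 : N * N ^ r = 0 := by rw [← pow_succ', hr1]
  have hN2 : N ^ r * N = 0 := by rw [← pow_succ, hr1]
  have htK : t ∈ K := by
    refine ⟨N ^ (r - 1) * single j i 1 * N ^ r, N ^ r * single j i 1 * N ^ (r - 1), ?_, ?_, ?_, ?_⟩ <;>
      show _ = _ <;> simp only [t, add_sub_cancel_left, hvw]
    · rw [← mul_assoc, ← mul_assoc, ← pow_succ', Nat.sub_add_cancel hr0]
    · rw [mul_assoc _ _ N, ← pow_succ, Nat.sub_add_cancel hr0]
    · rw [← mul_assoc, ← mul_assoc, hN1, zero_mul, zero_mul]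
    · rw [mul_assoc _ _ N, hN2, mul_zero]
  obtain ⟨E, hE, hKE⟩ := exists_defectGroup_of_normal hM K hKC hKp hB hD hzD
  exact full_of_transvection p hM hv hw hwv rfl hB hE (hKE htK)

end SpecialLinearFull

end CfsgLib.Block
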